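import Mathlib
import Cfsg.Agent.Lib.Classical.QuadStd

/-!
The eight-dimensional quadratic space of plus type over two elements: bit patterns and finite checks.
-/

set_option autoImplicit false

namespace CfsgLib.CoType

open CfsgLib.Classical

/-- The space. -/
abbrev V8 := Fin 4 ⊕ Fin 4 → ZMod 2

/-- The form. -/
noncomputable abbrev qm : QuadraticForm (ZMod 2) V8 := qPlus 4 (ZMod 2)

/-- The polar form. -/
noncomputable abbrev pb (u v : V8) : ZMod 2 := QuadraticMap.polar qm u v

/-- The vector of a bit pattern. -/
def vec (i : ℕ) : V8 := fun k => if i.testBit (match k with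
  | .inl j => j.val
  | .inr j => 4 + j.val) then 1 else 0

/-- The form on bit patterns, as a table. -/
def qn (i : ℕ) : Bool := (47759223636507730209801550344371119078934783318887441289834004656231277002752 : ℕ).testBit i

/-- The polar form on bit patterns. -/
def bn (i j : ℕ) : Bool := (qn (i ^^^ j) != (qn i != qn j))

theorem bit_xor : ∀ a b : Bool, (if (a ^^ b) then (1 : ZMod 2) else 0) = (if a then 1 else 0) + if b then 1 else 0 := by
  decide

theorem vec_xor (i j : ℕ) : vec (i ^^^ j) = vec i + vec j := funext fun k => by
  simp only [vec, Pi.add_apply, Nat.testBit_xor]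
  exact bit_xor _ _

theorem qm_apply (v : V8) : qm v =
    v (.inl 0) * v (.inr 0) + v (.inl 1) * v (.inr 1) + v (.inl 2) * v (.inr 2) + v (.inl 3) * v (.inr 3) := by
  rw [qm, coe_qPlus, Cfsg.quadFormPlus, Fin.sum_univ_four]

theorem qn_table : ∀ i : Fin 256, (if qn i.val then (1 : ZMod 2) else 0) =
    vec i.val (.inl 0) * vec i.val (.inr 0) + vec i.val (.inl 1) * vec i.val (.inr 1) +
      vec i.val (.inl 2) * vec i.val (.inr 2) + vec i.val (.inl 3) * vec i.val (.inr 3) := by
  decide +kernel

theorem qm_vec {i : ℕ} (hi : i < 256) : qm (vec i) = if qn i then 1 else 0 := by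
  rw [qm_apply]; exact (qn_table ⟨i, hi⟩).symm

theorem xor_lt {i j : ℕ} (hi : i < 256) (hj : j < 256) : i ^^^ j < 256 := Nat.xor_lt_two_pow (n := 8) hi hj

theorem bool_polar : ∀ a b c : Bool, (if a then (1 : ZMod 2) else 0) - (if b then 1 else 0) - (if c then 1 else 0)
    = if (a != (b != c)) then 1 else 0 := by decide

theorem pb_vec {i j : ℕ} (hi : i < 256) (hj : j < 256) : pb (vec i) (vec j) = if bn i j then 1 else 0 := by
  rw [pb, QuadraticMap.polar, ← vec_xor, qm_vec hi, qm_vec hj, qm_vec (xor_lt hi hj)]
  exact bool_polar _ _ _

theorem vec_inj_fin : Function.Injective (fun i : Fin 256 => vec i.val) := by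
  intro i j h
  apply Fin.ext
  apply Nat.eq_of_testBit_eq
  intro k
  rcases lt_or_ge k 8 with hk | hk
  · have hb : ∀ a b : Bool, (if a then (1 : ZMod 2) else 0) = (if b then 1 else 0) → a = b := by decide
    interval_cases k
    · exact hb _ _ (by simpa [vec] using congrFun h (.inl 0))
    · exact hb _ _ (by simpa [vec] using congrFun h (.inl 1))
    · exact hb _ _ (by simpa [vec] using congrFun h (.inl 2))
    · exact hb _ _ (by simpa [vec] using congrFun h (.inl 3))
    · exact hb _ _ (by simpa [vec] using congrFun h (.inr 0))
    · exact hb _ _ (by simpa [vec] using congrFun h (.inr 1))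
    · exact hb _ _ (by simpa [vec] using congrFun h (.inr 2))
    · exact hb _ _ (by simpa [vec] using congrFun h (.inr 3))
  · have h2 : ∀ x : Fin 256, x.val.testBit k = false := fun x =>
      Nat.testBit_lt_two_pow (lt_of_lt_of_le x.isLt (le_trans (by norm_num) (Nat.pow_le_pow_right two_pos hk)))
    rw [h2, h2]

theorem vec_eq_iff {i j : ℕ} (hi : i < 256) (hj : j < 256) : vec i = vec j ↔ i = j :=
  ⟨fun h => congrArg Fin.val (vec_inj_fin (a₁ := ⟨i, hi⟩) (a₂ := ⟨j, hj⟩) h), fun h => h ▸ rfl⟩

theorem vec_zero : vec 0 = 0 := funext fun k => by simp [vec]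

theorem vec_surj (v : V8) : ∃ i, i < 256 ∧ vec i = v := by
  obtain ⟨i, rfl⟩ := ((Fintype.bijective_iff_injective_and_card _).2
    ⟨vec_inj_fin, by simp⟩).2 v
  exact ⟨i.val, i.isLt, rfl⟩

theorem ite_one_iff {a : Bool} : (if a then (1 : ZMod 2) else 0) = 1 ↔ a = true := by cases a <;> decide

theorem ite_zero_iff {a : Bool} : (if a then (1 : ZMod 2) else 0) = 0 ↔ a = false := by cases a <;> decide

/-- For all patterns. -/
def all256 (f : ℕ → Bool) : Bool := (List.range 256).all f

/-- For some pattern. -/
def any256 (f : ℕ → Bool) : Bool := (List.range 256).any f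

theorem all256_get {f : ℕ → Bool} (h : all256 f = true) {i : ℕ} (hi : i < 256) : f i = true :=
  List.all_eq_true.1 h i (List.mem_range.2 hi)

theorem any256_get {f : ℕ → Bool} (h : any256 f = true) : ∃ i, i < 256 ∧ f i = true := by
  obtain ⟨i, hi, h⟩ := List.any_eq_true.1 h
  exact ⟨i, List.mem_range.1 hi, h⟩

/-- A singular vector. -/
def singB (p : ℕ) : Bool := p != 0 && !qn p

theorem check_T1 : all256 (fun p => !singB p || all256 fun s => !(singB s && bn p s) ||
    any256 fun a => qn a && !bn a p && !bn a s) = true := by decide +kernel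

theorem check_T0 : all256 (fun p => !singB p || all256 fun s => !(singB s && !bn p s) ||
    any256 fun r => singB r && bn p r && bn s r) = true := by decide +kernel

/-- Zero or the first vector. -/
def pmB (x : ℕ) : Bool := x == 0 || x == 1

/-- A vector of the perpendicular of the first of value zero, outside its span. -/
def sB (s : ℕ) : Bool := !qn s && !bn 1 s && !pmB s

/-- A vector of the perpendicular of the first of value one. -/
def nB (a : ℕ) : Bool := qn a && !bn 1 a

theorem check_perp : all256 (fun r => pmB r || any256 fun y => !bn 1 y && bn r y) = true := by decide +kernel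

theorem check_count : (((List.range 256).filter fun y => !bn 1 y).length == 128 &&
    ((List.range 256).filter sB).length == 70 && ((List.range 256).filter nB).length == 56) = true := by
  decide +kernel

theorem check_1 : all256 (fun s => !sB s || (any256 (fun a => nB a && !bn a s) &&
    any256 fun r => sB r && bn r s)) = true := by decide +kernel

theorem check_2 : all256 (fun s => !sB s || all256 fun t => !(!qn t && !bn 1 t && !bn s t) ||
    any256 fun a => nB a && !bn a s && !bn a t) = true := by decide +kernel

theorem check_3 : all256 (fun s => !sB s || all256 fun t => !(sB t && !bn s t) || pmB (t ^^^ s) ||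
    any256 fun r => sB r && bn s r && bn t r) = true := by decide +kernel

theorem check_4 : all256 (fun s => !sB s || all256 fun a => !(nB a && !bn a s) ||
    any256 fun x => !bn 1 x && bn x a && any256 fun b => nB b && !bn b s && !bn x b) = true := by decide +kernel

theorem check_5 : all256 (fun v => !nB v || all256 fun w => !(nB w && !bn v w) || pmB (w ^^^ v) ||
    any256 fun c => nB c && bn v c && bn w c) = true := by decide +kernel

theorem check_10 : all256 (fun v => !nB v || (any256 (fun u => nB u && bn u v) &&
    any256 fun s => sB s && bn v s)) = true := by decide +kernel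

/-- The chosen second vector of each kind. -/
def v2 (c : Bool) : ℕ := if c then 34 else 2

/-- The third vectors completing the second. -/
def typB (c : Bool) (u : ℕ) : Bool :=
  !bn 1 u && qn u == c && bn u (v2 c) == c && !pmB u && !pmB (u ^^^ v2 c)

theorem check_typ_step : ∀ c : Bool, all256 (fun u => !typB c u || all256 fun w => !(typB c w && !bn u w) ||
    pmB (w ^^^ u) || any256 fun r => typB c r && bn r u && bn r w) = true := by decide +kernel

theorem check_typ_one : ∀ c : Bool, all256 (fun u => !typB c u ||
    (any256 (fun a => qn a && !bn a 1 && !bn a (v2 c) && !bn a u) &&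
      any256 (fun a => !bn 1 a && bn a u && !bn a (v2 c)) &&
      any256 fun a => !bn 1 a && !bn a u && bn a (v2 c))) = true := by decide +kernel

theorem check_typ_exists : ∀ c : Bool, any256 (typB c) = true := by decide +kernel

theorem check_frame : all256 (fun y => !(!bn 1 y && !bn 2 y && !bn 4 y) ||
    decide (y ^^^ (if bn y 128 then 8 else 0) ^^^ (if bn y 8 then 128 else 0) < 8)) = true := by decide +kernel

end CfsgLib.CoType
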