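import Mathlib
import Cfsg.Agent.Lib.CoType.Facts
import Cfsg.Agent.Lib.Classical.QuadPOmega
import Cfsg.Agent.Lib.Classical.QuadOmega

/-!
The eight-dimensional space of plus type over two elements: the index-two subgroup of its isometry
group and its transitivity on the singular vectors.
-/

set_option autoImplicit false
set_option linter.style.haveILetI false
set_option linter.unusedSimpArgs false

namespace CfsgLib.CoType

open CfsgLib.Classical

theorem two_cases : ∀ a : ZMod 2, a = 0 ∨ a = 1 := by decide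

theorem add_self8 (v : V8) : v + v = 0 := funext fun _ => CharTwo.add_self_eq_zero _

theorem add_cancel8 (v w : V8) : v + (v + w) = w := by rw [← add_assoc, add_self8, zero_add]

theorem pb_comm (u v : V8) : pb u v = pb v u := QuadraticMap.polar_comm _ _ _

theorem pb_add_left (u u' v : V8) : pb (u + u') v = pb u v + pb u' v := QuadraticMap.polar_add_left _ _ _ _

theorem pb_add_right (u v v' : V8) : pb u (v + v') = pb u v + pb u v' := QuadraticMap.polar_add_right _ _ _ _

theorem pb_smul_left (c : ZMod 2) (u v : V8) : pb (c • u) v = c * pb u v := QuadraticMap.polar_smul_left _ _ _ _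

theorem pb_smul_right (c : ZMod 2) (u v : V8) : pb u (c • v) = c * pb u v := QuadraticMap.polar_smul_right _ _ _ _

theorem pb_self (u : V8) : pb u u = 0 := by
  rw [pb, quad_polar_self]
  generalize qm u = a
  revert a
  decide

theorem pb_zero_left (v : V8) : pb 0 v = 0 := QuadraticMap.polar_zero_left _ _

theorem pb_zero_right (v : V8) : pb v 0 = 0 := QuadraticMap.polar_zero_right _ _

theorem qm_add (u v : V8) : qm (u + v) = qm u + qm v + pb u v := quad_add _ u v

/-- A nonzero singular vector. -/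
def Sing (p : V8) : Prop := p ≠ 0 ∧ qm p = 0

/-- Zero or `p`. -/
def Pm (p x : V8) : Prop := x = 0 ∨ x = p

/-- A vector of `p⊥` of value zero outside `⟨p⟩`. -/
def SVec (p s : V8) : Prop := qm s = 0 ∧ pb p s = 0 ∧ ¬ Pm p s

/-- A vector of `p⊥` of value one. -/
def NVec (p a : V8) : Prop := qm a = 1 ∧ pb p a = 0

variable {p : V8}

theorem Pm.add {x y : V8} (hx : Pm p x) (hy : Pm p y) : Pm p (x + y) := by
  rcases hx with rfl | rfl <;> rcases hy with rfl | rfl <;> simp [Pm, add_self8]

theorem pm_trans {x y w : V8} (h1 : Pm p (x + y)) (h2 : Pm p (y + w)) : Pm p (x + w) := by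
  have := h1.add h2
  rwa [show x + y + (y + w) = x + w by rw [add_assoc, add_cancel8]] at this

theorem pm_symm {x y : V8} (h : Pm p (x + y)) : Pm p (y + x) := by rwa [add_comm]

theorem pm_self (x : V8) : Pm p (x + x) := .inl (add_self8 x)

theorem Pm.polar {x : V8} (hx : Pm p x) {y : V8} (hy : pb p y = 0) : pb x y = 0 := by
  rcases hx with rfl | rfl
  · exact pb_zero_left y
  · exact hy

theorem pm_polar {x x' : V8} (hx : Pm p (x + x')) {y : V8} (hy : pb p y = 0) : pb x y = pb x' y := by
  have h := hx.polar hy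
  rw [pb_add_left] at h
  exact CharTwo.add_eq_zero.1 h

theorem pm_quad (hp : Sing p) {x x' : V8} (hx : Pm p (x + x')) (hy : pb p x' = 0) : qm x = qm x' := by
  rcases hx with h | h
  · rw [CharTwo.add_eq_zero.1 (funext fun i => congrFun h i : x + x' = 0)]
  · rw [show x = x' + p by rw [← h, add_comm x, add_cancel8], qm_add, hp.2, pb_comm, hy, add_zero, add_zero]
theorem polarNondeg_qm : PolarNondeg qm := polarNondeg_qPlus 4

theorem pb_nondeg {v : V8} (h : ∀ w, pb v w = 0) : v = 0 := polarNondeg_qm v h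
theorem fact_y (hp : Sing p) : ∃ y, pb p y = 1 := by
  by_contra h
  push Not at h
  exact hp.1 (pb_nondeg fun w => (two_cases _).resolve_right (h w))

theorem sing_vec {i : ℕ} (hi : i < 256) : Sing (vec i) ↔ singB i = true := by
  simp [Sing, singB, qm_vec hi, ← vec_zero, vec_eq_iff hi (show 0 < 256 by norm_num), ite_zero_iff]
theorem fact_T1 {s : V8} (hp : Sing p) (hs : Sing s) (h : pb p s = 1) :
    ∃ a, qm a = 1 ∧ pb a p = 0 ∧ pb a s = 0 := by
  obtain ⟨i, hi, rfl⟩ := vec_surj p
  obtain ⟨j, hj, rfl⟩ := vec_surj s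
  have H := all256_get check_T1 hi
  rw [(sing_vec hi).1 hp] at H
  have H' := all256_get (by simpa using H) hj
  simp only [(sing_vec hj).1 hs, ite_one_iff.1 ((pb_vec hi hj) ▸ h), Bool.and_self, Bool.not_true, Bool.false_or] at H'
  obtain ⟨k, hk, hk'⟩ := any256_get H'
  simp only [Bool.and_eq_true, Bool.not_eq_true'] at hk'
  exact ⟨vec k, by rw [qm_vec hk, hk'.1.1]; rfl, by rw [pb_vec hk hi, hk'.1.2]; rfl,
    by rw [pb_vec hk hj, hk'.2]; rfl⟩

theorem fact_T0 {s : V8} (hp : Sing p) (hs : Sing s) (h : pb p s = 0) :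
    ∃ r, Sing r ∧ pb p r = 1 ∧ pb s r = 1 := by
  obtain ⟨i, hi, rfl⟩ := vec_surj p
  obtain ⟨j, hj, rfl⟩ := vec_surj s
  have H := all256_get check_T0 hi
  rw [(sing_vec hi).1 hp] at H
  have H' := all256_get (by simpa using H) hj
  simp only [(sing_vec hj).1 hs, ite_zero_iff.1 ((pb_vec hi hj) ▸ h), Bool.not_false, Bool.and_self, Bool.not_true,
    Bool.false_or] at H'
  obtain ⟨k, hk, hk'⟩ := any256_get H'
  simp only [Bool.and_eq_true] at hk'
  exact ⟨vec k, (sing_vec hk).2 hk'.1.1, by rw [pb_vec hi hk, hk'.1.2]; rfl, by rw [pb_vec hj hk, hk'.2]; rfl⟩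

theorem hex8 : Fintype.card (ZMod 2) ≠ 2 ∨ Module.finrank (ZMod 2) V8 ≠ 4 := by
  right; rw [Module.finrank_pi]; simp

theorem card_qAut8 : Nat.card (qAut qm) = 348364800 := by
  rw [card_qAut_qPlus, card_qAut_plus 3]
  simp [Finset.prod_range_succ]

/-! ### The index two subgroup -/

/-- The subgroup of index two. -/
noncomputable def Ev : Subgroup (qAut qm) := commutator (qAut qm)

theorem index_ev : Ev.index = 2 :=
  index_commutator_two qm polarNondeg_qm (by rw [Module.finrank_pi]; simp) hex8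

/-- The reflection. -/
noncomputable def rf (a : V8) (ha : qm a = 1) : qAut qm := qRefl qm (v := a) (by rw [ha]; exact one_ne_zero)

theorem rf_apply {a : V8} (ha : qm a = 1) (x : V8) : (rf a ha).1 x = x + pb x a • a := by
  rw [rf, qRefl_apply, ha, inv_one, one_mul, sub_eq_add_neg]
  congr 1
  exact funext fun i => CharTwo.neg_eq _

theorem rf_fix {a x : V8} (ha : qm a = 1) (h : pb x a = 0) : (rf a ha).1 x = x := by
  rw [rf_apply, h, zero_smul, add_zero]

theorem rf_move {a x : V8} (ha : qm a = 1) (h : pb x a = 1) : (rf a ha).1 x = x + a := by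
  rw [rf_apply, h, one_smul]

theorem mem_ev_iff (g : qAut qm) : g ∈ Ev ↔ Even (qRank qm g) := by
  classical
  haveI := finite_qAut qm
  obtain ⟨D, hD, hD'⟩ := exists_parity_hom qm polarNondeg_qm (reflGroup_eq_top qm polarNondeg_qm hex8)
  have hle : Ev ≤ D.ker := Abelianization.commutator_subset_ker D
  have hne : D.ker ≠ ⊤ := fun h => by
    obtain ⟨a, ha⟩ := exists_value qm polarNondeg_qm (by rw [Module.finrank_pi]; simp) (one_ne_zero (α := ZMod 2))
    have h1 := hD' a (by rw [ha]; exact one_ne_zero)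
    rw [show D (qRefl qm _) = 1 from MonoidHom.mem_ker.1 (h ▸ Subgroup.mem_top _)] at h1
    exact absurd h1 (by decide)
  have he : Ev = D.ker := by
    by_contra hne'
    have h2 := Subgroup.index_dvd_of_le hle
    rw [index_ev] at h2
    rcases (Nat.dvd_prime Nat.prime_two).1 h2 with e | e
    · exact hne (Subgroup.index_eq_one.1 e)
    · have h3 := Subgroup.card_mul_index D.ker
      have h4 := Subgroup.card_mul_index Ev
      rw [index_ev] at h4
      rw [e] at h3
      exact hne' (Subgroup.eq_of_le_of_card_ge hle (by omega))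
  rw [he, MonoidHom.mem_ker, hD, ← ZMod.natCast_eq_zero_iff_even]
  exact ⟨fun h => congrArg Multiplicative.toAdd h, fun h => by rw [h]; rfl⟩

theorem rf_not_mem {a : V8} (ha : qm a = 1) : rf a ha ∉ Ev := by
  intro h
  haveI := finite_qAut qm
  obtain ⟨D, hD, hD'⟩ := exists_parity_hom qm polarNondeg_qm (reflGroup_eq_top qm polarNondeg_qm hex8)
  have h1 := hD' a (by rw [ha]; exact one_ne_zero)
  have h2 := (ZMod.natCast_eq_zero_iff_even).2 ((mem_ev_iff _).1 h)
  rw [rf] at h2
  rw [hD, h2] at h1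
  exact absurd h1 (by decide)

theorem rf_mul_mem {a b : V8} (ha : qm a = 1) (hb : qm b = 1) : rf a ha * rf b hb ∈ Ev := by
  exact (Subgroup.mul_mem_iff_of_index_two index_ev).2
    (iff_of_false (rf_not_mem ha) (rf_not_mem hb))

/-! ### Orbits -/

theorem pb_map (g : qAut qm) (u v : V8) : pb (g.1 u) (g.1 v) = pb u v := qAut_polar g u v

theorem ev_step {p q : V8} (hp : Sing p) (hq : Sing q) (h : pb p q = 1) : ∃ g ∈ Ev, g.1 p = q := by
  obtain ⟨a, ha, hap, -⟩ := fact_T1 hp hq h
  have hpq : qm (p + q) = 1 := by rw [qm_add, hp.2, hq.2, h]; decide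
  refine ⟨rf (p + q) hpq * rf a ha, rf_mul_mem hpq ha, ?_⟩
  rw [qAut_mul_apply, rf_fix ha (by rw [pb_comm, hap]), rf_move hpq (by rw [pb_add_right, pb_self, h, zero_add]),
    add_cancel8]

/-- Transitivity on the nonzero singular vectors. -/
theorem ev_sing {p q : V8} (hp : Sing p) (hq : Sing q) : ∃ g ∈ Ev, g.1 p = q := by
  rcases two_cases (pb p q) with h | h
  · obtain ⟨r, hr, h1, h2⟩ := fact_T0 hp hq h
    obtain ⟨g, hg, e⟩ := ev_step hp hr h1
    obtain ⟨g', hg', e'⟩ := ev_step hr hq (by rw [pb_comm, h2])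
    exact ⟨g' * g, mul_mem hg' hg, by rw [qAut_mul_apply, e, e']⟩
  · exact ev_step hp hq h

theorem pm_map {g : qAut qm} (hg : g.1 p = p) {x : V8} (hx : Pm p x) : Pm p (g.1 x) := by
  rcases hx with rfl | rfl
  · exact .inl (map_zero _)
  · exact .inr hg

theorem pm_map_iff {g : qAut qm} (hg : g.1 p = p) {x : V8} : Pm p (g.1 x) ↔ Pm p x := by
  refine ⟨fun h => ?_, pm_map hg⟩
  rcases h with h | h
  · exact .inl (g.1.map_eq_zero_iff.1 h)
  · exact .inr (g.1.injective (h.trans hg.symm))

theorem perp_map {g : qAut qm} (hg : g.1 p = p) {x : V8} (hx : pb p x = 0) : pb p (g.1 x) = 0 := by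
  rw [← hg, pb_map, hx]

theorem nvec_map {g : qAut qm} (hg : g.1 p = p) {x : V8} (hx : NVec p x) : NVec p (g.1 x) :=
  ⟨(qAut_map g x).trans hx.1, perp_map hg hx.2⟩

theorem svec_map {g : qAut qm} (hg : g.1 p = p) {x : V8} (hx : SVec p x) : SVec p (g.1 x) :=
  ⟨(qAut_map g x).trans hx.1, perp_map hg hx.2.1, fun h => hx.2.2 ((pm_map_iff hg).1 h)⟩
/-- The first vector. -/
def P0 : V8 := vec 1

theorem sing_P0 : Sing P0 := (sing_vec (by norm_num)).2 (by decide +kernel)

theorem exists_std (hp : Sing p) : ∃ g : qAut qm, g.1 P0 = p := by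
  obtain ⟨g, -, e⟩ := ev_sing sing_P0 hp
  exact ⟨g, e⟩

end CfsgLib.CoType
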