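import Mathlib
import Cfsg.Agent.Lib.CoType.Form

/-!
The stabilizer of a singular vector `p`: the facts on `p⊥/⟨p⟩` carried from the first vector, and the
orbits on vectors and on the pairs used for the involutions.
-/

set_option autoImplicit false
set_option linter.style.haveILetI false
set_option linter.unusedSimpArgs false

namespace CfsgLib.CoType

open CfsgLib.Classical

variable {p : V8}

theorem pm_g (g : qAut qm) {x : V8} : Pm (g.1 p) (g.1 x) ↔ Pm p x := by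
  simp only [Pm, LinearEquiv.map_eq_zero_iff, g.1.injective.eq_iff]

theorem svec_g (g : qAut qm) {x : V8} : SVec (g.1 p) (g.1 x) ↔ SVec p x := by
  simp only [SVec, qAut_map, pb_map, pm_g]

theorem nvec_g (g : qAut qm) {x : V8} : NVec (g.1 p) (g.1 x) ↔ NVec p x := by
  simp only [NVec, qAut_map, pb_map]

theorem one_lt : 1 < 256 := by norm_num

theorem pb0 {j : ℕ} (hj : j < 256) : pb P0 (vec j) = if bn 1 j then 1 else 0 := pb_vec one_lt hj

theorem pm0 {j : ℕ} (hj : j < 256) : Pm P0 (vec j) ↔ pmB j = true := by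
  simp [Pm, pmB, P0, ← vec_zero, vec_eq_iff hj (show 0 < 256 by norm_num), vec_eq_iff hj one_lt]

theorem svec0 {j : ℕ} (hj : j < 256) : SVec P0 (vec j) ↔ sB j = true := by
  simp [SVec, sB, qm_vec hj, pb0 hj, pm0 hj, ite_zero_iff]
  tauto

theorem nvec0 {j : ℕ} (hj : j < 256) : NVec P0 (vec j) ↔ nB j = true := by
  simp [NVec, nB, qm_vec hj, pb0 hj, ite_zero_iff, ite_one_iff]

theorem fact_perp (hp : Sing p) {r : V8} (h : ∀ y, pb p y = 0 → pb r y = 0) : Pm p r := by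
  obtain ⟨g, rfl⟩ := exists_std hp
  obtain ⟨r, rfl⟩ := g.1.surjective r
  rw [pm_g]
  obtain ⟨j, hj, rfl⟩ := vec_surj r
  rw [pm0 hj]
  rcases Bool.or_eq_true_iff.1 (all256_get check_perp hj) with e | e
  · exact e
  · obtain ⟨k, hk, hk'⟩ := any256_get e
    simp only [Bool.and_eq_true, Bool.not_eq_true'] at hk'
    have := h (g.1 (vec k)) (by rw [pb_map, pb0 hk, hk'.1]; rfl)
    rw [pb_map, pb_vec hj hk, hk'.2] at this
    exact absurd this (by decide)

theorem card_of_list {P : V8 → Prop} {b : ℕ → Bool} (h : ∀ j, j < 256 → (P (vec j) ↔ b j = true)) :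
    Nat.card {y : V8 // P y} = ((List.range 256).filter b).length := by
  classical
  rw [Nat.card_eq_fintype_card, Fintype.card_subtype]
  have e : (Finset.univ.filter fun y : V8 => P y) = ((List.range 256).filter b).toFinset.image vec := by
    ext y
    obtain ⟨j, hj, rfl⟩ := vec_surj y
    simp only [Finset.mem_filter, Finset.mem_univ, true_and, Finset.mem_image, List.mem_toFinset, List.mem_filter,
      List.mem_range]
    exact ⟨fun hy => ⟨j, ⟨hj, (h j hj).1 hy⟩, rfl⟩, fun ⟨k, ⟨hk, hk'⟩, hkj⟩ => hkj ▸ (h k hk).2 hk'⟩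
  rw [e, Finset.card_image_of_injOn, List.toFinset_card_of_nodup (List.nodup_range.filter _)]
  intro a ha b' hb hab
  simp only [Finset.mem_coe, List.mem_toFinset, List.mem_filter, List.mem_range] at ha hb
  exact (vec_eq_iff ha.1 hb.1).1 hab

theorem counts (hp : Sing p) : Nat.card {y // pb p y = 0} = 128 ∧ Nat.card {y // SVec p y} = 70 ∧
    Nat.card {y // NVec p y} = 56 := by
  obtain ⟨g, rfl⟩ := exists_std hp
  have h := check_count
  simp only [Bool.and_eq_true, beq_iff_eq] at h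
  refine ⟨?_, ?_, ?_⟩
  · rw [← Nat.card_congr (g.1.toEquiv.subtypeEquiv (p := fun y => pb P0 y = 0) fun y => by simp [pb_map]),
      card_of_list (b := fun y => !bn 1 y) fun j hj => by simp [pb0 hj, ite_zero_iff], h.1.1]
  · rw [← Nat.card_congr (g.1.toEquiv.subtypeEquiv (p := fun y => SVec P0 y) fun y => by simp [svec_g]),
      card_of_list fun j hj => svec0 hj, h.1.2]
  · rw [← Nat.card_congr (g.1.toEquiv.subtypeEquiv (p := fun y => NVec P0 y) fun y => by simp [nvec_g]),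
      card_of_list fun j hj => nvec0 hj, h.2]

theorem card_perp (hp : Sing p) : Nat.card {y // pb p y = 0} = 128 := (counts hp).1

theorem fact_S (hp : Sing p) : ∃ s, SVec p s := by
  have : 0 < Nat.card {y // SVec p y} := by rw [(counts hp).2.1]; norm_num
  obtain ⟨⟨s, hs⟩⟩ := (Nat.card_pos_iff.1 this).1
  exact ⟨s, hs⟩

theorem fact_N (hp : Sing p) : ∃ s, NVec p s := by
  have : 0 < Nat.card {y // NVec p y} := by rw [(counts hp).2.2]; norm_num
  obtain ⟨⟨s, hs⟩⟩ := (Nat.card_pos_iff.1 this).1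
  exact ⟨s, hs⟩

theorem fact_1 {s : V8} (hp : Sing p) (hs : SVec p s) :
    (∃ a, NVec p a ∧ pb a s = 0) ∧ ∃ r, SVec p r ∧ pb r s = 1 := by
  obtain ⟨g, rfl⟩ := exists_std hp
  obtain ⟨s, rfl⟩ := g.1.surjective s
  rw [svec_g] at hs
  obtain ⟨j, hj, rfl⟩ := vec_surj s
  have H := all256_get check_1 hj
  simp only [(svec0 hj).1 hs, Bool.not_true, Bool.false_or, Bool.and_eq_true] at H
  obtain ⟨a, ha, ha'⟩ := any256_get H.1
  obtain ⟨r, hr, hr'⟩ := any256_get H.2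
  simp only [Bool.and_eq_true, Bool.not_eq_true'] at ha' hr'
  exact ⟨⟨g.1 (vec a), (nvec_g g).2 ((nvec0 ha).2 ha'.1), by rw [pb_map, pb_vec ha hj, ha'.2]; rfl⟩,
    ⟨g.1 (vec r), (svec_g g).2 ((svec0 hr).2 hr'.1), by rw [pb_map, pb_vec hr hj, hr'.2]; rfl⟩⟩

theorem fact_2 {s t : V8} (hp : Sing p) (hs : SVec p s) (hq : qm t = 0) (hpt : pb p t = 0) (hst : pb s t = 0) :
    ∃ a, NVec p a ∧ pb a s = 0 ∧ pb a t = 0 := by
  obtain ⟨g, rfl⟩ := exists_std hp
  obtain ⟨s, rfl⟩ := g.1.surjective s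
  obtain ⟨t, rfl⟩ := g.1.surjective t
  rw [svec_g] at hs
  rw [qAut_map] at hq
  rw [pb_map] at hpt hst
  obtain ⟨j, hj, rfl⟩ := vec_surj s
  obtain ⟨k, hk, rfl⟩ := vec_surj t
  have H := all256_get check_2 hj
  rw [(svec0 hj).1 hs] at H
  have H' := all256_get (by simpa using H) hk
  rw [qm_vec hk, ite_zero_iff] at hq
  rw [pb0 hk, ite_zero_iff] at hpt
  rw [pb_vec hj hk, ite_zero_iff] at hst
  simp only [hq, hpt, hst, Bool.not_false, Bool.and_self, Bool.not_true, Bool.false_or] at H'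
  obtain ⟨a, ha, ha'⟩ := any256_get H'
  simp only [Bool.and_eq_true, Bool.not_eq_true'] at ha'
  exact ⟨g.1 (vec a), (nvec_g g).2 ((nvec0 ha).2 ha'.1.1), by rw [pb_map, pb_vec ha hj, ha'.1.2]; rfl,
    by rw [pb_map, pb_vec ha hk, ha'.2]; rfl⟩

theorem fact_3 {s t : V8} (hp : Sing p) (hs : SVec p s) (ht : SVec p t) (hst : pb s t = 0) (hne : ¬ Pm p (t + s)) :
    ∃ r, SVec p r ∧ pb s r = 1 ∧ pb t r = 1 := by
  obtain ⟨g, rfl⟩ := exists_std hp
  obtain ⟨s, rfl⟩ := g.1.surjective s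
  obtain ⟨t, rfl⟩ := g.1.surjective t
  rw [svec_g] at hs ht
  rw [pb_map] at hst
  rw [← map_add, pm_g] at hne
  obtain ⟨j, hj, rfl⟩ := vec_surj s
  obtain ⟨k, hk, rfl⟩ := vec_surj t
  have H := all256_get check_3 hj
  rw [(svec0 hj).1 hs] at H
  have H' := all256_get (by simpa using H) hk
  rw [pb_vec hj hk, ite_zero_iff] at hst
  rw [← vec_xor, pm0 (xor_lt hk hj), Bool.not_eq_true] at hne
  simp only [(svec0 hk).1 ht, hst, hne, Bool.not_false, Bool.and_self, Bool.not_true, Bool.false_or] at H'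
  obtain ⟨r, hr, hr'⟩ := any256_get H'
  simp only [Bool.and_eq_true] at hr'
  exact ⟨g.1 (vec r), (svec_g g).2 ((svec0 hr).2 hr'.1.1), by rw [pb_map, pb_vec hj hr, hr'.1.2]; rfl,
    by rw [pb_map, pb_vec hk hr, hr'.2]; rfl⟩

theorem fact_4 {s a : V8} (hp : Sing p) (hs : SVec p s) (ha : NVec p a) (has : pb a s = 0) :
    ∃ x b, pb p x = 0 ∧ pb x a = 1 ∧ NVec p b ∧ pb b s = 0 ∧ pb x b = 0 := by
  obtain ⟨g, rfl⟩ := exists_std hp
  obtain ⟨s, rfl⟩ := g.1.surjective s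
  obtain ⟨a, rfl⟩ := g.1.surjective a
  rw [svec_g] at hs
  rw [nvec_g] at ha
  rw [pb_map] at has
  obtain ⟨j, hj, rfl⟩ := vec_surj s
  obtain ⟨k, hk, rfl⟩ := vec_surj a
  have H := all256_get check_4 hj
  rw [(svec0 hj).1 hs] at H
  have H' := all256_get (by simpa using H) hk
  rw [pb_vec hk hj, ite_zero_iff] at has
  simp only [(nvec0 hk).1 ha, has, Bool.not_false, Bool.and_self, Bool.not_true, Bool.false_or] at H'
  obtain ⟨m, hm, hm'⟩ := any256_get H'
  simp only [Bool.and_eq_true, Bool.not_eq_true'] at hm'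
  obtain ⟨⟨h1, h2⟩, h3⟩ := hm'
  obtain ⟨n, hn, hn'⟩ := any256_get h3
  simp only [Bool.and_eq_true, Bool.not_eq_true'] at hn'
  exact ⟨g.1 (vec m), g.1 (vec n), by rw [pb_map, pb0 hm, h1]; rfl, by rw [pb_map, pb_vec hm hk, h2]; rfl,
    (nvec_g g).2 ((nvec0 hn).2 hn'.1.1), by rw [pb_map, pb_vec hn hj, hn'.1.2]; rfl,
    by rw [pb_map, pb_vec hm hn, hn'.2]; rfl⟩

theorem fact_5 {v w : V8} (hp : Sing p) (hv : NVec p v) (hw : NVec p w) (hvw : pb v w = 0) (hne : ¬ Pm p (w + v)) :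
    ∃ c, NVec p c ∧ pb v c = 1 ∧ pb w c = 1 := by
  obtain ⟨g, rfl⟩ := exists_std hp
  obtain ⟨v, rfl⟩ := g.1.surjective v
  obtain ⟨w, rfl⟩ := g.1.surjective w
  rw [nvec_g] at hv hw
  rw [pb_map] at hvw
  rw [← map_add, pm_g] at hne
  obtain ⟨j, hj, rfl⟩ := vec_surj v
  obtain ⟨k, hk, rfl⟩ := vec_surj w
  have H := all256_get check_5 hj
  rw [(nvec0 hj).1 hv] at H
  have H' := all256_get (by simpa using H) hk
  rw [pb_vec hj hk, ite_zero_iff] at hvw
  rw [← vec_xor, pm0 (xor_lt hk hj), Bool.not_eq_true] at hne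
  simp only [(nvec0 hk).1 hw, hvw, hne, Bool.not_false, Bool.and_self, Bool.not_true, Bool.false_or] at H'
  obtain ⟨m, hm, hm'⟩ := any256_get H'
  simp only [Bool.and_eq_true] at hm'
  exact ⟨g.1 (vec m), (nvec_g g).2 ((nvec0 hm).2 hm'.1.1), by rw [pb_map, pb_vec hj hm, hm'.1.2]; rfl,
    by rw [pb_map, pb_vec hk hm, hm'.2]; rfl⟩

theorem fact_10 {v : V8} (hp : Sing p) (hv : NVec p v) :
    (∃ u, NVec p u ∧ pb u v = 1) ∧ ∃ s, SVec p s ∧ pb v s = 1 := by
  obtain ⟨g, rfl⟩ := exists_std hp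
  obtain ⟨v, rfl⟩ := g.1.surjective v
  rw [nvec_g] at hv
  obtain ⟨j, hj, rfl⟩ := vec_surj v
  have H := all256_get check_10 hj
  simp only [(nvec0 hj).1 hv, Bool.not_true, Bool.false_or, Bool.and_eq_true] at H
  obtain ⟨a, ha, ha'⟩ := any256_get H.1
  obtain ⟨r, hr, hr'⟩ := any256_get H.2
  simp only [Bool.and_eq_true] at ha' hr'
  exact ⟨⟨g.1 (vec a), (nvec_g g).2 ((nvec0 ha).2 ha'.1), by rw [pb_map, pb_vec ha hj, ha'.2]; rfl⟩,
    ⟨g.1 (vec r), (svec_g g).2 ((svec0 hr).2 hr'.1), by rw [pb_map, pb_vec hj hr, hr'.2]; rfl⟩⟩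

/-! ### Orbits on vectors -/

theorem ev_svec_step (hp : Sing p) {s t : V8} (hs : SVec p s) (ht : SVec p t) (h : pb s t = 1) :
    ∃ g ∈ Ev, g.1 p = p ∧ g.1 s = t := by
  obtain ⟨a, ha, has⟩ := (fact_1 hp hs).1
  have hst : qm (s + t) = 1 := by rw [qm_add, hs.1, ht.1, h]; decide
  refine ⟨rf (s + t) hst * rf a ha.1, rf_mul_mem hst ha.1, ?_, ?_⟩
  · rw [qAut_mul_apply, rf_fix ha.1 ha.2, rf_fix hst (by rw [pb_add_right, hs.2.1, ht.2.1, add_zero])]
  · rw [qAut_mul_apply, rf_fix ha.1 (by rw [pb_comm, has]),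
      rf_move hst (by rw [pb_add_right, pb_self, h, zero_add]), add_cancel8]

/-- Transitivity on the singular classes of `p⊥`. -/
theorem ev_svec (hp : Sing p) {s t : V8} (hs : SVec p s) (ht : SVec p t) :
    ∃ g ∈ Ev, g.1 p = p ∧ Pm p (g.1 s + t) := by
  rcases two_cases (pb s t) with h | h
  · by_cases hne : Pm p (t + s)
    · exact ⟨1, one_mem _, rfl, pm_symm hne⟩
    · obtain ⟨r, hr, h1, h2⟩ := fact_3 hp hs ht h hne
      obtain ⟨g, hg, gp, gs⟩ := ev_svec_step hp hs hr h1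
      obtain ⟨k, hk, kp, ks⟩ := ev_svec_step hp hr ht (by rw [pb_comm, h2])
      exact ⟨k * g, mul_mem hk hg, by rw [qAut_mul_apply, gp, kp], by rw [qAut_mul_apply, gs, ks]; exact pm_self t⟩
  · obtain ⟨g, hg, gp, gs⟩ := ev_svec_step hp hs ht h
    exact ⟨g, hg, gp, by rw [gs]; exact pm_self t⟩

theorem ev_nvec_step (hp : Sing p) {v w : V8} (hv : NVec p v) (hw : NVec p w) (h : pb v w = 1) :
    ∃ g ∈ Ev, g.1 p = p ∧ g.1 v = w := by
  have hvw : qm (v + w) = 1 := by rw [qm_add, hv.1, hw.1, h]; decide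
  refine ⟨rf (v + w) hvw * rf v hv.1, rf_mul_mem hvw hv.1, ?_, ?_⟩
  · rw [qAut_mul_apply, rf_fix hv.1 hv.2, rf_fix hvw (by rw [pb_add_right, hv.2, hw.2, add_zero])]
  · rw [qAut_mul_apply, rf_fix hv.1 (pb_self v), rf_move hvw (by rw [pb_add_right, pb_self, h, zero_add]),
      add_cancel8]

/-- Transitivity on the classes of value one in `p⊥`. -/
theorem ev_nvec (hp : Sing p) {v w : V8} (hv : NVec p v) (hw : NVec p w) :
    ∃ g ∈ Ev, g.1 p = p ∧ Pm p (g.1 v + w) := by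
  rcases two_cases (pb v w) with h | h
  · by_cases hne : Pm p (w + v)
    · exact ⟨1, one_mem _, rfl, pm_symm hne⟩
    · obtain ⟨c, hc, h1, h2⟩ := fact_5 hp hv hw h hne
      obtain ⟨g, hg, gp, gv⟩ := ev_nvec_step hp hv hc h1
      obtain ⟨g', hg', gp', gc⟩ := ev_nvec_step hp hc hw (by rw [pb_comm, h2])
      exact ⟨g' * g, mul_mem hg' hg, by rw [qAut_mul_apply, gp, gp'],
        by rw [qAut_mul_apply, gv, gc]; exact pm_self w⟩
  · obtain ⟨g, hg, gp, gv⟩ := ev_nvec_step hp hv hw h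
    exact ⟨g, hg, gp, by rw [gv]; exact pm_self w⟩

/-! ### Orbits on pairs -/

/-- Two classes of `p⊥` of value `c` with product `c`, spanning a plane of classes. -/
structure Typ (p : V8) (c : ZMod 2) (v u : V8) : Prop where
  qv : qm v = c
  pv : pb p v = 0
  nv : ¬ Pm p v
  qu : qm u = c
  pu : pb p u = 0
  nu : ¬ Pm p u
  uv : pb u v = c
  ne : ¬ Pm p (u + v)

theorem typ_g (g : qAut qm) {c : ZMod 2} {v u : V8} :
    Typ (g.1 p) c (g.1 v) (g.1 u) ↔ Typ p c v u := by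
  constructor <;> rintro ⟨a1, a2, a3, a4, a5, a6, a7, a8⟩
  · exact ⟨by rwa [qAut_map] at a1, by rwa [pb_map] at a2, fun h => a3 ((pm_g g).2 h), by rwa [qAut_map] at a4,
      by rwa [pb_map] at a5, fun h => a6 ((pm_g g).2 h), by rwa [pb_map] at a7,
      fun h => a8 (by rw [← map_add]; exact (pm_g g).2 h)⟩
  · exact ⟨by rwa [qAut_map], by rwa [pb_map], fun h => a3 ((pm_g g).1 h), by rwa [qAut_map],
      by rwa [pb_map], fun h => a6 ((pm_g g).1 h), by rwa [pb_map],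
      fun h => a8 (by rw [← map_add] at h; exact (pm_g g).1 h)⟩

theorem Typ.congr (hp : Sing p) {c : ZMod 2} {v v' u : V8} (h : Typ p c v u) (hv : Pm p (v + v'))
    (pv' : pb p v' = 0) : Typ p c v' u :=
  ⟨(pm_quad hp hv pv').symm.trans h.qv, pv', fun e => h.nv (by
      have := hv.add e
      rwa [add_assoc, add_self8, add_zero] at this),
    h.qu, h.pu, h.nu, by rw [pb_comm, ← pm_polar hv h.pu, pb_comm, h.uv], fun e => h.ne (by
      have := hv.add e
      rwa [show v + v' + (u + v') = u + v by rw [add_comm u v', add_assoc, add_cancel8, add_comm]] at this)⟩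

theorem v2_lt (b : Bool) : v2 b < 256 := by cases b <;> decide

theorem typ0 (b : Bool) {j : ℕ} (hj : j < 256) :
    Typ P0 (if b then 1 else 0) (vec (v2 b)) (vec j) ↔ typB b j = true := by
  have hv := v2_lt b
  have e1 : qn (v2 b) = b ∧ bn 1 (v2 b) = false ∧ pmB (v2 b) = false := by cases b <;> decide +kernel
  have hb : ∀ x : Bool, ((if x then (1 : ZMod 2) else 0) = if b then 1 else 0) ↔ x = b := fun x => by
    cases x <;> cases b <;> decide
  constructor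
  · rintro ⟨-, -, -, a4, a5, a6, a7, a8⟩
    rw [qm_vec hj, hb] at a4
    rw [pb0 hj, ite_zero_iff] at a5
    rw [pm0 hj, Bool.not_eq_true] at a6
    rw [pb_vec hj hv, hb] at a7
    rw [← vec_xor, pm0 (xor_lt hj hv), Bool.not_eq_true] at a8
    simp [typB, a4, a5, a6, a7, a8]
  · intro h
    simp only [typB, Bool.and_eq_true, Bool.not_eq_true', beq_iff_eq] at h
    obtain ⟨⟨⟨⟨a5, a4⟩, a7⟩, a6⟩, a8⟩ := h
    exact ⟨by rw [qm_vec hv, e1.1], by rw [pb0 hv, e1.2.1]; rfl, by rw [pm0 hv, e1.2.2]; simp,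
      by rw [qm_vec hj, a4], by rw [pb0 hj, a5]; rfl, by rw [pm0 hj, a6]; simp,
      by rw [pb_vec hj hv, a7], by rw [← vec_xor, pm0 (xor_lt hj hv), a8]; simp⟩

theorem exists_bool (c : ZMod 2) : ∃ b : Bool, c = if b then 1 else 0 := by
  rcases two_cases c with rfl | rfl
  · exact ⟨false, rfl⟩
  · exact ⟨true, rfl⟩

/-- Transitivity on the second vector. -/
theorem ev_vec (hp : Sing p) {c : ZMod 2} {v v' : V8} (hv : qm v = c) (pv : pb p v = 0) (nv : ¬ Pm p v)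
    (hv' : qm v' = c) (pv' : pb p v' = 0) (nv' : ¬ Pm p v') : ∃ g ∈ Ev, g.1 p = p ∧ Pm p (g.1 v + v') := by
  rcases two_cases c with rfl | rfl
  · exact ev_svec hp ⟨hv, pv, nv⟩ ⟨hv', pv', nv'⟩
  · exact ev_nvec hp ⟨hv, pv⟩ ⟨hv', pv'⟩

/-- A frame for the pairs sharing the second vector. -/
theorem typ_std (hp : Sing p) {c : ZMod 2} {v : V8} (qv : qm v = c) (pv : pb p v = 0) (nv : ¬ Pm p v) :
    ∃ (b : Bool) (g : qAut qm), c = (if b then 1 else 0) ∧ g.1 P0 = p ∧ Pm p (g.1 (vec (v2 b)) + v) ∧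
      ∀ j, j < 256 → (Typ p c v (g.1 (vec j)) ↔ typB b j = true) := by
  obtain ⟨b, rfl⟩ := exists_bool c
  obtain ⟨g, rfl⟩ := exists_std hp
  obtain ⟨v, rfl⟩ := g.1.surjective v
  rw [qAut_map] at qv
  rw [pb_map] at pv
  rw [pm_g] at nv
  obtain ⟨j₁, hj₁, hj₁'⟩ := any256_get (check_typ_exists b)
  have hstd := (typ0 b hj₁).2 hj₁'
  obtain ⟨k, -, kp, kv⟩ := ev_vec sing_P0 hstd.qv hstd.pv hstd.nv qv pv nv
  refine ⟨b, g * k, rfl, by rw [qAut_mul_apply, kp], by rw [qAut_mul_apply, ← map_add, pm_g]; exact kv,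
    fun j hj => ?_⟩
  have h4 := typ_g k (p := P0) (c := if b then 1 else 0) (v := vec (v2 b)) (u := vec j)
  rw [kp, typ0 b hj] at h4
  rw [qAut_mul_apply, typ_g g, ← h4]
  refine ⟨fun h => h.congr sing_P0 (pm_symm kv) ?_, fun h => h.congr sing_P0 kv pv⟩
  have h3 := pb_map k P0 (vec (v2 b))
  rw [kp] at h3
  rw [h3, hstd.pv]

theorem fact_typ_step {c : ZMod 2} {v u w : V8} (hp : Sing p) (hu : Typ p c v u) (hw : Typ p c v w)
    (huw : pb u w = 0) (hne : ¬ Pm p (w + u)) : ∃ r, Typ p c v r ∧ pb r u = 1 ∧ pb r w = 1 := by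
  obtain ⟨b, g, rfl, gp, -, h⟩ := typ_std hp hu.qv hu.pv hu.nv
  obtain ⟨u, rfl⟩ := g.1.surjective u
  obtain ⟨w, rfl⟩ := g.1.surjective w
  obtain ⟨j, hj, rfl⟩ := vec_surj u
  obtain ⟨k, hk, rfl⟩ := vec_surj w
  have H := all256_get (check_typ_step b) hj
  rw [(h j hj).1 hu] at H
  have H' := all256_get (by simpa using H) hk
  rw [pb_map, pb_vec hj hk, ite_zero_iff] at huw
  rw [← gp, ← map_add, pm_g, ← vec_xor, pm0 (xor_lt hk hj), Bool.not_eq_true] at hne
  simp only [(h k hk).1 hw, huw, hne, Bool.not_false, Bool.and_self, Bool.not_true, Bool.false_or] at H'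
  obtain ⟨r, hr, hr'⟩ := any256_get H'
  simp only [Bool.and_eq_true] at hr'
  exact ⟨g.1 (vec r), (h r hr).2 hr'.1.1, by rw [pb_map, pb_vec hr hj, hr'.1.2]; rfl,
    by rw [pb_map, pb_vec hr hk, hr'.2]; rfl⟩

/-- An anisotropic vector orthogonal to the plane, and the dual pair. -/
theorem fact_typ_one {c : ZMod 2} {v u : V8} (hp : Sing p) (hu : Typ p c v u) :
    (∃ a, qm a = 1 ∧ pb a p = 0 ∧ pb a v = 0 ∧ pb a u = 0) ∧
      (∃ a, pb p a = 0 ∧ pb a u = 1 ∧ pb a v = 0) ∧ ∃ a, pb p a = 0 ∧ pb a u = 0 ∧ pb a v = 1 := by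
  obtain ⟨b, g, rfl, gp, gv, h⟩ := typ_std hp hu.qv hu.pv hu.nv
  obtain ⟨u, rfl⟩ := g.1.surjective u
  obtain ⟨j, hj, rfl⟩ := vec_surj u
  have hperp : ∀ i, i < 256 → bn 1 i = false → pb p (g.1 (vec i)) = 0 := fun i hi h1 => by
    rw [← gp, pb_map, pb0 hi, h1]; rfl
  have hv : ∀ i, i < 256 → bn 1 i = false → pb (g.1 (vec i)) v = if bn i (v2 b) then 1 else 0 := fun i hi h1 => by
    rw [← pb_vec hi (v2_lt b), ← pb_map g (vec i), pb_comm, pb_comm (g.1 (vec i)), pm_polar gv (hperp i hi h1)]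
  have hbn : ∀ i, i < 256 → bn 1 i = bn i 1 := fun i hi => by
    have h1 := pb_comm (vec 1) (vec i)
    rw [pb_vec one_lt hi, pb_vec hi one_lt] at h1
    revert h1
    cases bn 1 i <;> cases bn i 1 <;> simp
  have H := all256_get (check_typ_one b) hj
  simp only [(h j hj).1 hu, Bool.not_true, Bool.false_or, Bool.and_eq_true] at H
  obtain ⟨⟨H1, H2⟩, H3⟩ := H
  obtain ⟨i1, hi1, e1⟩ := any256_get H1
  obtain ⟨i2, hi2, e2⟩ := any256_get H2
  obtain ⟨i3, hi3, e3⟩ := any256_get H3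
  simp only [Bool.and_eq_true, Bool.not_eq_true'] at e1 e2 e3
  have e1' : bn 1 i1 = false := by rw [hbn i1 hi1, e1.1.1.2]
  refine ⟨⟨g.1 (vec i1), by rw [qAut_map, qm_vec hi1, e1.1.1.1]; rfl, by rw [pb_comm, hperp i1 hi1 e1'],
      by rw [hv i1 hi1 e1', e1.1.2]; rfl, by rw [pb_map, pb_vec hi1 hj, e1.2]; rfl⟩,
    ⟨g.1 (vec i2), hperp i2 hi2 e2.1.1, by rw [pb_map, pb_vec hi2 hj, e2.1.2]; rfl,
      by rw [hv i2 hi2 e2.1.1, e2.2]; rfl⟩,
    ⟨g.1 (vec i3), hperp i3 hi3 e3.1.1, by rw [pb_map, pb_vec hi3 hj, e3.1.2]; rfl,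
      by rw [hv i3 hi3 e3.1.1, e3.2]; rfl⟩⟩

theorem fact_typ_exists (hp : Sing p) (b : Bool) : ∃ v u, Typ p (if b then 1 else 0) v u := by
  obtain ⟨g, rfl⟩ := exists_std hp
  obtain ⟨j, hj, hj'⟩ := any256_get (check_typ_exists b)
  exact ⟨_, _, (typ_g g).2 ((typ0 b hj).2 hj')⟩

theorem ev_typ_step (hp : Sing p) {c : ZMod 2} {v u w : V8} (hu : Typ p c v u) (hw : Typ p c v w)
    (huw : pb u w = 1) : ∃ g ∈ Ev, g.1 p = p ∧ g.1 v = v ∧ g.1 u = w := by
  obtain ⟨a, ha, hap, hav, hau⟩ := (fact_typ_one hp hu).1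
  have hc : qm (u + w) = 1 := by
    rw [qm_add, hu.qu, hw.qu, huw, CharTwo.add_self_eq_zero, zero_add]
  refine ⟨rf (u + w) hc * rf a ha, rf_mul_mem hc ha, ?_, ?_, ?_⟩
  · rw [qAut_mul_apply, rf_fix ha (by rw [pb_comm, hap]), rf_fix hc (by rw [pb_add_right, hu.pu, hw.pu, add_zero])]
  · rw [qAut_mul_apply, rf_fix ha (by rw [pb_comm, hav]),
      rf_fix hc (by rw [pb_add_right, pb_comm v u, hu.uv, pb_comm v w, hw.uv, CharTwo.add_self_eq_zero])]
  · rw [qAut_mul_apply, rf_fix ha (by rw [pb_comm, hau]), rf_move hc (by rw [pb_add_right, pb_self, huw, zero_add]),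
      add_cancel8]

/-- Transitivity on the pairs of each kind. -/
theorem ev_typ (hp : Sing p) {c : ZMod 2} {v u v' u' : V8} (h : Typ p c v u) (h' : Typ p c v' u') :
    ∃ g ∈ Ev, g.1 p = p ∧ Pm p (g.1 v + v') ∧ Pm p (g.1 u + u') := by
  obtain ⟨g, hg, gp, gv⟩ := ev_vec hp h.qv h.pv h.nv h'.qv h'.pv h'.nv
  have h1 : Typ p c v' (g.1 u) := by
    have h1 := (typ_g g).2 h
    rw [gp] at h1
    exact h1.congr hp gv h'.pv
  obtain ⟨g', hg', gp', gv', gu'⟩ : ∃ g' ∈ Ev, g'.1 p = p ∧ g'.1 v' = v' ∧ Pm p (g'.1 (g.1 u) + u') := by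
    rcases two_cases (pb (g.1 u) u') with e | e
    · by_cases hne : Pm p (u' + g.1 u)
      · exact ⟨1, one_mem _, rfl, rfl, pm_symm hne⟩
      · obtain ⟨r, hr, r1, r2⟩ := fact_typ_step hp h1 h' e hne
        obtain ⟨k, hk, kp, kv, ku⟩ := ev_typ_step hp h1 hr (by rw [pb_comm, r1])
        obtain ⟨k', hk', kp', kv', ku'⟩ := ev_typ_step hp hr h' r2
        exact ⟨k' * k, mul_mem hk' hk, by rw [qAut_mul_apply, kp, kp'], by rw [qAut_mul_apply, kv, kv'],
          by rw [qAut_mul_apply, ku, ku']; exact pm_self u'⟩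
    · obtain ⟨k, hk, kp, kv, ku⟩ := ev_typ_step hp h1 h' e
      exact ⟨k, hk, kp, kv, by rw [ku]; exact pm_self u'⟩
  refine ⟨g' * g, mul_mem hg' hg, by rw [qAut_mul_apply, gp, gp'], ?_, by rw [qAut_mul_apply]; exact gu'⟩
  rw [qAut_mul_apply]
  have := pm_map gp' gv
  rwa [map_add, gv'] at this

/-! ### The plane beside a totally singular one -/

/-- A combination of three vectors. -/
def Span3 (p s w x : V8) : Prop := ∃ α β γ : ZMod 2, x = α • p + β • s + γ • w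

/-- Orthogonal to three vectors. -/
def M4 (p s w x : V8) : Prop := pb p x = 0 ∧ pb s x = 0 ∧ pb w x = 0

theorem span3_of_lt {j : ℕ} (hj : j < 8) : Span3 (vec 1) (vec 2) (vec 4) (vec j) := by
  have e : ∀ a b c : Bool, ∀ k, k = (if a then 1 else 0) ^^^ (if b then 2 else 0) ^^^ (if c then 4 else 0) →
      Span3 (vec 1) (vec 2) (vec 4) (vec k) := fun a b c k hk => by
    refine ⟨if a then 1 else 0, if b then 1 else 0, if c then 1 else 0, ?_⟩
    subst hk
    cases a <;> cases b <;> cases c <;> simp [vec_zero] <;> simp [← vec_xor]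
  exact e (j.testBit 0) (j.testBit 1) (j.testBit 2) j (by interval_cases j <;> rfl)

/-- A frame of the plane. -/
theorem fact_frame {s w : V8} (hp : Sing p) (h : Typ p 0 s w) :
    ∃ e f, M4 p s w e ∧ M4 p s w f ∧ qm e = 0 ∧ qm f = 0 ∧ pb e f = 1 ∧
      ∀ y, M4 p s w y → ∃ x, Span3 p s w x ∧ y = pb y f • e + pb y e • f + x := by
  have h0 : Typ P0 (if false then 1 else 0) (vec (v2 false)) (vec 4) :=
    (typ0 false (by norm_num)).2 (by decide +kernel)
  obtain ⟨g, rfl⟩ := exists_std hp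
  obtain ⟨s, rfl⟩ := g.1.surjective s
  obtain ⟨w, rfl⟩ := g.1.surjective w
  rw [typ_g] at h
  obtain ⟨k, -, kp, ks, kw⟩ := ev_typ sing_P0 h0 (by simpa using h)
  have hm : ∀ y, M4 (g.1 P0) (g.1 s) (g.1 w) (g.1 (k.1 y)) ↔ M4 P0 (vec 2) (vec 4) y := fun y => by
    simp only [M4, pb_map]
    have e1 : pb P0 (k.1 y) = pb P0 y := by
      conv_lhs => rw [← kp, pb_map]
    rw [e1]
    refine and_congr_right fun hy => ?_
    have hy' : pb P0 (k.1 y) = 0 := e1.trans hy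
    rw [← pm_polar ks hy', ← pm_polar kw hy', pb_map, pb_map]
    rfl
  refine ⟨g.1 (k.1 (vec 8)), g.1 (k.1 (vec 128)), (hm _).2 ?_, (hm _).2 ?_, ?_, ?_, ?_, fun y hy => ?_⟩
  · simp only [M4, P0, pb_vec (show 1 < 256 by norm_num) (show 8 < 256 by norm_num),
      pb_vec (show 2 < 256 by norm_num) (show 8 < 256 by norm_num),
      pb_vec (show 4 < 256 by norm_num) (show 8 < 256 by norm_num), ite_zero_iff]
    decide +kernel
  · simp only [M4, P0, pb_vec (show 1 < 256 by norm_num) (show 128 < 256 by norm_num),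
      pb_vec (show 2 < 256 by norm_num) (show 128 < 256 by norm_num),
      pb_vec (show 4 < 256 by norm_num) (show 128 < 256 by norm_num), ite_zero_iff]
    decide +kernel
  · rw [qAut_map, qAut_map, qm_vec (by norm_num), ite_zero_iff]; decide +kernel
  · rw [qAut_map, qAut_map, qm_vec (by norm_num), ite_zero_iff]; decide +kernel
  · rw [pb_map, pb_map, pb_vec (by norm_num) (by norm_num), ite_one_iff]; decide +kernel
  obtain ⟨y, rfl⟩ := g.1.surjective y
  obtain ⟨y, rfl⟩ := k.1.surjective y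
  obtain ⟨j, hj, rfl⟩ := vec_surj y
  obtain ⟨m1, m2, m3⟩ := (hm _).1 hy
  rw [P0, pb_vec one_lt hj, ite_zero_iff] at m1
  rw [pb_vec (by norm_num) hj, ite_zero_iff] at m2 m3
  have H := all256_get check_frame hj
  simp only [m1, m2, m3, Bool.not_false, Bool.and_self, Bool.not_true, Bool.false_or, decide_eq_true_eq] at H
  set r := j ^^^ (if bn j 128 then 8 else 0) ^^^ (if bn j 8 then 128 else 0) with hr
  obtain ⟨α, β, γ, he⟩ := span3_of_lt H
  refine ⟨g.1 (k.1 (vec r)), ?_, ?_⟩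
  · -- the image of the span
    have hk : ∀ t : V8, ∀ t', Pm P0 (k.1 t + t') → ∃ δ : ZMod 2, k.1 t = t' + δ • P0 := fun t t' h => by
      rcases h with e | e
      · exact ⟨0, by rw [zero_smul, add_zero]; exact CharTwo.add_eq_zero.1 (funext fun i => congrFun e i)⟩
      · exact ⟨1, by rw [one_smul, ← e, add_comm (k.1 t), add_cancel8]⟩
    obtain ⟨δ, es⟩ := hk _ _ ks
    obtain ⟨ε, ew⟩ := hk _ _ kw
    refine ⟨α + β * δ + γ * ε, β, γ, ?_⟩
    rw [he]
    simp only [map_add, map_smul]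
    show α • g.1 (k.1 P0) + β • g.1 (k.1 (vec (v2 false))) + γ • g.1 (k.1 (vec 4)) = _
    rw [kp, es, ew]
    simp only [map_add, map_smul]
    module
  · simp only [pb_map, pb_vec hj (show 128 < 256 by norm_num), pb_vec hj (show 8 < 256 by norm_num)]
    rw [← map_smul, ← map_smul, ← map_smul, ← map_smul, ← map_add, ← map_add, ← map_add, ← map_add]
    congr 2
    have hr' : vec r = vec j + vec (if bn j 128 then 8 else 0) + vec (if bn j 8 then 128 else 0) := by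
      rw [hr, vec_xor, vec_xor]
    rw [hr']
    cases bn j 128 <;> cases bn j 8 <;> simp [vec_zero, add_comm, add_left_comm, add_cancel8, add_self8]

end CfsgLib.CoType
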