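import Mathlib
import Cfsg.Agent.Lib.CoType.Orbits

/-!
The elements trivial on `p⊥/⟨p⟩`.
-/

set_option autoImplicit false
set_option linter.style.haveILetI false
set_option linter.unusedSimpArgs false

namespace CfsgLib.CoType

open CfsgLib.Classical

variable {p : V8}

/-! ### Elements trivial on `p⊥/⟨p⟩` -/

/-- `g` fixes `p` and is trivial on `p⊥/⟨p⟩`. -/
def InT (p : V8) (g : qAut qm) : Prop := g.1 p = p ∧ ∀ x, pb p x = 0 → Pm p (g.1 x + x)

/-- A vector not orthogonal to `p`. -/
noncomputable def pt (p : V8) : V8 := open Classical in if h : ∃ y, pb p y = 1 then h.choose else 0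

theorem pt_spec (hp : Sing p) : pb p (pt p) = 1 := by
  rw [pt, dif_pos (fact_y hp)]
  exact (fact_y hp).choose_spec

/-- The vector attached to an element of `InT p`. -/
noncomputable def tv (p : V8) (g : qAut qm) : V8 := g.1 (pt p) + pt p

theorem tv_one (p : V8) : tv p 1 = 0 := add_self8 _

section

variable (hp : Sing p) {g : qAut qm} (hg : InT p g)

include hp hg

theorem tv_perp : pb p (tv p g) = 0 := by
  have h := pb_map g p (pt p)
  rw [hg.1] at h
  rw [tv, pb_add_right, h, CharTwo.add_self_eq_zero]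

/-- The action on `p⊥`. -/
theorem inT_apply {x : V8} (hx : pb p x = 0) : g.1 x + x = pb x (tv p g) • p := by
  have key : pb (g.1 x + x) (pt p) = pb x (tv p g) := by
    have h1 := pb_map g x (pt p)
    have h2 := (hg.2 x hx).polar (tv_perp hp hg)
    rw [tv, pb_add_right, pb_add_left, pb_add_left, h1] at h2
    rw [tv, pb_add_left, pb_add_right]
    revert h2
    generalize pb x (pt p) = a
    generalize pb (g.1 x) (pt p) = b
    generalize pb x (g.1 (pt p)) = c
    revert a b c
    decide
  rcases hg.2 x hx with h | h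
  · rw [h, pb_zero_left] at key
    rw [h, ← key, zero_smul]
  · rw [h, pt_spec hp] at key
    rw [h, ← key, one_smul]

/-- The general formula. -/
theorem inT_formula (x : V8) :
    g.1 x + x = pb p x • tv p g + pb (x + pb p x • pt p) (tv p g) • p := by
  have hx : pb p (x + pb p x • pt p) = 0 := by
    rw [pb_add_right, pb_smul_right, pt_spec hp, mul_one, CharTwo.add_self_eq_zero]
  rw [← inT_apply hp hg hx, tv, map_add, map_smul, smul_add]
  funext i
  simp only [Pi.add_apply, Pi.smul_apply, smul_eq_mul]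
  exact (by decide : ∀ a b c d e : ZMod 2, a + b = e * c + e * d + (a + e * c + (b + e * d))) _ _ _ _ _

theorem inT_range_quad (x : V8) : qm (g.1 x + x) = pb p x * qm (tv p g) := by
  rw [inT_formula hp hg x, qm_add, quad_smul, quad_smul, hp.2, pb_smul_left, pb_smul_right, pb_comm _ p,
    tv_perp hp hg, mul_zero, mul_zero, mul_zero, add_zero, add_zero]
  congr 1
  rcases two_cases (pb p x) with h | h <;> rw [h] <;> rfl

/-- The unique singular vector of the image. -/
theorem inT_sing_unique (hw : qm (tv p g) = 1) {x : V8} (h0 : qm (g.1 x + x) = 0) : Pm p (g.1 x + x) := by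
  rw [inT_range_quad hp hg, hw, mul_one] at h0
  rw [inT_formula hp hg x, h0, zero_smul, zero_smul, add_zero, zero_add]
  rcases two_cases (pb x (tv p g)) with e | e <;> rw [e]
  · exact .inl (zero_smul _ _)
  · exact .inr (one_smul _ _)

theorem inT_trivial (hw : Pm p (tv p g)) : g = 1 := by
  have h0 : ∀ x, pb p x = 0 → g.1 x = x := fun x hx => by
    have h := inT_apply hp hg hx
    rw [pb_comm x, hw.polar hx, zero_smul] at h
    exact CharTwo.add_eq_zero.1 (funext fun i => congrFun h i)
  refine qAut_ext fun x => ?_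
  show g.1 x = x
  have hy : g.1 (pt p) = pt p := by
    rcases hw with h | h
    · exact CharTwo.add_eq_zero.1 (funext fun i => congrFun h i)
    · exfalso
      have h1 : g.1 (pt p) = pt p + tv p g := by rw [tv, add_comm (g.1 _), add_cancel8]
      rw [h] at h1
      have h2 := qAut_map g (pt p)
      rw [h1, qm_add, hp.2, add_zero, pb_comm, pt_spec hp, add_eq_left] at h2
      exact one_ne_zero h2
  have hx : pb p (x + pb p x • pt p) = 0 := by
    rw [pb_add_right, pb_smul_right, pt_spec hp, mul_one, CharTwo.add_self_eq_zero]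
  have := h0 _ hx
  rw [map_add, map_smul, hy] at this
  exact add_right_cancel this

theorem inT_mem_ev : g ∈ Ev := by
  classical
  by_cases hw : Pm p (tv p g)
  · rw [inT_trivial hp hg hw]; exact one_mem _
  rw [mem_ev_iff]
  set L := LinearMap.range (g.1.toLinearMap - LinearMap.id) with hL
  have hap : ∀ x, (g.1.toLinearMap - LinearMap.id : V8 →ₗ[ZMod 2] V8) x = g.1 x + x := fun x => by
    simp only [LinearMap.sub_apply, LinearEquiv.coe_coe, LinearMap.id_apply]
    exact funext fun i => CharTwo.sub_eq_add _ _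
  have hle : L ≤ Submodule.span (ZMod 2) {tv p g, p} := by
    rintro _ ⟨x, rfl⟩
    rw [hap, inT_formula hp hg x]
    refine add_mem (Submodule.smul_mem _ (pb p x) ?_) (Submodule.smul_mem _ (pb (x + pb p x • pt p) (tv p g)) ?_) <;>
      exact Submodule.subset_span (by simp)
  have hge : Submodule.span (ZMod 2) {tv p g, p} ≤ L := by
    rw [Submodule.span_le, Set.insert_subset_iff, Set.singleton_subset_iff]
    refine ⟨⟨pt p, hap _⟩, ?_⟩
    obtain ⟨x, hx, hx'⟩ : ∃ x, pb p x = 0 ∧ pb (tv p g) x ≠ 0 := by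
      by_contra h
      push Not at h
      exact hw (fact_perp hp h)
    exact ⟨x, by rw [hap, inT_apply hp hg hx, pb_comm, (two_cases _).resolve_left hx', one_smul]⟩
  have hli : LinearIndependent (ZMod 2) ![tv p g, p] := by
    rw [LinearIndependent.pair_iff]
    intro a b hab
    rcases two_cases a with rfl | rfl <;> rcases two_cases b with rfl | rfl
    · exact ⟨rfl, rfl⟩
    · exact absurd (by simpa using hab) hp.1
    · exact absurd (.inl (by simpa using hab)) hw
    · exact absurd (.inr (CharTwo.add_eq_zero.1 (funext fun i => congrFun (by simpa using hab) i))) hw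
  refine ⟨1, ?_⟩
  show Module.finrank (ZMod 2) L = 1 + 1
  rw [le_antisymm hle hge, show ({tv p g, p} : Set V8) = Set.range ![tv p g, p] by
    simp [Set.range, Fin.exists_fin_two]; ext; simp [eq_comm], finrank_span_eq_card hli]
  simp

end

section

variable {p : V8} (hp : Sing p)

include hp

theorem smul_p_inj {c d : ZMod 2} (h : c • p = d • p) : c = d := by
  rcases two_cases c with rfl | rfl <;> rcases two_cases d with rfl | rfl
  · rfl
  · rw [zero_smul, one_smul] at h; exact absurd h.symm hp.1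
  · rw [zero_smul, one_smul] at h; exact absurd h hp.1
  · rfl

theorem pm_of_forall {v : V8} (h : ∀ x, pb p x = 0 → pb x v = 0) : Pm p v :=
  fact_perp hp fun y hy => by rw [pb_comm]; exact h y hy

theorem inT_mul {g h : qAut qm} (hg : InT p g) (hh : InT p h) :
    InT p (g * h) ∧ Pm p (tv p (g * h) + (tv p g + tv p h)) := by
  have key : ∀ x, pb p x = 0 → (g * h).1 x + x = pb x (tv p g + tv p h) • p := fun x hx => by
    have e1 := inT_apply hp hh hx
    have e2 := inT_apply hp hg hx
    have e3 : g.1 (h.1 x + x) = pb x (tv p h) • p := by rw [e1, map_smul, hg.1]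
    rw [qAut_mul_apply, pb_add_right, add_smul, ← e2, ← e3, map_add]
    funext i
    simp only [Pi.add_apply]
    exact (by decide : ∀ a b c : ZMod 2, a + b = c + b + (a + c)) _ _ _
  have hin : InT p (g * h) := by
    refine ⟨by rw [qAut_mul_apply, hh.1, hg.1], fun x hx => ?_⟩
    rw [key x hx]
    rcases two_cases (pb x (tv p g + tv p h)) with e | e <;> rw [e]
    · exact .inl (zero_smul _ _)
    · exact .inr (one_smul _ _)
  refine ⟨hin, pm_of_forall hp fun x hx => ?_⟩
  rw [pb_add_right, ← smul_p_inj hp ((key x hx).symm.trans (inT_apply hp hin hx)), CharTwo.add_self_eq_zero]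

theorem inT_eq {g h : qAut qm} (hg : InT p g) (hh : InT p h) (e : Pm p (tv p g + tv p h)) : g = h := by
  have h1 : g * h = 1 := by
    obtain ⟨h1, h2⟩ := inT_mul hp hg hh
    refine inT_trivial hp h1 ?_
    have := h2.add e
    rwa [add_assoc, add_self8, add_zero] at this
  have h2 : h * h = 1 := by
    obtain ⟨h1, h2⟩ := inT_mul hp hh hh
    exact inT_trivial hp h1 (by rwa [add_self8, add_zero] at h2)
  exact mul_right_cancel (h1.trans h2.symm)

theorem inT_conj {g h : qAut qm} (hg : g.1 p = p) (hh : InT p h) :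
    InT p (g * h * g⁻¹) ∧ Pm p (tv p (g * h * g⁻¹) + g.1 (tv p h)) := by
  have hgi : ∀ x, g.1 ((g⁻¹).1 x) = x := fun x => by rw [← qAut_mul_apply, mul_inv_cancel]; rfl
  have hip : (g⁻¹).1 p = p := by
    exact g.1.injective ((hgi p).trans hg.symm)
  have key : ∀ x, pb p x = 0 → (g * h * g⁻¹).1 x + x = pb x (g.1 (tv p h)) • p := fun x hx => by
    obtain ⟨y, rfl⟩ : ∃ y, g.1 y = x := g.1.surjective x
    have hy : (g⁻¹).1 (g.1 y) = y := g.1.injective (hgi _)
    have hy' : pb p y = 0 := by rw [← hy]; exact perp_map hip hx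
    rw [qAut_mul_apply, qAut_mul_apply, hy, ← map_add, inT_apply hp hh hy', map_smul, hg, pb_map]
  have hin : InT p (g * h * g⁻¹) := by
    refine ⟨by rw [qAut_mul_apply, qAut_mul_apply, hip, hh.1, hg], fun x hx => ?_⟩
    rw [key x hx]
    rcases two_cases (pb x (g.1 (tv p h))) with e | e <;> rw [e]
    · exact .inl (zero_smul _ _)
    · exact .inr (one_smul _ _)
  refine ⟨hin, pm_of_forall hp fun x hx => ?_⟩
  rw [pb_add_right, ← smul_p_inj hp ((key x hx).symm.trans (inT_apply hp hin hx)), CharTwo.add_self_eq_zero]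

end

/-- The image of an involution of `Ev`. -/
theorem exists_inT_of_invol {g : qAut qm} (h2 : ∀ x, g.1 (g.1 x) = x) (hrank : qRank qm g = 2) :
    ∃ p, Sing p ∧ InT p g := by
  classical
  set φ : V8 →ₗ[ZMod 2] V8 := g.1.toLinearMap - LinearMap.id with hφ
  have hap : ∀ x, φ x = g.1 x + x := fun x => by
    simp only [hφ, LinearMap.sub_apply, LinearEquiv.coe_coe, LinearMap.id_apply]
    exact funext fun i => CharTwo.sub_eq_add _ _
  have hfix : ∀ x, g.1 (g.1 x + x) = g.1 x + x := fun x => by rw [map_add, h2, add_comm]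
  have hadj : ∀ x y, pb (g.1 x + x) y = pb x (g.1 y + y) := fun x y => by
    rw [pb_add_left, pb_add_right]
    congr 1
    conv_lhs => rw [← h2 y]
    exact pb_map g x (g.1 y)
  have hiso : ∀ x y, pb (g.1 x + x) (g.1 y + y) = 0 := fun x y => by
    rw [hadj, hfix, add_self8, pb_zero_right]
  have hle : LinearMap.range φ ≤ LinearMap.ker φ := by
    rintro _ ⟨x, rfl⟩
    rw [LinearMap.mem_ker, hap, hap, hfix, add_self8]
  have hrk : qRank qm g = Module.finrank (ZMod 2) (LinearMap.range φ) := rfl
  have hr2 : Module.finrank (ZMod 2) (LinearMap.range φ) = 2 := hrk.symm.trans hrank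
  have hcard : Nat.card (LinearMap.range φ) = 4 := by
    rw [Module.natCard_eq_pow_finrank (K := ZMod 2), hr2, Nat.card_zmod]; norm_num
  obtain ⟨w₁, w₂, h0₁, h0₂, h12⟩ : ∃ w₁ w₂ : LinearMap.range φ, w₁ ≠ 0 ∧ w₂ ≠ 0 ∧ w₁ ≠ w₂ := by
    haveI := Fintype.ofFinite (LinearMap.range φ)
    have h4 : 2 < (Finset.univ.erase (0 : LinearMap.range φ)).card := by
      rw [Finset.card_erase_of_mem (Finset.mem_univ _), Finset.card_univ, ← Nat.card_eq_fintype_card, hcard]
      norm_num
    obtain ⟨a, b, c, ha, hb, -, hab, -, -⟩ := Finset.two_lt_card_iff.1 h4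
    exact ⟨a, b, (Finset.mem_erase.1 ha).1, (Finset.mem_erase.1 hb).1, hab⟩
  obtain ⟨p, hp, hpr⟩ : ∃ p, Sing p ∧ p ∈ LinearMap.range φ := by
    rcases two_cases (qm (w₁ : V8)) with e₁ | e₁
    · exact ⟨w₁, ⟨fun h => h0₁ (Subtype.ext h), e₁⟩, w₁.2⟩
    rcases two_cases (qm (w₂ : V8)) with e₂ | e₂
    · exact ⟨w₂, ⟨fun h => h0₂ (Subtype.ext h), e₂⟩, w₂.2⟩
    refine ⟨_, ⟨fun h => h12 (Subtype.ext (CharTwo.add_eq_zero.1 (funext fun i => congrFun h i))), ?_⟩,
      add_mem w₁.2 w₂.2⟩
    obtain ⟨x, hx⟩ := w₁.2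
    obtain ⟨y, hy⟩ := w₂.2
    rw [qm_add, e₁, e₂, ← hx, ← hy, hap, hap, hiso]
    decide
  obtain ⟨v₀, hv₀⟩ := hpr
  rw [hap] at hv₀
  refine ⟨p, hp, by rw [← hv₀, hfix], fun u hu => ?_⟩
  by_contra hne
  simp only [Pm, not_or] at hne
  have hv₀p : pb v₀ p = 0 := by
    have h := qAut_map g v₀
    rw [show g.1 v₀ = v₀ + p by rw [← hv₀, add_comm (g.1 v₀), add_cancel8], qm_add, hp.2, add_zero,
      add_eq_left] at h
    exact h
  have hv₀w : pb v₀ (g.1 u + u) = 0 := by rw [← hadj, hv₀, hu]
  -- the four elements of the range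
  let S : Finset V8 := {0, p, g.1 u + u, p + (g.1 u + u)}
  have hS : S.card = 4 := by
    have e : p + (g.1 u + u) ≠ g.1 u + u := fun h => hp.1 (add_eq_right.1 h)
    have e' : p + (g.1 u + u) ≠ p := fun h => hne.1 (add_eq_left.1 h)
    have e'' : p + (g.1 u + u) ≠ 0 := fun h => hne.2 (by
      rw [show g.1 u + u = p + (p + (g.1 u + u)) by rw [add_cancel8], h, add_zero])
    simp [S, hp.1, Ne.symm hp.1, hne.1, Ne.symm hne.1, hne.2, Ne.symm hne.2, e, Ne.symm e, e', Ne.symm e', e'',
      Ne.symm e'']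
  have hall : ∀ x, g.1 x + x ∈ S := by
    intro x
    have hsub : (S : Set V8) ⊆ (LinearMap.range φ : Set V8) := by
      intro y hy
      have hpm : p ∈ LinearMap.range φ := ⟨v₀, by rw [hap, hv₀]⟩
      have hum : g.1 u + u ∈ LinearMap.range φ := ⟨u, hap u⟩
      simp only [S, Finset.coe_insert, Finset.coe_singleton, Set.mem_insert_iff, Set.mem_singleton_iff] at hy
      rcases hy with rfl | rfl | rfl | rfl
      exacts [zero_mem _, hpm, hum, add_mem hpm hum]
    have heq : (S : Set V8) = (LinearMap.range φ : Set V8) :=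
      Set.eq_of_subset_of_ncard_le hsub (by
        rw [Set.ncard_coe_finset, hS, ← Nat.card_coe_set_eq]; exact hcard.le)
    exact Finset.mem_coe.1 (heq ▸ (⟨x, hap x⟩ : g.1 x + x ∈ (LinearMap.range φ : Set V8)))
  refine hp.1 (pb_nondeg fun x => ?_)
  rw [← hv₀, hadj]
  have := hall x
  simp only [S, Finset.mem_insert, Finset.mem_singleton] at this
  rcases this with e | e | e | e <;> rw [e]
  · exact pb_zero_right v₀
  · exact hv₀p
  · exact hv₀w
  · rw [pb_add_right, hv₀p, hv₀w, add_zero]

end CfsgLib.CoType
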