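import Mathlib
import Cfsg.Agent.Lib.CoType.InT

/-!
The involutions of rank four: a fixed singular point in the image, and the action on its perpendicular.
-/

set_option autoImplicit false
set_option linter.style.haveILetI false
set_option linter.unusedSimpArgs false

namespace CfsgLib.CoType

open CfsgLib.Classical

variable {p s w : V8}

/-- `g` fixes `p` and moves `p⊥/⟨p⟩` as the totally singular plane `⟨s, w⟩` prescribes. -/
def LAct (p s w : V8) (g : qAut qm) : Prop :=
  g.1 p = p ∧ ∀ v, pb p v = 0 → Pm p (g.1 v + v + (pb v w • s + pb v s • w))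

theorem eq8 {a b : V8} (h : a + b = 0) : a = b := CharTwo.add_eq_zero.1 (funext fun i => congrFun h i)

theorem Span3.m4_perp {x c : V8} (hx : Span3 p s w x) (hc : M4 p s w c) : pb x c = 0 := by
  obtain ⟨α, β, γ, rfl⟩ := hx
  rw [pb_add_left, pb_add_left, pb_smul_left, pb_smul_left, pb_smul_left, hc.1, hc.2.1, hc.2.2]
  simp

theorem span3_m4 (hp : Sing p) (h : Typ p 0 s w) {x : V8} (hx : Span3 p s w x) : M4 p s w x ∧ qm x = 0 := by
  obtain ⟨α, β, γ, rfl⟩ := hx
  have e1 : pb s p = 0 := by rw [pb_comm, h.pv]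
  have e2 : pb w p = 0 := by rw [pb_comm, h.pu]
  have e3 : pb s w = 0 := by rw [pb_comm, h.uv]
  refine ⟨⟨?_, ?_, ?_⟩, ?_⟩
  · simp only [pb_add_right, pb_smul_right, pb_self, h.pv, h.pu, mul_zero, add_zero]
  · simp only [pb_add_right, pb_smul_right, pb_self, e1, e3, mul_zero, add_zero]
  · simp only [pb_add_right, pb_smul_right, pb_self, e2, h.uv, mul_zero, add_zero]
  · rw [qm_add, qm_add, quad_smul, quad_smul, quad_smul, hp.2, h.qv, h.qu, pb_add_left, pb_smul_left, pb_smul_left,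
      pb_smul_left, pb_smul_right, pb_smul_right, pb_smul_right, h.pv, h.pu, e3]
    simp

/-- The coordinates in a frame. -/
theorem frame_quad {e f x y : V8} (hp : Sing p) (h : Typ p 0 s w) (he : M4 p s w e) (hf : M4 p s w f)
    (qe : qm e = 0) (qf : qm f = 0) (hef : pb e f = 1) (hx : Span3 p s w x) {a b : ZMod 2}
    (hy : y = a • e + b • f + x) : qm y = a * b ∧ pb y e = b ∧ pb y f = a := by
  obtain ⟨hx', qx⟩ := span3_m4 hp h hx
  subst hy
  refine ⟨?_, ?_, ?_⟩
  · rw [qm_add, qm_add, quad_smul, quad_smul, qe, qf, qx, pb_add_left, pb_smul_left, pb_smul_left, pb_smul_left,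
      pb_smul_right, hef, pb_comm e x, pb_comm f x, hx.m4_perp he, hx.m4_perp hf]
    ring
  · rw [pb_add_left, pb_add_left, pb_smul_left, pb_smul_left, pb_self, hx.m4_perp he, pb_comm f e, hef]
    ring
  · rw [pb_add_left, pb_add_left, pb_smul_left, pb_smul_left, pb_self, hx.m4_perp hf, hef]
    ring

set_option synthInstance.maxSize 4000 in
set_option synthInstance.maxHeartbeats 400000 in
theorem quad_rows : ∀ m00 m01 m02 m03 m11 m12 m13 m22 m23 m33 c0 c1 c2 c3 : ZMod 2,
    m00 = c0 * m00 + c1 * m01 + c2 * m02 + c3 * m03 → m11 = c0 * m01 + c1 * m11 + c2 * m12 + c3 * m13 →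
    m22 = c0 * m02 + c1 * m12 + c2 * m22 + c3 * m23 → m33 = c0 * m03 + c1 * m13 + c2 * m23 + c3 * m33 →
    (∀ x0 x1 x2 x3 : ZMod 2, x0 * m00 + x1 * m01 + x2 * m02 + x3 * m03 = 0 →
      x0 * m01 + x1 * m11 + x2 * m12 + x3 * m13 = 0 → x0 * m02 + x1 * m12 + x2 * m22 + x3 * m23 = 0 →
      x0 * m03 + x1 * m13 + x2 * m23 + x3 * m33 = 0 → x0 = 0 ∧ x1 = 0 ∧ x2 = 0 ∧ x3 = 0) →
    c0 * m00 + c1 * m11 + c2 * m22 + c3 * m33 = 0 := by
  decide +kernel

theorem plane_mult : ∀ a b a' b' : ZMod 2, a * b = 0 → a * b' + b * a' = 0 → (a = 0 ∧ b = 0) ∨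
    ∃ k, a' = k * a ∧ b' = k * b := by
  decide

section

variable {g : qAut qm} (h2 : ∀ x, g.1 (g.1 x) = x)

include h2

theorem dd_zero (x : V8) : g.1 (g.1 x + x) = g.1 x + x := by rw [map_add, h2, add_comm]

theorem d_adj (x y : V8) : pb (g.1 x + x) y = pb x (g.1 y + y) := by
  rw [pb_add_left, pb_add_right]
  congr 1
  conv_lhs => rw [← h2 y]
  exact pb_map g x (g.1 y)

theorem d_iso (x y : V8) : pb (g.1 x + x) (g.1 y + y) = 0 := by
  rw [d_adj h2, dd_zero h2, add_self8, pb_zero_right]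

omit h2 in
theorem d_quad (x : V8) : qm (g.1 x + x) = pb x (g.1 x + x) := by
  rw [qm_add, qAut_map, CharTwo.add_self_eq_zero, zero_add, pb_add_right, pb_self, add_zero, pb_comm]

theorem rank_le_four : qRank qm g ≤ 4 ∧
    (qRank qm g = 4 → ∀ x, g.1 x = x → ∃ y, g.1 y + y = x) := by
  classical
  set φ : V8 →ₗ[ZMod 2] V8 := g.1.toLinearMap - LinearMap.id with hφ
  have hap : ∀ x, φ x = g.1 x + x := fun x => by
    simp only [hφ, LinearMap.sub_apply, LinearEquiv.coe_coe, LinearMap.id_apply]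
    exact funext fun i => CharTwo.sub_eq_add _ _
  have hle : LinearMap.range φ ≤ LinearMap.ker φ := by
    rintro _ ⟨x, rfl⟩
    rw [LinearMap.mem_ker, hap, hap, dd_zero h2, add_self8]
  have hrk : qRank qm g = Module.finrank (ZMod 2) (LinearMap.range φ) := rfl
  have h8 : Module.finrank (ZMod 2) V8 = 8 := by rw [Module.finrank_pi]; simp
  have hsum := φ.finrank_range_add_finrank_ker
  have hmono := Submodule.finrank_mono hle
  refine ⟨by omega, fun h4 x hx => ?_⟩
  have heq := Submodule.eq_of_le_of_finrank_eq hle (by omega)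
  obtain ⟨y, hy⟩ : x ∈ LinearMap.range φ := by rw [heq, LinearMap.mem_ker, hap, hx, add_self8]
  exact ⟨y, by rw [← hap, hy]⟩

theorem rank_cases (hg : g ∈ Ev) (h1 : g ≠ 1) : qRank qm g = 2 ∨ qRank qm g = 4 := by
  obtain ⟨k, hk⟩ := (mem_ev_iff g).1 hg
  have := (rank_le_four h2).1
  have h0 : qRank qm g ≠ 0 := fun h0 => by
    change Module.finrank (ZMod 2) (LinearMap.range (g.1.toLinearMap - LinearMap.id : V8 →ₗ[ZMod 2] V8)) = 0 at h0
    rw [Submodule.finrank_eq_zero, LinearMap.range_eq_bot] at h0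
    refine h1 (qAut_ext fun x => ?_)
    have hx := LinearMap.congr_fun h0 x
    simp only [LinearMap.sub_apply, LinearEquiv.coe_coe, LinearMap.id_apply, LinearMap.zero_apply] at hx
    exact sub_eq_zero.1 hx
  omega

set_option maxHeartbeats 1000000 in
/-- A singular point of the image whose perpendicular has totally singular image. -/
theorem exists_point (h4 : qRank qm g = 4) :
    ∃ p, Sing p ∧ g.1 p = p ∧ ∀ v, pb p v = 0 → qm (g.1 v + v) = 0 := by
  classical
  set φ : V8 →ₗ[ZMod 2] V8 := g.1.toLinearMap - LinearMap.id with hφ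
  have hap : ∀ x, φ x = g.1 x + x := fun x => by
    simp only [hφ, LinearMap.sub_apply, LinearEquiv.coe_coe, LinearMap.id_apply]
    exact funext fun i => CharTwo.sub_eq_add _ _
  have hfix := (rank_le_four h2).2 h4
  -- the functional
  obtain ⟨r, hr⟩ : ∃ r, ∀ v, qm (g.1 v + v) = pb v r := by
    have hadd : ∀ u v : V8, qm (g.1 (u + v) + (u + v)) = qm (g.1 u + u) + qm (g.1 v + v) := fun u v => by
      rw [g.1.map_add, add_add_add_comm, qm_add, d_iso h2, add_zero]
    let L : Module.Dual (ZMod 2) V8 := (AddMonoidHom.mk' (fun v => qm (g.1 v + v)) hadd).toZModLinearMap 2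
    have hinj : Function.Injective (QuadraticMap.polarBilin qm) := by
      rw [← LinearMap.ker_eq_bot, LinearMap.ker_eq_bot']
      exact fun v hv => pb_nondeg fun w => LinearMap.congr_fun hv w
    obtain ⟨r, hr⟩ := (LinearMap.injective_iff_surjective_of_finrank_eq_finrank Subspace.dual_finrank_eq.symm).1
      hinj L
    exact ⟨r, fun v => by rw [pb_comm]; exact (LinearMap.congr_fun hr v).symm⟩
  have hrfix : g.1 r = r := eq8 (pb_nondeg fun x => by
    rw [d_adj h2, pb_comm, ← hr, dd_zero h2, add_self8, QuadraticMap.map_zero])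
  have hrk : Module.finrank (ZMod 2) (LinearMap.range φ) = 4 := h4
  let B := Module.finBasisOfFinrankEq (ZMod 2) (LinearMap.range φ) hrk
  have hu : ∀ i, ∃ u, g.1 u + u = (B i : V8) := fun i => by
    obtain ⟨u, hu⟩ := (B i).2
    exact ⟨u, by rw [← hap, hu]⟩
  choose u hu using hu
  by_cases hr0 : r = 0
  · refine ⟨(B 0 : V8), ⟨fun h => B.ne_zero 0 (Subtype.ext h), ?_⟩, ?_, fun v _ => ?_⟩
    · rw [← hu, hr, hr0, pb_zero_right]
    · rw [← hu, dd_zero h2]
    · rw [hr, hr0, pb_zero_right]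
  refine ⟨r, ⟨hr0, ?_⟩, hrfix, fun v hv => by rw [hr, pb_comm, hv]⟩
  obtain ⟨v₀, hv₀⟩ := hfix r hrfix
  have hmem : r ∈ LinearMap.range φ := ⟨v₀, by rw [hap, hv₀]⟩
  set c := fun i => B.repr ⟨r, hmem⟩ i with hc
  have hcr : r = c 0 • (B 0 : V8) + c 1 • (B 1 : V8) + c 2 • (B 2 : V8) + c 3 • (B 3 : V8) := by
    have := congrArg Subtype.val (B.sum_repr ⟨r, hmem⟩)
    simp only [Fin.sum_univ_four, Submodule.coe_add, Submodule.coe_smul] at this
    exact this.symm
  set m := fun i j => pb (u i) (B j : V8) with hm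
  have hsymm : ∀ i j, m j i = m i j := fun i j => by
    show pb (u j) (B i : V8) = pb (u i) (B j : V8)
    rw [← hu, ← hu, ← d_adj h2, pb_comm]
  have hdiag : ∀ i, m i i = c 0 * m i 0 + c 1 * m i 1 + c 2 * m i 2 + c 3 * m i 3 := fun i => by
    have h := d_quad (g := g) (u i)
    rw [hr, hu] at h
    show pb (u i) (B i : V8) = _
    rw [← h]
    conv_lhs => rw [hcr]
    simp only [pb_add_right, pb_smul_right, hm]
  have hnd : ∀ x0 x1 x2 x3 : ZMod 2, (∀ i, x0 * m i 0 + x1 * m i 1 + x2 * m i 2 + x3 * m i 3 = 0) →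
      x0 = 0 ∧ x1 = 0 ∧ x2 = 0 ∧ x3 = 0 := by
    intro x0 x1 x2 x3 hx
    set W := x0 • (B 0 : V8) + x1 • (B 1 : V8) + x2 • (B 2 : V8) + x3 • (B 3 : V8) with hW
    have hWu : ∀ i, pb (u i) W = 0 := fun i => by
      rw [hW, pb_add_right, pb_add_right, pb_add_right, pb_smul_right, pb_smul_right, pb_smul_right, pb_smul_right]
      exact hx i
    obtain ⟨y, hy⟩ : ∃ y, g.1 y + y = W := by
      refine ⟨x0 • u 0 + x1 • u 1 + x2 • u 2 + x3 • u 3, ?_⟩
      simp only [hW, map_add, map_smul, ← hu]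
      module
    have hW0 : W = 0 := pb_nondeg fun v => by
      have hvm : g.1 v + v ∈ LinearMap.range φ := ⟨v, hap v⟩
      have hs := congrArg Subtype.val (B.sum_repr ⟨g.1 v + v, hvm⟩)
      simp only [Fin.sum_univ_four, Submodule.coe_add, Submodule.coe_smul] at hs
      set k := fun i => B.repr ⟨g.1 v + v, hvm⟩ i with hk
      set v' := k 0 • u 0 + k 1 • u 1 + k 2 • u 2 + k 3 • u 3 with hv'
      have e : g.1 v' + v' = g.1 v + v := by
        rw [← hs]
        simp only [hv', hk, map_add, map_smul, ← hu]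
        module
      obtain ⟨q, hq⟩ := hfix (v + v') (eq8 (by rw [map_add, add_add_add_comm, e, add_self8]))
      rw [pb_comm, show v = (v + v') + v' by rw [add_assoc, add_self8, add_zero], pb_add_left, ← hq, ← hy, d_iso h2,
        zero_add, hy, hv', pb_add_left, pb_add_left, pb_add_left, pb_smul_left, pb_smul_left, pb_smul_left, pb_smul_left,
        hWu, hWu, hWu, hWu]
      ring
    have := B.linearIndependent
    rw [Fintype.linearIndependent_iff] at this
    have h0 := this ![x0, x1, x2, x3] (Subtype.ext (by simp [Fin.sum_univ_four, ← hW, hW0]))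
    exact ⟨h0 0, h0 1, h0 2, h0 3⟩
  -- the value
  have hv : qm r = c 0 * m 0 0 + c 1 * m 1 1 + c 2 * m 2 2 + c 3 * m 3 3 := by
    have e : g.1 (c 0 • u 0 + c 1 • u 1 + c 2 • u 2 + c 3 • u 3) + (c 0 • u 0 + c 1 • u 1 + c 2 • u 2 + c 3 • u 3)
        = r := by
      rw [hcr]
      simp only [map_add, map_smul, ← hu]
      module
    have hd' : ∀ i, pb (u i) r = m i i := fun i => by
      show _ = pb (u i) (B i : V8)
      rw [← hr, d_quad, hu]
    conv_lhs => rw [← e]
    rw [hr, pb_add_left, pb_add_left, pb_add_left, pb_smul_left, pb_smul_left, pb_smul_left, pb_smul_left,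
      hd', hd', hd', hd']
  rw [hv]
  refine quad_rows _ (m 0 1) (m 0 2) (m 0 3) _ (m 1 2) (m 1 3) _ (m 2 3) _ (c 0) (c 1) (c 2) (c 3) ?_ ?_ ?_ ?_ ?_
  · exact hdiag 0
  · have := hdiag 1; rw [hsymm 0 1] at this; exact this
  · have := hdiag 2; rw [hsymm 0 2, hsymm 1 2] at this; exact this
  · have := hdiag 3; rw [hsymm 0 3, hsymm 1 3, hsymm 2 3] at this; exact this
  · intro x0 x1 x2 x3 a0 a1 a2 a3
    refine hnd x0 x1 x2 x3 fun i => ?_
    fin_cases i
    · exact a0
    · show x0 * m 1 0 + _ + _ + _ = 0; rw [hsymm 0 1]; exact a1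
    · show x0 * m 2 0 + x1 * m 2 1 + _ + _ = 0; rw [hsymm 0 2, hsymm 1 2]; exact a2
    · show x0 * m 3 0 + x1 * m 3 1 + x2 * m 3 2 + _ = 0; rw [hsymm 0 3, hsymm 1 3, hsymm 2 3]; exact a3

/-- The action on `p⊥/⟨p⟩`. -/
theorem exists_lact (hp : Sing p) (gp : g.1 p = p) (hts : ∀ v, pb p v = 0 → qm (g.1 v + v) = 0)
    (hnt : ¬ InT p g) : ∃ s w, Typ p 0 s w ∧ LAct p s w g := by
  have hperp : ∀ v, pb p v = 0 → pb p (g.1 v + v) = 0 := fun v hv => by
    rw [pb_add_right, perp_map gp hv, hv, add_zero]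
  obtain ⟨v₀, hv₀, hs₀⟩ : ∃ v₀, pb p v₀ = 0 ∧ ¬ Pm p (g.1 v₀ + v₀) := by
    by_contra h
    push Not at h
    exact hnt ⟨gp, h⟩
  set s := g.1 v₀ + v₀ with hs
  have hsv : SVec p s := ⟨hts v₀ hv₀, hperp v₀ hv₀, hs₀⟩
  obtain ⟨v₁, hv₁, hsv₁⟩ := (fact_1 hp hsv).2
  set w := g.1 v₁ + v₁ with hw
  have w0 : pb w v₀ = 1 := by rw [hw, d_adj h2, ← hs, hsv₁]
  have w1 : pb w v₁ = 0 := by rw [hw, pb_comm, ← d_quad, hts v₁ hv₁.2.1]
  have s0 : pb s v₀ = 0 := by rw [hs, pb_comm, ← d_quad, hts v₀ hv₀]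
  have hT : Typ p 0 s w := ⟨hsv.1, hsv.2.1, hsv.2.2, hts v₁ hv₁.2.1, hperp v₁ hv₁.2.1,
    fun h => one_ne_zero (w0.symm.trans (h.polar hv₀)), by rw [hw, hs, d_iso h2],
    fun h => by
      have := h.polar hv₀
      rw [pb_add_left, w0, s0, add_zero] at this
      exact one_ne_zero this⟩
  refine ⟨s, w, hT, gp, fun v hv => ?_⟩
  set v' := v + pb v w • v₀ + pb v s • v₁ with hv'
  have hd : g.1 v' + v' = g.1 v + v + (pb v w • s + pb v s • w) := by
    rw [hv', hs, hw]; simp only [map_add, map_smul]; module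
  rw [← hd]
  have pv' : pb p v' = 0 := by
    rw [hv', pb_add_right, pb_add_right, pb_smul_right, pb_smul_right, hv, hv₀, hv₁.2.1]; simp
  have mv' : M4 p s w v' := by
    refine ⟨pv', ?_, ?_⟩
    · rw [hv', pb_add_right, pb_add_right, pb_smul_right, pb_smul_right, s0, pb_comm s v₁, hsv₁, pb_comm s v]
      simp [CharTwo.add_self_eq_zero]
    · rw [hv', pb_add_right, pb_add_right, pb_smul_right, pb_smul_right, w0, w1, pb_comm w v]
      simp [CharTwo.add_self_eq_zero]
  set y := g.1 v' + v' with hy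
  have my : M4 p s w y := ⟨hperp v' pv', by rw [hs, hy, d_iso h2], by rw [hw, hy, d_iso h2]⟩
  have y0 : pb y v₀ = 0 := by rw [hy, d_adj h2, ← hs, pb_comm, mv'.2.1]
  have y1 : pb y v₁ = 0 := by rw [hy, d_adj h2, ← hw, pb_comm, mv'.2.2]
  have yv : pb y v' = 0 := by rw [hy, pb_comm, ← d_quad, hts v' pv']
  obtain ⟨e, f, he, hf, qe, qf, hef, hdec⟩ := fact_frame hp hT
  obtain ⟨x, hx, hyx⟩ := hdec y my
  obtain ⟨x', hx', hvx⟩ := hdec v' mv'
  obtain ⟨a1, -, -⟩ := frame_quad hp hT he hf qe qf hef hx hyx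
  rw [hts v' pv'] at a1
  have hb : pb y f * pb v' e + pb y e * pb v' f = 0 := by
    have h := yv
    conv_lhs at h => rw [hvx]
    rw [pb_add_right, pb_add_right, pb_smul_right, pb_smul_right, pb_comm y x', hx'.m4_perp my, add_zero,
      mul_comm, add_comm, mul_comm] at h
    linear_combination h
  have hzero : ∀ X, Span3 p s w X → g.1 X + X = 0 := by
    rintro X ⟨α, β, γ, rfl⟩
    have g1 : g.1 s = s := dd_zero h2 v₀
    have g2 : g.1 w = w := dd_zero h2 v₁
    simp only [map_add, map_smul, gp, g1, g2]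
    exact add_self8 _
  rcases plane_mult _ _ _ _ a1.symm hb with ⟨k1, k2⟩ | ⟨k, k1, k2⟩
  · rw [k1, k2, zero_smul, zero_smul, zero_add, zero_add] at hyx
    obtain ⟨α, β, γ, rfl⟩ := hx
    have g0 := y0
    have g1 := y1
    rw [hyx, pb_add_left, pb_add_left, pb_smul_left, pb_smul_left, pb_smul_left, hv₀, s0, w0] at g0
    rw [hyx, pb_add_left, pb_add_left, pb_smul_left, pb_smul_left, pb_smul_left, hv₁.2.1, pb_comm s v₁, hsv₁, w1] at g1
    simp only [mul_zero, mul_one, add_zero, zero_add] at g0 g1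
    rw [hyx, g0, g1, zero_smul, zero_smul, add_zero, add_zero]
    rcases two_cases α with rfl | rfl
    · exact .inl (zero_smul _ _)
    · exact .inr (one_smul _ _)
  · refine .inl ?_
    have h1 : v' = k • y + (k • x + x') := by
      rw [hvx, hyx, k1, k2, smul_add, smul_add, smul_smul, smul_smul]
      funext i
      simp only [Pi.add_apply, Pi.smul_apply, smul_eq_mul]
      linear_combination CharTwo.add_self_eq_zero (k * x i) * 0 + (- CharTwo.add_self_eq_zero (k * x i))
    have hX : Span3 p s w (k • x + x') := by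
      obtain ⟨α, β, γ, rfl⟩ := hx
      obtain ⟨α', β', γ', rfl⟩ := hx'
      exact ⟨k * α + α', k * β + β', k * γ + γ', by module⟩
    have e1 : g.1 y + y = 0 := by rw [hy, dd_zero h2, add_self8]
    calc y = g.1 (k • y + (k • x + x')) + (k • y + (k • x + x')) := by rw [← h1]
      _ = k • (g.1 y + y) + (g.1 (k • x + x') + (k • x + x')) := by simp only [map_add, map_smul]; module
      _ = 0 := by rw [e1, hzero _ hX, smul_zero, add_zero]

end

theorem rank_ne_four {g : qAut qm} {a b c : V8} (h : ∀ v, Span3 a b c (g.1 v + v)) : qRank qm g ≠ 4 := by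
  classical
  intro h4
  have hle : LinearMap.range (g.1.toLinearMap - LinearMap.id : V8 →ₗ[ZMod 2] V8) ≤
      Submodule.span (ZMod 2) (({a, b, c} : Finset V8) : Set V8) := by
    rintro _ ⟨v, rfl⟩
    obtain ⟨α, β, γ, e⟩ := h v
    rw [show (g.1.toLinearMap - LinearMap.id : V8 →ₗ[ZMod 2] V8) v = g.1 v + v by
      simp only [LinearMap.sub_apply, LinearEquiv.coe_coe, LinearMap.id_apply]
      exact funext fun i => CharTwo.sub_eq_add _ _, e]
    refine add_mem (add_mem ?_ ?_) ?_ <;> exact Submodule.smul_mem _ _ (Submodule.subset_span (by simp))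
  have h1 := Submodule.finrank_mono hle
  have h2 := finrank_span_finset_le_card (R := ZMod 2) ({a, b, c} : Finset V8)
  have h3 : ({a, b, c} : Finset V8).card ≤ 3 := Finset.card_le_three
  change Module.finrank (ZMod 2) _ = 4 at h4
  unfold Set.finrank at h2
  omega

end CfsgLib.CoType
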