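import Mathlib
import Cfsg.Agent.Lib.CoType.Setup

/-!
The two halves of the radical of the four group: the commutator pairing and the two forms agree.
-/

set_option autoImplicit false
set_option linter.style.haveILetI false
set_option linter.unusedSectionVars false
set_option linter.unusedSimpArgs false

namespace CfsgLib.CoType

open Subgroup CfsgLib.Classical

variable {G : Type*} [Group G] [Finite G]

namespace Pair

variable {z t : G} {Q R : Subgroup G} {π π' : G → V8} {ρ ρ' : G → qAut qm}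
  (P : Pair z t Q R π π' ρ ρ')

include P

theorem w_mul {b b' : G} (hb : b ∈ R) (hbz : b * z = z * b) (hb' : b' ∈ R) (hbz' : b' * z = z * b') :
    Pm (π t) (tv (π t) (ρ (b * b')) + (tv (π t) (ρ b) + tv (π t) (ρ b'))) := by
  rw [P.S.rho_mul b (P.R_z hb hbz).1 b' (P.R_z hb' hbz').1]
  exact (inT_mul P.p_sing (P.inT hb hbz) (P.inT hb' hbz')).2

theorem w_conj {b c : G} (hb : b ∈ R) (hbz : b * z = z * b) (hc : c ∈ centralizer ({z} : Set G))
    (hct : c ∈ centralizer ({t} : Set G)) :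
    Pm (π t) (tv (π t) (ρ (c * b * c⁻¹)) + (ρ c).1 (tv (π t) (ρ b))) := by
  have hbC := (P.R_z hb hbz).1
  rw [P.S.rho_mul (c * b) (mul_mem hc hbC) c⁻¹ (inv_mem hc), P.S.rho_mul c hc b hbC, P.S.rho_inv hc]
  exact (inT_conj P.p_sing (P.rho_p hc hct) (P.inT hb hbz)).2

theorem w_eq {b b' : G} (hb : b ∈ R) (hbz : b * z = z * b) (hb' : b' ∈ R) (hbz' : b' * z = z * b')
    (h : Pm (π t) (tv (π t) (ρ b) + tv (π t) (ρ b'))) : b⁻¹ * b' ∈ Q := by
  have h1 := inT_eq P.p_sing (P.inT hb hbz) (P.inT hb' hbz') h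
  have hC := (P.R_z hb hbz).1
  refine (P.S.rho_ker _ (mul_mem (inv_mem hC) (P.R_z hb' hbz').1)).1 ?_
  rw [P.S.rho_mul _ (inv_mem hC) _ (P.R_z hb' hbz').1, P.S.rho_inv hC, h1, inv_mul_cancel]

theorem w_pm_iff {b : G} (hb : b ∈ R) (hbz : b * z = z * b) : Pm (π t) (tv (π t) (ρ b)) ↔ b ∈ Q := by
  constructor
  · intro h
    exact (P.S.rho_ker b (P.R_z hb hbz).1).1 (inT_trivial P.p_sing (P.inT hb hbz) h)
  · intro h
    rw [P.S.rho_Q h, tv_one]
    exact .inl rfl

theorem w_perp {b : G} (hb : b ∈ R) (hbz : b * z = z * b) : pb (π t) (tv (π t) (ρ b)) = 0 :=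
  tv_perp P.p_sing (P.inT hb hbz)

theorem mem_E_of_pm {a : G} (ha : a ∈ Q) (h : Pm (π t) (π a)) : a ∈ R := by
  rcases h with e | e
  · rcases (P.S.pi_ker a ha).1 e with rfl | rfl
    exacts [one_mem _, P.zR]
  · rcases P.S.pi_eq P.tQ ha e.symm with rfl | rfl
    exacts [P.S'.zQ, mul_mem P.zR P.S'.zQ]

/-- Every class of `p⊥` comes from the second half. -/
theorem w_surj {v : V8} (hv : pb (π t) v = 0) :
    ∃ b ∈ R, b * z = z * b ∧ Pm (π t) (tv (π t) (ρ b) + v) := by
  classical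
  haveI := Fintype.ofFinite G
  let S : Finset (G × ZMod 2) := (Finset.univ.filter fun b => b ∈ R ⊓ centralizer ({z} : Set G)) ×ˢ Finset.univ
  let f : G × ZMod 2 → V8 := fun x => tv (π t) (ρ x.1) + x.2 • π t
  let T : Finset V8 := Finset.univ.filter fun y => pb (π t) y = 0
  have hmem : ∀ x ∈ S, x.1 ∈ R ∧ x.1 * z = z * x.1 := fun x hx => by
    obtain ⟨h1, h2⟩ := mem_inf.1 (Finset.mem_filter.1 (Finset.mem_product.1 hx).1).2
    exact ⟨h1, mem_centralizer_singleton_iff.1 h2⟩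
  have hsub : S.image f ⊆ T := by
    intro y hy
    obtain ⟨x, hx, rfl⟩ := Finset.mem_image.1 hy
    refine Finset.mem_filter.2 ⟨Finset.mem_univ _, ?_⟩
    rw [pb_add_right, pb_smul_right, pb_self, mul_zero, add_zero]
    exact P.w_perp (hmem x hx).1 (hmem x hx).2
  have hfib : ∀ y ∈ S.image f, (S.filter fun x => f x = y).card ≤ 4 := by
    intro y hy
    obtain ⟨x₀, hx₀, rfl⟩ := Finset.mem_image.1 hy
    obtain ⟨h1, h2⟩ := hmem x₀ hx₀
    have hsub' : (S.filter fun x => f x = f x₀).image Prod.fst ⊆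
        ({x₀.1, x₀.1 * z, x₀.1 * t, x₀.1 * (z * t)} : Finset G) := by
      intro b hb
      obtain ⟨x, hx, rfl⟩ := Finset.mem_image.1 hb
      obtain ⟨hx, hfx⟩ := Finset.mem_filter.1 hx
      obtain ⟨g1, g2⟩ := hmem x hx
      have hpm : Pm (π t) (tv (π t) (ρ x₀.1) + tv (π t) (ρ x.1)) := by
        have h3 : (tv (π t) (ρ x₀.1) + tv (π t) (ρ x.1)) + (x₀.2 • π t + x.2 • π t) = 0 := by
          rw [add_add_add_comm]
          show f x₀ + f x = 0
          rw [hfx, add_self8]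
        rw [CharTwo.add_eq_zero.1 (funext fun i => congrFun h3 i), ← add_smul]
        rcases two_cases (x₀.2 + x.2) with e | e <;> rw [e]
        · exact .inl (zero_smul _ _)
        · exact .inr (one_smul _ _)
      have hE := P.w_eq h1 h2 g1 g2 hpm
      rcases P.E_cases hE (mul_mem (inv_mem h1) g1) with e | e | e | e <;>
        simp [inv_mul_eq_iff_eq_mul.1 e]
    have hinj : Set.InjOn Prod.fst (S.filter fun x => f x = f x₀ : Set (G × ZMod 2)) := by
      intro x hx x' hx' hxx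
      have e : f x = f x' := (Finset.mem_filter.1 hx).2.trans (Finset.mem_filter.1 hx').2.symm
      simp only [f] at e
      rw [hxx, add_right_inj] at e
      exact Prod.ext hxx (smul_p_inj P.p_sing e)
    calc (S.filter fun x => f x = f x₀).card = ((S.filter fun x => f x = f x₀).image Prod.fst).card :=
          (Finset.card_image_of_injOn hinj).symm
      _ ≤ ({x₀.1, x₀.1 * z, x₀.1 * t, x₀.1 * (z * t)} : Finset G).card := Finset.card_le_card hsub'
      _ ≤ 4 := Finset.card_le_four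
  have hS : S.card = 512 := by
    rw [Finset.card_product, Finset.card_univ, ZMod.card, ← Fintype.card_subtype, ← Nat.card_eq_fintype_card,
      show Nat.card {b // b ∈ R ⊓ centralizer ({z} : Set G)} = 256 from P.symm.card_A]
  have hT : T.card = 128 := by
    rw [← Fintype.card_subtype, ← Nat.card_eq_fintype_card]
    exact card_perp P.p_sing
  have hcount := Finset.card_le_mul_card_image S 4 hfib
  have heq : S.image f = T := Finset.eq_of_subset_of_card_le hsub (by omega)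
  have hvT : v ∈ S.image f := by rw [heq]; exact Finset.mem_filter.2 ⟨Finset.mem_univ _, hv⟩
  obtain ⟨x, hx, hfx⟩ := Finset.mem_image.1 hvT
  refine ⟨x.1, (hmem x hx).1, (hmem x hx).2, ?_⟩
  rw [← hfx]
  show Pm (π t) (tv (π t) (ρ x.1) + (tv (π t) (ρ x.1) + x.2 • π t))
  rw [add_cancel8]
  rcases two_cases x.2 with e | e <;> rw [e]
  · exact .inl (zero_smul _ _)
  · exact .inr (one_smul _ _)

theorem f_E {a e : G} (ha : a ∈ Q) (hat : a * t = t * a) (he : e ∈ Q) (he' : e ∈ R) :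
    pb (π' e) (tv (π' z) (ρ' a)) = 0 := by
  have hp := P.symm.w_perp ha hat
  rcases P.E_cases he he' with rfl | rfl | rfl | rfl
  · rw [P.S'.pi_one, pb_zero_left]
  · exact hp
  · rw [P.S'.pi_z, pb_zero_left]
  · rw [P.S'.pi_mul z P.zR t P.S'.zQ, P.S'.pi_z, add_zero]; exact hp

theorem eps_singular {a b : G} (ha : a ∈ Q) (hat : a * t = t * a) (hs : SVec (π t) (π a)) (hb : b ∈ R)
    (hbz : b * z = z * b) : pb (π' b) (tv (π' z) (ρ' a)) = pb (π a) (tv (π t) (ρ b)) := by
  set f : G → ZMod 2 := fun b => pb (π' b) (tv (π' z) (ρ' a)) with hf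
  have fmul : ∀ b b', b ∈ R → b' ∈ R → f (b * b') = f b + f b' := fun b b' h h' => by
    rw [hf]; dsimp only; rw [P.S'.pi_mul b h b' h', pb_add_left]
  have fwd : ∀ b b', b ∈ R → b * z = z * b → b' ∈ R → b' * z = z * b' →
      Pm (π t) (tv (π t) (ρ b) + tv (π t) (ρ b')) → f b' = f b := fun b b' h1 h2 h3 h4 hpm => by
    rw [show b' = b * (b⁻¹ * b') by group, fmul b _ h1 (mul_mem (inv_mem h1) h3),
      show f (b⁻¹ * b') = 0 from P.f_E ha hat (P.w_eq h1 h2 h3 h4 hpm) (mul_mem (inv_mem h1) h3), add_zero]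
  have finv : ∀ c ∈ centralizer ({z} : Set G), c ∈ centralizer ({t} : Set G) →
      Pm (π t) ((ρ c).1 (π a) + π a) → ∀ b ∈ R, b * z = z * b → f (c * b * c⁻¹) = f b :=
      fun c hc hct hca b hbR hbzR => by
    have hca' : c * a * c⁻¹ * t = t * (c * a * c⁻¹) := by
      have hcat : c * a * c⁻¹ ∈ centralizer ({t} : Set G) :=
        mul_mem (mul_mem hct (mem_centralizer_singleton_iff.2 hat)) (inv_mem hct)
      exact mem_centralizer_singleton_iff.1 hcat
    have he : a⁻¹ * (c * a * c⁻¹) ∈ R := by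
      refine P.mem_E_of_pm (mul_mem (inv_mem ha) (P.S.conj_mem hc ha)) ?_
      rw [P.S.pi_mul _ (inv_mem ha) _ (P.S.conj_mem hc ha), P.S.pi_inv ha, P.S.rho_pi c hc a ha, add_comm]
      exact hca
    have h1 : Pm (π' z) (tv (π' z) (ρ' (c * a * c⁻¹)) + (ρ' c).1 (tv (π' z) (ρ' a))) := P.symm.w_conj ha hat hct hc
    have h2 : Pm (π' z) (tv (π' z) (ρ' a) + tv (π' z) (ρ' (c * a * c⁻¹))) := by
      have e1 : a⁻¹ * (c * a * c⁻¹) * t = t * (a⁻¹ * (c * a * c⁻¹)) :=
        mem_centralizer_singleton_iff.1 (mul_mem (inv_mem (mem_centralizer_singleton_iff.2 hat))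
          (mem_centralizer_singleton_iff.2 hca'))
      have e2 := P.symm.w_mul ha hat (mul_mem (inv_mem ha) (P.S.conj_mem hc ha)) e1
      rw [mul_inv_cancel_left, P.S'.rho_Q he, tv_one, add_zero] at e2
      exact pm_symm e2
    have h3 := pm_trans h2 h1
    have hbz' : b * z = z * b := hbzR
    have hc' : c * b * c⁻¹ * z = z * (c * b * c⁻¹) :=
      mem_centralizer_singleton_iff.1 (mul_mem (mul_mem hc (mem_centralizer_singleton_iff.2 hbz')) (inv_mem hc))
    show pb (π' (c * b * c⁻¹)) _ = pb (π' b) _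
    rw [pb_comm, pm_polar h3 (P.symm.perp (P.S'.conj_mem hct hbR) hc'), P.S'.rho_pi c hct b hbR, pb_comm, pb_map]
  have fN : ∀ b, b ∈ R → b * z = z * b → NVec (π t) (tv (π t) (ρ b)) →
      pb (tv (π t) (ρ b)) (π a) = 0 → f b = 0 := fun b hb hbz hn hbs => by
    obtain ⟨x, b', hx, hxa, hb', hb's, hxb'⟩ := fact_4 P.p_sing hs hn hbs
    obtain ⟨y, hy, hyz, hyx⟩ := P.w_surj hx
    set g := rf (tv (π t) (ρ b)) hn.1 * rf b' hb'.1 with hg
    have gp : g.1 (π t) = π t := by rw [hg, qAut_mul_apply, rf_fix hb'.1 hb'.2, rf_fix hn.1 hn.2]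
    have gs : g.1 (π a) = π a := by
      rw [hg, qAut_mul_apply, rf_fix hb'.1 (by rw [pb_comm, hb's]), rf_fix hn.1 (by rw [pb_comm, hbs])]
    have gx : g.1 x = x + tv (π t) (ρ b) := by rw [hg, qAut_mul_apply, rf_fix hb'.1 hxb', rf_move hn.1 hxa]
    obtain ⟨c, hc, hct, hρc⟩ := P.exists_lift (rf_mul_mem hn.1 hb'.1) gp
    have hcy : c * y * c⁻¹ ∈ R := P.S'.conj_mem hct hy
    have hcyz : c * y * c⁻¹ * z = z * (c * y * c⁻¹) := mem_centralizer_singleton_iff.1
      (mul_mem (mul_mem hc (mem_centralizer_singleton_iff.2 hyz)) (inv_mem hc))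
    have hyb : y * b * z = z * (y * b) := (Commute.mul_left (show Commute y z from hyz) hbz).eq
    have e1 : Pm (π t) (tv (π t) (ρ (c * y * c⁻¹)) + tv (π t) (ρ (y * b))) := by
      have e2 := P.w_conj hy hyz hc hct
      rw [hρc] at e2
      have e3 := pm_map gp hyx
      rw [map_add, gx] at e3
      refine pm_trans (pm_trans e2 e3) (pm_trans ?_ (pm_symm (P.w_mul hy hyz hb hbz)))
      have := hyx
      rw [show x + tv (π t) (ρ b) + (tv (π t) (ρ y) + tv (π t) (ρ b)) = tv (π t) (ρ y) + x by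
        rw [add_add_add_comm, add_self8, add_zero, add_comm]]
      exact this
    have h1 := fwd _ _ hcy hcyz (mul_mem hy hb) hyb e1
    rw [fmul y b hy hb, finv c hc hct (by rw [hρc, gs]; exact pm_self _) y hy hyz, add_eq_left] at h1
    exact h1
  have f0 : ∀ b, b ∈ R → b * z = z * b → pb (π a) (tv (π t) (ρ b)) = 0 → f b = 0 := fun b hb hbz hbs => by
    rw [pb_comm] at hbs
    rcases two_cases (qm (tv (π t) (ρ b))) with e | e
    · obtain ⟨n, hn, hns, hnw⟩ := fact_2 P.p_sing hs e (P.w_perp hb hbz) (by rw [pb_comm, hbs])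
      have hm : NVec (π t) (n + tv (π t) (ρ b)) :=
        ⟨by rw [qm_add, hn.1, e, hnw]; rfl, by rw [pb_add_right, hn.2, P.w_perp hb hbz, add_zero]⟩
      obtain ⟨bn, hbn, hbnz, hbnw⟩ := P.w_surj hn.2
      obtain ⟨bm, hbm, hbmz, hbmw⟩ := P.w_surj hm.2
      have qn : NVec (π t) (tv (π t) (ρ bn)) :=
        ⟨(pm_quad P.p_sing hbnw hn.2).trans hn.1, P.w_perp hbn hbnz⟩
      have qm' : NVec (π t) (tv (π t) (ρ bm)) :=
        ⟨(pm_quad P.p_sing hbmw hm.2).trans hm.1, P.w_perp hbm hbmz⟩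
      have en : f bn = 0 := fN bn hbn hbnz qn (by rw [pm_polar hbnw hs.2.1, hns])
      have em : f bm = 0 := fN bm hbm hbmz qm'
        (by rw [pm_polar hbmw hs.2.1, pb_add_left, hns, hbs, add_zero])
      have hz' : bn * bm * z = z * (bn * bm) := (Commute.mul_left (show Commute bn z from hbnz) hbmz).eq
      have e1 : Pm (π t) (tv (π t) (ρ (bn * bm)) + tv (π t) (ρ b)) := by
        refine pm_trans (P.w_mul hbn hbnz hbm hbmz) ?_
        have := hbnw.add hbmw
        rwa [add_add_add_comm, add_cancel8] at this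
      rw [fwd _ _ (mul_mem hbn hbm) hz' hb hbz e1, fmul bn bm hbn hbm, en, em, add_zero]
    · exact fN b hb hbz ⟨e, P.w_perp hb hbz⟩ hbs
  show f b = _
  rcases two_cases (pb (π a) (tv (π t) (ρ b))) with h | h
  · rw [h, f0 b hb hbz h]
  · rw [h]
    by_contra hne
    have hfb : f b = 0 := (two_cases _).resolve_right hne
    have hall : ∀ r, r ∈ R → r * z = z * r → f r = 0 := fun r hr hrz => by
      rcases two_cases (pb (π a) (tv (π t) (ρ r))) with h' | h'
      · exact f0 r hr hrz h'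
      · have := f0 (r * b) (mul_mem hr hb) (Commute.mul_left (show Commute r z from hrz) hbz).eq (by
          rw [pb_comm, pm_polar (P.w_mul hr hrz hb hbz) hs.2.1, pb_add_left, pb_comm, h', pb_comm, h]
          rfl)
        rwa [fmul r b hr hb, hfb, add_zero] at this
    have hw : Pm (π' z) (tv (π' z) (ρ' a)) := pm_of_forall P.symm.p_sing fun y hy => by
      obtain ⟨r, hr, rfl⟩ := P.S'.pi_surj y
      exact hall r hr (mem_centralizer_singleton_iff.1 ((P.symm.mem_A hr).2 hy))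
    have haR := (P.symm.w_pm_iff ha hat).1 hw
    rcases P.E_cases ha haR with e | e | e | e <;> apply hs.2.2 <;> rw [e]
    · exact .inl P.S.pi_one
    · exact .inl P.S.pi_z
    · exact .inr rfl
    · exact .inr (P.S.pi_zmul P.tQ)

/-- The two components of the commutator pairing agree. -/
theorem eps_eq {a b : G} (ha : a ∈ Q) (hat : a * t = t * a) (hb : b ∈ R) (hbz : b * z = z * b) :
    pb (π' b) (tv (π' z) (ρ' a)) = pb (π a) (tv (π t) (ρ b)) := by
  by_cases hpm : Pm (π t) (π a)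
  · have haR := P.mem_E_of_pm ha hpm
    rw [P.S'.rho_Q haR, tv_one, pb_zero_right, hpm.polar (P.w_perp hb hbz)]
  rcases two_cases (qm (π a)) with e | e
  · exact P.eps_singular ha hat ⟨e, P.perp ha hat, hpm⟩ hb hbz
  · have hv : NVec (π t) (π a) := ⟨e, P.perp ha hat⟩
    obtain ⟨s, hs, hvs⟩ := (fact_10 P.p_sing hv).2
    obtain ⟨a1, ha1, hπ1⟩ := P.S.pi_surj s
    have hat1 : a1 * t = t * a1 := mem_centralizer_singleton_iff.1 ((P.mem_A ha1).2 (hπ1 ▸ hs.2.1))
    have hS1 : SVec (π t) (π a1) := hπ1 ▸ hs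
    have hπ2 : π (a * a1) = π a + π a1 := P.S.pi_mul a ha a1 ha1
    have hat2 : a * a1 * t = t * (a * a1) := (Commute.mul_left (show Commute a t from hat) hat1).eq
    have hS2 : SVec (π t) (π (a * a1)) := by
      refine ⟨by rw [hπ2, qm_add, hπ1, e, hs.1, hvs]; decide, P.perp (mul_mem ha ha1) hat2, fun h => ?_⟩
      have := h.polar hv.2
      rw [hπ2, hπ1, pb_add_left, pb_self, zero_add, pb_comm, hvs] at this
      exact one_ne_zero this
    have h1 := P.eps_singular ha1 hat1 hS1 hb hbz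
    have h2 := P.eps_singular (mul_mem ha ha1) hat2 hS2 hb hbz
    rw [pb_comm (π' b), pm_polar (P.symm.w_mul ha hat ha1 hat1) (P.symm.perp hb hbz), pb_add_left,
      pb_comm, pb_comm _ (π' b), h1, hπ2, pb_add_left] at h2
    exact add_right_cancel h2

/-- The two forms agree. -/
theorem quad_eq {b : G} (hb : b ∈ R) (hbz : b * z = z * b) : qm (tv (π t) (ρ b)) = qm (π' b) := by
  have hperp : ∀ r, r ∈ R → r * z = z * r → pb (π' z) (π' r) = 0 := fun r hr hrz => P.symm.perp hr hrz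
  have hQ : ∀ r, r ∈ R → r * z = z * r → Pm (π' z) (π' r) → r ∈ Q := fun r hr _ h => P.symm.mem_E_of_pm hr h
  -- transport along lifts
  have trans : ∀ b b', b ∈ R → b * z = z * b → b' ∈ R → b' * z = z * b' → ∀ g ∈ Ev, g.1 (π t) = π t →
      Pm (π t) (g.1 (tv (π t) (ρ b)) + tv (π t) (ρ b')) → qm (π' b') = qm (π' b) := by
    intro b b' h1 h2 h3 h4 g hg gp gv
    obtain ⟨c, hc, hct, hρ⟩ := P.exists_lift hg gp
    have hcb : c * b * c⁻¹ ∈ R := P.S'.conj_mem hct h1
    have hcbz : c * b * c⁻¹ * z = z * (c * b * c⁻¹) := mem_centralizer_singleton_iff.1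
      (mul_mem (mul_mem hc (mem_centralizer_singleton_iff.2 h2)) (inv_mem hc))
    have e1 := P.w_conj h1 h2 hc hct
    rw [hρ] at e1
    have hE := P.w_eq hcb hcbz h3 h4 (pm_trans e1 gv)
    have hE' : (c * b * c⁻¹)⁻¹ * b' ∈ R := mul_mem (inv_mem hcb) h3
    have hpm : Pm (π' z) (π' (c * b * c⁻¹) + π' b') := by
      rw [← P.S'.pi_inv hcb, ← P.S'.pi_mul _ (inv_mem hcb) _ h3]
      rcases P.E_cases hE hE' with e | e | e | e <;> rw [e]
      · exact .inl P.S'.pi_one
      · exact .inr rfl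
      · exact .inl P.S'.pi_z
      · rw [P.zt_comm]; exact .inr (P.S'.pi_zmul P.zR)
    rw [← pm_quad P.symm.p_sing hpm (hperp b' h3 h4), P.S'.rho_pi c hct b h1]
    exact qAut_map _ _
  have hlift : ∀ v : {v // pb (π t) v = 0}, ∃ b ∈ R, b * z = z * b ∧ Pm (π t) (tv (π t) (ρ b) + v.1) :=
    fun v => P.w_surj v.2
  choose r hr hrz hrv using hlift
  have hcls : ∀ c : ZMod 2, ∀ v w, pb (π t) v.1 = 0 → qm v.1 = c → ¬ Pm (π t) v.1 → qm w.1 = c → ¬ Pm (π t) w.1 →
      qm (π' (r w)) = qm (π' (r v)) := fun c v w _ qv nv qw nw => by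
    obtain ⟨g, hg, gp, gv⟩ := ev_vec P.p_sing qv v.2 nv qw w.2 nw
    refine trans (r v) (r w) (hr v) (hrz v) (hr w) (hrz w) g hg gp ?_
    have h1 : Pm (π t) (g.1 (tv (π t) (ρ (r v))) + g.1 v.1) := by rw [← map_add]; exact pm_map gp (hrv v)
    exact pm_trans (pm_trans h1 gv) (pm_symm (hrv w))
  -- a value at the class of each vector
  have hval : ∀ b, b ∈ R → b * z = z * b → ∀ v : {v // pb (π t) v = 0}, Pm (π t) (tv (π t) (ρ b) + v.1) →
      qm (π' b) = qm (π' (r v)) := fun b hb hbz v hv => by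
    refine (trans b (r v) hb hbz (hr v) (hrz v) 1 (one_mem _) rfl ?_).symm
    show Pm (π t) (tv (π t) (ρ b) + tv (π t) (ρ (r v)))
    exact pm_trans hv (pm_symm (hrv v))
  have hns : ∀ v : {v // pb (π t) v = 0}, ¬ Pm (π t) v.1 → ¬ Pm (π' z) (π' (r v)) := fun v nv h => nv (by
    have h1 := (P.w_pm_iff (hr v) (hrz v)).2 (hQ _ (hr v) (hrz v) h)
    have := h1.add (hrv v)
    rwa [add_cancel8] at this)
  -- every class on the other side is reached
  have honto : ∀ y, pb (π' z) y = 0 → ¬ Pm (π' z) y → ∃ v : {v // pb (π t) v = 0}, ¬ Pm (π t) v.1 ∧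
      qm (π' (r v)) = qm y := fun y hy ny => by
    obtain ⟨b, hb, rfl⟩ := P.S'.pi_surj y
    have hbz : b * z = z * b := mem_centralizer_singleton_iff.1 ((P.symm.mem_A hb).2 hy)
    refine ⟨⟨_, P.w_perp hb hbz⟩, fun h => ny ?_, (hval b hb hbz ⟨_, P.w_perp hb hbz⟩ (pm_self _)).symm⟩
    rcases P.E_cases ((P.w_pm_iff hb hbz).1 h) hb with e | e | e | e <;> rw [e]
    · exact .inl P.S'.pi_one
    · exact .inr rfl
    · exact .inl P.S'.pi_z
    · rw [P.zt_comm]; exact .inr (P.S'.pi_zmul P.zR)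
  obtain ⟨s₀, hs₀⟩ := fact_S P.p_sing
  obtain ⟨n₀, hn₀⟩ := fact_N P.p_sing
  have nn₀ : ∀ n, NVec (π t) n → ¬ Pm (π t) n := fun n hn h => by
    rcases h with h | h
    · exact one_ne_zero (hn.1.symm.trans (by rw [h, QuadraticMap.map_zero]))
    · exact one_ne_zero (hn.1.symm.trans (by rw [h, P.p_sing.2]))
  have hpart : ∀ y : V8, ∀ v : {v // pb (π t) v = 0}, ¬ Pm (π t) v.1 → qm (π' (r v)) = qm y →
      qm y = qm (π' (r ⟨s₀, hs₀.2.1⟩)) ∨ qm y = qm (π' (r ⟨n₀, hn₀.2⟩)) := fun y v nv hv => by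
    rcases two_cases (qm v.1) with e | e
    · exact .inl (hv.symm.trans (hcls 0 ⟨s₀, hs₀.2.1⟩ v hs₀.2.1 hs₀.1 hs₀.2.2 e nv))
    · exact .inr (hv.symm.trans (hcls 1 ⟨n₀, hn₀.2⟩ v hn₀.2 hn₀.1 (nn₀ _ hn₀) e nv))
  obtain ⟨s₁, hs₁⟩ := fact_S P.symm.p_sing
  obtain ⟨n₁, hn₁⟩ := fact_N P.symm.p_sing
  have nn₁ : ¬ Pm (π' z) n₁ := fun h => by
    rcases h with h | h
    · exact one_ne_zero (hn₁.1.symm.trans (by rw [h, QuadraticMap.map_zero]))
    · exact one_ne_zero (hn₁.1.symm.trans (by rw [h, P.symm.p_sing.2]))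
  obtain ⟨v₁, k₁, e₁⟩ := honto s₁ hs₁.2.1 hs₁.2.2
  obtain ⟨v₂, k₂, e₂⟩ := honto n₁ hn₁.2 nn₁
  have a₁ := hpart s₁ v₁ k₁ e₁
  have a₂ := hpart n₁ v₂ k₂ e₂
  rw [hs₁.1] at a₁
  rw [hn₁.1] at a₂
  -- the singular classes go to singular classes
  have hc0 : qm (π' (r ⟨s₀, hs₀.2.1⟩)) = 0 := by
    by_contra hne
    have h1 := (two_cases _).resolve_left hne
    have hcard := (counts P.p_sing).2.1
    -- the normalised vector of a class
    let N : {v // SVec (π t) v} → {v // pb (π t) v = 0} := fun v => ⟨v.1 + pb v.1 (pt (π t)) • π t, by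
      rw [pb_add_right, pb_smul_right, pb_self, mul_zero, add_zero, v.2.2.1]⟩
    have hN : ∀ v : {v // SVec (π t) v}, Pm (π t) (v.1 + (N v).1) := fun v => by
      show Pm (π t) (v.1 + (v.1 + pb v.1 (pt (π t)) • π t))
      rw [add_cancel8]
      rcases two_cases (pb v.1 (pt (π t))) with e | e <;> rw [e]
      · exact .inl (zero_smul _ _)
      · exact .inr (one_smul _ _)
    have hmap : ∀ v : {v // SVec (π t) v}, NVec (π' z)
        (π' (r (N v)) + pb v.1 (pt (π t)) • π' z) := fun v => by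
      refine ⟨?_, ?_⟩
      · rw [qm_add, quad_smul, P.symm.p_sing.2, mul_zero, pb_smul_right, pb_comm _ (π' z),
          hperp _ (hr _) (hrz _), mul_zero, add_zero, add_zero]
        rw [hcls 0 ⟨s₀, hs₀.2.1⟩ (N v) hs₀.2.1 hs₀.1 hs₀.2.2
          ((pm_quad P.p_sing (hN v) (N v).2).symm.trans v.2.1) (fun h => v.2.2.2 (by
            have := (hN v).add h
            rwa [add_assoc, add_self8, add_zero] at this)), h1]
      · rw [pb_add_right, pb_smul_right, pb_self, mul_zero, add_zero, hperp _ (hr _) (hrz _)]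
    have hinj : Function.Injective (fun v : {v // SVec (π t) v} =>
        (⟨_, hmap v⟩ : {y // NVec (π' z) y})) := by
      intro v w h
      have h' : π' (r (N v)) + pb v.1 (pt (π t)) • π' z =
          π' (r (N w)) + pb w.1 (pt (π t)) • π' z := congrArg Subtype.val h
      have hpm : Pm (π' z) (π' (r (N v)) + π' (r (N w))) := by
        have h3 : (π' (r (N v)) + π' (r (N w))) +
            (pb v.1 (pt (π t)) • π' z + pb w.1 (pt (π t)) • π' z) = 0 := by
          rw [add_add_add_comm, h', add_self8]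
        rw [CharTwo.add_eq_zero.1 (funext fun i => congrFun h3 i), ← add_smul]
        rcases two_cases (pb v.1 (pt (π t)) + pb w.1 (pt (π t))) with e | e <;> rw [e]
        · exact .inl (zero_smul _ _)
        · exact .inr (one_smul _ _)
      have h4 : (r (N v))⁻¹ * r (N w) ∈ Q := by
        refine hQ _ (mul_mem (inv_mem (hr _)) (hr _)) (mem_centralizer_singleton_iff.1 (mul_mem
          (inv_mem (mem_centralizer_singleton_iff.2 (hrz _))) (mem_centralizer_singleton_iff.2 (hrz _)))) ?_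
        rwa [P.S'.pi_mul _ (inv_mem (hr _)) _ (hr _), P.S'.pi_inv (hr _)]
      have h5 : ρ (r (N w)) = ρ (r (N v)) := by
        have h6 := P.S.rho_Q h4
        rw [P.S.rho_mul _ (inv_mem (P.R_z (hr _) (hrz _)).1) _ (P.R_z (hr _) (hrz _)).1,
          P.S.rho_inv (P.R_z (hr _) (hrz _)).1, inv_mul_eq_one] at h6
        exact h6.symm
      have h7 := hrv (N w)
      rw [h5] at h7
      have hn : N v = N w := by
        have h8 : Pm (π t) ((N v).1 + (N w).1) := pm_trans (pm_symm (hrv (N v))) h7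
        rcases h8 with e | e
        · exact Subtype.ext (CharTwo.add_eq_zero.1 (funext fun i => congrFun e i))
        · exfalso
          have h9 := congrArg (fun x => pb x (pt (π t))) e
          simp only [N, pb_add_left, pb_smul_left, pt_spec P.p_sing, mul_one, CharTwo.add_self_eq_zero] at h9
          exact zero_ne_one (h9.trans (by simp [CharTwo.add_self_eq_zero]))
      rw [hn, add_right_inj] at h'
      have h10 := smul_p_inj P.symm.p_sing h'
      have h11 := congrArg Subtype.val hn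
      simp only [N] at h11
      rw [h10] at h11
      exact Subtype.ext (add_right_cancel h11)
    have := Nat.card_le_card_of_injective _ hinj
    rw [hcard, (counts P.symm.p_sing).2.2] at this
    omega
  have hc1 : qm (π' (r ⟨n₀, hn₀.2⟩)) = 1 := (a₂.resolve_left (by rw [hc0]; exact one_ne_zero)).symm
  by_cases hpm : Pm (π t) (tv (π t) (ρ b))
  · have hbQ := (P.w_pm_iff hb hbz).1 hpm
    have h2 := P.S'.sq b hb
    rw [P.E_sq hbQ hb] at h2
    rw [show qm (π' b) = 0 from (two_cases _).resolve_right fun h => P.S'.z1 (by rw [h, zb_one] at h2; exact h2.symm)]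
    rcases hpm with e | e <;> rw [e]
    · exact QuadraticMap.map_zero _
    · exact P.p_sing.2
  rw [hval b hb hbz ⟨_, P.w_perp hb hbz⟩ (pm_self _)]
  rcases two_cases (qm (tv (π t) (ρ b))) with e | e
  · rw [e, hcls 0 ⟨s₀, hs₀.2.1⟩ ⟨_, P.w_perp hb hbz⟩ hs₀.2.1 hs₀.1 hs₀.2.2 e hpm, hc0]
  · rw [e, hcls 1 ⟨n₀, hn₀.2⟩ ⟨_, P.w_perp hb hbz⟩ hn₀.2 hn₀.1 (nn₀ _ hn₀) e hpm, hc1]

end Pair

end CfsgLib.CoType
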