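import Mathlib
import Cfsg.Agent.Lib.CoType.Frame
import Cfsg.Agent.Lib.CoType.Invol

/-!
An involution of rank four centralizing the four group has a conjugate of smaller rank in one of the
three frames.
-/

set_option autoImplicit false
set_option linter.style.haveILetI false
set_option linter.unusedSectionVars false
set_option linter.unusedSimpArgs false

namespace CfsgLib.CoType

open Subgroup CfsgLib.Classical

variable {G : Type*} [Group G] [Finite G]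

/-- An element of the four group by its two bits. -/
def eb (z t : G) (i j : ZMod 2) : G := zb z i * zb t j

/-- The bit of a class under `x`. -/
def Bit (z t : G) (Q : Subgroup G) (π : G → V8) (x : G) (w₀ c : V8) (i : ZMod 2) : Prop :=
  ∀ a ∈ Q, π a = c → x * a * x⁻¹ = eb z t i (pb c w₀) * a

/-- An involution centralizing the four group, acting on the middle by a plane. -/
structure Inv4 (z t : G) (π : G → V8) (ρ : G → qAut qm) (x : G) (s w : V8) : Prop where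
  hx : x ∈ centralizer ({z} : Set G)
  ht : x * t = t * x
  x2 : x * x = 1
  typ : Typ (π t) 0 s w
  lact : LAct (π t) s w (ρ x)

/-- The two elements moving the four group. -/
structure Swaps (z t : G) (Q R : Subgroup G) (π π' : G → V8) (q₀ r₀ : G) : Prop where
  hq : q₀ ∈ Q
  qb : pb (π t) (π q₀) = 1
  qt : q₀ * t * q₀⁻¹ = z * t
  hr : r₀ ∈ R
  rb : pb (π' z) (π' r₀) = 1
  rz : r₀ * z * r₀⁻¹ = t * z

namespace Pair

variable {z t : G} {Q R : Subgroup G} {π π' : G → V8} {ρ ρ' : G → qAut qm}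
  (P : Pair z t Q R π π' ρ ρ')

include P

theorem exists_swaps : ∃ q₀ r₀, Swaps z t Q R π π' q₀ r₀ := by
  obtain ⟨q, h1, h2, h3⟩ := P.exists_swap
  obtain ⟨r, g1, g2, g3⟩ := P.symm.exists_swap
  exact ⟨q, r, h1, h2, h3, g1, g2, g3⟩

theorem eb_mul (i j k l : ZMod 2) : eb z t i j * eb z t k l = eb z t (i + k) (j + l) := by
  unfold eb
  rw [← zb_mul P.S.z2, ← zb_mul P.S'.z2, mul_assoc, ← mul_assoc (zb t j), P.zb_comm_tt]
  simp only [mul_assoc]

theorem eb_zero : eb z t 0 0 = 1 := by rw [eb, zb_zero, zb_zero, one_mul]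

theorem eb_inv (i j : ZMod 2) : (eb z t i j)⁻¹ = eb z t i j :=
  inv_eq_of_mul_eq_one_right (by rw [P.eb_mul, CharTwo.add_self_eq_zero, CharTwo.add_self_eq_zero, P.eb_zero])

theorem eb_mem (i j : ZMod 2) : eb z t i j ∈ Q ∧ eb z t i j ∈ R := by
  rcases two_cases i with rfl | rfl <;> rcases two_cases j with rfl | rfl <;>
    simp [eb, zb_zero, zb_one, P.S.zQ, P.zR, P.tQ, P.S'.zQ, mul_mem P.S.zQ P.tQ, mul_mem P.zR P.S'.zQ]

theorem eb_comm {y : G} (hz : y * z = z * y) (ht : y * t = t * y) (i j : ZMod 2) :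
    y * eb z t i j = eb z t i j * y := P.E_central (P.eb_mem i j).1 (P.eb_mem i j).2 hz ht

theorem eb_inj {i j k l : ZMod 2} (h : eb z t i j = eb z t k l) : i = k ∧ j = l := by
  have h1 : eb z t (i + k) (j + l) = 1 := by rw [← P.eb_mul, h, P.eb_mul, CharTwo.add_self_eq_zero,
    CharTwo.add_self_eq_zero, P.eb_zero]
  obtain ⟨a, b⟩ := P.zb_ne h1
  exact ⟨CharTwo.add_eq_zero.1 a, CharTwo.add_eq_zero.1 b⟩

theorem eb_right_inj {i j k l : ZMod 2} {a : G} (h : eb z t i j * a = eb z t k l * a) : i = k ∧ j = l :=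
  P.eb_inj (mul_right_cancel h)

theorem pi_eb (i j : ZMod 2) : π (eb z t i j) = j • π t := by
  rcases two_cases i with rfl | rfl <;> rcases two_cases j with rfl | rfl
  · simp [eb, zb_zero, P.S.pi_one]
  · simp [eb, zb_zero, zb_one]
  · simp [eb, zb_zero, zb_one, P.S.pi_z]
  · simp [eb, zb_one, P.S.pi_zmul P.tQ]

theorem pi'_eb (i j : ZMod 2) : π' (eb z t i j) = i • π' z := by
  have h : eb z t i j = eb t z j i := by unfold eb; rw [P.zb_comm_tt]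
  rw [h]
  exact P.symm.pi_eb j i

theorem eb_of_E {a : G} (ha : a ∈ Q) (ha' : a ∈ R) : ∃ i j, a = eb z t i j := by
  rcases P.E_cases ha ha' with e | e | e | e <;> rw [e]
  · exact ⟨0, 0, by simp [eb, zb_zero]⟩
  · exact ⟨1, 0, by simp [eb, zb_zero, zb_one]⟩
  · exact ⟨0, 1, by simp [eb, zb_zero, zb_one]⟩
  · exact ⟨1, 1, by simp [eb, zb_one]⟩

theorem comm_eb {a b : G} (ha : a ∈ Q) (hat : a * t = t * a) (hb : b ∈ R) (hbz : b * z = z * b) :
    b * a * b⁻¹ = eb z t (pb (π a) (tv (π t) (ρ b))) (pb (π a) (tv (π t) (ρ b))) * a ∧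
    a * b * a⁻¹ = eb z t (pb (π a) (tv (π t) (ρ b))) (pb (π a) (tv (π t) (ρ b))) * b := by
  have h := P.comm_eq ha hat hb hbz
  constructor
  · rw [eb, ← h]; group
  · rw [← P.eb_inv, eb, ← h]; group

theorem conj_swap {q₀ : G} (hq : q₀ ∈ Q) (qt : q₀ * t * q₀⁻¹ = z * t) (i j : ZMod 2) :
    q₀ * eb z t i j * q₀⁻¹ = eb z t (i + j) j ∧ q₀⁻¹ * eb z t i j * q₀ = eb z t (i + j) j := by
  have h : ∀ i j, q₀ * eb z t i j * q₀⁻¹ = eb z t (i + j) j := fun i j => by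
    rcases two_cases j with rfl | rfl
    · rw [eb, eb, zb_zero, mul_one, mul_one, add_zero, P.S.zb_comm hq, mul_inv_cancel_right]
    · rw [eb, eb, zb_one, ← zb_mul P.S.z2, zb_one, mul_assoc (zb z i) z t, ← qt, ← mul_assoc, P.S.zb_comm hq]
      group
  refine ⟨h i j, ?_⟩
  have e := h (i + j) j
  rw [add_assoc, CharTwo.add_self_eq_zero, add_zero] at e
  rw [← e]
  group

theorem polar_eq {b b' : G} (hb : b ∈ R) (hbz : b * z = z * b) (hb' : b' ∈ R) (hbz' : b' * z = z * b') :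
    pb (π' b) (π' b') = pb (tv (π t) (ρ b)) (tv (π t) (ρ b')) := by
  have hz : b * b' * z = z * (b * b') := (Commute.mul_left (show Commute b z from hbz) hbz').eq
  have h1 := P.quad_eq (mul_mem hb hb') hz
  rw [pm_quad P.p_sing (P.w_mul hb hbz hb' hbz')
      (by rw [pb_add_right, P.w_perp hb hbz, P.w_perp hb' hbz', add_zero]),
    P.S'.pi_mul b hb b' hb', qm_add, qm_add, P.quad_eq hb hbz, P.quad_eq hb' hbz', add_right_inj] at h1
  exact h1.symm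

theorem w_class {b b' : G} (hb : b ∈ R) (hbz : b * z = z * b) (hb' : b' ∈ R) (hbz' : b' * z = z * b')
    (h : Pm (π t) (tv (π t) (ρ b) + tv (π t) (ρ b'))) : Pm (π' z) (π' b + π' b') := by
  obtain ⟨i, j, e⟩ := P.eb_of_E (P.w_eq hb hbz hb' hbz' h) (mul_mem (inv_mem hb) hb')
  rw [← P.S'.pi_inv hb, ← P.S'.pi_mul _ (inv_mem hb) _ hb', e, P.pi'_eb]
  rcases two_cases i with rfl | rfl
  · exact .inl (zero_smul _ _)
  · exact .inr (one_smul _ _)

section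

variable {x : G} {s w : V8} {q₀ r₀ : G} (I : Inv4 z t π ρ x s w) (W : Swaps z t Q R π π' q₀ r₀)

include I

theorem inv4_invol : ∀ v, (ρ x).1 ((ρ x).1 v) = v := fun v => by
  rw [← qAut_mul_apply, ← P.S.rho_mul x I.hx x I.hx, I.x2, P.S.rho_one]; rfl

theorem inv4_xz : x * z = z * x := mem_centralizer_singleton_iff.1 I.hx

theorem inv4_xct : x ∈ centralizer ({t} : Set G) := mem_centralizer_singleton_iff.2 I.ht

/-- `s` and `w` lie in the image modulo `p`. -/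
theorem inv4_image : ∃ u v, pb (π t) u = 0 ∧ Pm (π t) ((ρ x).1 u + u + s) ∧ pb (π t) v = 0 ∧
    Pm (π t) ((ρ x).1 v + v + w) := by
  obtain ⟨⟨u, hu, huw, hus⟩, v, hv, hvw, hvs⟩ := (fact_typ_one P.p_sing I.typ).2
  refine ⟨u, v, hu, ?_, hv, ?_⟩
  · have := I.lact.2 u hu
    rwa [huw, hus, one_smul, zero_smul, add_zero] at this
  · have := I.lact.2 v hv
    rwa [hvw, hvs, one_smul, zero_smul, zero_add] at this

theorem m4_of_pm {c : V8} (hc : pb (π t) c = 0) (h : Pm (π t) ((ρ x).1 c + c)) : M4 (π t) s w c := by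
  have h1 := h.add (I.lact.2 c hc)
  rw [add_cancel8] at h1
  obtain ⟨⟨u, hu, huw, hus⟩, v, hv, hvw, hvs⟩ := (fact_typ_one P.p_sing I.typ).2
  have e1 := h1.polar hu
  have e2 := h1.polar hv
  rw [pb_add_left, pb_smul_left, pb_smul_left, pb_comm s, hus, pb_comm w, huw, mul_zero, mul_one, zero_add] at e1
  rw [pb_add_left, pb_smul_left, pb_smul_left, pb_comm s, hvs, pb_comm w, hvw, mul_one, mul_zero, add_zero] at e2
  exact ⟨hc, by rw [pb_comm, e1], by rw [pb_comm, e2]⟩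

theorem pm_of_m4 {c : V8} (hc : M4 (π t) s w c) : Pm (π t) ((ρ x).1 c + c) := by
  have := I.lact.2 c hc.1
  rwa [pb_comm c w, hc.2.2, pb_comm c s, hc.2.1, zero_smul, zero_smul, add_zero, add_zero] at this

theorem d_perp {v : V8} : pb (π t) ((ρ x).1 v + v) = 0 := by
  rw [pb_comm, d_adj (P.inv4_invol I), I.lact.1, add_self8, pb_zero_right]

include W

theorem w0_m4 : M4 (π t) s w ((ρ x).1 (π q₀) + π q₀) := by
  obtain ⟨u, v, hu, hus, hv, hvw⟩ := P.inv4_image I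
  refine ⟨P.d_perp I, ?_, ?_⟩
  · rw [← pm_polar hus (P.d_perp I), d_iso (P.inv4_invol I)]
  · rw [← pm_polar hvw (P.d_perp I), d_iso (P.inv4_invol I)]

theorem exists_bit {c : V8} (hc : pb (π t) c = 0) (hd : Pm (π t) ((ρ x).1 c + c)) :
    ∃ i, Bit z t Q π x ((ρ x).1 (π q₀) + π q₀) c i := by
  obtain ⟨a, ha, rfl⟩ := P.S.pi_surj c
  have hμ : (ρ x).1 (π a) + π a = pb (π a) ((ρ x).1 (π q₀) + π q₀) • π t := by
    rw [← d_adj (P.inv4_invol I)]
    rcases hd with e | e <;> rw [e]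
    · rw [pb_zero_left, zero_smul]
    · rw [W.qb, one_smul]
  set l := pb (π a) ((ρ x).1 (π q₀) + π q₀) with hl
  have he := (P.eb_mem 0 l).1
  have e1 : π (x * a * x⁻¹) = π (eb z t 0 l * a) := by
    rw [P.S.rho_pi x I.hx a ha, P.S.pi_mul _ he a ha, P.pi_eb, ← hμ, add_assoc, add_self8, add_zero]
  obtain ⟨i, hi⟩ : ∃ i, x * a * x⁻¹ = eb z t i l * a := by
    rcases P.S.pi_eq (mul_mem he ha) (P.S.conj_mem I.hx ha) e1.symm with e | e
    · exact ⟨0, e⟩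
    · exact ⟨1, e.trans (by rw [← mul_assoc, eb, eb, zb_zero, zb_one, one_mul])⟩
  refine ⟨i, fun a' ha' hπ => ?_⟩
  rw [← hl]
  rcases P.S.pi_eq ha ha' hπ.symm with e | e <;> rw [e]
  · exact hi
  · rw [show x * (z * a) * x⁻¹ = x * z * (a * x⁻¹) by group, P.inv4_xz I,
      show z * x * (a * x⁻¹) = z * (x * a * x⁻¹) by group, hi, ← mul_assoc, ← mul_assoc,
      P.eb_comm rfl P.zt_comm]

theorem bit_unique {c : V8} {i j : ZMod 2} (h : Bit z t Q π x ((ρ x).1 (π q₀) + π q₀) c i)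
    (h' : Bit z t Q π x ((ρ x).1 (π q₀) + π q₀) c j) : i = j := by
  obtain ⟨a, ha, e⟩ := P.S.pi_surj c
  exact (P.eb_right_inj ((h a ha e).symm.trans (h' a ha e))).1

theorem bit_add {c c' : V8} {i j : ZMod 2} (hc : pb (π t) c = 0)
    (h : Bit z t Q π x ((ρ x).1 (π q₀) + π q₀) c i) (h' : Bit z t Q π x ((ρ x).1 (π q₀) + π q₀) c' j) :
    Bit z t Q π x ((ρ x).1 (π q₀) + π q₀) (c + c') (i + j) := by
  intro a' ha' hπ
  obtain ⟨a, ha, e⟩ := P.S.pi_surj c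
  have hr : a⁻¹ * a' ∈ Q := mul_mem (inv_mem ha) ha'
  have he : π (a⁻¹ * a') = c' := by rw [P.S.pi_mul _ (inv_mem ha) a' ha', P.S.pi_inv ha, e, hπ, add_cancel8]
  have hat : a * t = t * a := mem_centralizer_singleton_iff.1 ((P.mem_A ha).2 (e ▸ hc))
  rw [pb_add_left, show x * a' * x⁻¹ = (x * a * x⁻¹) * (x * (a⁻¹ * a') * x⁻¹) by group, h a ha e, h' _ hr he,
    ← P.eb_mul, show ∀ A B C D : G, A * B * (C * D) = A * (B * C) * D from fun A B C D => by group,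
    P.eb_comm (P.S.z_comm ha) hat]
  group

theorem bit_zero : Bit z t Q π x ((ρ x).1 (π q₀) + π q₀) 0 0 := by
  intro a ha hπ
  rw [pb_zero_left, P.eb_zero, one_mul]
  rcases (P.S.pi_ker a ha).1 hπ with e | e <;> rw [e]
  · group
  · rw [P.inv4_xz I]; group

theorem bit_smul {c : V8} {i : ZMod 2} (k : ZMod 2)
    (h : Bit z t Q π x ((ρ x).1 (π q₀) + π q₀) c i) : Bit z t Q π x ((ρ x).1 (π q₀) + π q₀) (k • c) (k * i) := by
  rcases two_cases k with rfl | rfl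
  · rw [zero_smul, zero_mul]; exact P.bit_zero I W
  · rwa [one_smul, one_mul]

theorem bit_range (v : V8) :
    Bit z t Q π x ((ρ x).1 (π q₀) + π q₀) ((ρ x).1 v + v) (qm ((ρ x).1 v + v)) := by
  intro a ha hπ
  rw [d_iso (P.inv4_invol I)]
  obtain ⟨q, hq, rfl⟩ := P.S.pi_surj v
  set a₁ := x * q * x⁻¹ * q⁻¹ with ha₁
  have h1 : a₁ ∈ Q := mul_mem (P.S.conj_mem I.hx hq) (inv_mem hq)
  have h2 : π a₁ = (ρ x).1 (π q) + π q := by
    rw [ha₁, P.S.pi_mul _ (P.S.conj_mem I.hx hq) _ (inv_mem hq), P.S.rho_pi x I.hx q hq, P.S.pi_inv hq]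
  have hxi : x⁻¹ = x := inv_eq_of_mul_eq_one_right I.x2
  have h3 : x * a₁ * x⁻¹ = a₁⁻¹ := by
    rw [ha₁, hxi]
    simp only [mul_inv_rev, inv_inv, hxi, mul_assoc]
    rw [← mul_assoc x x, I.x2, one_mul]
  have h4 : a₁⁻¹ = eb z t (qm ((ρ x).1 (π q) + π q)) 0 * a₁ := by
    refine inv_eq_of_mul_eq_one_right ?_
    rw [eb, zb_zero, mul_one, ← mul_assoc, P.S.zb_comm h1, mul_assoc, P.S.sq a₁ h1, h2, zb_mul P.S.z2,
      CharTwo.add_self_eq_zero, zb_zero]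
  rcases P.S.pi_eq h1 ha (h2.trans hπ.symm) with e | e <;> rw [e]
  · exact h3.trans h4
  · rw [show x * (z * a₁) * x⁻¹ = x * z * (a₁ * x⁻¹) by group, P.inv4_xz I,
      show z * x * (a₁ * x⁻¹) = z * (x * a₁ * x⁻¹) by group, h3, h4, ← mul_assoc, ← mul_assoc,
      P.eb_comm rfl P.zt_comm]
    rw [ha₁]; group

theorem bit_pm {c c' : V8} {i : ZMod 2} (hc : pb (π t) c = 0) (h : Pm (π t) (c + c'))
    (hb : Bit z t Q π x ((ρ x).1 (π q₀) + π q₀) c i) : Bit z t Q π x ((ρ x).1 (π q₀) + π q₀) c' i := by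
  have h0 : Bit z t Q π x ((ρ x).1 (π q₀) + π q₀) (c + c') 0 := by
    rcases h with e | e <;> rw [e]
    · exact P.bit_zero I W
    · intro a ha hπ
      rw [P.d_perp I, P.eb_zero, one_mul]
      rcases P.S.pi_eq P.tQ ha hπ.symm with e' | e' <;> rw [e']
      · rw [I.ht, mul_inv_cancel_right]
      · rw [show x * (z * t) = z * t * x from (Commute.mul_right (show Commute x z from P.inv4_xz I)
          (show Commute x t from I.ht)).eq, mul_inv_cancel_right]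
  have := P.bit_add I W hc hb h0
  rwa [add_cancel8, add_zero] at this

theorem bit_span {X : V8} (hX : Span3 (π t) s w X) : Bit z t Q π x ((ρ x).1 (π q₀) + π q₀) X 0 := by
  obtain ⟨α, β, γ, rfl⟩ := hX
  obtain ⟨u, v, hu, hus, hv, hvw⟩ := P.inv4_image I
  have hs : Bit z t Q π x ((ρ x).1 (π q₀) + π q₀) s 0 := by
    have h := P.bit_pm I W (P.d_perp I) hus (P.bit_range I W u)
    rwa [pm_quad P.p_sing hus I.typ.pv, I.typ.qv] at h
  have hw : Bit z t Q π x ((ρ x).1 (π q₀) + π q₀) w 0 := by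
    have h := P.bit_pm I W (P.d_perp I) hvw (P.bit_range I W v)
    rwa [pm_quad P.p_sing hvw I.typ.pu, I.typ.qu] at h
  have hp : Bit z t Q π x ((ρ x).1 (π q₀) + π q₀) (π t) 0 := by
    refine P.bit_pm I W (c := 0) (pb_zero_right _) (.inr (zero_add _)) (P.bit_zero I W)
  have h1 := P.bit_smul I W α hp
  have h2 := P.bit_smul I W β hs
  have h3 := P.bit_smul I W γ hw
  have hq : pb (π t) (α • π t) = 0 := by rw [pb_smul_right, pb_self, mul_zero]
  have := P.bit_add I W (by rw [pb_add_right, hq, pb_smul_right, I.typ.pv, mul_zero, add_zero])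
    (P.bit_add I W hq h1 h2) h3
  rwa [mul_zero, mul_zero, mul_zero, add_zero, add_zero] at this

theorem b0_facts : x * r₀ * x⁻¹ * r₀⁻¹ ∈ R ∧ x * r₀ * x⁻¹ * r₀⁻¹ * z = z * (x * r₀ * x⁻¹ * r₀⁻¹) := by
  refine ⟨mul_mem (P.S'.conj_mem (P.inv4_xct I) W.hr) (inv_mem W.hr), ?_⟩
  have hz := P.inv4_xz I
  have h1 : r₀⁻¹ * z * r₀ = t * z := by
    have e : r₀ * (t * z) * r₀⁻¹ = z := by
      rw [show r₀ * (t * z) * r₀⁻¹ = r₀ * t * r₀⁻¹ * (r₀ * z * r₀⁻¹) by group, W.rz,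
        P.S'.z_comm W.hr, mul_inv_cancel_right, ← mul_assoc, P.S'.z2, one_mul]
    conv_lhs => rw [← e]
    group
  have h2 : x * (t * z) * x⁻¹ = t * z := by
    rw [show x * (t * z) = t * z * x from (Commute.mul_right (show Commute x t from I.ht)
      (show Commute x z from hz)).eq, mul_inv_cancel_right]
  refine mul_inv_eq_iff_eq_mul.1 ?_
  calc x * r₀ * x⁻¹ * r₀⁻¹ * z * (x * r₀ * x⁻¹ * r₀⁻¹)⁻¹
      = x * (r₀ * (x⁻¹ * (r₀⁻¹ * z * r₀) * x) * r₀⁻¹) * x⁻¹ := by group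
    _ = x * (r₀ * (x⁻¹ * (x * (t * z) * x⁻¹) * x) * r₀⁻¹) * x⁻¹ := by rw [h1, h2]
    _ = x * (r₀ * t * r₀⁻¹ * (r₀ * z * r₀⁻¹)) * x⁻¹ := by group
    _ = x * z * x⁻¹ := by rw [W.rz, P.S'.z_comm W.hr, mul_inv_cancel_right, ← mul_assoc t, P.S'.z2, one_mul]
    _ = z := by rw [hz, mul_inv_cancel_right]

set_option maxHeartbeats 1000000 in
/-- The action on the second half. -/
theorem bside {b : G} (hb : b ∈ R) (hbz : b * z = z * b)
    (hd : Pm (π t) ((ρ x).1 (tv (π t) (ρ b)) + tv (π t) (ρ b))) :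
    ∃ j, x * b * x⁻¹ = eb z t (pb (tv (π t) (ρ b)) (tv (π t) (ρ (x * r₀ * x⁻¹ * r₀⁻¹)))) j * b ∧
      Bit z t Q π x ((ρ x).1 (π q₀) + π q₀) (tv (π t) (ρ b)) j ∧
      x * (q₀ * b * q₀⁻¹ * b⁻¹) * x⁻¹ =
        eb z t j (pb (tv (π t) (ρ b)) ((ρ x).1 (π q₀) + π q₀)) * (q₀ * b * q₀⁻¹ * b⁻¹) := by
  obtain ⟨h0, h0z⟩ := P.b0_facts I W
  obtain ⟨hbC, hbt⟩ := P.R_z hb hbz
  have hct := P.inv4_xct I
  have hxb : x * b * x⁻¹ ∈ R := P.S'.conj_mem hct hb
  have hxbz : x * b * x⁻¹ * z = z * (x * b * x⁻¹) :=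
    mem_centralizer_singleton_iff.1 (mul_mem (mul_mem I.hx hbC) (inv_mem I.hx))
  have hE : x * b * x⁻¹ * b⁻¹ ∈ Q := by
    have h1 := P.w_eq hb hbz hxb hxbz (pm_symm (pm_trans (P.w_conj hb hbz I.hx hct) hd))
    have h2 := P.S.conj_mem hbC h1
    rwa [show b * (b⁻¹ * (x * b * x⁻¹)) * b⁻¹ = x * b * x⁻¹ * b⁻¹ by group] at h2
  obtain ⟨i, j, hij⟩ := P.eb_of_E hE (mul_mem hxb (inv_mem hb))
  have hxb' : x * b * x⁻¹ = eb z t i j * b := by rw [← hij]; group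
  -- the first bit
  have hi : i = pb (tv (π t) (ρ b)) (tv (π t) (ρ (x * r₀ * x⁻¹ * r₀⁻¹))) := by
    have e1 : π' (x * b * x⁻¹ * b⁻¹) = (ρ' x).1 (π' b) + π' b := by
      rw [P.S'.pi_mul _ hxb _ (inv_mem hb), P.S'.rho_pi x hct b hb, P.S'.pi_inv hb]
    have e2 : π' (x * r₀ * x⁻¹ * r₀⁻¹) = (ρ' x).1 (π' r₀) + π' r₀ := by
      rw [P.S'.pi_mul _ (P.S'.conj_mem hct W.hr) _ (inv_mem W.hr), P.S'.rho_pi x hct r₀ W.hr, P.S'.pi_inv W.hr]
    have h' : ∀ v, (ρ' x).1 ((ρ' x).1 v) = v := fun v => by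
      rw [← qAut_mul_apply, ← P.S'.rho_mul x hct x hct, I.x2, P.S'.rho_one]; rfl
    rw [hij, P.pi'_eb] at e1
    rw [← P.polar_eq hb hbz h0 h0z, e2, ← d_adj h', ← e1, pb_smul_left, W.rb, mul_one]
  rw [hi] at hxb' hij
  set c := tv (π t) (ρ b) with hc
  have hcp : pb (π t) c = 0 := P.w_perp hb hbz
  -- the commutator with the swap
  set cA := q₀ * b * q₀⁻¹ * b⁻¹ with hcA
  have hcAQ : cA ∈ Q := by
    rw [hcA, show q₀ * b * q₀⁻¹ * b⁻¹ = q₀ * (b * q₀⁻¹ * b⁻¹) by group]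
    exact mul_mem W.hq (P.S.conj_mem hbC (inv_mem W.hq))
  have hcAπ : Pm (π t) (π cA + c) := by
    rw [hcA, show q₀ * b * q₀⁻¹ * b⁻¹ = q₀ * (b * q₀⁻¹ * b⁻¹) by group,
      P.S.pi_mul q₀ W.hq _ (P.S.conj_mem hbC (inv_mem W.hq)), P.S.rho_pi b hbC _ (inv_mem W.hq), P.S.pi_inv W.hq,
      add_comm (π q₀), inT_formula P.p_sing (P.inT hb hbz), W.qb, one_smul, one_smul, ← hc, add_comm, add_cancel8]
    rcases two_cases (pb (π q₀ + pt (π t)) c) with e | e <;> rw [e]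
    · exact .inl (zero_smul _ _)
    · exact .inr (one_smul _ _)
  have hcAp : pb (π t) (π cA) = 0 := by
    have h1 := hcAπ
    rcases h1 with e | e
    · rw [eq8 e, hcp]
    · rw [show π cA = c + π t by rw [← e, add_comm (π cA), add_cancel8], pb_add_right, hcp, pb_self, add_zero]
  have hcAt : cA * t = t * cA := mem_centralizer_singleton_iff.1 ((P.mem_A hcAQ).2 hcAp)
  -- the image of the swap
  set a₀ := x * q₀ * x⁻¹ * q₀⁻¹ with ha₀
  have ha₀Q : a₀ ∈ Q := mul_mem (P.S.conj_mem I.hx W.hq) (inv_mem W.hq)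
  have ha₀π : π a₀ = (ρ x).1 (π q₀) + π q₀ := by
    rw [ha₀, P.S.pi_mul _ (P.S.conj_mem I.hx W.hq) _ (inv_mem W.hq), P.S.rho_pi x I.hx q₀ W.hq, P.S.pi_inv W.hq]
  have ha₀t : a₀ * t = t * a₀ :=
    mem_centralizer_singleton_iff.1 ((P.mem_A ha₀Q).2 (ha₀π ▸ P.d_perp I))
  have hε : pb (π a₀) (π cA) = pb c ((ρ x).1 (π q₀) + π q₀) ∧ pb (π a₀) c = pb c ((ρ x).1 (π q₀) + π q₀) := by
    rw [ha₀π, pb_comm _ (π cA), pb_comm _ c]
    exact ⟨pm_polar hcAπ (P.d_perp I), rfl⟩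
  set ε := pb c ((ρ x).1 (π q₀) + π q₀) with hεdef
  set i' := pb c (tv (π t) (ρ (x * r₀ * x⁻¹ * r₀⁻¹))) with hi'
  have hcalc : x * cA * x⁻¹ = eb z t j ε * cA := by
    have e1 := (P.comm_eb ha₀Q ha₀t hb hbz).2
    rw [← hc, hε.2] at e1
    have e2 := P.S.comm ha₀Q hcAQ
    rw [hε.1] at e2
    have e3 := P.eb_inv i' j
    have k1 : ∀ k l, a₀ * eb z t k l = eb z t k l * a₀ := P.eb_comm (P.S.z_comm ha₀Q) ha₀t
    have k2 : ∀ k l, cA * eb z t k l = eb z t k l * cA := P.eb_comm (P.S.z_comm hcAQ) hcAt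
    have k3 : ∀ k l, b * eb z t k l = eb z t k l * b := P.eb_comm hbz (mem_centralizer_singleton_iff.1 hbt)
    calc x * cA * x⁻¹ = a₀ * (q₀ * (x * b * x⁻¹) * q₀⁻¹) * a₀⁻¹ * (x * b * x⁻¹)⁻¹ := by rw [hcA, ha₀]; group
      _ = a₀ * ((q₀ * eb z t i' j * q₀⁻¹) * (cA * b)) * a₀⁻¹ * (eb z t i' j * b)⁻¹ := by rw [hxb', hcA]; group
      _ = a₀ * eb z t (i' + j) j * cA * b * a₀⁻¹ * b⁻¹ * (eb z t i' j)⁻¹ := by
          rw [(P.conj_swap W.hq W.qt i' j).1]; group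
      _ = eb z t (i' + j) j * (a₀ * cA) * b * a₀⁻¹ * b⁻¹ * eb z t i' j := by rw [k1, e3]; group
      _ = eb z t (i' + j) j * zb z ε * cA * (a₀ * b * a₀⁻¹) * b⁻¹ * eb z t i' j := by rw [e2]; group
      _ = eb z t (i' + j) j * zb z ε * cA * (eb z t ε ε * eb z t i' j) := by rw [e1]; group
      _ = eb z t (i' + j) j * eb z t ε 0 * eb z t (ε + i') (ε + j) * cA := by
          rw [P.eb_mul, mul_assoc (_ * zb z ε) cA, k2, eb, eb, eb, zb_zero]; group
      _ = eb z t j ε * cA := by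
          rw [P.eb_mul, P.eb_mul]
          rw [(by decide : ∀ a b c : ZMod 2, a + b + c + (c + a) = b) i' j ε,
            (by decide : ∀ b c : ZMod 2, b + 0 + (c + b) = c) j ε]
  refine ⟨j, hxb', ?_, hcalc⟩
  obtain ⟨k, hk⟩ := P.exists_bit I W hcAp (by
    have h1 : Pm (π t) ((ρ x).1 (π cA) + (ρ x).1 c) := by rw [← map_add]; exact pm_map I.lact.1 hcAπ
    exact pm_trans (pm_trans h1 hd) (pm_symm hcAπ))
  have hkj : k = j := by
    have h1 := (hk cA hcAQ rfl).symm.trans hcalc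
    exact (P.eb_right_inj h1).1
  exact hkj ▸ P.bit_pm I W hcAp hcAπ hk

theorem v0_facts : M4 (π t) s w (tv (π t) (ρ (x * r₀ * x⁻¹ * r₀⁻¹))) ∧
    Bit z t Q π x ((ρ x).1 (π q₀) + π q₀) (tv (π t) (ρ (x * r₀ * x⁻¹ * r₀⁻¹)))
      (qm (tv (π t) (ρ (x * r₀ * x⁻¹ * r₀⁻¹)))) := by
  obtain ⟨hb, hbz⟩ := P.b0_facts I W
  obtain ⟨hbC, -⟩ := P.R_z hb hbz
  have hct := P.inv4_xct I
  set b := x * r₀ * x⁻¹ * r₀⁻¹ with hbdef
  have hxi : x⁻¹ = x := inv_eq_of_mul_eq_one_right I.x2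
  have h3 : x * b * x⁻¹ = b⁻¹ := by
    rw [hbdef, hxi]
    simp only [mul_inv_rev, inv_inv, hxi, mul_assoc]
    rw [← mul_assoc x x, I.x2, one_mul]
  have hd : Pm (π t) ((ρ x).1 (tv (π t) (ρ b)) + tv (π t) (ρ b)) := by
    have h1 := P.w_conj hb hbz I.hx hct
    rw [h3] at h1
    have hbiz : b⁻¹ * z = z * b⁻¹ := (Commute.inv_left (show Commute b z from hbz)).eq
    have h2 := P.w_mul (inv_mem hb) hbiz hb hbz
    rw [inv_mul_cancel, P.S.rho_one, tv_one, zero_add] at h2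
    exact pm_trans (pm_symm h1) h2
  obtain ⟨j, hj, hbit, -⟩ := P.bside I W hb hbz hd
  refine ⟨P.m4_of_pm I (P.w_perp hb hbz) hd, ?_⟩
  rw [← hbdef, pb_self, h3] at hj
  have h4 : b⁻¹ = eb z t 0 (qm (π' b)) * b := by
    refine inv_eq_of_mul_eq_one_right ?_
    rw [eb, zb_zero, one_mul, ← mul_assoc, P.S'.zb_comm hb, mul_assoc, P.S'.sq b hb, zb_mul P.S'.z2,
      CharTwo.add_self_eq_zero, zb_zero]
  rw [h4] at hj
  rw [P.quad_eq hb hbz, (P.eb_right_inj hj).2]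
  exact hbit

end

end Pair

end CfsgLib.CoType
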