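import Mathlib
import Cfsg.Agent.Lib.CoType.RankFour

/-!
The relation between the two images and the bit, and the fall of the rank.
-/

set_option autoImplicit false
set_option linter.style.haveILetI false
set_option linter.unusedSectionVars false
set_option linter.unusedSimpArgs false

namespace CfsgLib.CoType

open Subgroup CfsgLib.Classical

variable {G : Type*} [Group G] [Finite G]

theorem frame_cases : ∀ A₁ A₂ V₁ V₂ i₁ i₂ : ZMod 2, A₂ * i₁ + A₁ * i₂ = A₂ * A₁ → V₂ * i₁ + V₁ * i₂ = V₂ * V₁ →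
    ¬(i₁ + A₁ + V₁ = 1 ∧ i₂ + A₂ + V₂ = 1) → (A₁ = 0 ∧ A₂ = 0) ∨ (V₁ = 0 ∧ V₂ = 0) ∨ (A₁ = V₁ ∧ A₂ = V₂) := by
  decide

theorem eq8_add {a b c : V8} (h : a + b = c) : a = b + c := by rw [← h, add_comm a, add_cancel8]

namespace Pair

variable {z t : G} {Q R : Subgroup G} {π π' : G → V8} {ρ ρ' : G → qAut qm}
  (P : Pair z t Q R π π' ρ ρ')

include P

section

variable {x : G} {s w : V8} {q₀ r₀ : G} (I : Inv4 z t π ρ x s w) (W : Swaps z t Q R π π' q₀ r₀)

include I W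

/-- The invariant of the image. -/
theorem kappa {se : G} {R₂ : Subgroup G} {π₂ : G → V8} {ρ₂ : G → qAut qm} (P₂ : Pair z se Q R₂ π π₂ ρ ρ₂)
    (hse : π se = s) :
    ∃ vy, M4 (π t) s w vy ∧ qm vy = 0 ∧ ∀ c i, M4 (π t) s w c →
      Bit z t Q π x ((ρ x).1 (π q₀) + π q₀) c i →
      i + pb c ((ρ x).1 (π q₀) + π q₀) + pb c (tv (π t) (ρ (x * r₀ * x⁻¹ * r₀⁻¹))) = pb c vy := by
  have hws : pb (π se) w = 0 := by rw [hse, pb_comm, I.typ.uv]
  obtain ⟨y, hy, hyz, hyw⟩ := P₂.w_surj hws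
  obtain ⟨hyC, hyse⟩ := P₂.R_z hy hyz
  have htv : pb (π t) (π se) = 0 := by rw [hse, I.typ.pv]
  have hset : t * se = se * t := (P.S.commute_iff P.tQ P₂.tQ).2 htv
  -- `y` centralizes the classes orthogonal to `s` and `w`
  have hfix : ∀ a ∈ Q, pb s (π a) = 0 → pb w (π a) = 0 → y * a * y⁻¹ = a := fun a ha e1 e2 => by
    have has : a * se = se * a := (P.S.commute_iff ha P₂.tQ).2 (by rw [hse, pb_comm, e1])
    have h := (P₂.comm_eb ha has hy hyz).1
    rw [pb_comm, pm_polar hyw (by rw [hse, e1]), e2, P₂.eb_zero, one_mul] at h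
    exact h
  have hyt : y * t = t * y := mul_inv_eq_iff_eq_mul.1
    (hfix t P.tQ (by rw [pb_comm, I.typ.pv]) (by rw [pb_comm, I.typ.pu]))
  have hyq : qm (tv (π se) (ρ y)) = 0 := (pm_quad P₂.p_sing hyw hws).trans I.typ.qu
  have hy2 : y * y = 1 := by rw [P₂.S'.sq y hy, ← P₂.quad_eq hy hyz, hyq, zb_zero]
  have hin := P₂.inT hy hyz
  have Iy : Inv4 z t π ρ y s w := by
    refine ⟨hyC, hyt, hy2, I.typ, P.rho_p hyC (mem_centralizer_singleton_iff.2 hyt), fun v hv => ?_⟩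
    refine .inl ?_
    have hd := inT_formula P₂.p_sing hin v
    set l := pb (v + pb (π se) v • pt (π se)) (tv (π se) (ρ y)) with hl
    obtain ⟨δ, hδ⟩ : ∃ δ : ZMod 2, tv (π se) (ρ y) = w + δ • π se := by
      rcases hyw with e | e
      · exact ⟨0, by rw [zero_smul, add_zero, eq8 e]⟩
      · exact ⟨1, by rw [one_smul]; exact eq8_add e⟩
    have hd' : (ρ y).1 v + v = pb s v • w + (pb s v * δ + l) • s := by
      rw [hd, hδ, hse]; module
    have hq : qm ((ρ y).1 v + v) = 0 := by rw [inT_range_quad P₂.p_sing hin, hyq, mul_zero]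
    rw [d_quad, hd', pb_add_right, pb_smul_right, pb_smul_right, pb_comm v s] at hq
    have hl' : pb s v * δ + l = pb v w := by
      rcases two_cases (pb s v) with e | e
      · have hvs : pb v (π se) = 0 := by rw [hse, pb_comm, e]
        rw [hl, hse, e, zero_smul, add_zero, zero_mul, zero_add, ← hse, hδ, pb_add_right, pb_smul_right, hvs,
          mul_zero, add_zero]
      · simp only [e, one_mul, mul_one] at hq ⊢
        exact (CharTwo.add_eq_zero.1 hq).symm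
    rw [hd', hl', pb_comm v s, add_comm (pb s v • w)]
    exact add_self8 _
  -- the bits of `y`
  have hbit0 : ∀ c, M4 (π t) s w c → Bit z t Q π y ((ρ y).1 (π q₀) + π q₀) c 0 ∧
      pb c ((ρ y).1 (π q₀) + π q₀) = 0 := fun c hc => by
    obtain ⟨a, ha, rfl⟩ := P.S.pi_surj c
    obtain ⟨i, hi⟩ := P.exists_bit Iy W hc.1 (P.pm_of_m4 Iy hc)
    have h := hi a ha rfl
    rw [hfix a ha hc.2.1 hc.2.2] at h
    have h' : eb z t i (pb (π a) ((ρ y).1 (π q₀) + π q₀)) * a = eb z t 0 0 * a := by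
      rw [← h, P.eb_zero, one_mul]
    obtain ⟨rfl, e⟩ := P.eb_right_inj h'
    exact ⟨hi, e⟩
  obtain ⟨hvy, hvy'⟩ := P.v0_facts Iy W
  refine ⟨_, hvy, P.bit_unique Iy W hvy' (hbit0 _ hvy).1, fun c i hc hi => ?_⟩
  -- the quotient lies in the radical
  set u := y⁻¹ * x with hu
  have huC : u ∈ centralizer ({z} : Set G) := mul_mem (inv_mem hyC) I.hx
  have hut : u ∈ centralizer ({t} : Set G) :=
    mul_mem (inv_mem (mem_centralizer_singleton_iff.2 hyt)) (P.inv4_xct I)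
  have hyi : y⁻¹ = y := inv_eq_of_mul_eq_one_right hy2
  have huT : InT (π t) (ρ u) := by
    refine ⟨P.rho_p huC hut, fun v hv => ?_⟩
    rw [hu, hyi, P.S.rho_mul y hyC x I.hx, qAut_mul_apply]
    have hA := I.lact.2 v hv
    have hB := Iy.lact.2 v hv
    set L := pb v w • s + pb v s • w with hL
    have hLs : Span3 (π t) s w L := ⟨0, pb v w, pb v s, by rw [zero_smul, zero_add]⟩
    have hC := P.pm_of_m4 Iy (span3_m4 P.p_sing I.typ hLs).1
    have hA' := pm_map Iy.lact.1 hA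
    have := (hA'.add hB).add hC
    rw [map_add, map_add] at this
    rwa [show (ρ y).1 ((ρ x).1 v) + (ρ y).1 v + (ρ y).1 L + ((ρ y).1 v + v + L) + ((ρ y).1 L + L) =
      (ρ y).1 ((ρ x).1 v) + v by
        funext k
        simp only [Pi.add_apply]
        exact (by decide : ∀ a b c d e : ZMod 2, a + b + c + (b + d + e) + (c + e) = a + d) _ _ _ _ _] at this
  obtain ⟨b', hb', hbz', hbw'⟩ := P.w_surj (tv_perp P.p_sing huT)
  have hρb := inT_eq P.p_sing (P.inT hb' hbz') huT hbw'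
  obtain ⟨hbC', hbt'⟩ := P.R_z hb' hbz'
  set a' := u * b'⁻¹ with ha'def
  have ha' : a' ∈ Q := by
    refine (P.S.rho_ker _ (mul_mem huC (inv_mem hbC'))).1 ?_
    rw [P.S.rho_mul _ huC _ (inv_mem hbC'), P.S.rho_inv hbC', hρb, mul_inv_cancel]
  have hat' : a' * t = t * a' := mem_centralizer_singleton_iff.1 (mul_mem hut (inv_mem hbt'))
  have hxy : x = y * (a' * b') := by rw [ha'def, hu]; group
  have hyz' : y * z = z * y := hyz
  have hye : ∀ k l, y * eb z t k l * y⁻¹ = eb z t k l := fun k l => by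
    rw [P.eb_comm hyz' hyt, mul_inv_cancel_right]
  -- on the first half
  obtain ⟨a, ha, rfl⟩ := P.S.pi_surj c
  have hat : a * t = t * a := mem_centralizer_singleton_iff.1 ((P.mem_A ha).2 hc.1)
  set ε := pb (π a) (tv (π t) (ρ b')) with hε
  set η := pb (π a') (π a) with hη
  have h1 := hi a ha rfl
  have e1 : x * a * x⁻¹ = eb z t (ε + η) ε * a := by
    have e2 : a' * a * a'⁻¹ = eb z t η 0 * a := by
      rw [P.S.comm ha' ha, ← hη, eb, zb_zero, mul_one]; group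
    calc x * a * x⁻¹ = y * (a' * (b' * a * b'⁻¹) * a'⁻¹) * y⁻¹ := by rw [hxy]; group
      _ = y * ((a' * eb z t ε ε) * a * a'⁻¹) * y⁻¹ := by rw [(P.comm_eb ha hat hb' hbz').1, ← hε]; group
      _ = y * (eb z t ε ε * (a' * a * a'⁻¹)) * y⁻¹ := by rw [P.eb_comm (P.S.z_comm ha') hat']; group
      _ = (y * eb z t (ε + η) ε * y⁻¹) * (y * a * y⁻¹) := by
          rw [e2, ← mul_assoc (eb z t ε ε), P.eb_mul, add_zero]; group
      _ = eb z t (ε + η) ε * a := by rw [hye, hfix a ha hc.2.1 hc.2.2]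
  obtain ⟨hiε, hwε⟩ := P.eb_right_inj (h1.symm.trans e1)
  -- on the second half
  obtain ⟨b, hb, hbz, hbw⟩ := P.w_surj hc.1
  set c' := tv (π t) (ρ b) with hc'
  have hcp : pb (π t) c' = 0 := P.w_perp hb hbz
  have hc'4 : M4 (π t) s w c' := ⟨hcp, by rw [pb_comm, pm_polar hbw I.typ.pv, pb_comm, hc.2.1],
    by rw [pb_comm, pm_polar hbw I.typ.pu, pb_comm, hc.2.2]⟩
  obtain ⟨j, hj, -, -⟩ := P.bside I W hb hbz (P.pm_of_m4 I hc'4)
  obtain ⟨jy, hjy, -, -⟩ := P.bside Iy W hb hbz (P.pm_of_m4 Iy hc'4)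
  set vy := tv (π t) (ρ (y * r₀ * y⁻¹ * r₀⁻¹)) with hvydef
  set η' := pb (π a') c' with hη'
  set μ := pb (π' b') (π' b) with hμ
  have e3 : x * b * x⁻¹ = eb z t (η' + pb c' vy) (η' + μ + jy) * b := by
    have e4 : b' * b * b'⁻¹ = eb z t 0 μ * b := by
      rw [P.S'.comm hb' hb, ← hμ, eb, zb_zero, one_mul]; group
    calc x * b * x⁻¹ = y * (a' * (b' * b * b'⁻¹) * a'⁻¹) * y⁻¹ := by rw [hxy]; group
      _ = y * ((a' * eb z t 0 μ) * b * a'⁻¹) * y⁻¹ := by rw [e4]; group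
      _ = y * (eb z t 0 μ * (a' * b * a'⁻¹)) * y⁻¹ := by rw [P.eb_comm (P.S.z_comm ha') hat']; group
      _ = (y * eb z t η' (μ + η') * y⁻¹) * (y * b * y⁻¹) := by
          rw [(P.comm_eb ha' hat' hb hbz).2, ← hc', ← hη', ← mul_assoc (eb z t 0 μ), P.eb_mul, zero_add]; group
      _ = eb z t (η' + pb c' vy) (η' + μ + jy) * b := by
          rw [hye, hjy, ← hc', ← mul_assoc, P.eb_mul, add_comm μ η']
  have hv := (P.eb_right_inj (hj.symm.trans e3)).1
  have hη2 : η' = η := by rw [hη', hη, pb_comm, pm_polar hbw (P.perp ha' hat'), pb_comm]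
  rw [pm_polar hbw (P.v0_facts I W).1.1, hη2, pm_polar hbw hvy.1] at hv
  rw [hiε, hwε, hv]
  exact (by decide : ∀ a b d : ZMod 2, a + b + a + (b + d) = d) _ _ _

/-- Conjugating by the swap changes the second image by the first. -/
theorem twist {b : G} (hb : b ∈ R) (hbz : b * z = z * b)
    (hd : Pm (π t) ((ρ x).1 (tv (π t) (ρ b)) + tv (π t) (ρ b))) :
    ∃ j, q₀⁻¹ * x * q₀ * b * (q₀⁻¹ * x * q₀)⁻¹ =
      eb z t (pb (tv (π t) (ρ b)) (tv (π t) (ρ (x * r₀ * x⁻¹ * r₀⁻¹))) +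
        pb (tv (π t) (ρ b)) ((ρ x).1 (π q₀) + π q₀)) j * b := by
  obtain ⟨j, hj, -, hcA⟩ := P.bside I W hb hbz hd
  set ε := pb (tv (π t) (ρ b)) ((ρ x).1 (π q₀) + π q₀) with hε
  set i' := pb (tv (π t) (ρ b)) (tv (π t) (ρ (x * r₀ * x⁻¹ * r₀⁻¹))) with hi'
  obtain ⟨hbC, hbt⟩ := P.R_z hb hbz
  set cA := q₀ * b * q₀⁻¹ * b⁻¹ with hcAdef
  have hxcA : ∀ k l, cA * eb z t k l = eb z t k l * cA := fun k l => by
    refine P.eb_comm ?_ ?_ k l
    · exact mem_centralizer_singleton_iff.1 (mul_mem (mul_mem (mul_mem (P.S.le W.hq) hbC) (inv_mem (P.S.le W.hq)))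
        (inv_mem hbC))
    · have h1 : q₀⁻¹ * t * q₀ = z * t := by
        have := (P.conj_swap W.hq W.qt 0 1).2
        rw [eb, eb, zb_zero, zb_one, one_mul, zero_add, zb_one] at this
        exact this
      refine mul_inv_eq_iff_eq_mul.1 ?_
      have h2 : b * (z * t) * b⁻¹ = z * t := by
        rw [(Commute.mul_right (show Commute b z from hbz)
          (show Commute b t from mem_centralizer_singleton_iff.1 hbt)).eq, mul_inv_cancel_right]
      have h3 : b⁻¹ * t * b = t := by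
        rw [mul_assoc, ← mem_centralizer_singleton_iff.1 hbt, inv_mul_cancel_left]
      calc cA * t * cA⁻¹ = q₀ * (b * (q₀⁻¹ * (b⁻¹ * t * b) * q₀) * b⁻¹) * q₀⁻¹ := by rw [hcAdef]; group
        _ = q₀ * (q₀⁻¹ * t * q₀) * q₀⁻¹ := by rw [h3, h1, h2]
        _ = t := by group
  refine ⟨ε + j, ?_⟩
  calc q₀⁻¹ * x * q₀ * b * (q₀⁻¹ * x * q₀)⁻¹ = q₀⁻¹ * ((x * cA * x⁻¹) * (x * b * x⁻¹)) * q₀ := by
        rw [hcAdef]; group
    _ = q₀⁻¹ * (eb z t j ε * (cA * eb z t i' j) * b) * q₀ := by rw [hcA, hj]; group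
    _ = (q₀⁻¹ * eb z t (j + i') (ε + j) * q₀) * b := by
        rw [hxcA, ← mul_assoc (eb z t j ε), P.eb_mul, hcAdef]; group
    _ = eb z t (i' + ε) (ε + j) * b := by
        rw [(P.conj_swap W.hq W.qt _ _).2, (by decide : ∀ a b c : ZMod 2, b + a + (c + b) = a + c) i' j ε]

theorem inv4_swap : Inv4 z t π ρ (q₀⁻¹ * x * q₀) s w ∧ ρ (q₀⁻¹ * x * q₀) = ρ x := by
  have hqC := P.S.le W.hq
  have hρ : ρ (q₀⁻¹ * x * q₀) = ρ x := by
    rw [P.S.rho_mul _ (mul_mem (inv_mem hqC) I.hx) _ hqC, P.S.rho_mul _ (inv_mem hqC) _ I.hx,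
      P.S.rho_Q (inv_mem W.hq), P.S.rho_Q W.hq, one_mul, mul_one]
  refine ⟨⟨mul_mem (mul_mem (inv_mem hqC) I.hx) hqC, ?_, ?_, I.typ, hρ ▸ I.lact⟩, hρ⟩
  · have h1 : q₀ * t * q₀⁻¹ = eb z t 1 1 := by rw [W.qt, eb, zb_one, zb_one]
    have h2 := (P.conj_swap W.hq W.qt 1 1).2
    rw [show (1 : ZMod 2) + 1 = 0 from rfl, eb, eb, zb_one, zb_one, zb_zero, one_mul] at h2
    refine mul_inv_eq_iff_eq_mul.1 ?_
    calc q₀⁻¹ * x * q₀ * t * (q₀⁻¹ * x * q₀)⁻¹ = q₀⁻¹ * (x * (q₀ * t * q₀⁻¹) * x⁻¹) * q₀ := by group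
      _ = q₀⁻¹ * eb z t 1 1 * q₀ := by rw [h1, P.eb_comm (P.inv4_xz I) I.ht, mul_inv_cancel_right]
      _ = t := by rw [eb, zb_one, zb_one, h2]
  · rw [show q₀⁻¹ * x * q₀ * (q₀⁻¹ * x * q₀) = q₀⁻¹ * (x * x) * q₀ by group, I.x2, mul_one, inv_mul_cancel]

/-- When the second image is trivial the rank in the second frame is small. -/
theorem rank_of_span (hV : Span3 (π t) s w (tv (π t) (ρ (x * r₀ * x⁻¹ * r₀⁻¹)))) : qRank qm (ρ' x) ≠ 4 := by
  obtain ⟨bs, hbs, hbsz, hbsw⟩ := P.w_surj I.typ.pv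
  obtain ⟨bw, hbw, hbwz, hbww⟩ := P.w_surj I.typ.pu
  obtain ⟨hb0, hb0z⟩ := P.b0_facts I W
  have hct := P.inv4_xct I
  have hcls : ∀ b ∈ R, b * z = z * b → Span3 (π t) s w (tv (π t) (ρ b)) →
      Span3 (π' z) (π' bs) (π' bw) (π' b) := by
    rintro b hb hbz ⟨α, β, γ, e⟩
    obtain ⟨b1, hb1, hb1z, hb1w, hb1π⟩ : ∃ b1 ∈ R, b1 * z = z * b1 ∧ Pm (π t) (tv (π t) (ρ b1) + (β • s + γ • w)) ∧
        π' b1 = β • π' bs + γ • π' bw := by
      rcases two_cases β with rfl | rfl <;> rcases two_cases γ with rfl | rfl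
      · exact ⟨1, one_mem _, by group, by rw [P.S.rho_one, tv_one]; simp [Pm],
          by rw [P.S'.pi_one]; simp⟩
      · exact ⟨bw, hbw, hbwz, by simpa using hbww, by simp⟩
      · exact ⟨bs, hbs, hbsz, by simpa using hbsw, by simp⟩
      · refine ⟨bs * bw, mul_mem hbs hbw, (Commute.mul_left (show Commute bs z from hbsz) hbwz).eq, ?_,
          by rw [P.S'.pi_mul bs hbs bw hbw, one_smul, one_smul]⟩
        have h1 := hbsw.add hbww
        rw [add_add_add_comm] at h1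
        rw [one_smul, one_smul]
        exact pm_trans (P.w_mul hbs hbsz hbw hbwz) h1
    have hpm : Pm (π t) (tv (π t) (ρ b) + tv (π t) (ρ b1)) := by
      refine pm_trans ?_ (pm_symm hb1w)
      rw [e, show α • π t + β • s + γ • w + (β • s + γ • w) = α • π t by
        funext k
        simp only [Pi.add_apply, Pi.smul_apply, smul_eq_mul]
        exact (by decide : ∀ a b c : ZMod 2, a + b + c + (b + c) = a) _ _ _]
      rcases two_cases α with rfl | rfl
      · exact .inl (zero_smul _ _)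
      · exact .inr (one_smul _ _)
    obtain ⟨δ, hδ⟩ : ∃ δ : ZMod 2, π' b + π' b1 = δ • π' z := by
      rcases P.w_class hb hbz hb1 hb1z hpm with e' | e'
      · exact ⟨0, by rw [e', zero_smul]⟩
      · exact ⟨1, by rw [e', one_smul]⟩
    refine ⟨δ, β, γ, ?_⟩
    rw [add_assoc, ← hb1π, ← hδ, add_assoc, add_self8, add_zero]
  have hd : ∀ b ∈ R, π' (x * b * x⁻¹ * b⁻¹) = (ρ' x).1 (π' b) + π' b := fun b hb => by
    rw [P.S'.pi_mul _ (P.S'.conj_mem hct hb) _ (inv_mem hb), P.S'.rho_pi x hct b hb, P.S'.pi_inv hb]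
  have hin : ∀ b ∈ R, b * z = z * b → Span3 (π' z) (π' bs) (π' bw) ((ρ' x).1 (π' b) + π' b) := fun b hb hbz => by
    obtain ⟨hbC, -⟩ := P.R_z hb hbz
    have hxb : x * b * x⁻¹ ∈ R := P.S'.conj_mem hct hb
    have hxbz : x * b * x⁻¹ * z = z * (x * b * x⁻¹) :=
      mem_centralizer_singleton_iff.1 (mul_mem (mul_mem I.hx hbC) (inv_mem I.hx))
    have hbiz : b⁻¹ * z = z * b⁻¹ := (Commute.inv_left (show Commute b z from hbz)).eq
    rw [← hd b hb]
    refine hcls _ (mul_mem hxb (inv_mem hb))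
      (Commute.mul_left (show Commute (x * b * x⁻¹) z from hxbz) hbiz).eq ?_
    set c := tv (π t) (ρ b) with hc
    have hinv : Pm (π t) (c + tv (π t) (ρ b⁻¹)) := by
      have h2 := P.w_mul hb hbz (inv_mem hb) hbiz
      rwa [mul_inv_cancel, P.S.rho_one, tv_one, zero_add] at h2
    have h1 := pm_trans (P.w_mul hxb hxbz (inv_mem hb) hbiz)
      ((P.w_conj hb hbz I.hx hct).add (pm_symm hinv) |> fun h => by rwa [add_add_add_comm] at h)
    have h2 := pm_trans h1 (I.lact.2 c (P.w_perp hb hbz) |> fun h => by exact h)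
    rcases h2 with e | e
    · exact ⟨0, pb c w, pb c s, by rw [zero_smul, zero_add]; exact eq8 e⟩
    · refine ⟨1, pb c w, pb c s, ?_⟩
      rw [one_smul, eq8_add e]
      abel
  refine rank_ne_four (a := π' z) (b := π' bs) (c := π' bw) fun v => ?_
  obtain ⟨r, hr, rfl⟩ := P.S'.pi_surj v
  rcases two_cases (pb (π' z) (π' r)) with e | e
  · exact hin r hr (mem_centralizer_singleton_iff.1 ((P.symm.mem_A hr).2 e))
  · have hr1 : r₀⁻¹ * r ∈ R := mul_mem (inv_mem W.hr) hr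
    have h1 : π' (r₀⁻¹ * r) = π' r₀ + π' r := by rw [P.S'.pi_mul _ (inv_mem W.hr) r hr, P.S'.pi_inv W.hr]
    have h2 : pb (π' z) (π' (r₀⁻¹ * r)) = 0 := by rw [h1, pb_add_right, W.rb, e]; rfl
    obtain ⟨α, β, γ, e1⟩ := hin _ hr1 (mem_centralizer_singleton_iff.1 ((P.symm.mem_A hr1).2 h2))
    obtain ⟨α', β', γ', e2⟩ := hcls _ hb0 hb0z hV
    rw [hd r₀ W.hr] at e2
    refine ⟨α + α', β + β', γ + γ', ?_⟩
    rw [h1, map_add] at e1
    calc (ρ' x).1 (π' r) + π' r = ((ρ' x).1 (π' r₀) + (ρ' x).1 (π' r) + (π' r₀ + π' r)) +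
          ((ρ' x).1 (π' r₀) + π' r₀) := by
            funext k
            simp only [Pi.add_apply]
            exact (by decide : ∀ a b c d : ZMod 2, b + d = a + b + (c + d) + (a + c)) _ _ _ _
      _ = _ := by rw [e1, e2]; module

end

/-- An involution of rank four has a conjugate of smaller rank in the second frame. -/
theorem rank_four {x : G} {s w : V8} (I : Inv4 z t π ρ x s w) {se : G} {R₂ : Subgroup G} {π₂ : G → V8}
    {ρ₂ : G → qAut qm} (P₂ : Pair z se Q R₂ π π₂ ρ ρ₂) (hse : π se = s) (h4 : qRank qm (ρ x) = 4) :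
    ∃ x', IsConj x x' ∧ x' ∈ centralizer ({t} : Set G) ∧ x' * x' = 1 ∧ qRank qm (ρ' x') ≠ 4 := by
  obtain ⟨q₀, r₀, W⟩ := P.exists_swaps
  obtain ⟨e, f, he, hf, qe, qf, hef, hdec⟩ := fact_frame P.p_sing I.typ
  obtain ⟨vy, hvy, qvy, hk⟩ := P.kappa I W P₂ hse
  obtain ⟨hV, hVb⟩ := P.v0_facts I W
  have hA := P.w0_m4 I W
  set A := (ρ x).1 (π q₀) + π q₀ with hAdef
  set V := tv (π t) (ρ (x * r₀ * x⁻¹ * r₀⁻¹)) with hVdef
  obtain ⟨i₁, hi₁⟩ := P.exists_bit I W he.1 (P.pm_of_m4 I he)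
  obtain ⟨i₂, hi₂⟩ := P.exists_bit I W hf.1 (P.pm_of_m4 I hf)
  have hval : ∀ y, M4 (π t) s w y → Bit z t Q π x A y (qm y) →
      pb f y * i₁ + pb e y * i₂ = pb f y * pb e y := fun y hy hby => by
    obtain ⟨X, hX, hyX⟩ := hdec y hy
    obtain ⟨q1, -, -⟩ := frame_quad P.p_sing I.typ he hf qe qf hef hX hyX
    have h1 := P.bit_smul I W (pb y f) hi₁
    have h2 := P.bit_smul I W (pb y e) hi₂
    have hp1 : pb (π t) (pb y f • e) = 0 := by rw [pb_smul_right, he.1, mul_zero]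
    have h3 := P.bit_add I W (by rw [pb_add_right, hp1, pb_smul_right, hf.1, mul_zero, add_zero])
      (P.bit_add I W hp1 h1 h2) (P.bit_span I W hX)
    rw [← hyX, add_zero] at h3
    have := P.bit_unique I W h3 hby
    rw [q1] at this
    rw [pb_comm f, pb_comm e]
    exact this
  have hA' := hval A hA (P.bit_range I W (π q₀))
  have hV' := hval V hV hVb
  have hnot : ¬(i₁ + pb e A + pb e V = 1 ∧ i₂ + pb f A + pb f V = 1) := by
    rw [hk e i₁ he hi₁, hk f i₂ hf hi₂]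
    rintro ⟨h1, h2⟩
    obtain ⟨X, hX, hvX⟩ := hdec vy hvy
    obtain ⟨q1, -, -⟩ := frame_quad P.p_sing I.typ he hf qe qf hef hX hvX
    rw [qvy, pb_comm vy f, h2, pb_comm vy e, h1] at q1
    exact zero_ne_one (q1.trans (mul_one 1))
  have hspan : ∀ y, M4 (π t) s w y → pb e y = 0 → pb f y = 0 → Span3 (π t) s w y := fun y hy h1 h2 => by
    obtain ⟨X, hX, hyX⟩ := hdec y hy
    rw [pb_comm y f, h2, pb_comm y e, h1, zero_smul, zero_smul, zero_add, zero_add] at hyX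
    exact hyX ▸ hX
  rcases frame_cases _ _ _ _ _ _ hA' hV' hnot with ⟨a1, a2⟩ | ⟨v1, v2⟩ | ⟨c1, c2⟩
  · -- the rank is not four
    exfalso
    obtain ⟨α, β, γ, eA⟩ := hspan A hA a1 a2
    refine rank_ne_four (a := π t) (b := s) (c := w) (fun v => ?_) h4
    set v' := v + pb (π t) v • π q₀ with hv'
    have hv'p : pb (π t) v' = 0 := by
      rw [hv', pb_add_right, pb_smul_right, W.qb, mul_one, CharTwo.add_self_eq_zero]
    obtain ⟨δ, hδ⟩ : ∃ δ : ZMod 2, (ρ x).1 v' + v' + (pb v' w • s + pb v' s • w) = δ • π t := by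
      rcases I.lact.2 v' hv'p with e | e <;> rw [e]
      · exact ⟨0, (zero_smul _ _).symm⟩
      · exact ⟨1, (one_smul _ _).symm⟩
    refine ⟨δ + pb (π t) v * α, pb v' w + pb (π t) v * β, pb v' s + pb (π t) v * γ, ?_⟩
    calc (ρ x).1 v + v = ((ρ x).1 v' + v' + (pb v' w • s + pb v' s • w)) + (pb v' w • s + pb v' s • w) +
          pb (π t) v • A := by
            rw [hv', hAdef]
            simp only [map_add, map_smul]
            funext k
            simp only [Pi.add_apply, Pi.smul_apply, smul_eq_mul]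
            exact (by decide : ∀ a b c d e f : ZMod 2,
              a + b = a + c * d + (b + c * e) + f + f + c * (d + e)) _ _ _ _ _ _
      _ = _ := by rw [hδ, eA]; module
  · refine ⟨x, IsConj.refl x, P.inv4_xct I, I.x2, P.rank_of_span I W ?_⟩
    exact hspan V hV v1 v2
  · obtain ⟨I₃, hρ₃⟩ := P.inv4_swap I W
    refine ⟨q₀⁻¹ * x * q₀, ?_, P.inv4_xct I₃, I₃.x2, P.rank_of_span I₃ W ?_⟩
    · exact isConj_iff.2 ⟨q₀⁻¹, by rw [inv_inv]⟩
    obtain ⟨hV₃, -⟩ := P.v0_facts I₃ W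
    have hpair : ∀ c, M4 (π t) s w c → pb c (tv (π t) (ρ (q₀⁻¹ * x * q₀ * r₀ * (q₀⁻¹ * x * q₀)⁻¹ * r₀⁻¹))) =
        pb c V + pb c A := fun c hc => by
      obtain ⟨b, hb, hbz, hbw⟩ := P.w_surj hc.1
      have hc' : M4 (π t) s w (tv (π t) (ρ b)) := ⟨P.w_perp hb hbz,
        by rw [pb_comm, pm_polar hbw I.typ.pv, pb_comm, hc.2.1],
        by rw [pb_comm, pm_polar hbw I.typ.pu, pb_comm, hc.2.2]⟩
      obtain ⟨j, hj, -, -⟩ := P.bside I₃ W hb hbz (P.pm_of_m4 I₃ hc')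
      obtain ⟨j', hj'⟩ := P.twist I W hb hbz (P.pm_of_m4 I hc')
      have := (P.eb_right_inj (hj.symm.trans hj')).1
      rwa [pm_polar hbw hV₃.1, pm_polar hbw hV.1, pm_polar hbw hA.1] at this
    refine hspan _ hV₃ ?_ ?_
    · rw [hpair e he, c1, CharTwo.add_self_eq_zero]
    · rw [hpair f hf, c2, CharTwo.add_self_eq_zero]

end Pair

end CfsgLib.CoType
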