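import Mathlib
import Cfsg.Agent.Lib.CoType.RankFourMain

/-!
At most three classes of involutions.
-/

set_option autoImplicit false
set_option linter.style.haveILetI false
set_option linter.unusedSectionVars false
set_option linter.unusedSimpArgs false

namespace CfsgLib.CoType

open Subgroup CfsgLib.Classical

variable {G : Type*} [Group G] [Finite G]

/-- A pair of conjugate involutions, with the relation symmetrical on the class. -/
structure Config (z t : G) (Q R : Subgroup G) (π π' : G → V8) (ρ ρ' : G → qAut qm) : Prop where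
  P : Pair z t Q R π π' ρ ρ'
  conj_t : ∃ g : G, g * z * g⁻¹ = t ∧ R = Q.map (MulAut.conj g).toMonoidHom ∧ ∀ x, ρ' x = ρ (g⁻¹ * x * g)
  hsymm : ∀ g : G, g * z * g⁻¹ ∈ Q → g⁻¹ * z * g ∈ Q

omit [Finite G] in
theorem mem_conj_iff {Q : Subgroup G} {g x : G} : x ∈ Q.map (MulAut.conj g).toMonoidHom ↔ g⁻¹ * x * g ∈ Q :=
  ⟨fun ⟨w, hw, hwx⟩ => by rw [← hwx]; simpa [mul_assoc] using hw, fun h => ⟨_, h, by simp [mul_assoc]⟩⟩

namespace Config

variable {z t : G} {Q R : Subgroup G} {π π' : G → V8} {ρ ρ' : G → qAut qm}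
  (C : Config z t Q R π π' ρ ρ')

include C

theorem zt : IsConj z t := by
  obtain ⟨g, hg, -⟩ := C.conj_t
  exact isConj_iff.2 ⟨g, hg⟩

/-- The frame at a conjugate of `z` in `Q`. -/
theorem pair_at {g : G} (hg : g * z * g⁻¹ ∈ Q) (hne : g * z * g⁻¹ ≠ z) :
    Config z (g * z * g⁻¹) Q (Q.map (MulAut.conj g).toMonoidHom) π (fun x => π (g⁻¹ * x * g)) ρ
      (fun x => ρ (g⁻¹ * x * g)) :=
  ⟨⟨C.P.S, C.P.S.conj g, hg, mem_conj_iff.2 (C.hsymm g hg), hne⟩, ⟨g, rfl, rfl, fun _ => rfl⟩, C.hsymm⟩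

/-- The frame at a lift of a singular class. -/
theorem third {s : V8} (hs : SVec (π t) s) :
    ∃ g : G, g * z * g⁻¹ ∈ Q ∧ g * z * g⁻¹ ≠ z ∧ π (g * z * g⁻¹) = s := by
  obtain ⟨a, ha, rfl⟩ := C.P.S.pi_surj s
  have h2 : a * a = 1 := by rw [C.P.S.sq a ha, hs.1, zb_zero]
  have hne : a ≠ z := fun h => hs.2.2 (.inl (by rw [h, C.P.S.pi_z]))
  have h1 : a ≠ 1 := fun h => hs.2.2 (.inl (by rw [h, C.P.S.pi_one]))
  obtain ⟨g, hg⟩ := isConj_iff.1 (C.P.q_conj C.zt ha h2 h1)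
  exact ⟨g, hg ▸ ha, hg ▸ hne, by rw [hg]⟩

theorem classify_inT {x : G} (hx : x ∈ centralizer ({z} : Set G)) (hxQ : x ∉ Q) (hx2 : x * x = 1)
    (hin : ∃ p₀, Sing p₀ ∧ InT p₀ (ρ x)) : IsConj x z ∨ ∃ c y, TypeC z t Q R π ρ c y ∧ IsConj x y := by
  obtain ⟨p₀, hp₀, hin⟩ := hin
  obtain ⟨c, hc, a, b, ha, hat, hb, hbz, hbQ, hcx⟩ := C.P.to_U hx hxQ hx2 hp₀ hin
  have hab : a * b * (a * b) = 1 := by
    rw [← hcx, show c * x * c⁻¹ * (c * x * c⁻¹) = c * (x * x) * c⁻¹ by group, hx2, mul_one, mul_inv_cancel]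
  have hconj : IsConj x (a * b) := isConj_iff.2 ⟨c, hcx⟩
  rcases C.P.rad_cases ha hat hb hbz hbQ hab with h | ⟨k, h⟩
  · exact .inl (hconj.trans (C.P.conj_z_of_zero C.zt ha hat hb hbz hbQ hab h).symm)
  · exact .inr ⟨k, a * b, h, hconj⟩

theorem classify_rank {x : G} (hx : x ∈ centralizer ({z} : Set G)) (hx2 : x * x = 1) (hx1 : x ≠ 1)
    (h4 : qRank qm (ρ x) ≠ 4) : IsConj x z ∨ ∃ c y, TypeC z t Q R π ρ c y ∧ IsConj x y := by
  by_cases hxQ : x ∈ Q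
  · exact .inl (C.P.q_conj C.zt hxQ hx2 hx1).symm
  have h2 : ∀ v, (ρ x).1 ((ρ x).1 v) = v := fun v => by
    rw [← qAut_mul_apply, ← C.P.S.rho_mul x hx x hx, hx2, C.P.S.rho_one]; rfl
  refine C.classify_inT hx hxQ hx2 (exists_inT_of_invol h2 ?_)
  exact (rank_cases h2 (C.P.S.rho_mem hx) fun h => hxQ ((C.P.S.rho_ker x hx).1 h)).resolve_right h4

theorem classify_C {x : G} (hx : x ∈ centralizer ({z} : Set G)) (hx2 : x * x = 1) (hx1 : x ≠ 1) :
    IsConj x z ∨ ∃ c y, TypeC z t Q R π ρ c y ∧ IsConj x y := by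
  by_cases h4 : qRank qm (ρ x) ≠ 4
  · exact C.classify_rank hx hx2 hx1 h4
  push Not at h4
  have h2 : ∀ v, (ρ x).1 ((ρ x).1 v) = v := fun v => by
    rw [← qAut_mul_apply, ← C.P.S.rho_mul x hx x hx, hx2, C.P.S.rho_one]; rfl
  obtain ⟨p₀, hp₀, gp₀, hts₀⟩ := exists_point h2 h4
  obtain ⟨k, hk, kp⟩ := ev_sing hp₀ C.P.p_sing
  obtain ⟨c, hc, rfl⟩ := (C.P.S.rho_range k).1 hk
  set y := c * x * c⁻¹ with hy
  have hyC : y ∈ centralizer ({z} : Set G) := mul_mem (mul_mem hc hx) (inv_mem hc)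
  have hy2 : y * y = 1 := by
    rw [hy, show c * x * c⁻¹ * (c * x * c⁻¹) = c * (x * x) * c⁻¹ by group, hx2, mul_one, mul_inv_cancel]
  have hxy : IsConj x y := isConj_iff.2 ⟨c, rfl⟩
  suffices IsConj y z ∨ ∃ c y', TypeC z t Q R π ρ c y' ∧ IsConj y y' by
    rcases this with h | ⟨c', y', h, h'⟩
    · exact .inl (hxy.trans h)
    · exact .inr ⟨c', y', h, hxy.trans h'⟩
  by_cases h4y : qRank qm (ρ y) ≠ 4
  · exact C.classify_rank hyC hy2 (fun h => hx1 (conj_eq_one_iff.1 h)) h4y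
  push Not at h4y
  have h2y : ∀ v, (ρ y).1 ((ρ y).1 v) = v := fun v => by
    rw [← qAut_mul_apply, ← C.P.S.rho_mul y hyC y hyC, hy2, C.P.S.rho_one]; rfl
  have hd : ∀ v, (ρ y).1 ((ρ c).1 v) + (ρ c).1 v = (ρ c).1 ((ρ x).1 v + v) := fun v => by
    rw [hy, C.P.S.rho_mul (c * x) (mul_mem hc hx) c⁻¹ (inv_mem hc), C.P.S.rho_mul c hc x hx, C.P.S.rho_inv hc,
      qAut_mul_apply, qAut_mul_apply, show ((ρ c)⁻¹).1 ((ρ c).1 v) = v by
        rw [← qAut_mul_apply, inv_mul_cancel]; rfl, map_add]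
  have gp : (ρ y).1 (π t) = π t := by
    refine eq8 ?_
    rw [← kp, hd, gp₀, add_self8, map_zero]
  have hts : ∀ v, pb (π t) v = 0 → qm ((ρ y).1 v + v) = 0 := fun v hv => by
    obtain ⟨u, rfl⟩ := (ρ c).1.surjective v
    rw [hd, qAut_map]
    exact hts₀ u (by rwa [← kp, pb_map] at hv)
  -- `y` centralizes `t`
  have hyt : y * t = t * y := by
    obtain ⟨v, hv⟩ := (rank_le_four h2y).2 h4y (π t) gp
    obtain ⟨q, hq, rfl⟩ := C.P.S.pi_surj v
    set a := y * q * y⁻¹ * q⁻¹ with ha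
    have haQ : a ∈ Q := mul_mem (C.P.S.conj_mem hyC hq) (inv_mem hq)
    have haπ : π a = π t := by
      rw [ha, C.P.S.pi_mul _ (C.P.S.conj_mem hyC hq) _ (inv_mem hq), C.P.S.rho_pi y hyC q hq, C.P.S.pi_inv hq, hv]
    have hyi : y⁻¹ = y := inv_eq_of_mul_eq_one_right hy2
    have hai : a⁻¹ = a := inv_eq_of_mul_eq_one_right (by rw [C.P.S.sq a haQ, haπ, C.P.p_sing.2, zb_zero])
    have h3 : y * a * y⁻¹ = a := by
      conv_rhs => rw [← hai]
      rw [ha, hyi]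
      simp only [mul_inv_rev, inv_inv, hyi, mul_assoc]
      rw [← mul_assoc y y, hy2, one_mul]
    have hza : y * a = a * y := mul_inv_eq_iff_eq_mul.1 h3
    rcases C.P.S.pi_eq haQ C.P.tQ haπ with e | e <;> rw [e]
    · exact hza
    · exact (Commute.mul_right (show Commute y z from mem_centralizer_singleton_iff.1 hyC)
        (show Commute y a from hza)).eq
  by_cases hin : InT (π t) (ρ y)
  · refine C.classify_inT hyC (fun h => ?_) hy2 ⟨_, C.P.p_sing, hin⟩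
    rw [C.P.S.rho_Q h] at h4y
    rw [qRank_one] at h4y
    omega
  obtain ⟨s, w, hT, hL⟩ := exists_lact h2y C.P.p_sing gp hts hin
  have I : Inv4 z t π ρ y s w := ⟨hyC, hyt, hy2, hT, hL⟩
  obtain ⟨g₂, hg₂, hne₂, hπ₂⟩ := C.third (s := s) ⟨hT.qv, hT.pv, hT.nv⟩
  obtain ⟨x', hc', hx't, hx'2, hr⟩ := C.P.rank_four I (C.pair_at hg₂ hne₂).P hπ₂ h4y
  obtain ⟨g, hg, -, hρ'⟩ := C.conj_t
  rw [hρ'] at hr
  have hC' : g⁻¹ * x' * g ∈ centralizer ({z} : Set G) := by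
    rw [mem_centralizer_singleton_iff]
    calc g⁻¹ * x' * g * z = g⁻¹ * (x' * (g * z * g⁻¹)) * g := by group
      _ = g⁻¹ * ((g * z * g⁻¹) * x') * g := by rw [hg, mem_centralizer_singleton_iff.1 hx't]
      _ = z * (g⁻¹ * x' * g) := by group
  have hne : x' ≠ 1 := fun h => hx1 (by
    rw [h] at hc'
    exact isConj_one_left.1 (hxy.trans hc'))
  have hconj : IsConj y (g⁻¹ * x' * g) := hc'.trans (isConj_iff.2 ⟨g⁻¹, by rw [inv_inv]⟩)
  rcases C.classify_rank hC' (by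
      rw [show g⁻¹ * x' * g * (g⁻¹ * x' * g) = g⁻¹ * (x' * x') * g by group, hx'2, mul_one, inv_mul_cancel])
      (fun h => hne (by rw [show x' = g * (g⁻¹ * x' * g) * g⁻¹ by group, h, mul_one, mul_inv_cancel])) hr with
    h | ⟨c', y', h, h'⟩
  · exact .inl (hconj.trans h)
  · exact .inr ⟨c', y', h, hconj.trans h'⟩

/-- At most three classes. -/
theorem classes {x₀ x₁ : G} (h₀ : TypeC z t Q R π ρ 0 x₀) (h₁ : TypeC z t Q R π ρ 1 x₁) {v : G} (hv : v * v = 1)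
    (hv1 : v ≠ 1) : IsConj v z ∨ IsConj v x₀ ∨ IsConj v x₁ := by
  obtain ⟨g, hg⟩ := C.P.S.conj_into hv
  have hvg : IsConj v (g * v * g⁻¹) := isConj_conj_self g v
  rcases C.classify_C hg (by
      rw [show g * v * g⁻¹ * (g * v * g⁻¹) = g * (v * v) * g⁻¹ by group, hv, mul_one, mul_inv_cancel])
      (fun h => hv1 (conj_eq_one_iff.1 h)) with h | ⟨c, y, hy, h⟩
  · exact .inl (hvg.trans h)
  · rcases two_cases c with rfl | rfl
    · obtain ⟨d, -, -, hd⟩ := C.P.typeC_conj hy h₀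
      exact .inr (.inl ((hvg.trans h).trans (isConj_iff.2 ⟨d, hd⟩)))
    · obtain ⟨d, -, -, hd⟩ := C.P.typeC_conj hy h₁
      exact .inr (.inr ((hvg.trans h).trans (isConj_iff.2 ⟨d, hd⟩)))

end Config

end CfsgLib.CoType
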