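import Mathlib
import Cfsg.Agent.Lib.CoType.Classify

/-!
The radical part of the centralizer of a representative, its mover, and what centralizes both.
-/

set_option autoImplicit false
set_option linter.style.haveILetI false
set_option linter.unusedSectionVars false
set_option linter.unusedSimpArgs false

namespace CfsgLib.CoType

open Subgroup CfsgLib.Classical

variable {G : Type*} [Group G] [Finite G]

theorem Typ.symm {p : V8} {c : ZMod 2} {v u : V8} (h : Typ p c v u) : Typ p c u v :=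
  ⟨h.qu, h.pu, h.nu, h.qv, h.pv, h.nv, by rw [pb_comm, h.uv], fun e => h.ne (by rwa [add_comm])⟩

theorem Typ.shift {p : V8} (hp : Sing p) {c : ZMod 2} {v u : V8} (h : Typ p c v u) : Typ p c v (u + v) := by
  refine ⟨h.qv, h.pv, h.nv, ?_, by rw [pb_add_right, h.pu, h.pv, add_zero], h.ne, ?_, ?_⟩
  · rw [qm_add, h.qu, h.qv, h.uv, CharTwo.add_self_eq_zero, zero_add]
  · rw [pb_add_left, h.uv, pb_self, add_zero]
  · rw [add_assoc, add_self8, add_zero]; exact h.nu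

theorem centre_solve : ∀ a₁ a₂ b₁ b₂ : ZMod 2, (∀ Y₁ Y₂ : ZMod 2,
    a₁ * Y₁ + a₂ * Y₂ + (a₁ * (Y₁ + Y₂) + a₂ * Y₁) + (b₁ * Y₁ + b₂ * Y₂) = 0) → b₁ = a₂ ∧ b₂ = a₁ + a₂ := by
  decide

/-- A vector orthogonal to the common perpendicular of three is in their span. -/
theorem span_of_perp {p v u : V8} {c : ZMod 2} (hp : Sing p) (h : Typ p c v u) {X : V8} (hX : pb p X = 0)
    (hy : ∀ y, pb p y = 0 → pb y u = 0 → pb y v = 0 → pb X y = 0) :
    ∃ α β : ZMod 2, Pm p (X + (α • u + β • v)) := by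
  obtain ⟨⟨du, hdu, duu, duv⟩, dv, hdv, dvu, dvv⟩ := (fact_typ_one hp h).2
  refine ⟨pb X du, pb X dv, fact_perp hp fun y hy' => ?_⟩
  set y' := y + pb y u • du + pb y v • dv with hy'd
  have h1 := hy y' (by rw [hy'd, pb_add_right, pb_add_right, pb_smul_right, pb_smul_right, hy', hdu, hdv]; simp)
    (by rw [hy'd, pb_add_left, pb_add_left, pb_smul_left, pb_smul_left, duu, dvu]; simp [CharTwo.add_self_eq_zero])
    (by rw [hy'd, pb_add_left, pb_add_left, pb_smul_left, pb_smul_left, duv, dvv]; simp [CharTwo.add_self_eq_zero])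
  rw [hy'd, pb_add_right, pb_add_right, pb_smul_right, pb_smul_right] at h1
  rw [pb_add_left, pb_add_left, pb_smul_left, pb_smul_left, pb_comm u y, pb_comm v y, ← h1]
  ring

namespace Pair

variable {z t : G} {Q R : Subgroup G} {π π' : G → V8} {ρ ρ' : G → qAut qm}
  (P : Pair z t Q R π π' ρ ρ')

include P

/-- Conjugation inside the radical. -/
theorem rad_conj {a b a' b' : G} (ha : a ∈ Q) (hat : a * t = t * a) (hb : b ∈ R) (hbz : b * z = z * b)
    (ha' : a' ∈ Q) (hat' : a' * t = t * a') (hb' : b' ∈ R) (hbz' : b' * z = z * b') :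
    a' * b' * (a * b) * (a' * b')⁻¹ =
      eb z t (pb (π a) (tv (π t) (ρ b')) + pb (π a') (π a) + pb (π a') (tv (π t) (ρ b)))
        (pb (π a) (tv (π t) (ρ b')) + pb (tv (π t) (ρ b')) (tv (π t) (ρ b)) + pb (π a') (tv (π t) (ρ b))) *
        (a * b) := by
  set μ := pb (π a) (tv (π t) (ρ b')) with hμ
  set ν := pb (tv (π t) (ρ b')) (tv (π t) (ρ b)) with hν
  set η := pb (π a') (π a) with hη
  set ε := pb (π a') (tv (π t) (ρ b)) with hε
  have k1 : ∀ k l, a' * eb z t k l = eb z t k l * a' := P.eb_comm (P.S.z_comm ha') hat'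
  have k2 : ∀ k l, a * eb z t k l = eb z t k l * a := P.eb_comm (P.S.z_comm ha) hat
  have e1 : a' * a * a'⁻¹ = eb z t η 0 * a := by
    rw [P.S.comm ha' ha, ← hη, eb, zb_zero, mul_one]; group
  have e2 : b' * b * b'⁻¹ = eb z t 0 ν * b := by
    rw [P.S'.comm hb' hb, P.polar_eq hb' hbz' hb hbz, ← hν, eb, zb_zero, one_mul]; group
  calc a' * b' * (a * b) * (a' * b')⁻¹ = a' * (b' * a * b'⁻¹) * (b' * b * b'⁻¹) * a'⁻¹ := by group
    _ = (a' * eb z t μ μ) * (a * eb z t 0 ν) * b * a'⁻¹ := by rw [(P.comm_eb ha hat hb' hbz').1, e2, ← hμ]; group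
    _ = eb z t μ μ * (a' * eb z t 0 ν) * a * b * a'⁻¹ := by rw [k1 μ μ, k2]; group
    _ = eb z t μ μ * eb z t 0 ν * ((a' * a * a'⁻¹) * (a' * b * a'⁻¹)) := by rw [k1]; group
    _ = eb z t μ μ * eb z t 0 ν * (eb z t η 0 * (a * eb z t ε ε) * b) := by
        rw [e1, (P.comm_eb ha' hat' hb hbz).2, ← hε]; group
    _ = eb z t μ μ * eb z t 0 ν * eb z t η 0 * eb z t ε ε * (a * b) := by rw [k2]; group
    _ = _ := by rw [P.eb_mul, P.eb_mul, P.eb_mul, add_zero, add_zero]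

/-- The action of a representative on the first half. -/
theorem typeC_conj_Q {a b a' : G} (ha : a ∈ Q) (hb : b ∈ R) (hbz : b * z = z * b)
    (hat : a * t = t * a) (ha' : a' ∈ Q) (hat' : a' * t = t * a') :
    a * b * a' * (a * b)⁻¹ =
      eb z t (pb (π a') (tv (π t) (ρ b)) + pb (π a) (π a')) (pb (π a') (tv (π t) (ρ b))) * a' := by
  have h := P.rad_conj (a := a') (b := 1) ha' hat' (one_mem _) (by group) ha hat hb hbz
  rw [mul_one, P.S.rho_one, tv_one, pb_zero_right, pb_zero_right, add_zero, add_zero, add_zero] at h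
  exact h

theorem exists_h {a b : G} {c₀ : ZMod 2} (ha : a ∈ Q) (hat : a * t = t * a) (hb : b ∈ R) (hbz : b * z = z * b)
    (hT : Typ (π t) c₀ (tv (π t) (ρ b)) (π a)) {y : V8} (hy : pb (π t) y = 0) {η₀ : V8} (hη : pb (π t) η₀ = 0)
    (e1 : pb η₀ (π a) = pb y (π a) + pb y (tv (π t) (ρ b))) (e2 : pb η₀ (tv (π t) (ρ b)) = pb y (π a)) :
    ∃ a' b', a' ∈ Q ∧ a' * t = t * a' ∧ b' ∈ R ∧ b' * z = z * b' ∧ π a' = y ∧
      Pm (π t) (tv (π t) (ρ b') + η₀) ∧ a' * b' * (a * b) * (a' * b')⁻¹ = a * b := by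
  obtain ⟨a', ha', rfl⟩ := P.S.pi_surj y
  have hat' : a' * t = t * a' := mem_centralizer_singleton_iff.1 ((P.mem_A ha').2 hy)
  obtain ⟨b', hb', hbz', hbw'⟩ := P.w_surj hη
  refine ⟨a', b', ha', hat', hb', hbz', rfl, hbw', ?_⟩
  rw [P.rad_conj ha hat hb hbz ha' hat' hb' hbz', pb_comm (π a) (tv _ _), pm_polar hbw' hT.pu,
    pm_polar hbw' hT.pv, e1, e2]
  rw [(by decide : ∀ a b : ZMod 2, a + b + a + b = 0) (pb (π a') (π a)) (pb (π a') (tv (π t) (ρ b))),
    P.eb_zero, one_mul]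

/-- An involution centralizing the radical part of `C(x)` is in the four group or of the kind of `x`. -/
theorem centre_cases {x c : G} {c₀ : ZMod 2} (hx : TypeC z t Q R π ρ c₀ x) (hc : c ∈ centralizer ({z} : Set G))
    (hct : c * t = t * c) (hc2 : c * c = 1)
    (hH : ∀ h ∈ centralizer ({z} : Set G), h * t = t * h → InT (π t) (ρ h) → h * x = x * h → c * h = h * c) :
    (c ∈ Q ∧ c ∈ R) ∨ TypeC z t Q R π ρ c₀ c := by
  obtain ⟨a, b, ha, hat, hb, hbz, rfl, -, hT⟩ := hx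
  obtain ⟨⟨du, hdu, duu, duv⟩, dv, hdv, dvu, dvv⟩ := (fact_typ_one P.p_sing hT).2
  -- every class is the first part of an element of the radical part
  have hmake : ∀ y η₀, pb (π t) y = 0 → pb (π t) η₀ = 0 →
      pb η₀ (π a) = pb y (π a) + pb y (tv (π t) (ρ b)) → pb η₀ (tv (π t) (ρ b)) = pb y (π a) →
      ∃ a' b', a' ∈ Q ∧ a' * t = t * a' ∧ b' ∈ R ∧ b' * z = z * b' ∧ π a' = y ∧
        Pm (π t) (tv (π t) (ρ b') + η₀) ∧ c * (a' * b') * c⁻¹ = a' * b' := by
    intro y η₀ hy hη e1 e2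
    obtain ⟨a', b', ha', hat', hb', hbz', hπ, hw, hcomm⟩ := P.exists_h ha hat hb hbz hT hy hη e1 e2
    refine ⟨a', b', ha', hat', hb', hbz', hπ, hw, ?_⟩
    have hC := (P.R_z hb' hbz').1
    rw [hH (a' * b') (mul_mem (P.S.le ha') hC)
      (Commute.mul_left (show Commute a' t from hat') (mem_centralizer_singleton_iff.1 (P.R_z hb' hbz').2)).eq
      (by rw [P.S.rho_mul a' (P.S.le ha') b' hC, P.S.rho_Q ha', one_mul]; exact P.inT hb' hbz')
      (mul_inv_eq_iff_eq_mul.1 hcomm), mul_inv_cancel_right]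
  have hin : InT (π t) (ρ c) := by
    refine ⟨P.rho_p hc (mem_centralizer_singleton_iff.2 hct), fun y hy => ?_⟩
    obtain ⟨a', b', ha', hat', hb', hbz', rfl, -, hcomm⟩ := hmake y
      ((pb y (π a) + pb y (tv (π t) (ρ b))) • du + pb y (π a) • dv) hy
      (by rw [pb_add_right, pb_smul_right, pb_smul_right, hdu, hdv]; simp)
      (by rw [pb_add_left, pb_smul_left, pb_smul_left, duu, dvu]; simp)
      (by rw [pb_add_left, pb_smul_left, pb_smul_left, duv, dvv]; simp)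
    have heq : a'⁻¹ * (c * a' * c⁻¹) = b' * (c * b' * c⁻¹)⁻¹ := by
      calc a'⁻¹ * (c * a' * c⁻¹) = a'⁻¹ * (c * (a' * b') * c⁻¹) * (c * b' * c⁻¹)⁻¹ := by group
        _ = b' * (c * b' * c⁻¹)⁻¹ := by rw [hcomm]; group
    obtain ⟨i, j, hij⟩ := P.eb_of_E (mul_mem (inv_mem ha') (P.S.conj_mem hc ha'))
      (heq ▸ mul_mem hb' (inv_mem (P.S'.conj_mem (mem_centralizer_singleton_iff.2 hct) hb')))
    rw [add_comm, ← P.S.rho_pi c hc a' ha', ← P.S.pi_inv ha',
      ← P.S.pi_mul _ (inv_mem ha') _ (P.S.conj_mem hc ha'), hij, P.pi_eb]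
    rcases two_cases j with rfl | rfl
    · exact .inl (zero_smul _ _)
    · exact .inr (one_smul _ _)
  -- decomposition
  obtain ⟨b₁, hb₁, hbz₁, hbw₁⟩ := P.w_surj (tv_perp P.p_sing hin)
  obtain ⟨hbC₁, hbt₁⟩ := P.R_z hb₁ hbz₁
  set a₁ := c * b₁⁻¹ with ha₁d
  have ha₁ : a₁ ∈ Q := (P.S.rho_ker _ (mul_mem hc (inv_mem hbC₁))).1 (by
    rw [P.S.rho_mul _ hc _ (inv_mem hbC₁), P.S.rho_inv hbC₁, inT_eq P.p_sing (P.inT hb₁ hbz₁) hin hbw₁,
      mul_inv_cancel])
  have hat₁ : a₁ * t = t * a₁ :=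
    mem_centralizer_singleton_iff.1 (mul_mem (mem_centralizer_singleton_iff.2 hct) (inv_mem hbt₁))
  have hcd : c = a₁ * b₁ := by rw [ha₁d]; group
  set v := tv (π t) (ρ b) with hv
  set v₁ := tv (π t) (ρ b₁) with hv₁
  have pa₁ := P.perp ha₁ hat₁
  have pv₁ := P.w_perp hb₁ hbz₁
  rw [← hv₁] at pv₁
  have hrel : ∀ y η₀, pb (π t) y = 0 → pb (π t) η₀ = 0 → pb η₀ (π a) = pb y (π a) + pb y v →
      pb η₀ v = pb y (π a) → pb (π a₁) η₀ + pb y (π a₁) + pb y v₁ = 0 ∧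
        pb (π a₁) η₀ + pb η₀ v₁ + pb y v₁ = 0 := by
    intro y η₀ hy hη e1 e2
    obtain ⟨a', b', ha', hat', hb', hbz', rfl, hw, hcomm⟩ := hmake y η₀ hy hη e1 e2
    have h1 := P.rad_conj ha₁ hat₁ hb₁ hbz₁ ha' hat' hb' hbz'
    rw [← hcd, ← hv₁, pb_comm (π a₁) (tv _ _), pm_polar hw pa₁, pm_polar hw pv₁, pb_comm η₀ (π a₁)] at h1
    have h2 : a' * b' * c * (a' * b')⁻¹ = c := by
      rw [← mul_inv_eq_iff_eq_mul.1 hcomm, mul_inv_cancel_right]
    rw [h2] at h1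
    exact P.zb_ne (mul_eq_right.1 h1.symm)
  obtain ⟨a₁', a₂', hA⟩ := span_of_perp P.p_sing hT pa₁ fun y hy yu yv => by
    have := (hrel 0 y (pb_zero_right _) hy (by rw [yu, pb_zero_left, pb_zero_left, add_zero])
      (by rw [yv, pb_zero_left])).1
    rwa [pb_zero_left, pb_zero_left, add_zero, add_zero] at this
  obtain ⟨b₁', b₂', hB⟩ := span_of_perp P.p_sing hT pv₁ fun y hy yu yv => by
    obtain ⟨g1, g2⟩ := hrel 0 y (pb_zero_right _) hy (by rw [yu, pb_zero_left, pb_zero_left, add_zero])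
      (by rw [yv, pb_zero_left])
    rw [pb_zero_left, pb_zero_left, add_zero, add_zero] at g1
    rw [g1, pb_zero_left, add_zero, zero_add, pb_comm] at g2
    exact g2
  obtain ⟨r1, r2⟩ : b₁' = a₂' ∧ b₂' = a₁' + a₂' := by
    refine centre_solve _ _ _ _ fun Y₁ Y₂ => ?_
    set y := Y₁ • du + Y₂ • dv with hy
    set η₀ := (Y₁ + Y₂) • du + Y₁ • dv with hη
    have py : pb (π t) y = 0 := by rw [hy, pb_add_right, pb_smul_right, pb_smul_right, hdu, hdv]; simp
    have pη : pb (π t) η₀ = 0 := by rw [hη, pb_add_right, pb_smul_right, pb_smul_right, hdu, hdv]; simp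
    have y1 : pb y (π a) = Y₁ := by rw [hy, pb_add_left, pb_smul_left, pb_smul_left, duu, dvu]; simp
    have y2 : pb y v = Y₂ := by rw [hy, pb_add_left, pb_smul_left, pb_smul_left, duv, dvv]; simp
    have n1 : pb η₀ (π a) = Y₁ + Y₂ := by rw [hη, pb_add_left, pb_smul_left, pb_smul_left, duu, dvu]; simp
    have n2 : pb η₀ v = Y₁ := by rw [hη, pb_add_left, pb_smul_left, pb_smul_left, duv, dvv]; simp
    have h := (hrel y η₀ py pη (by rw [n1, y1, y2]) (by rw [n2, y1])).1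
    rw [pb_comm y (π a₁), pm_polar hA pη, pm_polar hA py, pb_comm y v₁, pm_polar hB py, pb_add_left, pb_add_left,
      pb_add_left, pb_smul_left, pb_smul_left, pb_smul_left, pb_smul_left, pb_smul_left, pb_smul_left,
      pb_comm (π a) η₀, pb_comm v η₀, pb_comm (π a) y, pb_comm v y, y1, y2, n1, n2] at h
    rw [← h]
    ring
  rw [r1, r2] at hB
  have hpar : pb (π t) (a₁' • π a + a₂' • v) = 0 ∧ pb (π t) (a₂' • π a + (a₁' + a₂') • v) = 0 := by
    constructor <;> simp [pb_add_right, pb_smul_right, hT.pu, hT.pv]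
  have hfin : ∀ U V, Pm (π t) (π a₁ + U) → Pm (π t) (v₁ + V) → Typ (π t) c₀ V U →
      TypeC z t Q R π ρ c₀ c := fun U V hU hV hT' => by
    refine ⟨a₁, b₁, ha₁, hat₁, hb₁, hbz₁, hcd, hc2, ?_⟩
    exact ((hT'.congr P.p_sing (pm_symm hV) pv₁).symm.congr P.p_sing (pm_symm hU) pa₁).symm
  rcases two_cases a₁' with rfl | rfl <;> rcases two_cases a₂' with rfl | rfl
  · left
    simp only [zero_smul, add_zero] at hA hB
    rw [hcd]
    exact ⟨mul_mem ha₁ ((P.w_pm_iff hb₁ hbz₁).1 hB), mul_mem (P.mem_E_of_pm ha₁ hA) hb₁⟩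
  · refine .inr (hfin v (π a + v) ?_ ?_ (hT.shift P.p_sing).symm)
    · simpa using hA
    · simpa using hB
  · refine .inr (hfin (π a) v ?_ ?_ hT)
    · simpa using hA
    · simpa using hB
  · refine .inr (hfin (π a + v) (π a) ?_ ?_ ?_)
    · simpa using hA
    · have h0 : (1 : ZMod 2) + 1 = 0 := rfl
      simpa [h0] using hB
    · have h0 := hT.symm.shift P.p_sing
      rwa [add_comm] at h0

end Pair

end CfsgLib.CoType
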