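import Mathlib
import Cfsg.Agent.Lib.CoType.Centre
import Cfsg.Agent.Lib.Transfer.Fusion

/-!
The three classes are distinct.
-/

set_option autoImplicit false
set_option linter.style.haveILetI false
set_option linter.unusedSectionVars false
set_option linter.unusedSimpArgs false

namespace CfsgLib.CoType

open Subgroup CfsgLib.Classical

variable {G : Type*} [Group G] [Finite G]

/-- `x` lies in the subgroup of a conjugate of `z` inside `Q`. -/
def Near (z : G) (Q : Subgroup G) (x : G) : Prop := ∃ h : G, h * z * h⁻¹ ∈ Q ∧ h * z * h⁻¹ ≠ z ∧ h⁻¹ * x * h ∈ Q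

/-- The admissible tuples. -/
def okT (c : ZMod 2) (r : ZMod 2 × ZMod 2 × ZMod 2 × ZMod 2 × ZMod 2 × ZMod 2 × ZMod 2) : Bool :=
  decide (c * (r.1 + r.2.1 + r.1 * r.2.1) + r.1 = 0) &&
  decide (c * (r.2.2.1 + r.2.2.2.1 + r.2.2.1 * r.2.2.2.1) + r.2.2.2.1 = 0) &&
  decide (c * (r.2.2.2.2.2.1 + r.2.2.2.2.2.2 + r.2.2.2.2.2.1 * r.2.2.2.2.2.2) + r.2.2.2.2.1 = 0)

theorem okT_card : ∀ c : ZMod 2, (Finset.univ.filter fun r => okT c r = true).card ≤ 36 := by decide +kernel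

/-- The isometries fixing the common perpendicular of a representative are few. -/
theorem card_fixers {p v u : V8} {c : ZMod 2} (hp : Sing p) (h : Typ p c v u) {α : Type*} [Finite α]
    (F : α → qAut qm) (hF : Function.Injective F)
    (hfix : ∀ k y, pb p y = 0 → pb y u = 0 → pb y v = 0 → (F k).1 y = y) : Nat.card α ≤ 36 := by
  classical
  haveI := Fintype.ofFinite α
  obtain ⟨⟨du, hdu, duu, duv⟩, dv, hdv, dvu, dvv⟩ := (fact_typ_one hp h).2
  obtain ⟨y₀, y0p, y0u, y0v⟩ : ∃ y₀, pb p y₀ = 1 ∧ pb y₀ u = 0 ∧ pb y₀ v = 0 := by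
    refine ⟨pt p + pb (pt p) u • du + pb (pt p) v • dv, ?_, ?_, ?_⟩
    · rw [pb_add_right, pb_add_right, pb_smul_right, pb_smul_right, pt_spec hp, hdu, hdv]; simp
    · rw [pb_add_left, pb_add_left, pb_smul_left, pb_smul_left, duu, dvu]; simp [CharTwo.add_self_eq_zero]
    · rw [pb_add_left, pb_add_left, pb_smul_left, pb_smul_left, duv, dvv]; simp [CharTwo.add_self_eq_zero]
  set Y : V8 → V8 := fun y => y + pb y u • du + pb y v • dv + pb p y • y₀ with hY
  have hYmem : ∀ y, pb p (Y y) = 0 ∧ pb (Y y) u = 0 ∧ pb (Y y) v = 0 := fun y => by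
    refine ⟨?_, ?_, ?_⟩
    · simp only [hY, pb_add_right, pb_smul_right, hdu, hdv, y0p]; simp [CharTwo.add_self_eq_zero]
    · simp only [hY, pb_add_left, pb_smul_left, duu, dvu, y0u]; simp [CharTwo.add_self_eq_zero]
    · simp only [hY, pb_add_left, pb_smul_left, duv, dvv, y0v]; simp [CharTwo.add_self_eq_zero]
  have hdecomp : ∀ y, y = Y y + (pb y u • du + pb y v • dv + pb p y • y₀) := fun y => by
    funext k
    simp only [hY, Pi.add_apply, Pi.smul_apply, smul_eq_mul]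
    exact (by decide : ∀ a b c d : ZMod 2, a = a + b + c + d + (b + c + d)) _ _ _ _
  -- the displacement
  have hspan : ∀ k X, (F k).1 X + X = pb ((F k).1 X + X) y₀ • p + pb ((F k).1 X + X) du • u +
      pb ((F k).1 X + X) dv • v := fun k X => by
    set δ := (F k).1 X + X with hδ
    refine eq8 (pb_nondeg fun y => ?_)
    obtain ⟨h1, h2, h3⟩ := hYmem y
    have hperp : pb δ (Y y) = 0 := by
      rw [hδ, pb_add_left]
      conv_lhs => arg 1; rw [← hfix k _ h1 h2 h3, pb_map]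
      exact CharTwo.add_self_eq_zero _
    have e : pb δ y = pb y u * pb δ du + pb y v * pb δ dv + pb p y * pb δ y₀ := by
      conv_lhs => rw [hdecomp y]
      rw [pb_add_right, hperp, pb_add_right, pb_add_right, pb_smul_right, pb_smul_right, pb_smul_right, zero_add]
    have hs : ∀ η β γ : ZMod 2, pb (η • p + β • u + γ • v) y = η * pb p y + β * pb y u + γ * pb y v := fun η β γ => by
      rw [pb_add_left, pb_add_left, pb_smul_left, pb_smul_left, pb_smul_left, pb_comm u y, pb_comm v y]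
    rw [pb_add_left, e, hs]
    generalize pb y u = A, pb y v = B, pb p y = D, pb δ du = β, pb δ dv = γ, pb δ y₀ = η
    revert A B D β γ η
    decide
  set T : α → ZMod 2 × ZMod 2 × ZMod 2 × ZMod 2 × ZMod 2 × ZMod 2 × ZMod 2 := fun k =>
    (pb ((F k).1 du + du) du, pb ((F k).1 du + du) dv, pb ((F k).1 dv + dv) du, pb ((F k).1 dv + dv) dv,
      pb ((F k).1 y₀ + y₀) y₀, pb ((F k).1 y₀ + y₀) du, pb ((F k).1 y₀ + y₀) dv) with hT
  have hqsum : ∀ a b d : ZMod 2, qm (a • p + b • u + d • v) = c * (b + d + b * d) := fun a b d => by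
    rw [qm_add, qm_add, quad_smul, quad_smul, quad_smul, hp.2, h.qu, h.qv, pb_add_left, pb_smul_left, pb_smul_left,
      pb_smul_left, pb_smul_right, pb_smul_right, pb_smul_right, h.pu, h.pv, h.uv]
    exact (by decide : ∀ a b c d : ZMod 2, a * a * 0 + b * b * c + a * (b * 0) + d * d * c + (a * (d * 0) + b * (d * c))
      = c * (b + d + b * d)) _ _ _ _
  have hq : ∀ k X, c * (pb ((F k).1 X + X) du + pb ((F k).1 X + X) dv +
      pb ((F k).1 X + X) du * pb ((F k).1 X + X) dv) + pb X ((F k).1 X + X) = 0 := fun k X => by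
    have h1 := qAut_map (F k) X
    rw [show (F k).1 X = X + ((F k).1 X + X) by rw [add_comm ((F k).1 X), add_cancel8], qm_add] at h1
    rw [← hqsum (pb ((F k).1 X + X) y₀), ← hspan k X]
    linear_combination h1
  have hok : ∀ k, okT c (T k) = true := fun k => by
    simp only [okT, hT, Bool.and_eq_true, decide_eq_true_eq]
    refine ⟨⟨?_, ?_⟩, ?_⟩ <;> [have e := hq k du; have e := hq k dv; have e := hq k y₀] <;>
      rwa [pb_comm _ ((F k).1 _ + _)] at e
  have hα : ∀ k X, pb p X = 0 → pb ((F k).1 X + X) y₀ = pb X ((F k).1 y₀ + y₀) +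
      pb ((F k).1 X + X) ((F k).1 y₀ + y₀) := fun k X _ => by
    have h1 := pb_map (F k) X y₀
    have h2 : pb ((F k).1 X + X) ((F k).1 y₀ + y₀) =
        pb ((F k).1 X) ((F k).1 y₀) + pb ((F k).1 X) y₀ + pb X ((F k).1 y₀) + pb X y₀ := by
      rw [pb_add_left, pb_add_right, pb_add_right]; ring
    rw [h2, h1, pb_add_left, pb_add_right]
    exact (by decide : ∀ a b c : ZMod 2, b + a = c + a + (a + b + c + a)) _ _ _
  have hinj : Function.Injective T := fun k l hkl => by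
    simp only [hT, Prod.mk.injEq] at hkl
    obtain ⟨e1, e2, e3, e4, e5, e6, e7⟩ := hkl
    have hy : (F k).1 y₀ + y₀ = (F l).1 y₀ + y₀ := by
      rw [hspan k y₀, hspan l y₀, e5, e6, e7]
    have hgen : ∀ X, pb p X = 0 → pb ((F k).1 X + X) du = pb ((F l).1 X + X) du →
        pb ((F k).1 X + X) dv = pb ((F l).1 X + X) dv → (F k).1 X + X = (F l).1 X + X := fun X hX g1 g2 => by
      have hb : ∀ m, pb ((F m).1 X + X) ((F m).1 y₀ + y₀) = c * (pb ((F m).1 X + X) du * pb ((F m).1 y₀ + y₀) dv +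
          pb ((F m).1 X + X) dv * pb ((F m).1 y₀ + y₀) du) := fun m => by
        conv_lhs => rw [hspan m X, hspan m y₀]
        simp only [pb_add_left, pb_add_right, pb_smul_left, pb_smul_right, pb_self, h.pu, h.pv, h.uv, pb_comm u p,
          pb_comm v p, pb_comm v u]
        ring
      have g0 : pb ((F k).1 X + X) y₀ = pb ((F l).1 X + X) y₀ := by
        rw [hα k X hX, hα l X hX, hb k, hb l, g1, g2, e6, e7, hy]
      rw [hspan k X, hspan l X, g0, g1, g2]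
    have hu := add_right_cancel (hgen du hdu e1 e2)
    have hv := add_right_cancel (hgen dv hdv e3 e4)
    have hy' := add_right_cancel hy
    refine hF (qAut_ext fun y => ?_)
    show (F k).1 y = (F l).1 y
    obtain ⟨h1, h2, h3⟩ := hYmem y
    conv_lhs => rw [hdecomp y]
    conv_rhs => rw [hdecomp y]
    simp only [map_add, map_smul, hfix k _ h1 h2 h3, hfix l _ h1 h2 h3, hu, hv, hy']
  rw [Nat.card_eq_fintype_card]
  refine le_trans ?_ (okT_card c)
  exact Finset.card_le_card_of_injOn T (fun k _ => by simp [hok k]) hinj.injOn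

namespace Config

variable {z t : G} {Q R : Subgroup G} {π π' : G → V8} {ρ ρ' : G → qAut qm}
  (C : Config z t Q R π π' ρ ρ')

include C

theorem typeC_basic {c₀ : ZMod 2} {x : G} (hx : TypeC z t Q R π ρ c₀ x) :
    x ∈ centralizer ({z} : Set G) ∧ x * t = t * x ∧ x ∉ Q ∧ x * x = 1 ∧ InT (π t) (ρ x) ∧
      qm (tv (π t) (ρ x)) = c₀ := by
  obtain ⟨a, b, ha, hat, hb, hbz, rfl, h2, hT⟩ := hx
  obtain ⟨hbC, hbt⟩ := C.P.R_z hb hbz
  have hρ : ρ (a * b) = ρ b := by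
    rw [C.P.S.rho_mul a (C.P.S.le ha) b hbC, C.P.S.rho_Q ha, one_mul]
  refine ⟨mul_mem (C.P.S.le ha) hbC, (Commute.mul_left (show Commute a t from hat)
    (mem_centralizer_singleton_iff.1 hbt)).eq, fun h => ?_, h2, hρ ▸ C.P.inT hb hbz, hρ ▸ hT.qv⟩
  have := mul_mem (inv_mem ha) h
  rw [inv_mul_cancel_left] at this
  exact hT.nv ((C.P.w_pm_iff hb hbz).2 this)

theorem not_near {c₀ : ZMod 2} {x : G} (hx : TypeC z t Q R π ρ c₀ x) : ¬ Near z Q x := by
  obtain ⟨hxC, -, hxQ, -, -, -⟩ := C.typeC_basic hx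
  obtain ⟨a, b, ha, hat, hb, hbz, rfl, h2, hT⟩ := hx
  rintro ⟨h, hs, hsne, hxh⟩
  have P2 := (C.pair_at hs hsne).P
  set s := h * z * h⁻¹ with hsd
  have hxR : a * b ∈ Q.map (MulAut.conj h).toMonoidHom := mem_conj_iff.2 hxh
  have hz : a * b * z = z * (a * b) := mem_centralizer_singleton_iff.1 hxC
  obtain ⟨⟨du, hdu, duu, duv⟩, -⟩ := (fact_typ_one C.P.p_sing hT).2
  obtain ⟨a', ha', rfl⟩ := C.P.S.pi_surj du
  have hat' : a' * t = t * a' := mem_centralizer_singleton_iff.1 ((C.P.mem_A ha').2 hdu)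
  have h1 := C.P.typeC_conj_Q ha hb hbz hat ha' hat'
  rw [duv, pb_comm (π a), duu, zero_add] at h1
  have hd : (ρ (a * b)).1 (π a') + π a' = 0 := by
    rw [← C.P.S.rho_pi _ hxC a' ha', h1, C.P.S.pi_mul _ (C.P.eb_mem _ _).1 a' ha', C.P.pi_eb, zero_smul, zero_add,
      add_self8]
  have hf := inT_formula P2.p_sing (P2.inT hxR hz) (π a')
  rw [hd] at hf
  have hσ : pb (π s) (π a') = 0 := by
    refine (two_cases _).resolve_right fun e => hxQ ((P2.w_pm_iff hxR hz).1 ?_)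
    rw [e, one_smul] at hf
    rcases two_cases (pb (π a' + (1 : ZMod 2) • pt (π s)) (tv (π s) (ρ (a * b)))) with e' | e' <;> rw [e'] at hf
    · rw [zero_smul, add_zero] at hf; exact .inl hf.symm
    · rw [one_smul] at hf; exact .inr (eq8 hf.symm)
  have has : a' * s = s * a' := (C.P.S.commute_iff ha' hs).2 (by rw [pb_comm, hσ])
  have h3 := (P2.comm_eb ha' has hxR hz).1
  rw [h1] at h3
  have h4 := mul_right_cancel h3
  rcases two_cases (pb (π a') (tv (π s) (ρ (a * b)))) with e | e <;> rw [e] at h4 <;>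
    simp only [eb, zb_zero, zb_one, mul_one, one_mul] at h4
  · exact C.P.S.z1 h4
  · exact P2.S'.z1 (mul_eq_left.1 h4.symm)

/-- The radical part of `C(x)` with its mover, inside a maximal 2-subgroup. -/
theorem exists_S {c₀ : ZMod 2} {x : G} (hx : TypeC z t Q R π ρ c₀ x) :
    ∃ S : Subgroup G, IsPGroup 2 S ∧ S ≤ centralizer ({z} : Set G) ⊓ centralizer ({x} : Set G) ∧
      (∀ T : Subgroup G, IsPGroup 2 T → S ≤ T → T ≤ centralizer ({z} : Set G) ⊓ centralizer ({x} : Set G) → T = S) ∧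
      z ∈ S ∧ ∀ c ∈ centralizer ({z} : Set G), c * c = 1 → c ≠ 1 → (∀ s ∈ S, c * s = s * c) →
        c = z ∨ TypeC z t Q R π ρ c₀ c := by
  classical
  obtain ⟨hxC, hxt, -, hx2, -, -⟩ := C.typeC_basic hx
  haveI : Fact (Nat.Prime 2) := ⟨Nat.prime_two⟩
  set D := centralizer ({z} : Set G) ⊓ centralizer ({x} : Set G) with hD
  let H : Subgroup G :=
    { carrier := {c | c ∈ centralizer ({z} : Set G) ∧ c ∈ centralizer ({t} : Set G) ∧ InT (π t) (ρ c) ∧
        c ∈ centralizer ({x} : Set G)}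
      one_mem' := ⟨one_mem _, one_mem _, by rw [C.P.S.rho_one]; exact ⟨rfl, fun x _ => pm_self x⟩, one_mem _⟩
      mul_mem' := fun {a b} ⟨ha, ha', ha'', ha3⟩ ⟨hb, hb', hb'', hb3⟩ =>
        ⟨mul_mem ha hb, mul_mem ha' hb', by
          rw [C.P.S.rho_mul a ha b hb]; exact (inT_mul C.P.p_sing ha'' hb'').1, mul_mem ha3 hb3⟩
      inv_mem' := fun {a} ⟨ha, ha', ha'', ha3⟩ => by
        refine ⟨inv_mem ha, inv_mem ha', ?_, inv_mem ha3⟩
        obtain ⟨h1, h2⟩ := inT_mul C.P.p_sing ha'' ha''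
        have h3 : ρ a * ρ a = 1 := inT_trivial C.P.p_sing h1 (by rwa [add_self8, add_zero] at h2)
        rw [C.P.S.rho_inv ha, inv_eq_of_mul_eq_one_right h3]
        exact ha'' }
  have hHp : IsPGroup 2 H := by
    rintro ⟨h, hh⟩
    refine ⟨10, Subtype.ext ?_⟩
    show h ^ 2 ^ 10 = 1
    obtain ⟨h1, -, h3, -⟩ := hh
    have hq : h * h ∈ Q := by
      refine (C.P.S.rho_ker _ (mul_mem h1 h1)).1 ?_
      rw [C.P.S.rho_mul h h1 h h1]
      obtain ⟨g1, g2⟩ := inT_mul C.P.p_sing h3 h3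
      exact inT_trivial C.P.p_sing g1 (by rwa [add_self8, add_zero] at g2)
    have h4 : (h * h) * (h * h) * ((h * h) * (h * h)) = 1 := by
      rw [C.P.S.sq _ hq, zb_mul C.P.S.z2, CharTwo.add_self_eq_zero, zb_zero]
    rw [show (2 : ℕ) ^ 10 = 8 * 128 by norm_num, pow_mul,
      show h ^ 8 = (h * h) * (h * h) * ((h * h) * (h * h)) by simp [pow_succ, mul_assoc], h4, one_pow]
  have hnorm : ∀ d ∈ D, d * t * d⁻¹ = z * t → ∀ h ∈ H, d * h * d⁻¹ ∈ H := by
    rintro d hd hdt h ⟨h1, h2, h3, h4⟩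
    have hdz := mem_centralizer_singleton_iff.1 hd.1
    have hp : (ρ d).1 (π t) = π t := by rw [← C.P.S.rho_pi d hd.1 t C.P.tQ, hdt, C.P.S.pi_zmul C.P.tQ]
    refine ⟨mul_mem (mul_mem hd.1 h1) (inv_mem hd.1), mem_centralizer_singleton_iff.2 ?_, ?_,
      mul_mem (mul_mem hd.2 h4) (inv_mem hd.2)⟩
    · have e : d * (z * t) * d⁻¹ = t := by
        rw [show d * (z * t) * d⁻¹ = d * z * (t * d⁻¹) by group, hdz,
          show z * d * (t * d⁻¹) = z * (d * t * d⁻¹) by group, hdt, ← mul_assoc, C.P.S.z2, one_mul]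
      have hc : h * (z * t) = z * t * h := (Commute.mul_right (show Commute h z from mem_centralizer_singleton_iff.1 h1)
        (show Commute h t from mem_centralizer_singleton_iff.1 h2)).eq
      calc d * h * d⁻¹ * t = d * h * d⁻¹ * (d * (z * t) * d⁻¹) := by rw [e]
        _ = d * (h * (z * t)) * d⁻¹ := by group
        _ = d * (z * t) * d⁻¹ * (d * h * d⁻¹) := by rw [hc]; group
        _ = t * (d * h * d⁻¹) := by rw [e]
    · rw [C.P.S.rho_mul (d * h) (mul_mem hd.1 h1) d⁻¹ (inv_mem hd.1), C.P.S.rho_mul d hd.1 h h1,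
        C.P.S.rho_inv hd.1]
      exact (inT_conj C.P.p_sing hp h3).1
  -- the mover
  obtain ⟨d₀, hd₀, hd₀t⟩ : ∃ d₀ ∈ D, d₀ * t * d₀⁻¹ = z * t := by
    obtain ⟨q, hq, hqb, hqt⟩ := C.P.exists_swap
    obtain ⟨a, b, ha, hat, hb, hbz, rfl, -, hT⟩ := hx
    obtain ⟨hbC, hbt⟩ := C.P.R_z hb hbz
    set cA := q * b * q⁻¹ * b⁻¹ with hcA
    have hqC := C.P.S.le hq
    have hcAQ : cA ∈ Q := by
      rw [hcA, show q * b * q⁻¹ * b⁻¹ = q * (b * q⁻¹ * b⁻¹) by group]
      exact mul_mem hq (C.P.S.conj_mem hbC (inv_mem hq))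
    have hcAπ : Pm (π t) (π cA + tv (π t) (ρ b)) := by
      rw [hcA, show q * b * q⁻¹ * b⁻¹ = q * (b * q⁻¹ * b⁻¹) by group,
        C.P.S.pi_mul q hq _ (C.P.S.conj_mem hbC (inv_mem hq)), C.P.S.rho_pi b hbC _ (inv_mem hq), C.P.S.pi_inv hq,
        add_comm (π q), inT_formula C.P.p_sing (C.P.inT hb hbz), hqb, one_smul, one_smul, add_comm, add_cancel8]
      rcases two_cases (pb (π q + pt (π t)) (tv (π t) (ρ b))) with e | e <;> rw [e]
      · exact .inl (zero_smul _ _)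
      · exact .inr (one_smul _ _)
    set a'' := q * a * q⁻¹ * cA with ha''
    have hqa : q * a * q⁻¹ ∈ Q := mul_mem (mul_mem hq ha) (inv_mem hq)
    have ha''Q : a'' ∈ Q := mul_mem hqa hcAQ
    have hπqa : π (q * a * q⁻¹) = π a := by
      rw [C.P.S.pi_mul _ (mul_mem hq ha) _ (inv_mem hq), C.P.S.pi_mul q hq a ha, C.P.S.pi_inv hq, add_comm,
        add_cancel8]
    have hpm : Pm (π t) (π a'' + (π a + tv (π t) (ρ b))) := by
      rw [ha'', C.P.S.pi_mul _ hqa cA hcAQ, hπqa, add_add_add_comm, add_self8, zero_add]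
      exact hcAπ
    have hT' := hT.shift C.P.p_sing
    have hp'' : pb (π t) (π a'') = 0 := by
      rcases hpm with e | e
      · rw [eq8 e, hT'.pu]
      · rw [eq8_add e, pb_add_right,
          hT'.pu, pb_self, add_zero]
    have hx' : TypeC z t Q R π ρ c₀ (q * (a * b) * q⁻¹) := by
      refine ⟨a'', b, ha''Q, mem_centralizer_singleton_iff.1 ((C.P.mem_A ha''Q).2 hp''), hb, hbz,
        by rw [ha'', hcA]; group, ?_, (hT'.symm.congr C.P.p_sing (pm_symm hpm) hp'').symm⟩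
      rw [show q * (a * b) * q⁻¹ * (q * (a * b) * q⁻¹) = q * (a * b * (a * b)) * q⁻¹ by group, hx2, mul_one,
        mul_inv_cancel]
    obtain ⟨d, hd, hdt, hde⟩ := C.P.typeC_conj hx' ⟨a, b, ha, hat, hb, hbz, rfl, hx2, hT⟩
    refine ⟨d * q, ⟨mul_mem hd hqC, mem_centralizer_singleton_iff.2 (mul_inv_eq_iff_eq_mul.1 ?_)⟩, ?_⟩
    · rw [show d * q * (a * b) * (d * q)⁻¹ = d * (q * (a * b) * q⁻¹) * d⁻¹ by group]
      exact hde
    · rw [show d * q * t * (d * q)⁻¹ = d * (q * t * q⁻¹) * d⁻¹ by group, hqt,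
        show d * (z * t) * d⁻¹ = d * z * (t * d⁻¹) by group, mem_centralizer_singleton_iff.1 hd,
        show z * d * (t * d⁻¹) = z * (d * t * d⁻¹) by group, hdt, mul_inv_cancel_right]
  obtain ⟨k, m, hm, hn⟩ := Nat.exists_eq_two_pow_mul_odd (orderOf_pos d₀).ne'
  set d := d₀ ^ m with hd
  have hdD : d ∈ D := pow_mem hd₀ m
  have hdt : d * t * d⁻¹ = z * t := by
    obtain ⟨i, rfl⟩ := hm
    have h2 : ∀ i, d₀ ^ (2 * i) * t * (d₀ ^ (2 * i))⁻¹ = t := fun i => by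
      induction i with
      | zero => simp
      | succ i ih =>
        have e : d₀ * (z * t) * d₀⁻¹ = t := by
          rw [show d₀ * (z * t) * d₀⁻¹ = d₀ * z * (t * d₀⁻¹) by group, mem_centralizer_singleton_iff.1 hd₀.1,
            show z * d₀ * (t * d₀⁻¹) = z * (d₀ * t * d₀⁻¹) by group, hd₀t, ← mul_assoc, C.P.S.z2, one_mul]
        calc d₀ ^ (2 * (i + 1)) * t * (d₀ ^ (2 * (i + 1)))⁻¹
            = d₀ * (d₀ * (d₀ ^ (2 * i) * t * (d₀ ^ (2 * i))⁻¹) * d₀⁻¹) * d₀⁻¹ := by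
              rw [show 2 * (i + 1) = 1 + (1 + 2 * i) by ring, pow_add, pow_add, pow_one]; group
          _ = t := by rw [ih, hd₀t, e]
    rw [hd, pow_succ', show d₀ * d₀ ^ (2 * i) * t * (d₀ * d₀ ^ (2 * i))⁻¹ =
      d₀ * (d₀ ^ (2 * i) * t * (d₀ ^ (2 * i))⁻¹) * d₀⁻¹ by group, h2, hd₀t]
  have hdp : IsPGroup 2 (zpowers d) := by
    rintro ⟨y, hy⟩
    obtain ⟨j, rfl⟩ := mem_zpowers_iff.1 hy
    refine ⟨k, Subtype.ext ?_⟩
    show (d ^ j) ^ 2 ^ k = 1
    rw [← zpow_natCast, ← zpow_mul, mul_comm, zpow_mul, zpow_natCast, hd, ← pow_mul, mul_comm, ← hn,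
      pow_orderOf_eq_one, one_zpow]
  have hzp : zpowers d ≤ normalizer (H : Set G) := by
    rw [zpowers_le, mem_normalizer_iff]
    intro y
    refine ⟨fun hy => hnorm d hdD hdt y hy, fun hy => ?_⟩
    have hdit : d⁻¹ * t * d⁻¹⁻¹ = z * t := by
      have e : d * (z * t) * d⁻¹ = t := by
        rw [show d * (z * t) * d⁻¹ = d * z * (t * d⁻¹) by group, mem_centralizer_singleton_iff.1 hdD.1,
          show z * d * (t * d⁻¹) = z * (d * t * d⁻¹) by group, hdt, ← mul_assoc, C.P.S.z2, one_mul]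
      conv_lhs => rw [← e]
      group
    have := hnorm d⁻¹ (inv_mem hdD) hdit _ hy
    rwa [show d⁻¹ * (d * y * d⁻¹) * d⁻¹⁻¹ = y by group] at this
  have hP : IsPGroup 2 ↥(H ⊔ zpowers d) := IsPGroup.to_sup_of_normal_left' hHp hdp hzp
  have hPD : H ⊔ zpowers d ≤ D := sup_le (fun h hh => ⟨hh.1, hh.2.2.2⟩) (zpowers_le.2 hdD)
  obtain ⟨T, hT⟩ := (hP.comap_subtype (K := D)).exists_le_sylow
  refine ⟨(T : Subgroup D).map D.subtype, T.2.map _, map_subtype_le _, fun U hU hSU hUD => ?_, ?_, ?_⟩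
  · have h1 : U.subgroupOf D = (T : Subgroup D) := T.3 hU.comap_subtype fun y hy => hSU ⟨y, hy, rfl⟩
    rw [← h1, subgroupOf_map_subtype, inf_eq_left.2 hUD]
  · have hzH : z ∈ H := ⟨C.P.S.z_mem, mem_centralizer_singleton_iff.2 C.P.zt_comm,
      by rw [C.P.S.rho_Q C.P.S.zQ]; exact ⟨rfl, fun x _ => pm_self x⟩,
      mem_centralizer_singleton_iff.2 (mem_centralizer_singleton_iff.1 hxC).symm⟩
    exact ⟨⟨z, hPD (mem_sup_left hzH)⟩, hT (mem_sup_left hzH), rfl⟩
  · intro c hc hc2 hc1 hcomm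
    have hin : ∀ y ∈ H ⊔ zpowers d, c * y = y * c := fun y hy =>
      hcomm y ⟨⟨y, hPD hy⟩, hT hy, rfl⟩
    have htH : t ∈ H := ⟨C.P.S.le C.P.tQ, mem_centralizer_singleton_iff.2 rfl,
      by rw [C.P.S.rho_Q C.P.tQ]; exact ⟨rfl, fun x _ => pm_self x⟩,
      mem_centralizer_singleton_iff.2 hxt.symm⟩
    have hct : c * t = t * c := hin t (mem_sup_left htH)
    rcases C.P.centre_cases hx hc hct hc2 (fun h h1 h2 h3 h4 => hin h (mem_sup_left
      ⟨h1, mem_centralizer_singleton_iff.2 h2, h3, mem_centralizer_singleton_iff.2 h4⟩)) with ⟨hQ, hR⟩ | h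
    · have hcd : c * d = d * c := hin d (mem_sup_right (mem_zpowers d))
      rcases C.P.E_cases hQ hR with rfl | rfl | rfl | rfl
      · exact absurd rfl hc1
      · exact .inl rfl
      · rw [← hcd, mul_inv_cancel_right] at hdt
        exact absurd (mul_eq_right.1 hdt.symm) C.P.S.z1
      · have h1 : d * (z * t) * d⁻¹ = z * t := by rw [← hcd, mul_inv_cancel_right]
        rw [show d * (z * t) * d⁻¹ = d * z * (t * d⁻¹) by group, mem_centralizer_singleton_iff.1 hdD.1,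
          show z * d * (t * d⁻¹) = z * (d * t * d⁻¹) by group, hdt, ← mul_assoc, C.P.S.z2, one_mul] at h1
        exact absurd (mul_eq_right.1 h1.symm) C.P.S.z1
    · exact .inr h

/-- No element exchanges `z` and a representative. -/
theorem no_exchange {c₀ : ZMod 2} {x g : G} (hx : TypeC z t Q R π ρ c₀ x) (hgz : g * z * g⁻¹ = x)
    (hgx : g * x * g⁻¹ = z) : False := by
  classical
  obtain ⟨hxC, hxt, hxQ, -, -, -⟩ := C.typeC_basic hx
  have hnear := C.not_near hx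
  obtain ⟨a, b, ha, hat, hb, hbz, hxab, -, hT⟩ := hx
  set N := Q ⊓ centralizer ({x} : Set G) with hN
  have hgi : g⁻¹ * z * g = x ∧ g⁻¹ * x * g = z :=
    ⟨by conv_lhs => rw [← hgx]
        group, by conv_lhs => rw [← hgz]
                  group⟩
  have hmapD : ∀ c, c * z = z * c → c * x = x * c → (g * c * g⁻¹) * z = z * (g * c * g⁻¹) ∧
      (g * c * g⁻¹) * x = x * (g * c * g⁻¹) := fun c h1 h2 => by
    constructor
    · calc g * c * g⁻¹ * z = g * c * g⁻¹ * (g * x * g⁻¹) := by rw [hgx]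
        _ = g * (c * x) * g⁻¹ := by group
        _ = g * x * g⁻¹ * (g * c * g⁻¹) := by rw [h2]; group
        _ = z * (g * c * g⁻¹) := by rw [hgx]
    · calc g * c * g⁻¹ * x = g * c * g⁻¹ * (g * z * g⁻¹) := by rw [hgz]
        _ = g * (c * z) * g⁻¹ := by group
        _ = g * z * g⁻¹ * (g * c * g⁻¹) := by rw [h1]; group
        _ = x * (g * c * g⁻¹) := by rw [hgz]
  have htriv : ∀ e ∈ N, g * e * g⁻¹ ∈ Q → e = 1 := by
    intro e he heQ
    by_contra he1
    have he2 : e * e = 1 := by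
      rcases two_cases (qm (π e)) with h | h
      · rw [C.P.S.sq e he.1, h, zb_zero]
      · exfalso
        refine hxQ ?_
        have := mul_mem heQ heQ
        rwa [show g * e * g⁻¹ * (g * e * g⁻¹) = g * (e * e) * g⁻¹ by group, C.P.S.sq e he.1, h, zb_one, hgz] at this
    have hez : e ≠ z := fun h => hxQ (by rwa [h, hgz] at heQ)
    have hez' : g * e * g⁻¹ ≠ z := fun h => hxQ (by
      have : e = x := by rw [← hgi.1, ← h]; group
      exact this ▸ he.1)
    obtain ⟨h, hh⟩ := isConj_iff.1 (C.P.q_conj C.zt he.1 he2 he1)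
    refine hnear ⟨h, hh ▸ he.1, hh ▸ hez, ?_⟩
    have h3 := C.hsymm (g * h) (by
      rw [show g * h * z * (g * h)⁻¹ = g * (h * z * h⁻¹) * g⁻¹ by group, hh]; exact heQ)
    rwa [show (g * h)⁻¹ * z * (g * h) = h⁻¹ * (g⁻¹ * z * g) * h by group, hgi.1] at h3
  have hNC : ∀ n ∈ N, g * n * g⁻¹ ∈ centralizer ({z} : Set G) ∧ g * n * g⁻¹ ∈ centralizer ({x} : Set G) :=
    fun n hn => ⟨mem_centralizer_singleton_iff.2 (hmapD n (C.P.S.z_comm hn.1)
        (mem_centralizer_singleton_iff.1 hn.2)).1,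
      mem_centralizer_singleton_iff.2 (hmapD n (C.P.S.z_comm hn.1) (mem_centralizer_singleton_iff.1 hn.2)).2⟩
  let F : N → qAut qm := fun n => ρ (g * (n : G) * g⁻¹)
  have hF : Function.Injective F := fun n n' h => by
    have h1 := (hNC _ n.2).1
    have h2 := (hNC _ n'.2).1
    have h3 : g * ((n : G)⁻¹ * (n' : G)) * g⁻¹ ∈ Q := by
      rw [show g * ((n : G)⁻¹ * (n' : G)) * g⁻¹ = (g * (n : G) * g⁻¹)⁻¹ * (g * (n' : G) * g⁻¹) by group]
      refine (C.P.S.rho_ker _ (mul_mem (inv_mem h1) h2)).1 ?_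
      rw [C.P.S.rho_mul _ (inv_mem h1) _ h2, C.P.S.rho_inv h1, inv_mul_eq_one]
      exact h
    exact Subtype.ext (inv_mul_eq_one.1 (htriv _ (N.mul_mem (N.inv_mem n.2) n'.2) h3))
  have hmem : ∀ y, pb (π t) y = 0 → pb y (π a) = 0 → pb y (tv (π t) (ρ b)) = 0 → ∃ q ∈ N, π q = y :=
      fun y h1 h2 h3 => by
    obtain ⟨q, hq, rfl⟩ := C.P.S.pi_surj y
    refine ⟨q, mem_inf.2 ⟨hq, mem_centralizer_singleton_iff.2 ?_⟩, rfl⟩
    have h := C.P.typeC_conj_Q ha hb hbz hat hq (mem_centralizer_singleton_iff.1 ((C.P.mem_A hq).2 h1))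
    rw [h3, pb_comm (π a), h2, add_zero, C.P.eb_zero, one_mul, ← hxab] at h
    exact (mul_inv_eq_iff_eq_mul.1 h).symm
  have hle : Nat.card N ≤ 36 := by
    refine card_fixers C.P.p_sing hT F hF fun n y h1 h2 h3 => ?_
    obtain ⟨q, hq, rfl⟩ := hmem y h1 h2 h3
    have hn := (hNC _ n.2).1
    have hqD : q * z = z * q ∧ q * x = x * q := ⟨C.P.S.z_comm hq.1, mem_centralizer_singleton_iff.1 hq.2⟩
    set m := g * (n : G) * g⁻¹ with hm
    have hk : m * q * m⁻¹ * q⁻¹ ∈ Q := mul_mem (C.P.S.conj_mem hn hq.1) (inv_mem hq.1)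
    have hkx : m * q * m⁻¹ * q⁻¹ ∈ centralizer ({x} : Set G) :=
      mul_mem (mul_mem (mul_mem (hNC _ n.2).2 hq.2) (inv_mem (hNC _ n.2).2)) (inv_mem hq.2)
    have he : g⁻¹ * (m * q * m⁻¹ * q⁻¹) * g ∈ N := by
      have hgq : g⁻¹ * q * g ∈ centralizer ({z} : Set G) ∧ g⁻¹ * q * g ∈ centralizer ({x} : Set G) := by
        rw [mem_centralizer_singleton_iff, mem_centralizer_singleton_iff]
        constructor
        · conv_lhs => rw [← hgi.2]
          conv_rhs => rw [← hgi.2]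
          calc g⁻¹ * q * g * (g⁻¹ * x * g) = g⁻¹ * (q * x) * g := by group
            _ = g⁻¹ * x * g * (g⁻¹ * q * g) := by rw [hqD.2]; group
        · conv_lhs => rw [← hgi.1]
          conv_rhs => rw [← hgi.1]
          calc g⁻¹ * q * g * (g⁻¹ * z * g) = g⁻¹ * (q * z) * g := by group
            _ = g⁻¹ * z * g * (g⁻¹ * q * g) := by rw [hqD.1]; group
      have e : g⁻¹ * (m * q * m⁻¹ * q⁻¹) * g = (n : G) * ((g⁻¹ * q * g) * (n : G)⁻¹ * (g⁻¹ * q * g)⁻¹) := by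
        rw [hm]; group
      rw [e]
      refine mem_inf.2 ⟨mul_mem n.2.1 (C.P.S.conj_mem hgq.1 (inv_mem n.2.1)), ?_⟩
      exact mul_mem n.2.2 (mul_mem (mul_mem hgq.2 (inv_mem n.2.2)) (inv_mem hgq.2))
    have h5 := htriv _ he (by rw [show g * (g⁻¹ * (m * q * m⁻¹ * q⁻¹) * g) * g⁻¹ = m * q * m⁻¹ * q⁻¹ by group]
                              exact hk)
    have h6 : m * q * m⁻¹ = q := by
      rw [show m * q * m⁻¹ = g * (g⁻¹ * (m * q * m⁻¹ * q⁻¹) * g) * g⁻¹ * q by group, h5]; group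
    show (ρ m).1 (π q) = π q
    rw [← C.P.S.rho_pi m hn q hq.1, h6]
  -- a large subgroup of `N`
  let ψ : Q →* Multiplicative (ZMod 2 × ZMod 2 × ZMod 2) :=
    MonoidHom.mk' (fun q => Multiplicative.ofAdd (pb (π t) (π (q : G)), pb (π (q : G)) (π a),
      pb (π (q : G)) (tv (π t) (ρ b)))) fun q q' => by
      rw [coe_mul, C.P.S.pi_mul q q.2 q' q'.2, pb_add_right, pb_add_left, pb_add_left, ← ofAdd_add]
      rfl
  have hker : 64 ≤ Nat.card ψ.ker := by
    have h := card_mul_index ψ.ker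
    rw [index_ker, C.P.S.card] at h
    have h8 : Nat.card ψ.range ≤ 8 := by
      refine le_trans (Subgroup.card_le_card_group _) ?_
      rw [Nat.card_congr Multiplicative.toAdd]
      simp [Nat.card_prod]
    have := Nat.mul_le_mul_left (Nat.card ψ.ker) h8
    omega
  have hsub : Nat.card ψ.ker ≤ Nat.card N := by
    refine Nat.card_le_card_of_injective (fun q => ⟨((q : Q) : G), ?_⟩) fun q q' h => ?_
    · have h1 := congrArg Multiplicative.toAdd (MonoidHom.mem_ker.1 q.2)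
      simp only [ψ, MonoidHom.mk'_apply, toAdd_ofAdd, toAdd_one, Prod.mk_eq_zero] at h1
      obtain ⟨r, hr, hrπ⟩ := hmem _ h1.1 h1.2.1 h1.2.2
      rcases C.P.S.pi_eq hr.1 (q : Q).2 hrπ with e | e <;> rw [e]
      · exact hr
      · exact mul_mem (mem_inf.2 ⟨C.P.S.zQ, mem_centralizer_singleton_iff.2
          (mem_centralizer_singleton_iff.1 hxC).symm⟩) hr
    · simp only [Subtype.mk.injEq] at h
      exact Subtype.ext (Subtype.ext h)
  omega

/-- Such a maximal 2-subgroup is a Sylow subgroup of `C(x)`. -/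
theorem sylow_S {c₀ : ZMod 2} {x : G} (hx : TypeC z t Q R π ρ c₀ x) {S : Subgroup G} (hS : IsPGroup 2 S)
    (hSD : S ≤ centralizer ({z} : Set G) ⊓ centralizer ({x} : Set G))
    (hmax : ∀ T : Subgroup G, IsPGroup 2 T → S ≤ T → T ≤ centralizer ({z} : Set G) ⊓ centralizer ({x} : Set G) → T = S)
    (hzS : z ∈ S) (hcen : ∀ c ∈ centralizer ({z} : Set G), c * c = 1 → c ≠ 1 → (∀ s ∈ S, c * s = s * c) →
        c = z ∨ TypeC z t Q R π ρ c₀ c) :
    ∃ T : Sylow 2 (centralizer ({x} : Set G)), (T : Subgroup (centralizer ({x} : Set G))) = S.subgroupOf _ := by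
  classical
  haveI : Fact (Nat.Prime 2) := ⟨Nat.prime_two⟩
  obtain ⟨T, hT⟩ := (hS.comap_subtype (K := centralizer ({x} : Set G))).exists_le_sylow
  refine ⟨T, le_antisymm (fun y hy => ?_) hT⟩
  by_contra hyS
  set S' := (S.subgroupOf (centralizer ({x} : Set G))).subgroupOf (T : Subgroup (centralizer ({x} : Set G))) with hS'
  have hlt : S' < ⊤ := lt_top_iff_ne_top.2 fun h => hyS (show (⟨y, hy⟩ : T) ∈ S' from h ▸ mem_top _)
  haveI := T.2.isNilpotent
  obtain ⟨n, hn, hnS⟩ := SetLike.exists_of_lt (Group.normalizerCondition_of_isNilpotent S' hlt)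
  set n₀ : G := ((n : centralizer ({x} : Set G)) : G) with hn₀
  have hnx : n₀ * x = x * n₀ := mem_centralizer_singleton_iff.1 (n : centralizer ({x} : Set G)).2
  have hconj : ∀ s ∈ S, n₀ * s * n₀⁻¹ ∈ S ∧ n₀⁻¹ * s * n₀ ∈ S := by
    intro s hs
    have hsx : s ∈ centralizer ({x} : Set G) := (hSD hs).2
    have hsT : (⟨s, hsx⟩ : centralizer ({x} : Set G)) ∈ (T : Subgroup _) := hT hs
    refine ⟨(mem_normalizer_iff.1 hn ⟨⟨s, hsx⟩, hsT⟩).1 hs, ?_⟩
    exact (mem_normalizer_iff.1 (inv_mem hn) ⟨⟨s, hsx⟩, hsT⟩).1 hs |> fun h => by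
      simpa [S', mem_subgroupOf] using h
  -- `n` moves `z`
  have hnz : n₀ * z * n₀⁻¹ ≠ z := by
    intro h
    let U := (T : Subgroup (centralizer ({x} : Set G))).map (centralizer ({x} : Set G)).subtype ⊓
      centralizer ({z} : Set G)
    have hU : IsPGroup 2 U := (T.2.map _).to_le inf_le_left
    have hSU : S ≤ U := fun s hs => mem_inf.2 ⟨⟨⟨s, (hSD hs).2⟩, hT hs, rfl⟩, (hSD hs).1⟩
    have hUD : U ≤ centralizer ({z} : Set G) ⊓ centralizer ({x} : Set G) := fun u hu =>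
      mem_inf.2 ⟨(mem_inf.1 hu).2, map_subtype_le _ (mem_inf.1 hu).1⟩
    have hnU : n₀ ∈ U := mem_inf.2 ⟨⟨_, n.2, rfl⟩, mem_centralizer_singleton_iff.2 (mul_inv_eq_iff_eq_mul.1 h)⟩
    rw [hmax U hU hSU hUD] at hnU
    exact hnS hnU
  obtain ⟨hxC, -⟩ := C.typeC_basic hx
  have hstep : ∀ u : G, (∀ s ∈ S, u * s * u⁻¹ ∈ S ∧ u⁻¹ * s * u ∈ S) → u * z * u⁻¹ ≠ z →
      ∃ d ∈ centralizer ({z} : Set G), d * (u * z * u⁻¹) * d⁻¹ = x := by
    intro u hu hne
    have hcS := (hu z hzS).1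
    have hcom : ∀ s ∈ S, u * z * u⁻¹ * s = s * (u * z * u⁻¹) := fun s hs => by
      have h := mem_centralizer_singleton_iff.1 (hSD (hu s hs).2).1
      calc u * z * u⁻¹ * s = u * (z * (u⁻¹ * s * u)) * u⁻¹ := by group
        _ = u * ((u⁻¹ * s * u) * z) * u⁻¹ := by rw [h]
        _ = s * (u * z * u⁻¹) := by group
    rcases hcen _ (hSD hcS).1 (by
        rw [show u * z * u⁻¹ * (u * z * u⁻¹) = u * (z * z) * u⁻¹ by group, C.P.S.z2, mul_one, mul_inv_cancel])
      (fun h => C.P.S.z1 (conj_eq_one_iff.1 h)) hcom with h | h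
    · exact absurd h hne
    · obtain ⟨d, hd, -, hde⟩ := C.P.typeC_conj h hx
      exact ⟨d, hd, hde⟩
  obtain ⟨d, hd, hde⟩ := hstep n₀ hconj hnz
  obtain ⟨d', hd', hde'⟩ := hstep n₀⁻¹ (fun s hs => by rw [inv_inv]; exact (hconj s hs).symm) (by
    rw [inv_inv]
    intro h
    exact hnz (by conv_lhs => rw [← h]
                  group))
  rw [inv_inv] at hde'
  have e1 : d'⁻¹ * z * d' = z := by
    rw [mem_centralizer_singleton_iff.1 (inv_mem hd'), mul_assoc, inv_mul_cancel, mul_one]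
  have e2 : d * z * d⁻¹ = z := by rw [mem_centralizer_singleton_iff.1 hd, mul_inv_cancel_right]
  refine C.no_exchange (g := d * n₀ * d'⁻¹) hx ?_ ?_
  · rw [show d * n₀ * d'⁻¹ * z * (d * n₀ * d'⁻¹)⁻¹ = d * (n₀ * (d'⁻¹ * z * d') * n₀⁻¹) * d⁻¹ by group, e1, hde]
  · conv_lhs => rw [← hde']
    rw [show d * n₀ * d'⁻¹ * (d' * (n₀⁻¹ * z * n₀) * d'⁻¹) * (d * n₀ * d'⁻¹)⁻¹ = d * z * d⁻¹ by group, e2]

theorem not_conj_z {c₀ : ZMod 2} {x : G} (hx : TypeC z t Q R π ρ c₀ x) : ¬ IsConj z x := by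
  classical
  haveI : Fact (Nat.Prime 2) := ⟨Nat.prime_two⟩
  intro hc
  obtain ⟨g, hg⟩ := isConj_iff.1 hc
  obtain ⟨hxC, -, hxQ, hx2, -, -⟩ := C.typeC_basic hx
  obtain ⟨S, hS, hSD, hmax, hzS, hcen⟩ := C.exists_S hx
  obtain ⟨T, hT⟩ := C.sylow_S hx hS hSD hmax hzS hcen
  have hQp : IsPGroup 2 Q := IsPGroup.of_card (n := 9) (by rw [C.P.S.card]; norm_num)
  have hsup : IsPGroup 2 ↥(Q ⊔ S) :=
    IsPGroup.to_sup_of_normal_left' hQp hS ((hSD.trans inf_le_left).trans C.P.S.norm)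
  set U := (Q ⊔ S).map (MulAut.conj g).toMonoidHom with hU
  have hUx : U ≤ centralizer ({x} : Set G) := by
    rintro _ ⟨y, hy, rfl⟩
    have hyz := mem_centralizer_singleton_iff.1 (sup_le C.P.S.le (hSD.trans inf_le_left) hy)
    rw [mem_centralizer_singleton_iff, ← hg]
    show g * y * g⁻¹ * (g * z * g⁻¹) = g * z * g⁻¹ * (g * y * g⁻¹)
    rw [show g * y * g⁻¹ * (g * z * g⁻¹) = g * (y * z) * g⁻¹ by group, hyz]
    group
  have hUp : IsPGroup 2 U := hsup.map _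
  obtain ⟨T', hT'⟩ := (hUp.comap_subtype (K := centralizer ({x} : Set G))).exists_le_sylow
  have h1 : Nat.card ↥(Q ⊔ S) ≤ Nat.card S := by
    calc Nat.card ↥(Q ⊔ S) = Nat.card U := (card_map_of_injective (MulEquiv.injective _)).symm
      _ = Nat.card (U.subgroupOf (centralizer ({x} : Set G))) := (Nat.card_congr (subgroupOfEquivOfLe hUx).toEquiv).symm
      _ ≤ Nat.card (T' : Subgroup (centralizer ({x} : Set G))) := Subgroup.card_le_of_le hT'
      _ = Nat.card (T : Subgroup (centralizer ({x} : Set G))) := by rw [T'.card_eq_multiplicity, T.card_eq_multiplicity]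
      _ = Nat.card S := by rw [hT, Nat.card_congr (subgroupOfEquivOfLe (hSD.trans inf_le_right)).toEquiv]
  have h2 : S = Q ⊔ S := Subgroup.eq_of_le_of_card_ge le_sup_right h1
  rcases C.P.S.eq_one_or_z (c := x) (fun q hq => (mem_centralizer_singleton_iff.1
    (hSD (h2 ▸ mem_sup_left hq)).2).symm) with e | e
  · exact hxQ (e ▸ one_mem _)
  · exact hxQ (e ▸ C.P.S.zQ)

theorem not_conj01 {x₀ x₁ : G} (h₀ : TypeC z t Q R π ρ 0 x₀) (h₁ : TypeC z t Q R π ρ 1 x₁) : ¬ IsConj x₀ x₁ := by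
  classical
  haveI : Fact (Nat.Prime 2) := ⟨Nat.prime_two⟩
  intro hc
  obtain ⟨g, hg⟩ := isConj_iff.1 hc.symm
  obtain ⟨hC₀, -, -, -, hin₀, hq₀⟩ := C.typeC_basic h₀
  obtain ⟨hC₁, -, -, -, hin₁, hq₁⟩ := C.typeC_basic h₁
  obtain ⟨S₀, hS₀, hSD₀, hmax₀, hzS₀, hcen₀⟩ := C.exists_S h₀
  obtain ⟨T, hT⟩ := C.sylow_S h₀ hS₀ hSD₀ hmax₀ hzS₀ hcen₀
  obtain ⟨S₁, hS₁, hSD₁, -, hzS₁, hcen₁⟩ := C.exists_S h₁
  set U := S₁.map (MulAut.conj g).toMonoidHom with hU
  have hUx : U ≤ centralizer ({x₀} : Set G) := by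
    rintro _ ⟨y, hy, rfl⟩
    have hyx := mem_centralizer_singleton_iff.1 (hSD₁ hy).2
    rw [mem_centralizer_singleton_iff, ← hg]
    show g * y * g⁻¹ * (g * x₁ * g⁻¹) = g * x₁ * g⁻¹ * (g * y * g⁻¹)
    rw [show g * y * g⁻¹ * (g * x₁ * g⁻¹) = g * (y * x₁) * g⁻¹ by group, hyx]
    group
  obtain ⟨k, hk⟩ := CfsgLib.Transfer.exists_conj_mem_sylow T (S := U.subgroupOf (centralizer ({x₀} : Set G)))
    (hS₁.map _).comap_subtype
  set h : G := (k : G) * g with hh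
  have hhx : h * x₁ * h⁻¹ = x₀ := by
    rw [hh, show (k : G) * g * x₁ * ((k : G) * g)⁻¹ = (k : G) * (g * x₁ * g⁻¹) * (k : G)⁻¹ by group, hg,
      mem_centralizer_singleton_iff.1 k.2, mul_inv_cancel_right]
  have hmap : ∀ s ∈ S₁, h * s * h⁻¹ ∈ S₀ := fun s hs => by
    have hgs : g * s * g⁻¹ ∈ U := ⟨s, hs, by simp [mul_assoc]⟩
    have := hk ⟨g * s * g⁻¹, hUx hgs⟩ hgs
    rw [hT, mem_subgroupOf] at this
    rw [hh]
    simpa [mul_assoc] using this
  have hzc : ∀ s ∈ S₁, h⁻¹ * z * h * s = s * (h⁻¹ * z * h) := fun s hs => by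
    have h1 := mem_centralizer_singleton_iff.1 (hSD₀ (hmap s hs)).1
    calc h⁻¹ * z * h * s = h⁻¹ * (z * (h * s * h⁻¹)) * h := by group
      _ = h⁻¹ * ((h * s * h⁻¹) * z) * h := by rw [h1]
      _ = s * (h⁻¹ * z * h) := by group
  have hC : h ∈ centralizer ({z} : Set G) := by
    rcases hcen₁ (h⁻¹ * z * h) (mem_centralizer_singleton_iff.2 (hzc z hzS₁))
      (by rw [show h⁻¹ * z * h * (h⁻¹ * z * h) = h⁻¹ * (z * z) * h by group, C.P.S.z2, mul_one, inv_mul_cancel])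
      (fun e => C.P.S.z1 (by
        rw [show z = h * (h⁻¹ * z * h) * h⁻¹ by group, e, mul_one, mul_inv_cancel])) hzc with e | e
    · rw [mem_centralizer_singleton_iff]
      conv_lhs => rw [← e]
      group
    · exact absurd (isConj_iff.2 ⟨h⁻¹, by rw [inv_inv]⟩) (C.not_conj_z e)
  -- the invariant
  have hρ : ρ x₀ = ρ h * ρ x₁ * (ρ h)⁻¹ := by
    rw [← hhx, C.P.S.rho_mul (h * x₁) (mul_mem hC hC₁) h⁻¹ (inv_mem hC), C.P.S.rho_mul h hC x₁ hC₁,
      C.P.S.rho_inv hC]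
  have h1 := inT_range_quad C.P.p_sing hin₀ ((ρ h).1 (pt (π t)))
  have h2 : ((ρ h)⁻¹).1 ((ρ h).1 (pt (π t))) = pt (π t) := by
    rw [← qAut_mul_apply, inv_mul_cancel]; rfl
  rw [hq₀, mul_zero, hρ, qAut_mul_apply, qAut_mul_apply, h2, ← map_add, qAut_map,
    inT_range_quad C.P.p_sing hin₁, hq₁, pt_spec C.P.p_sing] at h1
  exact one_ne_zero ((one_mul _).symm.trans h1)

end Config

end CfsgLib.CoType
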