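import Mathlib
import Cfsg.Agent.Lib.CoType.Distinct
import Cfsg.Agent.Lib.Classical.QuadBridge
import Cfsg.Agent.Lib.LargeExtra.OutExtra
import Cfsg.Agent.Lib.LargeExtra.Automizer
import Cfsg.Agent.Lib.LargeExtra.Sections
import Cfsg.Agent.Lib.LargeExtra.SubExtra

/-!
Groups of Conway type: from the hypotheses of the statements to the working setting.
-/

set_option autoImplicit false
set_option linter.style.haveILetI false
set_option linter.unusedSectionVars false
set_option linter.unusedSimpArgs false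

namespace CfsgLib.CoType

open Subgroup Cfsg CfsgLib.Classical CfsgLib.LargeExtra

/-- The action of a group normalizing an extraspecial group on its chart. -/
theorem exists_chart_action {ι : Type} [Fintype ι] [DecidableEq ι] (q : QuadraticForm (ZMod 2) (ι → ZMod 2))
    {H : Type*} [Group H] [Finite H] (Q : Subgroup H) [Q.Normal] (hQ : IsExtraspecial 2 Q) {z : Q}
    (hz : z ∈ center Q) (hfix : ∀ c : H, c * (z : H) * c⁻¹ = z)
    (hself : ∀ c : H, (∀ x ∈ Q, c * x = x * c) → c ∈ Q) (C : OutExtra.Chart Q (⇑q) z) :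
    ∃ ρ : H →* qAut q, ρ.ker = Q ∧ ∀ (c : H) (x : Q), C.π (MulAut.conjNormal c x) = (ρ c).1 (C.π x) := by
  classical
  have hcen := C.center_le hQ hz
  have hfz : ∀ c : H, MulAut.conjNormal c z = z := fun c => Subtype.ext (by
    rw [MulAut.conjNormal_apply]; exact hfix c)
  have hwd : ∀ (c : H) x y, C.π x = C.π y → C.π (MulAut.conjNormal c x) = C.π (MulAut.conjNormal c y) := by
    intro c x y e
    rcases C.pi_eq e with e' | e'
    · rw [inv_mul_eq_one.1 e']
    · rw [show y = x * z by rw [← e', mul_inv_cancel_left], map_mul, hfz, C.pi_mul,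
        (C.ker_iff z).2 (.inr rfl), add_zero]
  let s := Function.surjInv C.surj
  have hs : ∀ v, C.π (s v) = v := Function.surjInv_eq C.surj
  let L : H → ((ι → ZMod 2) →ₗ[ZMod 2] (ι → ZMod 2)) := fun c =>
    (AddMonoidHom.mk' (fun v => C.π (MulAut.conjNormal c (s v))) fun u v => by
      rw [← C.pi_mul, ← map_mul]
      exact hwd c _ _ (by rw [C.pi_mul, hs, hs, hs])).toZModLinearMap 2
  have hL : ∀ c x, L c (C.π x) = C.π (MulAut.conjNormal c x) := fun c x => hwd c _ _ (hs _)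
  have hmul : ∀ c d v, L (c * d) v = L c (L d v) := fun c d v => by
    obtain ⟨x, rfl⟩ := C.surj v
    rw [hL, hL, hL, map_mul]
    rfl
  have hone : ∀ v, L 1 v = v := fun v => by
    obtain ⟨x, rfl⟩ := C.surj v
    rw [hL, map_one]
    rfl
  have hinv : ∀ c v, L c (L c⁻¹ v) = v ∧ L c⁻¹ (L c v) = v := fun c v =>
    ⟨by rw [← hmul, mul_inv_cancel, hone], by rw [← hmul, inv_mul_cancel, hone]⟩
  have hpres : ∀ c v, q (L c v) = q v := by
    intro c v
    obtain ⟨x, rfl⟩ := C.surj v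
    rw [hL]
    have e := congrArg (MulAut.conjNormal c) (C.sq_eq x)
    rw [map_mul, C.sq_eq, apply_ite (MulAut.conjNormal c), map_one, hfz] at e
    rcases two_cases (q (C.π (MulAut.conjNormal c x))) with h1 | h1 <;> rcases two_cases (q (C.π x)) with h2 | h2 <;>
      simp [h1, h2] at e ⊢
    · exact C.z_ne e.symm
    · exact C.z_ne e
  let ρ : H →* qAut q := MonoidHom.mk' (fun c => ⟨LinearEquiv.ofLinear (L c) (L c⁻¹)
    (LinearMap.ext fun v => (hinv c v).1) (LinearMap.ext fun v => (hinv c v).2), hpres c⟩)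
    fun c d => qAut_ext fun v => hmul c d v
  have hρ : ∀ c v, (ρ c).1 v = L c v := fun c v => rfl
  refine ⟨ρ, ?_, fun c x => by rw [hρ, hL]⟩
  ext c
  rw [MonoidHom.mem_ker]
  constructor
  · intro h
    obtain ⟨g, hg⟩ := exists_inner_of_trivial_mod_center hQ (MulAut.conjNormal c) fun x => by
      have e : C.π (MulAut.conjNormal c x * x⁻¹) = 0 := by
        rw [C.pi_mul, C.pi_inv, ← hL, ← hρ, h]
        exact funext fun i => CharTwo.add_self_eq_zero _
      rcases (C.ker_iff _).1 e with e | e <;> rw [e]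
      exacts [one_mem _, hz]
    have hmem : (g : H)⁻¹ * c ∈ Q := by
      refine hself _ fun x hx => ?_
      have h1 := congrArg Subtype.val (hg ⟨x, hx⟩)
      rw [MulAut.conjNormal_apply] at h1
      simp only [Subgroup.coe_mul, Subgroup.coe_inv] at h1
      calc (g : H)⁻¹ * c * x = (g : H)⁻¹ * (c * x * c⁻¹) * c := by group
        _ = (g : H)⁻¹ * ((g : H) * x * (g : H)⁻¹) * c := by rw [h1]
        _ = x * ((g : H)⁻¹ * c) := by group
    simpa using mul_mem g.2 hmem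
  · intro hc
    refine qAut_ext fun v => ?_
    obtain ⟨x, rfl⟩ := C.surj v
    rw [hρ, hL]
    show C.π (MulAut.conjNormal c x) = C.π x
    have e : MulAut.conjNormal c x = ⟨c, hc⟩ * x * ⟨c, hc⟩⁻¹ := Subtype.ext (MulAut.conjNormal_apply _ _)
    rw [e, C.pi_mul, C.pi_mul, C.pi_inv]
    funext i
    simp only [Pi.add_apply]
    linear_combination CharTwo.add_self_eq_zero (C.π ⟨c, hc⟩ i)

local notation "q8" => Cfsg.quadFormPlus 4 (ZMod 2)

theorem coe_qm : ⇑qm = q8 := coe_qPlus 4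

theorem card_omega : Nat.card ↥(Cfsg.Omega (ZMod 2) q8) = 174182400 := by
  rw [← coe_qm]
  haveI : Finite ↥(isometryGroup (ZMod 2) (⇑qm)) := inferInstance
  have h1 := index_Omega_two qm polarNondeg_qm (by simp) (.inr (by simp))
  have h2 := card_mul_index (Omega (ZMod 2) ⇑qm)
  rw [h1, Nat.card_congr (isoEquiv qm).toEquiv, card_qAut8] at h2
  omega

variable {G : Type*} [Group G] [Finite G]

/-- The setting from the hypotheses on the centralizer. -/
theorem setup_of_hyp_map (z : G) (hz : orderOf z = 2) (Q : Subgroup (Subgroup.centralizer ({z} : Set G))) [Q.Normal]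
    (hF : Cfsg.generalizedFittingSubgroup (Subgroup.centralizer ({z} : Set G)) = Q)
    (hQ : Cfsg.IsExtraspecial 2 Q) (hcard : Nat.card Q = 2 ^ 9)
    (e : (Subgroup.centralizer ({z} : Set G)) ⧸ Q ≃* Cfsg.Omega (ZMod 2) q8) :
    ∃ (π : G → V8) (ρ : G → qAut qm), Setup z (Q.map (Subgroup.centralizer ({z} : Set G)).subtype) π ρ := by
  classical
  set zH : (Subgroup.centralizer ({z} : Set G)) := ⟨z, mem_centralizer_singleton_iff.2 rfl⟩ with hzH
  have hz1 : z ≠ 1 := fun h => by rw [h, orderOf_one] at hz; omega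
  have hzc : ∀ c : (Subgroup.centralizer ({z} : Set G)), c * zH = zH * c := fun c => Subtype.ext (mem_centralizer_singleton_iff.1 c.2)
  have hself : ∀ c : (Subgroup.centralizer ({z} : Set G)), (∀ x ∈ Q, c * x = x * c) → c ∈ Q := fun c hc => by
    have h := CfsgLib.Cores.centralizer_generalizedFittingSubgroup_le (G := (Subgroup.centralizer ({z} : Set G))) (x := c)
      (mem_centralizer_iff.2 fun x hx => (hc x (hF ▸ hx)).symm)
    rwa [hF] at h
  have hzQ : zH ∈ Q := hself zH fun x _ => (hzc x).symm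
  -- a chart
  obtain ⟨z₀, hz₀, hch⟩ := OutExtra.exists_chart hQ 3 (by rw [hcard])
  obtain ⟨w, -, hw2, hwc⟩ := exists_centre_gen hQ
  have hz₀1 : z₀ ≠ 1 := by rcases hch with h | h <;> obtain ⟨C⟩ := h <;> exact C.z_ne
  have hzz₀ : z₀ = ⟨zH, hzQ⟩ := by
    have h1 : (⟨zH, hzQ⟩ : Q) ∈ center Q := mem_center_iff.2 fun y => Subtype.ext (hzc y)
    have h2 : (⟨zH, hzQ⟩ : Q) ≠ 1 := fun h => hz1 (congrArg (fun y : Q => ((y : (Subgroup.centralizer ({z} : Set G))) : G)) h)
    rw [(hwc _ hz₀).resolve_left hz₀1, (hwc _ h1).resolve_left h2]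
  have hfix : ∀ c : (Subgroup.centralizer ({z} : Set G)), c * (z₀ : (Subgroup.centralizer ({z} : Set G))) * c⁻¹ = z₀ := fun c => by
    rw [hzz₀]
    show c * zH * c⁻¹ = zH
    rw [hzc, mul_inv_cancel_right]
  have hidx : ∀ {K : Type} [Group K] (f : (Subgroup.centralizer ({z} : Set G)) →* K), f.ker = Q → Nat.card f.range = 174182400 := fun f hf => by
    rw [← index_ker, hf, index_eq_card, Nat.card_congr e.toEquiv, card_omega]
  rcases hch with hC | hC <;> obtain ⟨C⟩ := hC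
  rotate_left
  · exfalso
    obtain ⟨ρ₀, hker, -⟩ := exists_chart_action (qExt 3 (qBin (1 : ZMod 2) 1)) Q hQ hz₀ hfix hself C
    haveI := finite_qAut (qExt 3 (qBin (1 : ZMod 2) 1))
    have h := card_subgroup_dvd_card ρ₀.range
    rw [hidx ρ₀ hker, card_qAut_minus (show BinAniso (1 : ZMod 2) 1 by unfold BinAniso; decide) 3] at h
    revert h
    simp [Finset.prod_range_succ]
  obtain ⟨ρ₀, hker, hπρ⟩ := exists_chart_action qm Q hQ hz₀ hfix hself C
  haveI := finite_qAut qm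
  have hev : ρ₀.range = Ev := by
    have hc := hidx ρ₀ hker
    have hi : ρ₀.range.index = 2 := by
      have h := card_mul_index ρ₀.range
      rw [hc, card_qAut8] at h
      omega
    haveI : ρ₀.range.Normal := normal_of_index_eq_two hi
    have hle : Ev ≤ ρ₀.range := by
      refine Subgroup.Normal.quotient_commutative_iff_commutator_le.1 ?_
      haveI : Fact (Nat.Prime 2) := ⟨Nat.prime_two⟩
      haveI : IsCyclic (qAut qm ⧸ ρ₀.range) := isCyclic_of_prime_card (p := 2) (by rw [← index_eq_card, hi])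
      exact inferInstance
    refine (eq_of_le_of_card_ge hle ?_).symm
    have h := card_mul_index Ev
    rw [index_ev, card_qAut8] at h
    exact (hc.trans (by omega : 174182400 = Nat.card Ev)).le
  -- the setting on `G`
  set Qg := Q.map (Subgroup.centralizer ({z} : Set G)).subtype with hQg
  have hmemQ : ∀ x, x ∈ Qg ↔ ∃ hx : x ∈ (Subgroup.centralizer ({z} : Set G)), (⟨x, hx⟩ : (Subgroup.centralizer ({z} : Set G))) ∈ Q := fun x =>
    ⟨fun ⟨y, hy, hyx⟩ => hyx ▸ ⟨y.2, hy⟩, fun ⟨hx, h⟩ => ⟨⟨x, hx⟩, h, rfl⟩⟩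
  set π : G → V8 := fun x => if h : x ∈ Qg then C.π ⟨⟨x, ((hmemQ x).1 h).1⟩, ((hmemQ x).1 h).2⟩ else 0 with hπdef
  set ρ : G → qAut qm := fun x => if h : x ∈ (Subgroup.centralizer ({z} : Set G)) then ρ₀ ⟨x, h⟩ else 1 with hρdef
  have hπ : ∀ x : Q, π ((x : (Subgroup.centralizer ({z} : Set G))) : G) = C.π x := fun x => by
    rw [hπdef]; dsimp only
    rw [dif_pos ((hmemQ _).2 ⟨(x : (Subgroup.centralizer ({z} : Set G))).2, x.2⟩)]
  have hρ : ∀ c : (Subgroup.centralizer ({z} : Set G)), ρ (c : G) = ρ₀ c := fun c => by rw [hρdef]; dsimp only; rw [dif_pos c.2]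
  have hlift : ∀ x ∈ Qg, ∃ y : Q, ((y : (Subgroup.centralizer ({z} : Set G))) : G) = x := fun x hx =>
    ⟨⟨⟨x, ((hmemQ x).1 hx).1⟩, ((hmemQ x).1 hx).2⟩, rfl⟩
  have hQgC : Qg ≤ (Subgroup.centralizer ({z} : Set G)) := map_subtype_le Q
  have S : Setup z Qg π ρ := by
    refine ⟨by rw [← _root_.sq, ← hz, pow_orderOf_eq_one], hz1, hQgC, ⟨zH, hzQ, rfl⟩, ?_, ?_, ?_, fun v => ?_,
      fun a ha => ?_, fun a ha => ?_, ?_, ?_, fun c hc => ?_, fun g => ?_⟩
    · rw [card_map_of_injective (Subgroup.subtype_injective (Subgroup.centralizer ({z} : Set G))), hcard]; norm_num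
    · intro c hc
      rw [mem_normalizer_iff]
      intro x
      constructor
      · rintro ⟨y, hy, rfl⟩
        exact ⟨⟨c, hc⟩ * y * ⟨c, hc⟩⁻¹, (inferInstance : Q.Normal).conj_mem y hy _, rfl⟩
      · rintro ⟨y, hy, hyx⟩
        refine ⟨⟨c, hc⟩⁻¹ * y * ⟨c, hc⟩, by simpa using (inferInstance : Q.Normal).conj_mem y hy ⟨c, hc⟩⁻¹, ?_⟩
        show c⁻¹ * (y : G) * c = x
        rw [show (y : G) = c * x * c⁻¹ from hyx]
        group
    · intro a ha b hb
      obtain ⟨a, rfl⟩ := hlift a ha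
      obtain ⟨b, rfl⟩ := hlift b hb
      rw [hπ, hπ, ← C.pi_mul, ← hπ]
      rfl
    · obtain ⟨x, rfl⟩ := C.surj v
      exact ⟨((x : (Subgroup.centralizer ({z} : Set G))) : G), (hmemQ _).2 ⟨(x : (Subgroup.centralizer ({z} : Set G))).2, x.2⟩, hπ x⟩
    · obtain ⟨a, rfl⟩ := hlift a ha
      rw [hπ, C.ker_iff, hzz₀]
      refine or_congr ?_ ?_
      · exact ⟨fun h => by rw [h]; rfl, fun h => Subtype.ext (Subtype.ext h)⟩
      · exact ⟨fun h => by rw [h], fun h => Subtype.ext (Subtype.ext h)⟩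
    · obtain ⟨a, rfl⟩ := hlift a ha
      rw [hπ, show ((a : (Subgroup.centralizer ({z} : Set G))) : G) * ((a : (Subgroup.centralizer ({z} : Set G))) : G) = (((a * a : Q) : (Subgroup.centralizer ({z} : Set G))) : G) from rfl, C.sq_eq, zb]
      rcases two_cases (qm (C.π a)) with h | h <;> simp [h, hzz₀]
      rfl
    · intro a ha b hb
      have h := hρ (⟨a, ha⟩ * ⟨b, hb⟩)
      rw [map_mul, ← hρ ⟨a, ha⟩, ← hρ ⟨b, hb⟩] at h
      exact h
    · intro c hc a ha
      obtain ⟨a, rfl⟩ := hlift a ha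
      rw [hπ, show c = ((⟨c, hc⟩ : (Subgroup.centralizer ({z} : Set G))) : G) from rfl, hρ, ← hπρ]
      exact hπ (MulAut.conjNormal (⟨c, hc⟩ : (Subgroup.centralizer ({z} : Set G))) a)
    · rw [show c = ((⟨c, hc⟩ : (Subgroup.centralizer ({z} : Set G))) : G) from rfl, hρ, ← MonoidHom.mem_ker, hker]
      exact ⟨fun h => (hmemQ _).2 ⟨hc, h⟩, fun h => ((hmemQ _).1 h).2⟩
    · rw [← hev, MonoidHom.mem_range]
      exact ⟨fun ⟨c, h⟩ => ⟨(c : G), c.2, by rw [hρ, h]⟩,
        fun ⟨c, hc, h⟩ => ⟨⟨c, hc⟩, by rw [← hρ]; exact h⟩⟩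
  exact ⟨π, ρ, S⟩

theorem config_of_hyp_map (z : G) (hz : orderOf z = 2) (Q : Subgroup (Subgroup.centralizer ({z} : Set G))) [Q.Normal]
    (hF : Cfsg.generalizedFittingSubgroup (Subgroup.centralizer ({z} : Set G)) = Q)
    (hQ : Cfsg.IsExtraspecial 2 Q) (hcard : Nat.card Q = 2 ^ 9)
    (e : (Subgroup.centralizer ({z} : Set G)) ⧸ Q ≃* Cfsg.Omega (ZMod 2) q8)
    (hnwc : ∃ g : G, (∃ hq : g * z * g⁻¹ ∈ Subgroup.centralizer ({z} : Set G),
      (⟨g * z * g⁻¹, hq⟩ : Subgroup.centralizer ({z} : Set G)) ∈ Q) ∧ g * z * g⁻¹ ≠ z) :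
    ∃ (t : G) (R : Subgroup G) (π π' : G → V8) (ρ ρ' : G → qAut qm),
      Config z t (Q.map (Subgroup.centralizer ({z} : Set G)).subtype) R π π' ρ ρ' := by
  classical
  obtain ⟨π, ρ, S⟩ := setup_of_hyp_map z hz Q hF hQ hcard e
  set Qg := Q.map (Subgroup.centralizer ({z} : Set G)).subtype with hQg
  have hQgC : Qg ≤ (Subgroup.centralizer ({z} : Set G)) := map_subtype_le Q
  -- the relation and the pair
  have eQ := Q.equivMapOfInjective (Subgroup.centralizer ({z} : Set G)).subtype (Subgroup.subtype_injective (Subgroup.centralizer ({z} : Set G)))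
  have hEg : IsExtraspecial 2 Qg := isExtraspecial_of_mulEquiv eQ hQ
  have F := fData hz hQgC (by rw [hF]) hEg
  have hsym : ∀ g : G, g * z * g⁻¹ ∈ Qg → g⁻¹ * z * g ∈ Qg := by
    intro g hg
    by_cases hgz : g * z * g⁻¹ = z
    · rw [show g⁻¹ * z * g = z by
        calc g⁻¹ * z * g = g⁻¹ * (g * z * g⁻¹) * g := by rw [hgz]
          _ = z := by group]
      exact S.zQ
    · exact PairHyp.mem_map_iff.1 (PairHyp.automizer ⟨hEg, F.centre, F.ord, F.self, F.normal, hg, hgz⟩).2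
  obtain ⟨g, ⟨hq, hm⟩, hne⟩ := hnwc
  have ht : g * z * g⁻¹ ∈ Qg := ⟨_, hm, rfl⟩
  exact ⟨g * z * g⁻¹, Qg.map (MulAut.conj g).toMonoidHom, π, fun x => π (g⁻¹ * x * g), ρ,
    fun x => ρ (g⁻¹ * x * g), ⟨⟨S, S.conj g, ht, mem_conj_iff.2 (hsym g ht), hne⟩, ⟨g, rfl, rfl, fun _ => rfl⟩, hsym⟩⟩

theorem config_of_hyp (z : G) (hz : orderOf z = 2) (Q : Subgroup (Subgroup.centralizer ({z} : Set G))) [Q.Normal]
    (hF : Cfsg.generalizedFittingSubgroup (Subgroup.centralizer ({z} : Set G)) = Q)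
    (hQ : Cfsg.IsExtraspecial 2 Q) (hcard : Nat.card Q = 2 ^ 9)
    (e : (Subgroup.centralizer ({z} : Set G)) ⧸ Q ≃* Cfsg.Omega (ZMod 2) q8)
    (hnwc : ∃ g : G, (∃ hq : g * z * g⁻¹ ∈ Subgroup.centralizer ({z} : Set G),
      (⟨g * z * g⁻¹, hq⟩ : Subgroup.centralizer ({z} : Set G)) ∈ Q) ∧ g * z * g⁻¹ ≠ z) :
    ∃ (t : G) (Qg R : Subgroup G) (π π' : G → V8) (ρ ρ' : G → qAut qm), Config z t Qg R π π' ρ ρ' := by
  obtain ⟨t, R, π, π', ρ, ρ', C⟩ := config_of_hyp_map z hz Q hF hQ hcard e hnwc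
  exact ⟨t, _, R, π, π', ρ, ρ', C⟩

end CfsgLib.CoType
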