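import Mathlib
import Cfsg.Agent.Lib.CoType.RankFour
import Cfsg.Agent.Lib.Classical.Witt

/-!
Root elements at orthogonal singular points: the maximal totally singular subspaces fall into those whose root
elements commute and those whose do not.
-/

set_option autoImplicit false
set_option linter.style.haveILetI false
set_option linter.unusedSectionVars false
set_option linter.unusedSimpArgs false

namespace CfsgLib.CoType

open Subgroup CfsgLib.Classical

/-! ### The standard frame -/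

/-- The first half of the frame. -/
def fe (i : Fin 4) : V8 := Pi.single (Sum.inl i) 1

/-- The second half of the frame. -/
def ff (i : Fin 4) : V8 := Pi.single (Sum.inr i) 1

/-- The form, computably. -/
def qd (v : V8) : ZMod 2 :=
  v (.inl 0) * v (.inr 0) + v (.inl 1) * v (.inr 1) + v (.inl 2) * v (.inr 2) + v (.inl 3) * v (.inr 3)

/-- The polar form, computably. -/
def bd (u v : V8) : ZMod 2 := qd (u + v) - qd u - qd v

theorem qm_qd (v : V8) : qm v = qd v := qm_apply v

theorem pb_bd (u v : V8) : pb u v = bd u v := by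
  simp only [pb, QuadraticMap.polar, bd, qm_qd]

/-- The standard maximal singular subspace. -/
def InW (x : V8) : Prop := ∀ i : Fin 4, x (.inr i) = 0

theorem inW_perp {x y : V8} (hx : InW x) (hy : InW y) : pb x y = 0 := by
  rw [pb_bd, bd, qd, qd, qd]
  simp [Pi.add_apply, hx 0, hx 1, hx 2, hx 3, hy 0, hy 1, hy 2, hy 3]

theorem inW_qm {x : V8} (hx : InW x) : qm x = 0 := by
  rw [qm_qd, qd]
  simp [hx 0, hx 1, hx 2, hx 3]

theorem inW_add {x y : V8} (hx : InW x) (hy : InW y) : InW (x + y) := fun i => by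
  rw [Pi.add_apply, hx i, hy i, add_zero]

theorem inW_fe (i : Fin 4) : InW (fe i) := fun j => Pi.single_eq_of_ne (by simp) _

theorem bd_fe (x : V8) (i : Fin 4) : bd (fe i) x = x (.inr i) := by
  fin_cases i <;> simp [bd, qd, fe, Pi.single_apply] <;> ring

theorem inW_of_perp {x : V8} (h : ∀ i, pb (fe i) x = 0) : InW x := fun i => by
  rw [show x (.inr i) = bd (fe i) x from (bd_fe x i).symm, ← pb_bd, h i]

/-- An isometry carrying the standard frame to four independent orthogonal singular vectors. -/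
theorem exists_frame_map (a : Fin 4 → V8) (hts : ∀ i j, pb (a i) (a j) = 0) (hq : ∀ i, qm (a i) = 0)
    (hind : ∀ c : Fin 4 → ZMod 2, c 0 • a 0 + c 1 • a 1 + c 2 • a 2 + c 3 • a 3 = 0 → c = 0) :
    ∃ σ : qAut qm, ∀ i, σ.1 (fe i) = a i := by
  let W : Submodule (ZMod 2) V8 :=
    { carrier := {x | InW x}
      zero_mem' := fun _ => rfl
      add_mem' := fun hx hy => inW_add hx hy
      smul_mem' := fun c x hx i => by rw [Pi.smul_apply, hx i, smul_zero] }
  let φ : W →ₗ[ZMod 2] V8 :=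
    { toFun := fun x => x.1 (.inl 0) • a 0 + x.1 (.inl 1) • a 1 + x.1 (.inl 2) • a 2 + x.1 (.inl 3) • a 3
      map_add' := fun x y => by simp only [Submodule.coe_add, Pi.add_apply, add_smul]; abel
      map_smul' := fun c x => by simp only [Submodule.coe_smul, Pi.smul_apply, smul_eq_mul, mul_smul,
        RingHom.id_apply, smul_add] }
  have hinj : Function.Injective φ := (injective_iff_map_eq_zero φ).2 fun x hx => by
    have h := hind (fun i => x.1 (.inl i)) hx
    refine Subtype.ext (funext fun k => ?_)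
    rcases k with i | i
    exacts [congrFun h i, x.2 i]
  have hzero : ∀ c : Fin 4 → ZMod 2, qm (c 0 • a 0 + c 1 • a 1 + c 2 • a 2 + c 3 • a 3) = 0 := fun c => by
    simp only [qm_add, quad_smul, pb_add_left, pb_smul_left, pb_smul_right, hts, hq, mul_zero, add_zero]
  obtain ⟨g, hg, hgW⟩ := witt_quad qm (fun v h => pb_nondeg h) W φ hinj fun x =>
    (hzero fun i => x.1 (.inl i)).trans (inW_qm x.2).symm
  refine ⟨⟨g, hg⟩, fun i => ?_⟩
  have h := hgW ⟨fe i, inW_fe i⟩
  show g (fe i) = a i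
  rw [h]
  show fe i (.inl 0) • a 0 + fe i (.inl 1) • a 1 + fe i (.inl 2) • a 2 + fe i (.inl 3) • a 3 = a i
  fin_cases i <;> simp [fe]

/-! ### The images of the elements of the second subgroup -/

/-- The image of an element with given vector. -/
theorem inT_eval {p v : V8} {g : qAut qm} (hp : Sing p) (hg : InT p g) (hv : Pm p (tv p g + v))
    (pv : pb p v = 0) (x : V8) : g.1 x = x + pb p x • v + (pb x v + qm v * pb p x) • p := by
  obtain ⟨δ, hδ⟩ : ∃ δ : ZMod 2, tv p g = v + δ • p := by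
    rcases hv with e | e
    · exact ⟨0, by rw [zero_smul, add_zero]; exact CharTwo.add_eq_zero.1 (funext fun i => congrFun e i)⟩
    · refine ⟨1, funext fun i => ?_⟩
      have h' := congrFun e i
      simp only [Pi.add_apply, one_smul] at h' ⊢
      exact (by decide : ∀ a b c : ZMod 2, a + b = c → a = b + c) _ _ _ h'
  have h1 := qAut_map g (pt p)
  have e0 : g.1 (pt p) = pt p + tv p g := by rw [tv, add_comm (g.1 _), add_cancel8]
  rw [e0, qm_add, hδ, qm_add, quad_smul, hp.2, pb_add_right, pb_smul_right, pb_smul_right, pb_comm (pt p) p, pt_spec hp,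
    pb_comm v p, pv] at h1
  have hδ' : δ = qm v + pb (pt p) v := (by decide :
    ∀ d A B C : ZMod 2, C + (A + d * d * 0 + d * 0) + (B + d * 1) = C → d = A + B) _ _ _ _ h1
  have h2 := inT_formula hp hg x
  rw [hδ, pb_add_left, pb_smul_left, pb_add_right, pb_smul_right, pb_add_right, pb_smul_right, pb_comm x p,
    pb_comm (pt p) p, pt_spec hp] at h2
  have h3 : g.1 x = x + (g.1 x + x) := by rw [add_comm (g.1 x), add_cancel8]
  rw [h3, h2, hδ']
  funext i
  simp only [Pi.add_apply, Pi.smul_apply, smul_eq_mul]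
  generalize qm v = A
  generalize pb (pt p) v = B
  generalize pb p x = C
  generalize pb x v = D
  generalize x i = X
  generalize v i = U
  generalize p i = P
  revert A B C D X U P
  decide

variable {G : Type*} [Group G] [Finite G] {z : G} {Q : Subgroup G} {π : G → V8} {ρ : G → qAut qm}

/-- A setting in which each singular point carries a frame. -/
structure Sys (z : G) (Q : Subgroup G) (π : G → V8) (ρ : G → qAut qm) : Prop where
  S : Setup z Q π ρ
  point : ∀ p, Sing p → ∃ g : G, g * z * g⁻¹ ∈ Q ∧ g * z * g⁻¹ ≠ z ∧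
    z ∈ Q.map (MulAut.conj g).toMonoidHom ∧ π (g * z * g⁻¹) = p

/-- The conjugate frame. -/
theorem Sys.pair (T : Sys z Q π ρ) {g : G} (h1 : g * z * g⁻¹ ∈ Q) (h2 : g * z * g⁻¹ ≠ z)
    (h3 : z ∈ Q.map (MulAut.conj g).toMonoidHom) :
    Pair z (g * z * g⁻¹) Q (Q.map (MulAut.conj g).toMonoidHom) π (fun x => π (g⁻¹ * x * g)) ρ
      (fun x => ρ (g⁻¹ * x * g)) :=
  ⟨T.S, T.S.conj g, h1, h3, h2⟩

/-- An element of the second subgroup of a frame at `p` with vector `v`. -/
def Root (z : G) (Q : Subgroup G) (π : G → V8) (ρ : G → qAut qm) (p v : V8) (b : G) : Prop :=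
  ∃ g : G, g * z * g⁻¹ ∈ Q ∧ g * z * g⁻¹ ≠ z ∧ z ∈ Q.map (MulAut.conj g).toMonoidHom ∧ π (g * z * g⁻¹) = p ∧
    b ∈ Q.map (MulAut.conj g).toMonoidHom ∧ b * z = z * b ∧ Pm p (tv p (ρ b) + v)

theorem Sys.exists_root (T : Sys z Q π ρ) {p v : V8} (hp : Sing p) (hv : pb p v = 0) :
    ∃ b, Root z Q π ρ p v b := by
  obtain ⟨g, h1, h2, h3, h4⟩ := T.point p hp
  obtain ⟨b, hb, hbz, hbw⟩ := (T.pair h1 h2 h3).w_surj (h4 ▸ hv)
  exact ⟨b, g, h1, h2, h3, h4, hb, hbz, h4 ▸ hbw⟩

section two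

variable {t s : G} {R R' : Subgroup G} {π' π'' : G → V8} {ρ' ρ'' : G → qAut qm}
  (P : Pair z t Q R π π' ρ ρ') (P' : Pair z s Q R' π π'' ρ ρ'')

include P

theorem Pair.eval {b : G} {v : V8} (hb : b ∈ R) (hbz : b * z = z * b) (hw : Pm (π t) (tv (π t) (ρ b) + v))
    (pv : pb (π t) v = 0) (x : V8) :
    (ρ b).1 x = x + pb (π t) x • v + (pb x v + qm v * pb (π t) x) • π t :=
  inT_eval P.p_sing (P.inT hb hbz) hw pv x

theorem Pair.act {a b : G} {v : V8} (ha : a ∈ Q) (hat : pb (π t) (π a) = 0) (hb : b ∈ R) (hbz : b * z = z * b)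
    (hw : Pm (π t) (tv (π t) (ρ b) + v)) : b * a * b⁻¹ = eb z t (pb (π a) v) (pb (π a) v) * a := by
  have h := (P.comm_eb ha (mem_centralizer_singleton_iff.1 ((P.mem_A ha).2 hat)) hb hbz).1
  rwa [pb_comm _ (tv _ _), pm_polar hw hat, pb_comm] at h

theorem Pair.root_sq {b : G} {v : V8} (hb : b ∈ R) (hbz : b * z = z * b) (hw : Pm (π t) (tv (π t) (ρ b) + v))
    (pv : pb (π t) v = 0) : b * b = zb t (qm v) := by
  rw [P.S'.sq b hb, ← P.quad_eq hb hbz, pm_quad P.p_sing hw pv]

theorem Pair.root_mul {b b' : G} {v v' : V8} (hb : b ∈ R) (hbz : b * z = z * b)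
    (hw : Pm (π t) (tv (π t) (ρ b) + v)) (hb' : b' ∈ R) (hbz' : b' * z = z * b')
    (hw' : Pm (π t) (tv (π t) (ρ b') + v')) : b * b' ∈ R ∧ b * b' * z = z * (b * b') ∧
      Pm (π t) (tv (π t) (ρ (b * b')) + (v + v')) := by
  refine ⟨mul_mem hb hb', (Commute.mul_left (show Commute b z from hbz) hbz').eq,
    pm_trans (P.w_mul hb hbz hb' hbz') ?_⟩
  have := hw.add hw'
  rwa [add_add_add_comm] at this

variable (hts : pb (π t) (π s) = 0) (hne : π t ≠ π s)

include P' hts hne

theorem Pair.cross_comm_t {Y : G} {w : V8} (hY : Y ∈ R') (hYz : Y * z = z * Y)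
    (hw : Pm (π s) (tv (π s) (ρ Y) + w)) (tw : pb (π t) w = 0) : Y * t = t * Y := by
  refine mul_inv_eq_iff_eq_mul.1 ?_
  rw [P'.act P.tQ (by rw [pb_comm, hts]) hY hYz hw, tw, P'.eb_zero, one_mul]

/-- Root elements at two orthogonal points with orthogonal vectors commute up to the central involution. -/
theorem Pair.cross {X Y : G} {v w : V8} (hX : X ∈ R) (hXz : X * z = z * X)
    (hv : Pm (π t) (tv (π t) (ρ X) + v)) (pv : pb (π t) v = 0) (sv : pb (π s) v = 0)
    (hY : Y ∈ R') (hYz : Y * z = z * Y) (hw : Pm (π s) (tv (π s) (ρ Y) + w)) (sw : pb (π s) w = 0)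
    (tw : pb (π t) w = 0) (vw : pb v w = 0) : ∃ c, X * Y = zb z c * (Y * X) := by
  have hXC := (P.R_z hX hXz).1
  have hYC := (P'.R_z hY hYz).1
  have hXs : X ∈ centralizer ({s} : Set G) :=
    mem_centralizer_singleton_iff.2 (P'.cross_comm_t P (by rw [pb_comm, hts]) hne.symm hX hXz hv sv)
  have hYt : Y ∈ centralizer ({t} : Set G) :=
    mem_centralizer_singleton_iff.2 (P.cross_comm_t P' hts hne hY hYz hw tw)
  have hρ : ρ X * ρ Y = ρ Y * ρ X := qAut_ext fun x => by
    simp only [qAut_mul_apply, P.eval hX hXz hv pv, P'.eval hY hYz hw sw]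
    simp only [pb_add_left, pb_add_right, pb_smul_left, pb_smul_right, pb_self, pb_comm w v, vw, pb_comm w (π t),
      pb_comm v (π s), tw, sv, pb_comm (π s) (π t), hts, pb_comm v (π t), pv, pb_comm w (π s), sw, mul_zero, zero_smul,
      add_zero, zero_add]
    funext i
    simp only [Pi.add_apply, Pi.smul_apply, smul_eq_mul]
    ring
  set k := X * Y * X⁻¹ * Y⁻¹ with hk
  have h1 : k ∈ R := by
    rw [hk, show X * Y * X⁻¹ * Y⁻¹ = X * (Y * X⁻¹ * Y⁻¹) by group]
    exact mul_mem hX (P.S'.conj_mem hYt (inv_mem hX))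
  have h2 : k ∈ R' := mul_mem (P'.S'.conj_mem hXs hY) (inv_mem hY)
  have hkC : k ∈ centralizer ({z} : Set G) := mul_mem (mul_mem (mul_mem hXC hYC) (inv_mem hXC)) (inv_mem hYC)
  have h3 : k ∈ Q := by
    refine (P.S.rho_ker k hkC).1 ?_
    rw [hk, P.S.rho_mul _ (mul_mem (mul_mem hXC hYC) (inv_mem hXC)) _ (inv_mem hYC),
      P.S.rho_mul _ (mul_mem hXC hYC) _ (inv_mem hXC), P.S.rho_mul _ hXC _ hYC, hρ, P.S.rho_inv hXC,
      P.S.rho_inv hYC, mul_inv_cancel_right, mul_inv_cancel]
  have hk' : k = 1 ∨ k = z := by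
    rcases P.E_cases h3 h1 with e | e | e | e
    · exact .inl e
    · exact .inr e
    all_goals
      exfalso
      rcases P'.E_cases h3 h2 with e' | e' | e' | e' <;> rw [e] at e' <;> have h' := congrArg π e'
    · rw [P.S.pi_one] at h'; exact P.p_sing.1 h'
    · rw [P.S.pi_z] at h'; exact P.p_sing.1 h'
    · exact hne h'
    · rw [P.S.pi_zmul P'.tQ] at h'; exact hne h'
    · rw [P.S.pi_one, P.S.pi_zmul P.tQ] at h'; exact P.p_sing.1 h'
    · rw [P.S.pi_z, P.S.pi_zmul P.tQ] at h'; exact P.p_sing.1 h'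
    · rw [P.S.pi_zmul P.tQ] at h'; exact hne h'
    · rw [P.S.pi_zmul P.tQ, P.S.pi_zmul P'.tQ] at h'; exact hne h'
  rcases hk' with e | e
  · exact ⟨0, by rw [zb_zero, one_mul]; rw [hk] at e; exact mul_inv_eq_one.1 (by rw [← e]; group)⟩
  · exact ⟨1, by rw [zb_one, ← e, hk]; group⟩

end two

end CfsgLib.CoType
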