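import Mathlib
import Cfsg.Agent.Lib.CoType.TwoRoot

/-!
Not all maximal singular subspaces behave alike: the product of the root elements at two points with one
nonsingular vector squares to the third point times the central involution.
-/

set_option autoImplicit false
set_option linter.style.haveILetI false
set_option linter.unusedSectionVars false
set_option linter.unusedSimpArgs false

namespace CfsgLib.CoType

open Subgroup CfsgLib.Classical

variable {G : Type*} [Group G] [Finite G] {z : G} {Q : Subgroup G} {π : G → V8} {ρ : G → qAut qm}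

/-- The nonsingular vector. -/
def nn : V8 := fe 2 + ff 2

theorem perp_four : ∀ y : V8, bd y (fe 2) = bd y (ff 2) → bd y (fe 0) = 0 → bd y (fe 1) = 0 → bd y (fe 3) = 0 →
    bd y (ff 3) = 0 → qd y = bd y (fe 2) ∧ bd y nn = 0 := by
  decide +kernel

theorem sing_of {p : V8} (h1 : p ≠ 0) (h2 : qd p = 0) : Sing p := ⟨h1, (qm_qd p).trans h2⟩

section

variable {t s : G} {R R' : Subgroup G} {π' π'' : G → V8} {ρ' ρ'' : G → qAut qm}
  (T : Sys z Q π ρ) (P : Pair z t Q R π π' ρ ρ') (P' : Pair z s Q R' π π'' ρ ρ'')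
  (ht : π t = fe 0) (hs : π s = fe 1)

include T P P' ht hs

theorem square_rel {X Y : G} (hX : X ∈ R) (hXz : X * z = z * X) (hv : Pm (π t) (tv (π t) (ρ X) + nn))
    (hY : Y ∈ R') (hYz : Y * z = z * Y) (hw : Pm (π s) (tv (π s) (ρ Y) + nn)) : X * Y = z * (Y * X) := by
  have e1 : qm nn = 1 := by rw [qm_qd]; decide
  have ptn : pb (π t) nn = 0 := by rw [ht, pb_bd]; decide
  have psn : pb (π s) nn = 0 := by rw [hs, pb_bd]; decide
  have hts : pb (π t) (π s) = 0 := by rw [ht, hs, pb_bd]; decide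
  have hne : π t ≠ π s := by rw [ht, hs]; decide
  obtain ⟨g, g1, g2, g3, g4⟩ := T.point (π t + π s) (by rw [ht, hs]; exact sing_of (by decide) (by decide))
  have P3 := T.pair g1 g2 g3
  set r := g * z * g⁻¹ with hr
  have prn : pb (π r) (nn + π t) = 0 := by rw [g4, ht, hs, pb_bd]; decide
  obtain ⟨Z, hZ, hZz, hZw⟩ := P3.w_surj prn
  have qn' : qm (nn + π t) = 1 := by rw [ht, qm_qd]; decide
  have hXt : X * t = t * X := P.S'.z_comm hX
  have hYs : Y * s = s * Y := P'.S'.z_comm hY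
  have hYt : Y * t = t * Y := P.cross_comm_t P' hts hne hY hYz hw ptn
  have hXs : X * s = s * X := P'.cross_comm_t P (by rw [pb_comm, hts]) hne.symm hX hXz hv psn
  have hXC := (P.R_z hX hXz).1
  have hYC := (P'.R_z hY hYz).1
  have hZC := (P3.R_z hZ hZz).1
  obtain ⟨c, hc⟩ := P.cross P' hts hne hX hXz hv ptn psn hY hYz hw psn ptn (pb_self nn)
  have hρ : ρ Z = ρ (X * Y) := qAut_ext fun x => by
    rw [P.S.rho_mul X hXC Y hYC, qAut_mul_apply, P'.eval hY hYz hw psn x, P3.eval hZ hZz hZw prn x,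
      P.eval hX hXz hv ptn]
    simp only [map_add, map_smul, e1, qn', g4, one_mul, pb_add_left, pb_add_right, pb_smul_left, pb_smul_right,
      pb_self, pb_comm nn (π t), ptn, pb_comm nn (π s), psn, hts, pb_comm (π s) (π t), pb_comm x (π t), mul_zero,
      zero_smul, add_zero, zero_add]
    funext i
    simp only [Pi.add_apply, Pi.smul_apply, smul_eq_mul]
    generalize pb (π t) x = a
    generalize pb (π s) x = b
    generalize pb x nn = d
    generalize nn i = N
    generalize π t i = U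
    generalize π s i = V
    generalize x i = W
    revert a b d N U V W
    decide
  set q := Z⁻¹ * (X * Y) with hq
  have hqC : q ∈ centralizer ({z} : Set G) := mul_mem (inv_mem hZC) (mul_mem hXC hYC)
  have hqQ : q ∈ Q := by
    refine (P.S.rho_ker q hqC).1 ?_
    rw [hq, P.S.rho_mul _ (inv_mem hZC) _ (mul_mem hXC hYC), P.S.rho_inv hZC, ← hρ, inv_mul_cancel]
  obtain ⟨δ, hrts⟩ : ∃ δ : ZMod 2, r = eb z t δ 1 * s := by
    have h1 : π r = π (t * s) := by rw [g4, P.S.pi_mul t P.tQ s P'.tQ]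
    rcases P.S.pi_eq (mul_mem P.tQ P'.tQ) P3.tQ h1.symm with e | e
    · exact ⟨0, by rw [e, eb, zb_zero, zb_one, one_mul]⟩
    · exact ⟨1, by rw [e, eb, zb_one, zb_one, mul_assoc]⟩
  have hst : t * s = s * t := (P.S.commute_iff P.tQ P'.tQ).2 hts
  -- the commutators of `q` with the perpendicular of both points
  have hact : ∀ a ∈ Q, pb (π t) (π a) = 0 → pb (π s) (π a) = 0 →
      pb (π q) (π a) = pb (π a) nn * (1 + δ) := fun a ha hta hsa => by
    have hra : pb (π r) (π a) = 0 := by rw [g4, pb_add_left, hta, hsa, add_zero]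
    have hpn : pb (π a) (nn + π t) = pb (π a) nn := by
      rw [pb_add_right, pb_comm (π a) (π t), hta, add_zero]
    have eX := P.act ha hta hX hXz hv
    have eY := P'.act ha hsa hY hYz hw
    have eZ := P3.act ha hra hZ hZz hZw
    rw [hpn] at eZ
    set l := pb (π a) nn with hl
    have h1 : X * Y * a * (X * Y)⁻¹ = zb t l * zb s l * a := by
      have hXeb : X * eb z s l l * X⁻¹ = eb z s l l := by
        rw [P'.eb_comm hXz hXs, mul_inv_cancel_right]
      calc X * Y * a * (X * Y)⁻¹ = X * (Y * a * Y⁻¹) * X⁻¹ := by group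
        _ = (X * eb z s l l * X⁻¹) * (X * a * X⁻¹) := by rw [eY]; group
        _ = eb z s l l * eb z t l l * a := by rw [hXeb, eX, mul_assoc]
        _ = zb t l * zb s l * a := by
          congr 1
          rcases two_cases l with e | e <;> simp only [e, eb, zb_zero, zb_one, mul_one]
          have hsz : s * z = z * s := P.S.z_comm P'.tQ
          rw [← mul_assoc, mul_assoc z s z, hsz, ← mul_assoc, P.S.z2, one_mul, hst]
    have h2 : q * a * q⁻¹ = zb z (pb (π q) (π a)) * a := by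
      rw [P.S.comm hqQ ha]; group
    have h3 : X * Y * a * (X * Y)⁻¹ = zb z (pb (π q) (π a)) * (eb z r l l * a) := by
      calc X * Y * a * (X * Y)⁻¹ = Z * (q * a * q⁻¹) * Z⁻¹ := by rw [hq]; group
        _ = (Z * zb z (pb (π q) (π a)) * Z⁻¹) * (Z * a * Z⁻¹) := by rw [h2]; group
        _ = _ := by
          rw [eZ]
          rcases two_cases (pb (π q) (π a)) with e | e <;> rw [e]
          · rw [zb_zero]; group
          · rw [zb_one, hZz, mul_inv_cancel_right]
    rw [h1, ← mul_assoc] at h3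
    have h4 := mul_right_cancel h3
    rcases two_cases l with e | e <;> rw [e] at h4 ⊢
    · simp only [eb, zb_zero, mul_one] at h4
      rw [zero_mul]
      rcases two_cases (pb (π q) (π a)) with e' | e'
      · exact e'
      · rw [e', zb_one] at h4; exact absurd h4.symm P.S.z1
    · rw [one_mul]
      simp only [eb, zb_one, hrts] at h4
      have h5 : zb z (pb (π q) (π a) + 1 + δ) * (t * s) = 1 * (t * s) := by
        rw [one_mul, ← zb_mul P.S.z2, ← zb_mul P.S.z2, zb_one]
        conv_rhs => rw [h4]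
        simp only [mul_assoc]
      have h6 := mul_right_cancel h5
      generalize pb (π q) (π a) = u at h6 ⊢
      rcases two_cases (u + 1 + δ) with e' | e'
      · exact (by decide : ∀ u d : ZMod 2, u + 1 + d = 0 → u = 1 + d) u δ e'
      · rw [e', zb_one] at h6; exact absurd h6 P.S.z1
  have hqts : pb (π q) (π t) = 0 ∧ pb (π q) (π s) = 0 := by
    have hq1 : q * t = t * q := by
      have hZt : Z * t = t * Z := P.cross_comm_t P3 (by rw [g4, pb_add_right, pb_self, hts, add_zero])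
        (by rw [g4, ht, hs]; decide) hZ hZz hZw (by rw [ht, pb_bd]; decide)
      exact ((Commute.inv_left (show Commute Z t from hZt)).mul_left (Commute.mul_left (show Commute X t from hXt)
        hYt)).eq
    have hq2 : q * s = s * q := by
      have hZs : Z * s = s * Z := P'.cross_comm_t P3 (by rw [g4, pb_add_right, pb_self, pb_comm, hts, add_zero])
        (by rw [g4, ht, hs]; decide) hZ hZz hZw (by rw [hs, ht, pb_bd]; decide)
      exact ((Commute.inv_left (show Commute Z s from hZs)).mul_left (Commute.mul_left (show Commute X s from hXs)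
        hYs)).eq
    exact ⟨(P.S.commute_iff hqQ P.tQ).1 hq1, (P.S.commute_iff hqQ P'.tQ).1 hq2⟩
  have hget : ∀ v : V8, bd (fe 0) v = 0 → bd (fe 1) v = 0 → bd (π q) v = bd v nn * (1 + δ) := fun v h1 h2 => by
    obtain ⟨a, ha, rfl⟩ := P.S.pi_surj v
    rw [← pb_bd, ← pb_bd]
    exact hact a ha (by rw [ht, pb_bd, h1]) (by rw [hs, pb_bd, h2])
  obtain ⟨hq0, hqn⟩ := perp_four (π q)
    ((hget (fe 2) (by decide) (by decide)).trans (hget (ff 2) (by decide) (by decide)).symm)
    (by rw [← pb_bd, ← ht, hqts.1]) (by rw [← pb_bd, ← hs, hqts.2])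
    (by rw [hget (fe 3) (by decide) (by decide), show bd (fe 3) nn = 0 by decide, zero_mul])
    (by rw [hget (ff 3) (by decide) (by decide), show bd (ff 3) nn = 0 by decide, zero_mul])
  have hq2 : qm (π q) = 1 + δ := by
    rw [qm_qd, hq0, hget (fe 2) (by decide) (by decide), show bd (fe 2) nn = 1 by decide, one_mul]
  have hZq : Z * q = q * Z := by
    have h := P3.act hqQ (by rw [g4, pb_comm, pb_add_right, hqts.1, hqts.2, add_zero]) hZ hZz hZw
    rw [pb_add_right, hqts.1, pb_bd (π q) nn, hqn, add_zero, P3.eb_zero, one_mul] at h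
    exact mul_inv_eq_iff_eq_mul.1 h
  have hsq : X * Y * (X * Y) = z * (t * s) := by
    rw [show X * Y = Z * q by rw [hq]; group,
      show Z * q * (Z * q) = Z * (q * Z) * q by group, ← hZq,
      show Z * (Z * q) * q = Z * Z * (q * q) by group, P3.root_sq hZ hZz hZw prn, qn', zb_one, P.S.sq q hqQ, hq2,
      hrts, eb, zb_one, mul_assoc (zb z δ), mul_assoc (zb z δ)]
    have hz' : t * s * zb z (1 + δ) = zb z (1 + δ) * (t * s) := P.S.zb_comm (mul_mem P.tQ P'.tQ) _
    rw [hz', ← mul_assoc, zb_mul P.S.z2, add_comm δ, add_assoc, CharTwo.add_self_eq_zero, add_zero, zb_one]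
  have hX2 : X * X = t := by rw [P.root_sq hX hXz hv ptn, e1, zb_one]
  have hY2 : Y * Y = s := by rw [P'.root_sq hY hYz hw psn, e1, zb_one]
  rcases two_cases c with rfl | rfl
  · exfalso
    rw [zb_zero, one_mul] at hc
    have h1 : X * Y * (X * Y) = t * s := by
      rw [show X * Y * (X * Y) = X * (Y * X) * Y by group, ← hc, show X * (X * Y) * Y = X * X * (Y * Y) by group,
        hX2, hY2]
    rw [h1, eq_comm, mul_eq_right] at hsq
    exact P.S.z1 hsq
  · rw [hc, zb_one]

end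

theorem comm_mul (S : Setup z Q π ρ) {x x' y : G} (hx : x ∈ centralizer ({z} : Set G))
    (hy : y ∈ centralizer ({z} : Set G)) {c d : ZMod 2} (h : x * y = zb z c * (y * x)) (h' : x' * y = zb z d * (y * x')) :
    x * x' * y = zb z (c + d) * (y * (x * x')) ∧ y * (x * x') = zb z (c + d) * (x * x' * y) := by
  have hxz : ∀ c, x * zb z c = zb z c * x := fun c => by
    rcases two_cases c with rfl | rfl
    · rw [zb_zero, one_mul, mul_one]
    · rw [zb_one, mem_centralizer_singleton_iff.1 hx]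
  have e : x * x' * y = zb z (c + d) * (y * (x * x')) := by
    calc x * x' * y = x * (x' * y) := mul_assoc _ _ _
      _ = x * zb z d * y * x' := by rw [h']; group
      _ = zb z d * (x * y) * x' := by rw [hxz]; group
      _ = zb z d * zb z c * (y * x) * x' := by rw [h]; group
      _ = zb z (c + d) * (y * (x * x')) := by rw [zb_mul S.z2, add_comm d c]; group
  refine ⟨e, ?_⟩
  rw [e, ← mul_assoc (zb z (c + d)) (zb z (c + d)), zb_mul S.z2, CharTwo.add_self_eq_zero, zb_zero, one_mul]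

/-- The six quadruples. -/
def sixL : Fin 6 → V8 × V8 := ![(fe 2, fe 3), (ff 2, fe 3), (fe 2, ff 3), (ff 2, ff 3),
  (fe 3 + fe 2, nn + fe 3 + ff 3), (nn + fe 3 + fe 2, nn + fe 3 + ff 3)]

theorem six_facts : ∀ k : Fin 6,
    let a : Fin 4 → V8 := ![fe 0, fe 1, (sixL k).1, (sixL k).2]
    (∀ i j, bd (a i) (a j) = 0) ∧ (∀ i, qd (a i) = 0) ∧
      ∀ c : Fin 4 → ZMod 2, c 0 • a 0 + c 1 • a 1 + c 2 • a 2 + c 3 • a 3 = 0 → c = 0 := by
  decide +kernel

variable (T : Sys z Q π ρ)

include T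

/-- Not every maximal singular subspace has root elements with the commutator `c`. -/
theorem exists_root_pair (c : ZMod 2) : ∃ σ : qAut qm, ∃ X Y : G,
    Root z Q π ρ (σ.1 (fe 0)) (σ.1 (fe 2)) X ∧ Root z Q π ρ (σ.1 (fe 1)) (σ.1 (fe 3)) Y ∧
      X * Y ≠ zb z c * (Y * X) := by
  by_contra hcon
  push Not at hcon
  obtain ⟨g, g1, g2, g3, g4⟩ := T.point (fe 0) (sing_of (by decide) (by decide))
  obtain ⟨g', g1', g2', g3', g4'⟩ := T.point (fe 1) (sing_of (by decide) (by decide))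
  have P := T.pair g1 g2 g3
  have P' := T.pair g1' g2' g3'
  set t := g * z * g⁻¹ with ht
  set s := g' * z * g'⁻¹ with hs
  set R := Q.map (MulAut.conj g).toMonoidHom
  set R' := Q.map (MulAut.conj g').toMonoidHom
  have hX : ∀ v, bd (fe 0) v = 0 → ∃ b ∈ R, b * z = z * b ∧ Pm (π t) (tv (π t) (ρ b) + v) :=
    fun v hv => P.w_surj (by rw [g4, pb_bd, hv])
  have hY : ∀ v, bd (fe 1) v = 0 → ∃ b ∈ R', b * z = z * b ∧ Pm (π s) (tv (π s) (ρ b) + v) :=
    fun v hv => P'.w_surj (by rw [g4', pb_bd, hv])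
  have hsix : ∀ k, ∀ X Y, X ∈ R → X * z = z * X → Pm (π t) (tv (π t) (ρ X) + (sixL k).1) →
      Y ∈ R' → Y * z = z * Y → Pm (π s) (tv (π s) (ρ Y) + (sixL k).2) → X * Y = zb z c * (Y * X) := by
    intro k X Y x1 x2 x3 y1 y2 y3
    obtain ⟨f1, f2, f3⟩ := six_facts k
    obtain ⟨σ, hσ⟩ := exists_frame_map ![fe 0, fe 1, (sixL k).1, (sixL k).2]
      (fun i j => (pb_bd _ _).trans (f1 i j)) (fun i => (qm_qd _).trans (f2 i)) f3
    refine hcon σ X Y ⟨g, g1, g2, g3, ?_, x1, x2, ?_⟩ ⟨g', g1', g2', g3', ?_, y1, y2, ?_⟩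
    · rw [hσ 0]; exact g4
    · rw [hσ 0, hσ 2]; rw [g4] at x3; exact x3
    · rw [hσ 1]; exact g4'
    · rw [hσ 1, hσ 3]; rw [g4'] at y3; exact y3
  obtain ⟨A, a1, a2, a3⟩ := hX (fe 2) (by decide)
  obtain ⟨A', b1, b2, b3⟩ := hX (ff 2) (by decide)
  obtain ⟨B, c1, c2, c3⟩ := hX (fe 3 + fe 2) (by decide)
  obtain ⟨B', d1, d2, d3⟩ := hX (nn + fe 3 + fe 2) (by decide)
  obtain ⟨E₁, e1, e2, e3⟩ := hY (fe 3) (by decide)
  obtain ⟨E₂, f1, f2, f3⟩ := hY (ff 3) (by decide)
  obtain ⟨E₃, h1, h2, h3⟩ := hY (nn + fe 3 + ff 3) (by decide)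
  obtain ⟨m1, m2, m3⟩ := P.root_mul a1 a2 a3 b1 b2 b3
  obtain ⟨n1, n2, n3⟩ := P.root_mul c1 c2 c3 d1 d2 d3
  rw [show fe 2 + ff 2 = nn from rfl] at m3
  rw [show fe 3 + fe 2 + (nn + fe 3 + fe 2) = nn by decide] at n3
  obtain ⟨p1, p2, p3⟩ := P'.root_mul e1 e2 e3 f1 f2 f3
  obtain ⟨r1, r2, r3⟩ := P'.root_mul p1 p2 p3 h1 h2 h3
  rw [show fe 3 + ff 3 + (nn + fe 3 + ff 3) = nn by decide] at r3
  have hC : ∀ {b : G}, b * z = z * b → b ∈ centralizer ({z} : Set G) := fun h => mem_centralizer_singleton_iff.2 h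
  set N := A * A' with hN
  have k1 := (comm_mul P.S (hC a2) (hC e2) (hsix 0 _ _ a1 a2 a3 e1 e2 e3) (hsix 1 _ _ b1 b2 b3 e1 e2 e3)).2
  have k2 := (comm_mul P.S (hC a2) (hC f2) (hsix 2 _ _ a1 a2 a3 f1 f2 f3) (hsix 3 _ _ b1 b2 b3 f1 f2 f3)).2
  have k3 := (comm_mul P.S (hC c2) (hC h2) (hsix 4 _ _ c1 c2 c3 h1 h2 h3) (hsix 5 _ _ d1 d2 d3 h1 h2 h3)).2
  rw [CharTwo.add_self_eq_zero] at k1 k2 k3
  -- the two lifts of the nonsingular vector differ by an element commuting with the third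
  have hE3t : E₃ * t = t * E₃ := P.cross_comm_t P' (by rw [g4, g4', pb_bd]; decide) (by rw [g4, g4']; decide) h1 h2 h3
    (by rw [g4, pb_bd]; decide)
  have k3' : E₃ * N = zb z 0 * (N * E₃) := by
    have hd : (B * B')⁻¹ * N ∈ Q := P.w_eq n1 n2 m1 m2 (pm_trans n3 (pm_symm m3))
    have hc' : E₃ * ((B * B')⁻¹ * N) = (B * B')⁻¹ * N * E₃ :=
      P.E_central hd (mul_mem (inv_mem n1) m1) h2 hE3t
    rw [zb_zero, one_mul] at k3 ⊢
    calc E₃ * N = E₃ * (B * B') * ((B * B')⁻¹ * N) := by group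
      _ = B * B' * (E₃ * ((B * B')⁻¹ * N)) := by rw [k3]; group
      _ = N * E₃ := by rw [hc']; group
  obtain ⟨k4, -⟩ := comm_mul P.S (hC e2) (hC m2) k1 k2
  obtain ⟨k5, -⟩ := comm_mul P.S (hC p2) (hC m2) k4 k3'
  simp only [add_zero] at k5
  rw [zb_zero, one_mul] at k5
  have h := square_rel T P P' g4 g4' m1 m2 m3 r1 r2 r3
  rw [k5, right_eq_mul] at h
  exact P.S.z1 h

end CfsgLib.CoType
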