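import Mathlib
import Cfsg.Agent.Lib.CoType.TwoSix

/-!
The elementary abelian group of order 2048 attached to a maximal singular subspace with commuting root elements.
-/

set_option autoImplicit false
set_option linter.style.haveILetI false
set_option linter.unusedSectionVars false
set_option linter.unusedSimpArgs false

namespace CfsgLib.CoType

open Subgroup CfsgLib.Classical

variable {G : Type*} [Group G] [Finite G] {z : G} {Q : Subgroup G} {π : G → V8} {ρ : G → qAut qm}

/-- The chart seen through an isometry. -/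
noncomputable def chartPi (σ : qAut qm) (π : G → V8) : G → V8 := fun x => (σ⁻¹).1 (π x)

/-- The action seen through an isometry. -/
noncomputable def chartRho (σ : qAut qm) (ρ : G → qAut qm) : G → qAut qm := fun x => σ⁻¹ * ρ x * σ

theorem qAut_inv_apply (σ : qAut qm) (x : V8) : σ.1 ((σ⁻¹).1 x) = x := by
  rw [← qAut_mul_apply, mul_inv_cancel]; rfl

theorem qAut_apply_inv (σ : qAut qm) (x : V8) : (σ⁻¹).1 (σ.1 x) = x := by
  rw [← qAut_mul_apply, inv_mul_cancel]; rfl

theorem Setup.chart (S : Setup z Q π ρ) (σ : qAut qm) : Setup z Q (chartPi σ π) (chartRho σ ρ) where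
  z2 := S.z2
  z1 := S.z1
  le := S.le
  zQ := S.zQ
  card := S.card
  norm := S.norm
  pi_mul a ha b hb := by rw [chartPi, S.pi_mul a ha b hb, map_add]; rfl
  pi_surj v := by
    obtain ⟨a, ha, e⟩ := S.pi_surj (σ.1 v)
    exact ⟨a, ha, by rw [chartPi, e, qAut_apply_inv]⟩
  pi_ker a ha := by rw [← S.pi_ker a ha, chartPi, LinearEquiv.map_eq_zero_iff]
  sq a ha := by rw [S.sq a ha, chartPi, qAut_map]
  rho_mul a ha b hb := by simp only [chartRho, S.rho_mul a ha b hb]; group
  rho_pi c hc a ha := by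
    simp only [chartPi, chartRho]
    rw [S.rho_pi c hc a ha, qAut_mul_apply, qAut_mul_apply, qAut_inv_apply]
  rho_ker c hc := by
    rw [← S.rho_ker c hc, chartRho]
    constructor
    · intro h
      calc ρ c = σ * (σ⁻¹ * ρ c * σ) * σ⁻¹ := by group
        _ = 1 := by rw [h]; group
    · intro h; rw [h]; group
  rho_range g := by
    haveI : Ev.Normal := inferInstanceAs (commutator (qAut qm)).Normal
    constructor
    · intro hg
      obtain ⟨c, hc, e⟩ := (S.rho_range (σ * g * σ⁻¹)).1 ((inferInstance : Ev.Normal).conj_mem g hg σ)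
      exact ⟨c, hc, by rw [chartRho, e]; group⟩
    · rintro ⟨c, hc, rfl⟩
      have h := (inferInstance : Ev.Normal).conj_mem (ρ c) ((S.rho_range _).2 ⟨c, hc, rfl⟩) σ⁻¹
      rwa [inv_inv] at h

theorem Sys.chart (T : Sys z Q π ρ) (σ : qAut qm) : Sys z Q (chartPi σ π) (chartRho σ ρ) := by
  refine ⟨T.S.chart σ, fun p hp => ?_⟩
  obtain ⟨g, g1, g2, g3, g4⟩ := T.point (σ.1 p)
    ⟨fun h => hp.1 (σ.1.map_eq_zero_iff.1 h), (qAut_map σ p).trans hp.2⟩
  exact ⟨g, g1, g2, g3, by rw [chartPi, g4, qAut_apply_inv]⟩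

theorem Root.chart (T : Sys z Q π ρ) {σ : qAut qm} {p v : V8} {b : G} (hb : Root z Q π ρ (σ.1 p) (σ.1 v) b)
    (hp : Sing p) (pv : pb p v = 0) : Root z Q (chartPi σ π) (chartRho σ ρ) p v b := by
  obtain ⟨g, g1, g2, g3, g4, g5, g6, g7⟩ := hb
  refine ⟨g, g1, g2, g3, by rw [chartPi, g4, qAut_apply_inv], g5, g6, ?_⟩
  have P := T.pair g1 g2 g3
  have h := P.eval g5 g6 (g4 ▸ g7) (by rw [g4, pb_map, pv]) (σ.1 (pt p))
  rw [g4, pb_map, pt_spec hp, one_smul, mul_one] at h
  have e : tv p (chartRho σ ρ b) = v + (pb (σ.1 (pt p)) (σ.1 v) + qm (σ.1 v)) • p := by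
    rw [tv, chartRho, qAut_mul_apply, qAut_mul_apply, h, map_add, map_add, map_smul, qAut_apply_inv,
      qAut_apply_inv, qAut_apply_inv]
    funext i
    simp only [Pi.add_apply, Pi.smul_apply, smul_eq_mul]
    generalize pb (σ.1 (pt p)) (σ.1 v) + qm (σ.1 v) = a
    exact (by decide : ∀ x y w a : ZMod 2, x + y + a * w + x = y + a * w) _ _ _ _
  rw [e]
  rcases two_cases (pb (σ.1 (pt p)) (σ.1 v) + qm (σ.1 v)) with h' | h' <;> rw [h']
  · exact .inl (by rw [zero_smul, add_zero, add_self8])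
  · refine .inr (funext fun i => ?_)
    simp only [Pi.add_apply, one_smul]
    exact (by decide : ∀ x y : ZMod 2, x + y + x = y) _ _

/-- The preimage of the standard subspace. -/
def baseU (S : Setup z Q π ρ) : Subgroup G where
  carrier := {a | a ∈ Q ∧ InW (π a)}
  one_mem' := ⟨one_mem _, by rw [S.pi_one]; exact fun _ => rfl⟩
  mul_mem' := fun ⟨ha, ha'⟩ ⟨hb, hb'⟩ => ⟨mul_mem ha hb, by rw [S.pi_mul _ ha _ hb]; exact inW_add ha' hb'⟩
  inv_mem' := fun ⟨ha, ha'⟩ => ⟨inv_mem ha, by rw [S.pi_inv ha]; exact ha'⟩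

/-- The centralizer of the preimage. -/
def baseA (S : Setup z Q π ρ) : Subgroup G := centralizer (baseU S : Set G)

/-- The six coordinates of an isometry fixing the standard subspace. -/
noncomputable def coord (g : qAut qm) : Fin 6 → ZMod 2 :=
  ![bd (g.1 (ff 0) + ff 0) (ff 1), bd (g.1 (ff 0) + ff 0) (ff 2), bd (g.1 (ff 0) + ff 0) (ff 3),
    bd (g.1 (ff 1) + ff 1) (ff 2), bd (g.1 (ff 1) + ff 1) (ff 3), bd (g.1 (ff 2) + ff 2) (ff 3)]

/-- The pairs of the six coordinates. -/
def pr : Fin 6 → Fin 4 × Fin 4 := ![(0, 1), (0, 2), (0, 3), (1, 2), (1, 3), (2, 3)]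

/-- The coordinate functions of the standard subspace. -/
theorem bd_ff (x : V8) (i : Fin 4) : bd x (ff i) = x (.inl i) := by
  fin_cases i <;> simp [bd, qd, ff, Pi.single_apply] <;> ring

theorem basis_eq (x : V8) : x = x (.inl 0) • fe 0 + x (.inl 1) • fe 1 + x (.inl 2) • fe 2 + x (.inl 3) • fe 3 +
    (x (.inr 0) • ff 0 + x (.inr 1) • ff 1 + x (.inr 2) • ff 2 + x (.inr 3) • ff 3) := by
  funext k
  rcases k with i | i <;> fin_cases i <;> simp [fe, ff, Pi.single_apply]

section fixers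

variable {g h : qAut qm} (hg : ∀ w, InW w → g.1 w = w) (hh : ∀ w, InW w → h.1 w = w)

include hg

theorem fixer_move (x : V8) : InW (g.1 x + x) := inW_of_perp fun i => by
  rw [pb_add_right]
  conv_lhs => rw [← hg (fe i) (inW_fe i)]
  rw [pb_map, hg (fe i) (inW_fe i), CharTwo.add_self_eq_zero]

theorem fixer_alt (i j : Fin 4) :
    bd (g.1 (ff i) + ff i) (ff j) = bd (g.1 (ff j) + ff j) (ff i) ∧ bd (g.1 (ff i) + ff i) (ff i) = 0 := by
  have hd := fun k => fixer_move hg (ff k)
  have hff : ∀ a b : Fin 4, pb (ff a) (ff b) = 0 ∧ qm (ff a) = 0 := fun a b =>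
    ⟨by rw [pb_bd]; revert a b; decide, by rw [qm_qd]; revert a; decide⟩
  have e : ∀ k, g.1 (ff k) = ff k + (g.1 (ff k) + ff k) := fun k => by rw [add_comm (g.1 _), add_cancel8]
  constructor
  · have hi' := inW_perp (hd i) (hd j)
    have h := pb_map g (ff i) (ff j)
    rw [e i, e j] at h
    generalize g.1 (ff i) + ff i = D at h hi' ⊢
    generalize hD' : g.1 (ff j) + ff j = D' at h ⊢
    have hDD : pb D D' = 0 := hD' ▸ hi'
    simp only [pb_add_left, pb_add_right, (hff i j).1, hDD, zero_add, add_zero] at h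
    rw [← pb_bd, ← pb_bd, pb_comm D' (ff i)]
    exact CharTwo.add_eq_zero.1 h
  · have h := qAut_map g (ff i)
    rw [e i, qm_add, (hff i i).2, inW_qm (hd i), zero_add, zero_add, pb_comm] at h
    rw [← pb_bd, h]

include hh

theorem coord_inj (e : coord g = coord h) : g = h := by
  have kk : ∀ k, bd (g.1 (ff (pr k).1) + ff (pr k).1) (ff (pr k).2) =
      bd (h.1 (ff (pr k).1) + ff (pr k).1) (ff (pr k).2) := fun k => by
    have h' := congrFun e k
    fin_cases k <;> exact h'
  have key : ∀ i j, bd (g.1 (ff i) + ff i) (ff j) = bd (h.1 (ff i) + ff i) (ff j) := fun i j => by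
    rcases (by decide : ∀ i j : Fin 4, i = j ∨ (∃ k, pr k = (i, j)) ∨ ∃ k, pr k = (j, i)) i j with
      rfl | ⟨k, hk⟩ | ⟨k, hk⟩
    · rw [(fixer_alt hg i i).2, (fixer_alt hh i i).2]
    · have := kk k; rwa [hk] at this
    · rw [(fixer_alt hg i j).1, (fixer_alt hh i j).1]
      have := kk k; rwa [hk] at this
  have hf : ∀ i, g.1 (ff i) = h.1 (ff i) := fun i => by
    refine add_right_cancel (b := ff i) (funext fun k => ?_)
    rcases k with j | j
    · exact ((bd_ff _ j).symm.trans (key i j)).trans (bd_ff _ j)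
    · rw [fixer_move hg (ff i) j, fixer_move hh (ff i) j]
  refine qAut_ext fun x => ?_
  rw [basis_eq x]
  simp only [map_add, map_smul, hf, fun i => hg (fe i) (inW_fe i), fun i => hh (fe i) (inW_fe i)]

theorem coord_mul : coord (g * h) = coord g + coord h := by
  have e : ∀ x, (g * h).1 x + x = (g.1 x + x) + (h.1 x + x) := fun x => by
    have h1 := hg _ (fixer_move hh x)
    rw [map_add] at h1
    rw [qAut_mul_apply]
    funext i
    have h2 := congrFun h1 i
    simp only [Pi.add_apply] at h2 ⊢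
    exact (by decide : ∀ a b c d : ZMod 2, a + b = c + d → a + d = (b + d) + (c + d)) _ _ _ _ h2
  funext k
  fin_cases k <;> simp only [coord, Pi.add_apply, e, ← pb_bd, pb_add_left] <;> rfl

end fixers

theorem baseA_le (S : Setup z Q π ρ) : baseA S ≤ centralizer ({z} : Set G) := fun c hc =>
  mem_centralizer_singleton_iff.2
    ((mem_centralizer_iff.1 hc z ⟨S.zQ, by rw [S.pi_z]; exact fun _ => rfl⟩).symm)

theorem baseA_inf (S : Setup z Q π ρ) {a : G} (ha : a ∈ Q) : a ∈ baseA S ↔ InW (π a) := by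
  constructor
  · intro h
    refine inW_of_perp fun i => ?_
    obtain ⟨b, hb, e⟩ := S.pi_surj (fe i)
    rw [← e]
    exact (S.commute_iff hb ha).1 (mem_centralizer_iff.1 h b ⟨hb, e ▸ inW_fe i⟩)
  · intro h
    exact mem_centralizer_iff.2 fun b hb => (S.commute_iff hb.1 ha).2 (inW_perp hb.2 h)

theorem baseA_fix (S : Setup z Q π ρ) {c : G} (hc : c ∈ baseA S) (w : V8) (hw : InW w) : (ρ c).1 w = w := by
  obtain ⟨a, ha, rfl⟩ := S.pi_surj w
  rw [← S.rho_pi c (baseA_le S hc) a ha, ← mem_centralizer_iff.1 hc a ⟨ha, hw⟩, mul_inv_cancel_right]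

/-- An element of the centralizer with the image of a root element. -/
def El (S : Setup z Q π ρ) (p v : V8) (a : G) : Prop :=
  a ∈ baseA S ∧ ∀ x, (ρ a).1 x = x + pb p x • v + pb x v • p

theorem El.symm {S : Setup z Q π ρ} {p v : V8} {a : G} (h : El S p v a) : El S v p a :=
  ⟨h.1, fun x => by rw [h.2, pb_comm p x, pb_comm v x]; abel⟩

theorem El.mul {S : Setup z Q π ρ} {p v w : V8} {a b : G} (hp : InW p) (hv : InW v) (hw : InW w)
    (ha : El S p v a) (hb : El S p w b) : El S p (v + w) (a * b) := by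
  refine ⟨mul_mem ha.1 hb.1, fun x => ?_⟩
  rw [S.rho_mul a (baseA_le S ha.1) b (baseA_le S hb.1), qAut_mul_apply, hb.2, map_add, map_add, map_smul, map_smul,
    baseA_fix S ha.1 w hw, baseA_fix S ha.1 p hp, ha.2, pb_add_right]
  module

theorem El.commute_u {S : Setup z Q π ρ} {a u : G} (ha : a ∈ baseA S) (hu : u ∈ Q) (hu' : InW (π u)) :
    u * a = a * u := mem_centralizer_iff.1 ha u ⟨hu, hu'⟩

theorem El.congr {S : Setup z Q π ρ} {p v : V8} {a a' : G} (ha : El S p v a) (ha' : El S p v a') :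
    ∃ u, u ∈ Q ∧ InW (π u) ∧ a' = a * u := by
  have hC := baseA_le S ha.1
  have hC' := baseA_le S ha'.1
  have hu : a⁻¹ * a' ∈ Q := by
    refine (S.rho_ker _ (mul_mem (inv_mem hC) hC')).1 ?_
    rw [S.rho_mul _ (inv_mem hC) _ hC', S.rho_inv hC,
      show ρ a' = ρ a from qAut_ext fun x => by rw [ha.2, ha'.2], inv_mul_cancel]
  exact ⟨_, hu, (baseA_inf S hu).1 (mul_mem (inv_mem ha.1) ha'.1), by group⟩

theorem El.trans_comm {S : Setup z Q π ρ} {p v : V8} {a a' b : G} (ha : El S p v a) (ha' : El S p v a')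
    (hb : b ∈ baseA S) (h : Commute a b) : Commute a' b := by
  obtain ⟨u, hu, hu', rfl⟩ := ha.congr ha'
  exact Commute.mul_left h (El.commute_u hb hu hu')

variable (T : Sys z Q π ρ)

include T

theorem root_el {p v : V8} {b : G} (hb : Root z Q π ρ p v b) (hp : InW p) (hv : InW v) : El T.S p v b := by
  obtain ⟨g, g1, g2, g3, g4, g5, g6, g7⟩ := hb
  have P := T.pair g1 g2 g3
  have hw := g4.symm ▸ g7
  refine ⟨mem_centralizer_iff.2 fun a ha => ?_, fun x => ?_⟩
  · have h := P.act ha.1 (by rw [g4, inW_perp hp ha.2]) g5 g6 hw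
    rw [inW_perp ha.2 hv, P.eb_zero, one_mul] at h
    exact (mul_inv_eq_iff_eq_mul.1 h).symm
  · rw [P.eval g5 g6 hw (by rw [g4, inW_perp hp hv]) x, g4, inW_qm hv, zero_mul, add_zero]

theorem exists_el {p v : V8} (hp : InW p) (hp0 : p ≠ 0) (hv : InW v) : ∃ a, El T.S p v a := by
  obtain ⟨b, hb⟩ := T.exists_root (v := v) ⟨hp0, inW_qm hp⟩ (inW_perp hp hv)
  exact ⟨b, root_el T hb hp hv⟩

theorem el_same {p v w : V8} (hp : InW p) (hp0 : p ≠ 0) (hv : InW v) (hw : InW w) {a b : G}
    (ha : El T.S p v a) (hb : El T.S p w b) : Commute a b := by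
  obtain ⟨g, g1, g2, g3, g4⟩ := T.point p ⟨hp0, inW_qm hp⟩
  have P := T.pair g1 g2 g3
  obtain ⟨a', a1, a2, a3⟩ := P.w_surj (v := v) (by rw [g4, inW_perp hp hv])
  obtain ⟨b', b1, b2, b3⟩ := P.w_surj (v := w) (by rw [g4, inW_perp hp hw])
  have ea := root_el T ⟨g, g1, g2, g3, g4, a1, a2, g4 ▸ a3⟩ hp hv
  have eb := root_el T ⟨g, g1, g2, g3, g4, b1, b2, g4 ▸ b3⟩ hp hw
  have h : Commute a' b' := by
    refine (P.S'.commute_iff a1 b1).2 ?_
    rw [P.polar_eq a1 a2 b1 b2, pm_polar a3 (P.w_perp b1 b2), pb_comm, pm_polar b3 (by rw [g4, inW_perp hp hv]),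
      inW_perp hw hv]
  exact (eb.trans_comm hb ha.1 ((ea.trans_comm ha eb.1 h).symm)).symm

theorem el_sq {p v : V8} (hp : InW p) (hp0 : p ≠ 0) (hv : InW v) {a : G} (ha : El T.S p v a) : a * a = 1 := by
  obtain ⟨g, g1, g2, g3, g4⟩ := T.point p ⟨hp0, inW_qm hp⟩
  have P := T.pair g1 g2 g3
  obtain ⟨a', a1, a2, a3⟩ := P.w_surj (v := v) (by rw [g4, inW_perp hp hv])
  have ea := root_el T ⟨g, g1, g2, g3, g4, a1, a2, g4 ▸ a3⟩ hp hv
  obtain ⟨u, hu, hu', rfl⟩ := ea.congr ha
  have h1 := P.root_sq a1 a2 a3 (by rw [g4, inW_perp hp hv])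
  rw [inW_qm hv, zb_zero] at h1
  calc a' * u * (a' * u) = a' * (u * a') * u := by group
    _ = (a' * a') * (u * u) := by rw [El.commute_u ea.1 hu hu']; group
    _ = 1 := by rw [h1, T.S.sq u hu, inW_qm hu', zb_zero, one_mul]

/-- The six chosen elements. -/
noncomputable def six (k : Fin 6) : G :=
  (exists_el T (inW_fe (pr k).1) (by
    intro h
    exact absurd (congrFun h (.inl (pr k).1)) (by simp [fe])) (inW_fe (pr k).2)).choose

theorem six_el (k : Fin 6) : El T.S (fe (pr k).1) (fe (pr k).2) (six T k) :=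
  Exists.choose_spec (exists_el T (inW_fe (pr k).1) (by
    intro h
    exact absurd (congrFun h (.inl (pr k).1)) (by simp [fe])) (inW_fe (pr k).2))

/-- Two root elements at disjoint lines commute. -/
def Good (z : G) (Q : Subgroup G) (π : G → V8) (ρ : G → qAut qm) : Prop :=
  ∃ X Y : G, Root z Q π ρ (fe 0) (fe 2) X ∧ Root z Q π ρ (fe 1) (fe 3) Y ∧ X * Y = Y * X

omit T in
theorem fe_ne (i : Fin 4) : fe i ≠ 0 := fun h => by
  have h' := congrFun h (Sum.inl i)
  simp [fe] at h'

omit T in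
theorem fe_add_ne (i j : Fin 4) (h : i ≠ j) : fe i + fe j ≠ 0 := fun e => by
  have h' := congrFun e (Sum.inl i)
  simp [fe, h] at h'

omit T in
theorem commute_cancel {a b a' b' : G} (h1 : Commute (a * a') (b * b')) (h2 : Commute a b) (h3 : Commute a b')
    (h4 : Commute a' b') : Commute a' b := by
  have h5 : Commute a (b * b') := h2.mul_right h3
  have h6 : Commute a' (b * b') := by
    refine mul_left_cancel (a := a) ?_
    calc a * (a' * (b * b')) = a * a' * (b * b') := by group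
      _ = b * b' * a * a' := by rw [h1.eq]; group
      _ = a * (b * b' * a') := by rw [← h5.eq]; group
  refine mul_right_cancel (b := b') ?_
  calc a' * b * b' = b * b' * a' := by rw [mul_assoc, h6.eq]
    _ = b * a' * b' := by rw [mul_assoc, ← h4.eq, mul_assoc]

theorem six_comm (hG : Good z Q π ρ) (k l : Fin 6) : Commute (six T k) (six T l) := by
  have hX := six_el T
  obtain ⟨X, Y, hX', hY', hXY⟩ := hG
  have eX := root_el T hX' (inW_fe 0) (inW_fe 2)
  have eY := root_el T hY' (inW_fe 1) (inW_fe 3)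
  have same : ∀ k l, ((pr k).1 = (pr l).1 ∨ (pr k).1 = (pr l).2 ∨ (pr k).2 = (pr l).1 ∨ (pr k).2 = (pr l).2) →
      Commute (six T k) (six T l) := by
    intro k l h
    rcases h with h | h | h | h
    · exact el_same T (inW_fe _) (fe_ne _) (inW_fe _) (inW_fe _) (hX k) (h ▸ hX l)
    · exact el_same T (inW_fe _) (fe_ne _) (inW_fe _) (inW_fe _) (hX k) (h ▸ (hX l).symm)
    · exact el_same T (inW_fe _) (fe_ne _) (inW_fe _) (inW_fe _) (hX k).symm (h ▸ hX l)
    · exact el_same T (inW_fe _) (fe_ne _) (inW_fe _) (inW_fe _) (hX k).symm (h ▸ (hX l).symm)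
  -- the given pair
  have h14 : Commute (six T 1) (six T 4) :=
    (eY.trans_comm (hX 4) (hX 1).1 (eX.trans_comm (hX 1) eY.1 hXY).symm).symm
  -- the pair with the lines {0, 3} and {1, 2}
  have h23 : Commute (six T 2) (six T 3) := by
    have ea : El T.S (fe 0) (fe 2 + fe 3) (six T 1 * six T 2) :=
      El.mul (inW_fe 0) (inW_fe 2) (inW_fe 3) (hX 1) (hX 2)
    have eb : El T.S (fe 1) (fe 2 + fe 3) (six T 3 * six T 4) :=
      El.mul (inW_fe 1) (inW_fe 2) (inW_fe 3) (hX 3) (hX 4)
    refine commute_cancel (a := six T 1) (b' := six T 4) ?_ (same 1 3 (by decide)) h14 (same 2 4 (by decide))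
    exact el_same T (inW_add (inW_fe 2) (inW_fe 3)) (fe_add_ne 2 3 (by decide)) (inW_fe 0) (inW_fe 1) ea.symm
      eb.symm
  -- the pair with the lines {0, 1} and {2, 3}
  have h05 : Commute (six T 0) (six T 5) := by
    have ea : El T.S (fe 0) (fe 2 + fe 1) (six T 1 * six T 0) :=
      El.mul (inW_fe 0) (inW_fe 2) (inW_fe 1) (hX 1) (hX 0)
    have eb : El T.S (fe 3) (fe 2 + fe 1) (six T 5 * six T 4) :=
      El.mul (inW_fe 3) (inW_fe 2) (inW_fe 1) (hX 5).symm (hX 4).symm
    refine commute_cancel (a := six T 1) (b' := six T 4) ?_ (same 1 5 (by decide)) h14 (same 0 4 (by decide))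
    exact el_same T (inW_add (inW_fe 2) (inW_fe 1)) (fe_add_ne 2 1 (by decide)) (inW_fe 0) (inW_fe 3) ea.symm
      eb.symm
  rcases (by decide : ∀ k l : Fin 6,
      ((pr k).1 = (pr l).1 ∨ (pr k).1 = (pr l).2 ∨ (pr k).2 = (pr l).1 ∨ (pr k).2 = (pr l).2) ∨
      (k = 1 ∧ l = 4) ∨ (k = 4 ∧ l = 1) ∨ (k = 2 ∧ l = 3) ∨ (k = 3 ∧ l = 2) ∨ (k = 0 ∧ l = 5) ∨ (k = 5 ∧ l = 0))
      k l with h | ⟨rfl, rfl⟩ | ⟨rfl, rfl⟩ | ⟨rfl, rfl⟩ | ⟨rfl, rfl⟩ | ⟨rfl, rfl⟩ | ⟨rfl, rfl⟩
  exacts [same k l h, h14, h14.symm, h23, h23.symm, h05, h05.symm]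

/-- The coordinate homomorphism. -/
noncomputable def coordHom : baseA T.S →* Multiplicative (Fin 6 → ZMod 2) :=
  MonoidHom.mk' (fun a => Multiplicative.ofAdd (coord (ρ (a : G)))) fun a b => by
    rw [coe_mul, T.S.rho_mul _ (baseA_le T.S a.2) _ (baseA_le T.S b.2),
      coord_mul (baseA_fix T.S a.2) (baseA_fix T.S b.2), ofAdd_add]

theorem coord_el (k : Fin 6) : coord (ρ (six T k)) = Pi.single k 1 := by
  funext j
  have h := (six_el T k).2
  fin_cases j <;>
  · simp only [coord, h, pb_bd]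
    fin_cases k <;> decide

theorem coord_surj : Function.Surjective (coordHom T) := by
  intro c
  have hpow : ∀ (k : Fin 6) (e : ZMod 2), ∃ a : baseA T.S, coordHom T a = Multiplicative.ofAdd (Pi.single k e) := by
    intro k e
    rcases two_cases e with rfl | rfl
    · exact ⟨1, by rw [map_one, Pi.single_zero, ofAdd_zero]⟩
    · exact ⟨⟨six T k, (six_el T k).1⟩, by
        show Multiplicative.ofAdd (coord (ρ (six T k))) = _
        rw [coord_el]⟩
  choose a ha using hpow
  refine ⟨a 0 (c.toAdd 0) * a 1 (c.toAdd 1) * a 2 (c.toAdd 2) * a 3 (c.toAdd 3) * a 4 (c.toAdd 4) * a 5 (c.toAdd 5),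
    ?_⟩
  simp only [map_mul, ha, ← ofAdd_add]
  refine Multiplicative.toAdd.injective (funext fun j => ?_)
  rw [toAdd_ofAdd]
  fin_cases j <;> simp [Pi.single_apply]

theorem coordHom_ker : (coordHom T).ker = (baseU T.S).subgroupOf (baseA T.S) := by
  ext a
  rw [MonoidHom.mem_ker, mem_subgroupOf]
  have hC := baseA_le T.S a.2
  constructor
  · intro h
    have h0 : coord (ρ (a : G)) = coord (1 : qAut qm) := by
      refine (congrArg Multiplicative.toAdd h).trans ?_
      show (0 : Fin 6 → ZMod 2) = _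
      funext j
      fin_cases j <;> simp [coord, add_self8, ← pb_bd]
    have hQ : (a : G) ∈ Q := (T.S.rho_ker _ hC).1 (coord_inj (baseA_fix T.S a.2) (fun _ _ => rfl) h0)
    exact ⟨hQ, (baseA_inf T.S hQ).1 a.2⟩
  · rintro ⟨hQ, -⟩
    show Multiplicative.ofAdd (coord (ρ (a : G))) = 1
    rw [T.S.rho_Q hQ]
    refine Multiplicative.toAdd.injective (funext fun j => ?_)
    fin_cases j <;> simp [coord, add_self8, ← pb_bd]

theorem baseU_le : baseU T.S ≤ baseA T.S := fun _ hu => (baseA_inf T.S hu.1).2 hu.2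

theorem card_baseU : Nat.card (baseU T.S) = 32 := by
  let W := {v : V8 // InW v}
  have hW : Nat.card W = 16 := by
    rw [Nat.card_congr (β := Fin 4 → ZMod 2)
      { toFun := fun v i => v.1 (.inl i)
        invFun := fun c => ⟨Sum.elim c 0, fun _ => rfl⟩
        left_inv := fun v => Subtype.ext (funext fun k => by
          rcases k with i | i
          exacts [rfl, (v.2 i).symm])
        right_inv := fun c => rfl }]
    simp [Nat.card_eq_fintype_card]
  let f : baseU T.S →* Multiplicative V8 := MonoidHom.mk' (fun a => Multiplicative.ofAdd (π (a : G)))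
    fun a b => by rw [coe_mul, T.S.pi_mul _ a.2.1 _ b.2.1, ofAdd_add]
  have hr : Nat.card f.range = 16 := by
    rw [← hW]
    refine Nat.card_congr
      { toFun := fun x => ⟨x.1.toAdd, by obtain ⟨a, ha⟩ := x.2; rw [← ha]; exact a.2.2⟩
        invFun := fun v => ⟨Multiplicative.ofAdd v.1, by
          obtain ⟨a, ha, e⟩ := T.S.pi_surj v.1
          exact ⟨⟨a, ha, e ▸ v.2⟩, congrArg Multiplicative.ofAdd e⟩⟩
        left_inv := fun x => rfl
        right_inv := fun v => rfl }
  have hk : Nat.card f.ker = 2 := by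
    have hz : z ∈ baseU T.S := ⟨T.S.zQ, by rw [T.S.pi_z]; exact fun _ => rfl⟩
    have hset : (f.ker : Set (baseU T.S)) = {1, ⟨z, hz⟩} := by
      ext a
      rw [SetLike.mem_coe, MonoidHom.mem_ker, Set.mem_insert_iff, Set.mem_singleton_iff, Subtype.ext_iff,
        Subtype.ext_iff, coe_one, ← T.S.pi_ker _ a.2.1]
      exact ⟨fun h => congrArg Multiplicative.toAdd h, fun h => congrArg Multiplicative.ofAdd h⟩
    rw [show Nat.card f.ker = Nat.card ↥(f.ker : Set (baseU T.S)) from rfl, hset, Nat.card_coe_set_eq,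
      Set.ncard_pair]
    exact fun h => T.S.z1 (congrArg Subtype.val h).symm
  have := card_mul_index f.ker
  rw [index_ker, hk, hr] at this
  omega

/-- The order. -/
theorem card_baseA : Nat.card (baseA T.S) = 2048 := by
  have h := card_mul_index (coordHom T).ker
  rw [index_ker, MonoidHom.range_eq_top.2 (coord_surj T), card_top, coordHom_ker,
    Nat.card_congr (subgroupOfEquivOfLe (baseU_le T)).toEquiv, card_baseU T] at h
  rw [← h]
  simp [Nat.card_eq_fintype_card]

/-- The group is elementary abelian. -/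
theorem baseA_elementary (hG : Good z Q π ρ) : Cfsg.IsElementaryAbelian 2 (baseA T.S) := by
  set gs : Set G := (baseU T.S : Set G) ∪ Set.range (six T) with hgs
  have hmem : ∀ x ∈ gs, x ∈ baseA T.S := by
    rintro x (hx | ⟨k, rfl⟩)
    exacts [baseU_le T hx, (six_el T k).1]
  have hcomm : ∀ x ∈ gs, ∀ y ∈ gs, x * y = y * x := by
    rintro x (hx | ⟨k, rfl⟩) y hy
    · exact mem_centralizer_iff.1 (hmem y hy) x hx
    · rcases hy with hy | ⟨l, rfl⟩
      · exact (mem_centralizer_iff.1 (six_el T k).1 y hy).symm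
      · exact six_comm T hG k l
  have hsq : ∀ x ∈ gs, x * x = 1 := by
    rintro x (hx | ⟨k, rfl⟩)
    · rw [T.S.sq x hx.1, inW_qm hx.2, zb_zero]
    · exact el_sq T (inW_fe _) (fe_ne _) (inW_fe _) (six_el T k)
  have htop : baseA T.S = closure gs := by
    refine le_antisymm (fun a ha => ?_) ((closure_le _).2 hmem)
    let K : Subgroup (baseA T.S) := (closure gs).subgroupOf (baseA T.S)
    have hk : (coordHom T).ker ≤ K := fun x hx => by
      rw [coordHom_ker, mem_subgroupOf] at hx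
      exact subset_closure (.inl hx)
    have hs : ∀ k, (⟨six T k, (six_el T k).1⟩ : baseA T.S) ∈ K := fun k => subset_closure (.inr ⟨k, rfl⟩)
    have hmap : K.map (coordHom T) = ⊤ := by
      refine eq_top_iff.2 fun c _ => ?_
      have h1 : ∀ (k : Fin 6) (e : ZMod 2), Multiplicative.ofAdd (Pi.single k e) ∈ K.map (coordHom T) := fun k e => by
        rcases two_cases e with rfl | rfl
        · rw [Pi.single_zero, ofAdd_zero]; exact one_mem _
        · exact ⟨_, hs k, congrArg Multiplicative.ofAdd (coord_el T k)⟩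
      rw [← ofAdd_toAdd c, ← Finset.univ_sum_single (Multiplicative.toAdd c), ofAdd_sum]
      exact prod_mem fun k _ => h1 k _
    have : (K.map (coordHom T)).comap (coordHom T) = K := comap_map_eq_self hk
    rw [hmap, comap_top] at this
    have h2 : (⟨a, ha⟩ : baseA T.S) ∈ K := this ▸ mem_top _
    exact h2
  have hab : IsMulCommutative (baseA T.S) := by
    rw [htop]
    exact Subgroup.isMulCommutative_closure hcomm
  refine ⟨hab, fun a ha => ?_⟩
  rw [htop] at ha
  induction ha using closure_induction with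
  | mem x hx => rw [_root_.sq, hsq x hx]
  | one => exact one_pow 2
  | mul x y hx hy ex ey =>
    rw [← htop] at hx hy
    have e := congrArg Subtype.val (hab.is_comm.comm ⟨x, hx⟩ ⟨y, hy⟩)
    rw [(show Commute x y from e).mul_pow, ex, ey, one_mul]
  | inv x _ ex => rw [inv_pow, ex, inv_one]

end CfsgLib.CoType
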