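import Mathlib
import Cfsg.Agent.Lib.CoType.TwoEleven
import Cfsg.Agent.Lib.CoType.Hyp

/-!
The normalizer of the group of order 2048 moves the involution to every element of its intersection with the
extraspecial group.
-/

set_option autoImplicit false
set_option linter.style.haveILetI false
set_option linter.unusedSectionVars false
set_option linter.unusedSimpArgs false

namespace CfsgLib.CoType

open Subgroup CfsgLib.Classical

variable {G : Type*} [Group G] [Finite G] {z : G} {Q : Subgroup G} {π : G → V8} {ρ : G → qAut qm}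

theorem centralizer_map_conj (H : Subgroup G) (g : G) :
    centralizer ((H.map (MulAut.conj g).toMonoidHom : Subgroup G) : Set G) =
      (centralizer (H : Set G)).map (MulAut.conj g).toMonoidHom := by
  ext x
  rw [mem_conj_iff, mem_centralizer_iff, mem_centralizer_iff]
  constructor
  · intro h a ha
    have h' := h (g * a * g⁻¹) (mem_conj_iff.2 (by simpa [mul_assoc] using ha))
    calc a * (g⁻¹ * x * g) = g⁻¹ * (g * a * g⁻¹ * x) * g := by group
      _ = g⁻¹ * x * g * a := by rw [h']; group
  · intro h b hb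
    have h' := h _ (mem_conj_iff.1 hb)
    calc b * x = g * (g⁻¹ * b * g * (g⁻¹ * x * g)) * g⁻¹ := by group
      _ = x * b := by rw [h']; group

variable (T : Sys z Q π ρ)

include T

/-- A conjugating element at a given singular element of the extraspecial group. -/
theorem point_at {t : G} (ht : t ∈ Q) (hs : Sing (π t)) :
    ∃ g : G, g * z * g⁻¹ = t ∧ t ≠ z ∧ z ∈ Q.map (MulAut.conj g).toMonoidHom := by
  have htz : t ≠ z := fun h => hs.1 (by rw [h, T.S.pi_z])
  obtain ⟨g, g1, g2, g3, g4⟩ := T.point (π t) hs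
  have P := T.pair g1 g2 g3
  rcases T.S.pi_eq g1 ht g4 with e | e
  · exact ⟨g, e.symm, htz, g3⟩
  · obtain ⟨q, hq, -, hqt⟩ := P.exists_swap
    refine ⟨q * g, ?_, htz, mem_conj_iff.2 ?_⟩
    · rw [e, show q * g * z * (q * g)⁻¹ = q * (g * z * g⁻¹) * q⁻¹ by group, hqt]
    · rw [show (q * g)⁻¹ * z * (q * g) = g⁻¹ * (q⁻¹ * (z * q)) * g by group, ← T.S.z_comm hq,
        inv_mul_cancel_left]
      exact mem_conj_iff.1 g3

/-- Root elements at orthogonal points commute up to the central involution. -/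
theorem root_cross {p s v w : V8} {X Y : G} (hX : Root z Q π ρ p v X) (hY : Root z Q π ρ s w Y) (hne : p ≠ s)
    (ps : pb p s = 0) (pv : pb p v = 0) (sv : pb s v = 0) (sw : pb s w = 0) (pw : pb p w = 0) (vw : pb v w = 0) :
    ∃ c, X * Y = zb z c * (Y * X) := by
  obtain ⟨g, g1, g2, g3, g4, g5, g6, g7⟩ := hX
  obtain ⟨g', g1', g2', g3', g4', g5', g6', g7'⟩ := hY
  refine (T.pair g1 g2 g3).cross (T.pair g1' g2' g3') ?_ ?_ g5 g6 (g4.symm ▸ g7) ?_ ?_ g5' g6' (g4'.symm ▸ g7') ?_ ?_ vw
  all_goals simp only [g4, g4', ne_eq]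
  all_goals assumption

/-- The chart with commuting root elements exists. -/
theorem exists_good : ∃ σ : qAut qm, Good z Q (chartPi σ π) (chartRho σ ρ) := by
  obtain ⟨σ, X, Y, hX, hY, hne⟩ := exists_root_pair T 1
  refine ⟨σ, X, Y, Root.chart T hX (sing_of (by decide) (by decide)) (by rw [pb_bd]; decide),
    Root.chart T hY (sing_of (by decide) (by decide)) (by rw [pb_bd]; decide), ?_⟩
  obtain ⟨c, hc⟩ := root_cross T hX hY (fun h => absurd (σ.1.injective h) (by decide))
    (by rw [pb_map, pb_bd]; decide) (by rw [pb_map, pb_bd]; decide) (by rw [pb_map, pb_bd]; decide)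
    (by rw [pb_map, pb_bd]; decide) (by rw [pb_map, pb_bd]; decide) (by rw [pb_map, pb_bd]; decide)
  rcases two_cases c with rfl | rfl
  · rwa [zb_zero, one_mul] at hc
  · exact absurd hc hne

/-- In some chart the group is not abelian. -/
theorem exists_bad : ∃ σ : qAut qm, ¬ IsMulCommutative (baseA (T.S.chart σ)) := by
  obtain ⟨σ, X, Y, hX, hY, hne⟩ := exists_root_pair T 0
  refine ⟨σ, fun h => hne ?_⟩
  have T' := T.chart σ
  have eX := root_el T' (Root.chart T hX (sing_of (by decide) (by decide)) (by rw [pb_bd]; decide))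
    (inW_fe 0) (inW_fe 2)
  have eY := root_el T' (Root.chart T hY (sing_of (by decide) (by decide)) (by rw [pb_bd]; decide))
    (inW_fe 1) (inW_fe 3)
  rw [zb_zero, one_mul]
  exact congrArg Subtype.val (h.is_comm.comm (⟨X, eX.1⟩ : baseA (T.S.chart σ)) ⟨Y, eY.1⟩)

/-- Conjugation carries one preimage to another. -/
theorem conj_baseU {σ τ : qAut qm} {c : G} (hc : c ∈ centralizer ({z} : Set G)) (h : σ = ρ c * τ) :
    (baseU (T.S.chart τ)).map (MulAut.conj c).toMonoidHom = baseU (T.S.chart σ) := by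
  have hci := inv_mem hc
  have e : ∀ a ∈ Q, chartPi τ π (c⁻¹ * a * c) = chartPi σ π a := fun a ha => by
    have h1 := T.S.rho_pi c⁻¹ hci a ha
    rw [inv_inv] at h1
    show (τ⁻¹).1 (π (c⁻¹ * a * c)) = (σ⁻¹).1 (π a)
    rw [h1, T.S.rho_inv hc, ← qAut_mul_apply, ← mul_inv_rev, ← h]
  ext x
  rw [mem_conj_iff]
  constructor
  · rintro ⟨hx, hw⟩
    have hxQ : x ∈ Q := by
      have := T.S.conj_mem hc hx
      rwa [show c * (c⁻¹ * x * c) * c⁻¹ = x by group] at this
    exact ⟨hxQ, e x hxQ ▸ hw⟩
  · rintro ⟨hx, hw⟩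
    have hx' := T.S.conj_mem hci hx
    rw [inv_inv] at hx'
    exact ⟨hx', (e x hx).symm ▸ hw⟩

theorem chart_one : baseU (T.S.chart 1) = baseU T.S := by
  ext a
  show (a ∈ Q ∧ InW _) ↔ (a ∈ Q ∧ InW _)
  rw [show chartPi (1 : qAut qm) π a = π a by rw [chartPi, inv_one]; rfl]

variable (hG : Good z Q π ρ)

include hG

/-- An abelian centralizer marks an even chart. -/
theorem even_of_comm {σ : qAut qm} (h : IsMulCommutative (baseA (T.S.chart σ))) : σ ∈ Ev := by
  have key : ∀ τ υ : qAut qm, υ * τ⁻¹ ∈ Ev → IsMulCommutative (baseA (T.S.chart τ)) →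
      IsMulCommutative (baseA (T.S.chart υ)) := by
    intro τ υ hev hτ
    obtain ⟨c, hc, hρ⟩ := (T.S.rho_range _).1 hev
    have e := conj_baseU T (σ := υ) (τ := τ) hc (by rw [hρ, inv_mul_cancel_right])
    rw [show baseA (T.S.chart υ) = centralizer (baseU (T.S.chart υ) : Set G) from rfl, ← e, centralizer_map_conj]
    exact ⟨⟨fun ⟨a, a', ha, ea⟩ ⟨b, b', hb, eb⟩ => Subtype.ext (by
      show a * b = b * a
      rw [← ea, ← eb, ← map_mul, ← map_mul]
      exact congrArg _ (congrArg Subtype.val (hτ.is_comm.comm ⟨a', ha⟩ ⟨b', hb⟩)))⟩⟩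
  obtain ⟨υ, hυ⟩ := exists_bad T
  by_contra hodd
  have h1 : IsMulCommutative (baseA (T.S.chart 1)) := by
    rw [show baseA (T.S.chart 1) = baseA T.S by rw [baseA, chart_one T]; rfl]
    exact (baseA_elementary T hG).1
  by_cases hev : υ ∈ Ev
  · exact hυ (key 1 υ (by rwa [inv_one, mul_one]) h1)
  · exact hυ (key σ υ ((Subgroup.mul_mem_iff_of_index_two index_ev).2
      (iff_of_false hev fun hi => hodd (inv_mem_iff.1 hi))) h)

/-- An isometry preserving the standard subspace is even. -/
theorem stab_even {σ : qAut qm} (h : ∀ x, InW x → InW (σ.1 x)) : σ ∈ Ev := by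
  refine even_of_comm T hG ?_
  have hle : baseU T.S ≤ baseU (T.S.chart σ⁻¹) := fun a ha => ⟨ha.1, by
    show InW (((σ⁻¹)⁻¹).1 (π a))
    rw [inv_inv]; exact h _ ha.2⟩
  have heq : baseU T.S = baseU (T.S.chart σ⁻¹) :=
    eq_of_le_of_card_ge hle (by rw [card_baseU (T.chart σ⁻¹), card_baseU T])
  have hEv : σ⁻¹ ∈ Ev := even_of_comm T hG (by rw [baseA, ← heq]; exact (baseA_elementary T hG).1)
  obtain ⟨c, hc, hρ⟩ := (T.S.rho_range _).1 (inv_mem hEv)
  rw [inv_inv] at hρ
  have e := conj_baseU T (σ := σ) (τ := 1) hc (by rw [mul_one, hρ])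
  rw [chart_one T] at e
  rw [baseA, ← e, centralizer_map_conj]
  have hab := (baseA_elementary T hG).1
  exact ⟨⟨fun ⟨a, a', ha, ea⟩ ⟨b, b', hb, eb⟩ => Subtype.ext (by
    show a * b = b * a
    rw [← ea, ← eb, ← map_mul, ← map_mul]
    exact congrArg _ (congrArg Subtype.val (hab.is_comm.comm ⟨a', ha⟩ ⟨b', hb⟩)))⟩⟩

/-- The conjugating elements inside the normalizer. -/
theorem exists_transport {t : G} (ht : t ∈ baseU T.S) (h0 : π t ≠ 0) :
    ∃ n g : G, n ∈ normalizer (baseA T.S : Set G) ∧ n * z * n⁻¹ = t ∧ g * z * g⁻¹ = t ∧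
      z ∈ Q.map (MulAut.conj g).toMonoidHom ∧ (baseU T.S).map (MulAut.conj n).toMonoidHom =
        baseA T.S ⊓ Q.map (MulAut.conj g).toMonoidHom := by
  obtain ⟨g, hg, htz, hgz⟩ := point_at T ht.1 ⟨h0, inW_qm ht.2⟩
  have P := T.pair (g := g) (hg ▸ ht.1) (hg ▸ htz) hgz
  rw [hg] at P
  set R := Q.map (MulAut.conj g).toMonoidHom with hR
  set U' := baseA T.S ⊓ R with hU'
  have hel := baseA_elementary T hG
  have hab : ∀ {a b : G}, a ∈ baseA T.S → b ∈ baseA T.S → a * b = b * a := fun ha hb =>
    congrArg Subtype.val (hel.1.is_comm.comm (⟨_, ha⟩ : baseA T.S) ⟨_, hb⟩)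
  have hzA : z ∈ baseA T.S := baseU_le T ⟨T.S.zQ, by rw [T.S.pi_z]; exact fun _ => rfl⟩
  -- the image of the intersection
  have hsize : 32 ≤ Nat.card U' := by
    let f : U' →* Multiplicative (Fin 6 → ZMod 2) := (coordHom T).comp (inclusion inf_le_left)
    have hker : 4 ≤ Nat.card f.ker := by
      let m : ZMod 2 × ZMod 2 → f.ker := fun x => ⟨⟨eb z t x.1 x.2, by
        refine ⟨?_, (P.eb_mem x.1 x.2).2⟩
        rcases two_cases x.1 with e | e <;> rcases two_cases x.2 with e' | e' <;>
          simp [eb, e, e', zb_zero, zb_one, one_mem, hzA, baseU_le T ht, mul_mem hzA (baseU_le T ht)]⟩, by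
        show Multiplicative.ofAdd (coord (ρ (eb z t x.1 x.2))) = 1
        rw [T.S.rho_Q (P.eb_mem x.1 x.2).1]
        refine Multiplicative.toAdd.injective (funext fun j => ?_)
        fin_cases j <;> simp [coord, add_self8, ← pb_bd]⟩
      have hm : Function.Injective m := fun x y h => by
        obtain ⟨h1, h2⟩ := P.eb_inj (congrArg (fun u : f.ker => ((u : U') : G)) h)
        exact Prod.ext h1 h2
      exact le_of_eq_of_le (by simp [Nat.card_eq_fintype_card]) (Nat.card_le_card_of_injective m hm)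
    have hran : 8 ≤ Nat.card f.range := by
      classical
      have hv : ∀ v : {v : V8 // InW v}, ∃ b : U', El T.S (π t) v.1 (b : G) ∧
          Pm (π t) (tv (π t) (ρ (b : G)) + v.1) := fun v => by
        obtain ⟨b, b1, b2, b3⟩ := P.w_surj (v := v.1) (inW_perp ht.2 v.2)
        have e := root_el T (p := π t) (v := v.1) (b := b)
          ⟨g, hg ▸ ht.1, hg ▸ htz, hgz, by rw [hg], b1, b2, b3⟩ ht.2 v.2
        exact ⟨⟨b, e.1, b1⟩, e, b3⟩
      choose b hb hb' using hv
      haveI := Fintype.ofFinite {v : V8 // InW v}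
      haveI := Fintype.ofFinite f.range
      have hfib : ∀ y ∈ (Finset.univ : Finset f.range), (Finset.univ.filter fun v : {v : V8 // InW v} =>
          f.rangeRestrict (b v) = y).card ≤ 2 := by
        intro y _
        by_contra hlt
        push Not at hlt
        obtain ⟨a, ha, c, hc, d, hd, hac, had, hcd⟩ := Finset.two_lt_card.1 hlt
        have key : ∀ {u w : {v : V8 // InW v}}, f.rangeRestrict (b u) = y → f.rangeRestrict (b w) = y →
            u ≠ w → w.1 = π t + u.1 := by
          intro u w hu hw huw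
          have h1 : ρ (b u : G) = ρ (b w : G) := coord_inj (baseA_fix T.S (b u).2.1) (baseA_fix T.S (b w).2.1)
            (congrArg (fun y : f.range => y.1.toAdd) (hu.trans hw.symm))
          have h2 := pm_trans (pm_symm (hb' u)) (h1.symm ▸ hb' w)
          rcases h2 with e | e
          · exact absurd (Subtype.ext (CharTwo.add_eq_zero.1 (funext fun i => congrFun e i))) huw
          · rw [← e, add_comm u.1, add_assoc, add_self8, add_zero]
        simp only [Finset.mem_filter, Finset.mem_univ, true_and] at ha hc hd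
        exact hcd (Subtype.ext ((key ha hc hac).trans (key ha hd had).symm))
      have hW : Fintype.card {v : V8 // InW v} = 16 := by
        rw [Fintype.card_congr (β := Fin 4 → ZMod 2)
          { toFun := fun v i => v.1 (.inl i)
            invFun := fun c => ⟨Sum.elim c 0, fun _ => rfl⟩
            left_inv := fun v => Subtype.ext (funext fun k => by
              rcases k with i | i
              exacts [rfl, (v.2 i).symm])
            right_inv := fun c => rfl }]
        simp
      have h := Finset.card_le_mul_card_image_of_maps_to (s := Finset.univ)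
        (t := (Finset.univ : Finset f.range)) (f := fun v => f.rangeRestrict (b v)) (fun _ _ => Finset.mem_univ _) 2
        hfib
      rw [Finset.card_univ, Finset.card_univ, hW, ← Nat.card_eq_fintype_card] at h
      omega
    have h := card_mul_index f.ker
    rw [index_ker] at h
    exact le_trans (Nat.mul_le_mul hker hran) h.le
  -- back in the first subgroup
  set V := U'.map (MulAut.conj g⁻¹).toMonoidHom with hV
  have hmemV : ∀ x, x ∈ V ↔ g * x * g⁻¹ ∈ U' := fun x => by rw [hV, mem_conj_iff, inv_inv]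
  have hVQ : V ≤ Q := fun x hx => by
    have h := mem_conj_iff.1 ((hmemV x).1 hx).2
    rwa [show g⁻¹ * (g * x * g⁻¹) * g = x by group] at h
  have hVz : z ∈ V := (hmemV z).2 (hg.symm ▸ ⟨baseU_le T ht, P.S'.zQ⟩)
  have hVc : Nat.card V = Nat.card U' := card_map_of_injective (MulEquiv.injective _)
  let I : Set V8 := π '' (V : Set G)
  have hts : ∀ u ∈ I, ∀ w ∈ I, pb u w = 0 ∧ qm u = 0 := by
    rintro _ ⟨a, ha, rfl⟩ _ ⟨c, hc, rfl⟩
    have ha' := (hmemV a).1 ha
    have hc' := (hmemV c).1 hc
    refine ⟨(T.S.commute_iff (hVQ ha) (hVQ hc)).1 ?_, ?_⟩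
    · have h := hab ha'.1 hc'.1
      calc a * c = g⁻¹ * (g * a * g⁻¹ * (g * c * g⁻¹)) * g := by group
        _ = c * a := by rw [h]; group
    · have h := hel.2 _ ha'.1
      rw [_root_.sq] at h
      have h2 : a * a = 1 := by
        calc a * a = g⁻¹ * (g * a * g⁻¹ * (g * a * g⁻¹)) * g := by group
          _ = 1 := by rw [h]; group
      rcases two_cases (qm (π a)) with e | e
      · exact e
      · rw [T.S.sq a (hVQ ha), e, zb_one] at h2
        exact absurd h2 T.S.z1
  have hIc : 16 ≤ I.ncard := by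
    have h1 : (V : Set G).ncard ≤ 2 * I.ncard := by
      classical
      rw [Set.ncard_eq_toFinset_card _, Set.ncard_eq_toFinset_card _, show (Set.toFinite I).toFinset =
        ((Set.toFinite (V : Set G)).toFinset).image π by ext; simp [I]]
      refine Finset.card_le_mul_card_image _ 2 fun y hy => ?_
      by_contra hlt
      push Not at hlt
      obtain ⟨a, ha, c, hc, d, hd, hac, had, hcd⟩ := Finset.two_lt_card.1 hlt
      simp only [Finset.mem_filter, Set.Finite.mem_toFinset, SetLike.mem_coe] at ha hc hd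
      rcases T.S.pi_eq (hVQ ha.1) (hVQ hc.1) (ha.2.trans hc.2.symm) with e | e
      · exact hac e.symm
      rcases T.S.pi_eq (hVQ ha.1) (hVQ hd.1) (ha.2.trans hd.2.symm) with e' | e'
      · exact had e'.symm
      exact hcd (e.trans e'.symm)
    rw [← Nat.card_coe_set_eq] at h1
    have : Nat.card (V : Set G) = Nat.card V := rfl
    omega
  -- a frame
  have hI0 : (0 : V8) ∈ I := ⟨z, hVz, T.S.pi_z⟩
  have pick : ∀ S : Finset V8, S.card < 16 → ∃ a ∈ I, a ∉ S := fun S hS => by
    by_contra hc
    push Not at hc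
    have := Set.ncard_le_ncard (s := I) (t := (S : Set V8)) hc
    rw [Set.ncard_coe_finset] at this
    omega
  obtain ⟨a₀, h₀, n₀⟩ := pick {0} (by simp)
  obtain ⟨a₁, h₁, n₁⟩ := pick {0, a₀} (lt_of_le_of_lt Finset.card_le_two (by norm_num))
  obtain ⟨a₂, h₂, n₂⟩ := pick {0, a₀, a₁, a₀ + a₁} (lt_of_le_of_lt Finset.card_le_four (by norm_num))
  obtain ⟨a₃, h₃, n₃⟩ := pick ({0, a₀, a₁, a₀ + a₁} ∪ {a₂, a₂ + a₀, a₂ + a₁, a₂ + (a₀ + a₁)})
    (lt_of_le_of_lt (le_trans (Finset.card_union_le _ _) (add_le_add Finset.card_le_four Finset.card_le_four))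
      (by norm_num))
  simp only [Finset.mem_singleton, Finset.mem_insert, Finset.mem_union, not_or] at n₀ n₁ n₂ n₃
  have hmemI : ∀ i, ![a₀, a₁, a₂, a₃] i ∈ I := fun i => by fin_cases i <;> assumption
  obtain ⟨σ, hσ⟩ := exists_frame_map ![a₀, a₁, a₂, a₃] (fun i j => (hts _ (hmemI i) _ (hmemI j)).1)
    (fun i => (hts _ (hmemI i) _ (hmemI i)).2) (by
      intro c hc
      have solve : ∀ {x y : V8}, x + y = 0 → x = y := fun h => CharTwo.add_eq_zero.1 (funext fun i => congrFun h i)
      simp only [Matrix.cons_val_zero, Matrix.cons_val_one, Matrix.cons_val] at hc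
      obtain ⟨⟨n30, n31, n32, n33⟩, n34, n35, n36, n37⟩ := n₃
      obtain ⟨n20, n21, n22, n23⟩ := n₂
      obtain ⟨n10, n11⟩ := n₁
      rcases two_cases (c 3) with e3 | e3 <;> rcases two_cases (c 2) with e2 | e2 <;>
        rcases two_cases (c 1) with e1 | e1 <;> rcases two_cases (c 0) with e0 | e0 <;>
        simp only [e0, e1, e2, e3, zero_smul, one_smul, zero_add, add_zero] at hc
      all_goals first
        | (funext i; fin_cases i <;> assumption)
        | exact absurd hc n₀ | exact absurd hc n10 | exact absurd (solve hc).symm n11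
        | exact absurd hc n20 | exact absurd (solve hc).symm n21 | exact absurd (solve hc).symm n22
        | exact absurd (solve hc).symm n23
        | exact absurd hc n30 | exact absurd (solve hc).symm n31 | exact absurd (solve hc).symm n32
        | exact absurd (solve hc).symm n33 | exact absurd (solve hc).symm n34
        | exact absurd ((solve hc).symm.trans (add_comm _ _)) n35
        | exact absurd ((solve hc).symm.trans (add_comm _ _)) n36
        | exact absurd ((solve hc).symm.trans (add_comm _ _)) n37)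
  have hle : V ≤ baseU (T.S.chart σ) := fun a ha => ⟨hVQ ha, inW_of_perp fun i => by
    show pb (fe i) ((σ⁻¹).1 (π a)) = 0
    rw [← pb_map σ, qAut_inv_apply, hσ]
    exact (hts _ (hmemI i) _ ⟨a, ha, rfl⟩).1⟩
  have hVeq : V = baseU (T.S.chart σ) :=
    eq_of_le_of_card_ge hle (by rw [card_baseU (T.chart σ), hVc]; exact hsize)
  -- its centralizer
  have hAle : baseA T.S ≤ centralizer (U' : Set G) := fun a ha => mem_centralizer_iff.2 fun b hb => hab hb.1 ha
  have hUV : U' = V.map (MulAut.conj g).toMonoidHom := by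
    ext x
    rw [mem_conj_iff, hmemV, show g * (g⁻¹ * x * g) * g⁻¹ = x by group]
  have hAeq : centralizer (U' : Set G) = baseA T.S := by
    refine (eq_of_le_of_card_ge hAle ?_).symm
    rw [hUV, hVeq, centralizer_map_conj, card_map_of_injective (MulEquiv.injective _)]
    exact le_of_eq ((card_baseA (T.chart σ)).trans (card_baseA T).symm)
  have hσc : IsMulCommutative (baseA (T.S.chart σ)) := by
    refine ⟨⟨fun a b => Subtype.ext ?_⟩⟩
    have hm : ∀ x ∈ baseA (T.S.chart σ), g * x * g⁻¹ ∈ baseA T.S := fun x hx => by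
      rw [← hAeq, hUV, hVeq, centralizer_map_conj, mem_conj_iff, show g⁻¹ * (g * x * g⁻¹) * g = x by group]
      exact hx
    have h := hab (hm _ a.2) (hm _ b.2)
    show (a : G) * b = b * a
    calc (a : G) * b = g⁻¹ * (g * a * g⁻¹ * (g * b * g⁻¹)) * g := by group
      _ = b * a := by rw [h]; group
  obtain ⟨c, hc, hρ⟩ := (T.S.rho_range σ).1 (even_of_comm T hG hσc)
  have e := conj_baseU T (σ := σ) (τ := 1) hc (by rw [mul_one, hρ])
  rw [chart_one T] at e
  have hmap : (baseU T.S).map (MulAut.conj (g * c)).toMonoidHom = U' := by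
    rw [hUV, hVeq, ← e, map_map]
    congr 1
    ext x
    simp [mul_assoc]
  refine ⟨g * c, g, ?_, ?_, hg, hgz, hmap⟩
  · have hA : (baseA T.S).map (MulAut.conj (g * c)).toMonoidHom = baseA T.S := by
      conv_lhs => rw [baseA, ← centralizer_map_conj, hmap, hAeq]
    exact mem_normalizer_iff.2 fun x => by
      rw [show g * c * x * (g * c)⁻¹ ∈ baseA T.S ↔ g * c * x * (g * c)⁻¹ ∈
        (baseA T.S).map (MulAut.conj (g * c)).toMonoidHom by rw [hA], mem_conj_iff,
        show (g * c)⁻¹ * (g * c * x * (g * c)⁻¹) * (g * c) = x by group]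
  · rw [show g * c * z * (g * c)⁻¹ = g * (c * z * c⁻¹) * g⁻¹ by group, mem_centralizer_singleton_iff.1 hc,
      mul_inv_cancel_right, hg]

end CfsgLib.CoType
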