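import Mathlib
import Cfsg.Agent.Lib.CoType.TwoTransport

/-!
The centralizer of the involution inside the normalizer of the group of order 2048.
-/

set_option autoImplicit false
set_option linter.style.haveILetI false
set_option linter.unusedSectionVars false
set_option linter.unusedSimpArgs false

namespace CfsgLib.CoType

open Subgroup CfsgLib.Classical
open scoped MatrixGroups

variable {G : Type*} [Group G] [Finite G] {z : G} {Q : Subgroup G} {π : G → V8} {ρ : G → qAut qm}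

/-- The working hypotheses: a system with a good chart and symmetry of the relation. -/
structure Ctx (z : G) (Q : Subgroup G) (π : G → V8) (ρ : G → qAut qm) : Prop where
  T : Sys z Q π ρ
  good : Good z Q π ρ
  hsymm : ∀ g : G, g * z * g⁻¹ ∈ Q → g⁻¹ * z * g ∈ Q

/-- From a configuration. -/
theorem Config.exists_ctx {t : G} {R : Subgroup G} {π' : G → V8} {ρ' : G → qAut qm}
    (C : Config z t Q R π π' ρ ρ') : ∃ σ : qAut qm, Ctx z Q (chartPi σ π) (chartRho σ ρ) := by
  have T : Sys z Q π ρ := by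
    refine ⟨C.P.S, fun p hp => ?_⟩
    obtain ⟨a, ha, rfl⟩ := C.P.S.pi_surj p
    have h2 : a * a = 1 := by rw [C.P.S.sq a ha, hp.2, zb_zero]
    have hne : a ≠ z := fun h => hp.1 (by rw [h, C.P.S.pi_z])
    have h1 : a ≠ 1 := fun h => hp.1 (by rw [h, C.P.S.pi_one])
    obtain ⟨g, hg⟩ := isConj_iff.1 (C.P.q_conj C.zt ha h2 h1)
    exact ⟨g, hg ▸ ha, hg ▸ hne, mem_conj_iff.2 (C.hsymm g (hg ▸ ha)), by rw [hg]⟩
  obtain ⟨σ, hσ⟩ := exists_good T
  exact ⟨σ, T.chart σ, hσ, C.hsymm⟩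

namespace Ctx

variable (X : Ctx z Q π ρ)

include X

/-- The group of order 2048. -/
def A : Subgroup G := baseA X.T.S

/-- Its intersection with the extraspecial group. -/
def U : Subgroup G := baseU X.T.S

/-- The normalizer. -/
def N : Subgroup G := normalizer (X.A : Set G)

/-- The elements of the centralizer normalizing. -/
def NC : Subgroup G := X.N ⊓ centralizer ({z} : Set G)

theorem elementary : Cfsg.IsElementaryAbelian 2 X.A := baseA_elementary X.T X.good

theorem a_comm {a b : G} (ha : a ∈ X.A) (hb : b ∈ X.A) : a * b = b * a :=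
  congrArg Subtype.val (X.elementary.1.is_comm.comm (⟨a, ha⟩ : X.A) ⟨b, hb⟩)

theorem a_sq {a : G} (ha : a ∈ X.A) : a * a = 1 := by
  rw [← _root_.sq]; exact X.elementary.2 a ha

theorem card_A : Nat.card X.A = 2048 := card_baseA X.T

theorem a_le : X.A ≤ centralizer ({z} : Set G) := baseA_le X.T.S

theorem a_le_N : X.A ≤ X.N := le_normalizer

theorem zU : z ∈ X.U := ⟨X.T.S.zQ, by rw [X.T.S.pi_z]; exact fun _ => rfl⟩

theorem u_le : X.U ≤ X.A := baseU_le X.T

theorem zA : z ∈ X.A := X.u_le X.zU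

theorem cent_A {c : G} (hc : ∀ a ∈ X.A, a * c = c * a) : c ∈ X.A :=
  mem_centralizer_iff.2 fun a ha => hc a (X.u_le ha)

theorem rho_a {a : G} (ha : a ∈ X.A) {w : V8} (hw : InW w) : (ρ a).1 w = w := baseA_fix X.T.S ha w hw

theorem inW_symm {g : qAut qm} (h : ∀ w, InW w → InW (g.1 w)) {w : V8} (hw : InW w) : InW ((g⁻¹).1 w) := by
  let W := {v : V8 // InW v}
  let f : W → W := fun v => ⟨g.1 v.1, h _ v.2⟩
  have hinj : Function.Injective f := fun u v e => Subtype.ext (g.1.injective (congrArg Subtype.val e))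
  obtain ⟨v, hv⟩ := (Finite.injective_iff_surjective.1 hinj) ⟨w, hw⟩
  rw [← show g.1 v.1 = w from congrArg Subtype.val hv, qAut_apply_inv]
  exact v.2

/-- The criterion. -/
theorem mem_NC {c : G} : c ∈ X.NC ↔ c ∈ centralizer ({z} : Set G) ∧ ∀ w, InW w → InW ((ρ c).1 w) := by
  constructor
  · rintro ⟨hN, hc⟩
    refine ⟨hc, fun w hw => ?_⟩
    obtain ⟨a, ha, rfl⟩ := X.T.S.pi_surj w
    have h1 := (mem_normalizer_iff.1 hN a).1 (X.u_le ⟨ha, hw⟩)
    rw [← X.T.S.rho_pi c hc a ha]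
    exact (baseA_inf X.T.S (X.T.S.conj_mem hc ha)).1 h1
  · rintro ⟨hc, hw⟩
    have e : (baseU X.T.S).map (MulAut.conj c).toMonoidHom = baseU X.T.S := by
      have h := conj_baseU X.T (σ := ρ c) (τ := 1) hc (mul_one _).symm
      rw [chart_one X.T] at h
      rw [h]
      refine (eq_of_le_of_card_ge ?_ (le_of_eq ((card_baseU (X.T.chart (ρ c))).trans (card_baseU X.T).symm))).symm
      rintro a ⟨ha, ha'⟩
      exact ⟨ha, X.inW_symm hw ha'⟩
    refine ⟨mem_normalizer_iff.2 fun x => ?_, hc⟩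
    have eA : X.A.map (MulAut.conj c).toMonoidHom = X.A := by
      show (baseA X.T.S).map _ = baseA X.T.S
      conv_lhs => rw [baseA, ← centralizer_map_conj, e]
      rfl
    have key : c * x * c⁻¹ ∈ X.A ↔ x ∈ X.A := by
      conv_lhs => rw [← eA, mem_conj_iff, show c⁻¹ * (c * x * c⁻¹) * c = x by group]
    exact key.symm

theorem q_le : Q ≤ X.NC := fun q hq =>
  X.mem_NC.2 ⟨X.T.S.le hq, fun w hw => by rw [X.T.S.rho_Q hq]; exact hw⟩

/-- Lifts of frames. -/
theorem exists_nc (a : Fin 4 → V8) (ha : ∀ i, InW (a i))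
    (hind : ∀ c : Fin 4 → ZMod 2, c 0 • a 0 + c 1 • a 1 + c 2 • a 2 + c 3 • a 3 = 0 → c = 0) :
    ∃ c ∈ X.NC, ∀ i, (ρ c).1 (fe i) = a i := by
  obtain ⟨σ, hσ⟩ := exists_frame_map a (fun i j => inW_perp (ha i) (ha j)) (fun i => inW_qm (ha i)) hind
  have hW : ∀ w, InW w → InW (σ.1 w) := fun w hw j => by
    rw [basis_eq w, hw 0, hw 1, hw 2, hw 3]
    simp only [map_add, map_smul, hσ, zero_smul, add_zero, Pi.add_apply, Pi.smul_apply, ha _ j, smul_zero]
  obtain ⟨c, hc, hρ⟩ := (X.T.S.rho_range σ).1 (stab_even X.T X.good hW)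
  exact ⟨c, X.mem_NC.2 ⟨hc, hρ.symm ▸ hW⟩, fun i => hρ.symm ▸ hσ i⟩

/-- Conjugation carries coordinates. -/
theorem el_conj {c : G} (hc : c ∈ X.NC) {p v : V8} {a : G} (ha : El X.T.S p v a) :
    El X.T.S ((ρ c).1 p) ((ρ c).1 v) (c * a * c⁻¹) := by
  have hC := (X.mem_NC.1 hc).1
  refine ⟨(mem_normalizer_iff.1 hc.1 a).1 ha.1, fun x => ?_⟩
  obtain ⟨y, rfl⟩ := (ρ c).1.surjective x
  rw [X.T.S.rho_mul _ (mul_mem hC (X.a_le ha.1)) _ (inv_mem hC), X.T.S.rho_mul _ hC _ (X.a_le ha.1),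
    X.T.S.rho_inv hC, qAut_mul_apply, qAut_mul_apply, qAut_apply_inv, ha.2, map_add, map_add, map_smul, map_smul,
    pb_map, pb_map]

/-- The matrix on the standard subspace. -/
noncomputable def resM : X.NC →* Matrix (Fin 4) (Fin 4) (ZMod 2) where
  toFun c := Matrix.of fun i j => (ρ (c : G)).1 (fe j) (.inl i)
  map_one' := by
    funext i j
    show (ρ ((1 : X.NC) : G)).1 (fe j) (.inl i) = _
    rw [OneMemClass.coe_one, X.T.S.rho_one]
    show fe j (.inl i) = _
    simp [fe, Matrix.one_apply, Pi.single_apply]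
  map_mul' c d := by
    funext i j
    show (ρ ((c * d : X.NC) : G)).1 (fe j) (.inl i) = _
    rw [Matrix.mul_apply]
    rw [coe_mul, X.T.S.rho_mul _ c.2.2 _ d.2.2, qAut_mul_apply]
    have hd := (X.mem_NC.1 d.2).2 (fe j) (inW_fe j)
    conv_lhs => rw [basis_eq ((ρ (d : G)).1 (fe j)), hd 0, hd 1, hd 2, hd 3]
    simp only [map_add, map_smul, zero_smul, add_zero, Pi.add_apply, Pi.smul_apply, Matrix.of_apply,
      Fin.sum_univ_four, smul_eq_mul]
    ring

/-- The action on the standard subspace. -/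
noncomputable def res : X.NC →* GL (Fin 4) (ZMod 2) := X.resM.toHomUnits

theorem res_apply (c : X.NC) (i j : Fin 4) :
    (X.res c : Matrix (Fin 4) (Fin 4) (ZMod 2)) i j = (ρ (c : G)).1 (fe j) (.inl i) := rfl

theorem res_surj : Function.Surjective X.res := by
  intro g
  let a : Fin 4 → V8 := fun j => Sum.elim (fun i => (g : Matrix (Fin 4) (Fin 4) (ZMod 2)) i j) 0
  obtain ⟨c, hc, he⟩ := X.exists_nc a (fun j i => rfl) (by
    intro v hv
    refine Matrix.mulVec_injective_iff_isUnit.2 g.isUnit ?_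
    rw [Matrix.mulVec_zero]
    funext i
    have h := congrFun hv (Sum.inl i)
    simp only [a, Pi.add_apply, Pi.smul_apply, Sum.elim_inl, smul_eq_mul, Pi.zero_apply] at h
    simp only [Matrix.mulVec, dotProduct, Fin.sum_univ_four, Pi.zero_apply]
    rw [← h]; ring)
  refine ⟨⟨c, hc⟩, Units.ext (funext fun i => funext fun j => ?_)⟩
  rw [res_apply]
  show (ρ c).1 (fe j) (.inl i) = _
  rw [he j]
  rfl

theorem res_one {c : X.NC} : X.res c = 1 ↔ ∀ w, InW w → (ρ (c : G)).1 w = w := by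
  constructor
  · intro h w hw
    have e : ∀ j, (ρ (c : G)).1 (fe j) = fe j := fun j => funext fun k => by
      rcases k with i | i
      · rw [← res_apply, h]
        simp [fe, Matrix.one_apply, Pi.single_apply]
      · rw [(X.mem_NC.1 c.2).2 (fe j) (inW_fe j) i, inW_fe j i]
    rw [basis_eq w, hw 0, hw 1, hw 2, hw 3]
    simp only [map_add, map_smul, e, zero_smul, add_zero]
  · intro h
    refine Units.ext (funext fun i => funext fun j => ?_)
    rw [res_apply, h _ (inW_fe j)]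
    simp [fe, Matrix.one_apply, Pi.single_apply]

theorem res_ker {c : X.NC} : X.res c = 1 ↔ ∃ a ∈ X.A, ∃ q ∈ Q, (c : G) = a * q := by
  rw [res_one]
  constructor
  · intro h
    obtain ⟨a, ha⟩ := coord_surj X.T (Multiplicative.ofAdd (coord (ρ (c : G))))
    have e : ρ (a : G) = ρ (c : G) :=
      coord_inj (fun w => X.rho_a a.2) h (congrArg Multiplicative.toAdd ha)
    refine ⟨a, a.2, (a : G)⁻¹ * c, ?_, by group⟩
    refine (X.T.S.rho_ker _ (mul_mem (inv_mem (X.a_le a.2)) c.2.2)).1 ?_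
    rw [X.T.S.rho_mul _ (inv_mem (X.a_le a.2)) _ c.2.2, X.T.S.rho_inv (X.a_le a.2), e, inv_mul_cancel]
  · rintro ⟨a, ha, q, hq, e⟩ w hw
    rw [e, X.T.S.rho_mul a (X.a_le ha) q (X.T.S.le hq), X.T.S.rho_Q hq, mul_one, X.rho_a ha hw]

theorem card_GL4 : Nat.card (GL (Fin 4) (ZMod 2)) = 20160 := by
  rw [Matrix.card_GL_field]
  simp [Fin.prod_univ_four]

theorem card_NC : Nat.card X.NC = 660602880 := by
  let f : X.A × Q → X.res.ker := fun x => ⟨⟨(x.1 : G) * x.2, mul_mem ⟨X.a_le_N x.1.2, X.a_le x.1.2⟩ (X.q_le x.2.2)⟩,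
    X.res_ker.2 ⟨_, x.1.2, _, x.2.2, rfl⟩⟩
  have hsurj : Function.Surjective f := by
    rintro ⟨c, hc⟩
    obtain ⟨a, ha, q, hq, e⟩ := X.res_ker.1 hc
    exact ⟨(⟨a, ha⟩, ⟨q, hq⟩), Subtype.ext (Subtype.ext e.symm)⟩
  have hfib : ∀ y : X.res.ker, Nat.card {x : X.A × Q // f x = y} = 32 := by
    intro y
    obtain ⟨⟨a, q⟩, rfl⟩ := hsurj y
    rw [← card_baseU X.T]
    let E : baseU X.T.S ≃ {x : X.A × Q // f x = f (a, q)} :=
      { toFun := fun u => ⟨(⟨(a : G) * u.1, mul_mem a.2 (X.u_le u.2)⟩, ⟨(u.1)⁻¹ * q, mul_mem (inv_mem u.2.1) q.2⟩), by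
          refine Subtype.ext (Subtype.ext ?_)
          show (a : G) * u.1 * ((u.1)⁻¹ * q) = a * q
          group⟩
        invFun := fun x => ⟨(a : G)⁻¹ * x.1.1, by
          have e : (x.1.1 : G) * x.1.2 = a * q := congrArg (fun y : X.res.ker => ((y : X.NC) : G)) x.2
          have hA : (a : G)⁻¹ * x.1.1 ∈ X.A := mul_mem (inv_mem a.2) x.1.1.2
          have hQ : (a : G)⁻¹ * x.1.1 ∈ Q := by
            rw [show (a : G)⁻¹ * x.1.1 = (q : G) * (x.1.2 : G)⁻¹ by
              rw [eq_mul_inv_iff_mul_eq, mul_assoc, e]; group]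
            exact mul_mem q.2 (inv_mem x.1.2.2)
          exact ⟨hQ, (baseA_inf X.T.S hQ).1 hA⟩⟩
        left_inv := fun u => Subtype.ext (by show (a : G)⁻¹ * (a * u.1) = u.1; group)
        right_inv := fun x => by
          have e : (x.1.1 : G) * x.1.2 = a * q := congrArg (fun y : X.res.ker => ((y : X.NC) : G)) x.2
          refine Subtype.ext (Prod.ext (Subtype.ext ?_) (Subtype.ext ?_))
          · show (a : G) * ((a : G)⁻¹ * x.1.1) = x.1.1; group
          · show ((a : G)⁻¹ * x.1.1)⁻¹ * q = x.1.2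
            rw [mul_inv_rev, inv_inv, mul_assoc, ← e, inv_mul_cancel_left] }
    exact (Nat.card_congr E).symm
  have hk : Nat.card X.res.ker * 32 = 2048 * 512 := by
    haveI := Fintype.ofFinite X.res.ker
    have h := Nat.card_congr (Equiv.sigmaFiberEquiv f)
    rw [Nat.card_sigma, Finset.sum_congr rfl (fun y _ => hfib y), Finset.sum_const, Finset.card_univ,
      ← Nat.card_eq_fintype_card, smul_eq_mul, Nat.card_prod, X.card_A, X.T.S.card] at h
    exact h
  have h := card_mul_index X.res.ker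
  rw [index_ker, MonoidHom.range_eq_top.2 X.res_surj, card_top, X.card_GL4] at h
  omega

end Ctx

end CfsgLib.CoType
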