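import Mathlib
import Cfsg.Agent.Lib.CoType.TwoStab
import Cfsg.Agent.Lib.SLSteinberg.Inject
import Cfsg.Agent.Lib.Classical.SLBasic

/-!
The extension of the group of order 2048 by the stabilizer of the involution in its normalizer splits.
-/

set_option autoImplicit false
set_option linter.style.haveILetI false
set_option linter.unusedSectionVars false
set_option linter.unusedSimpArgs false

namespace CfsgLib.CoType

open Subgroup CfsgLib.Classical
open scoped MatrixGroups commutatorElement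

/-! ### Central extensions of the linear group of degree four over two elements -/

section central

variable {E : Type*} [Group E] (φ : E →* Matrix.SpecialLinearGroup (Fin 4) (ZMod 2))
  (hcen : φ.ker ≤ center E)

/-- The elementary transvection. -/
def tvec {i j : Fin 4} (h : i ≠ j) : Matrix.SpecialLinearGroup (Fin 4) (ZMod 2) :=
  Matrix.SpecialLinearGroup.transvection h 1

theorem tvec_comm {i j : Fin 4} (hij : i ≠ j) {k : Fin 4} (hjk : j ≠ k) (hik : i ≠ k) :
    ⁅tvec hij, tvec hjk⁆ = tvec hik := by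
  rw [tvec, tvec, tvec, commutator_transvection_transvection hij hjk hik, mul_one]

theorem tvec_commute {i j k l : Fin 4} (hij : i ≠ j) (hkl : k ≠ l) (hil : i ≠ l) (hjk : j ≠ k) :
    Commute (tvec hij) (tvec hkl) := by
  refine Subtype.ext ?_
  change Matrix.transvection i j 1 * Matrix.transvection k l 1 =
    Matrix.transvection k l 1 * Matrix.transvection i j 1
  simp [Matrix.transvection, mul_add, add_mul, Matrix.single_mul_single_of_ne, hjk, hil.symm]
  abel

theorem tvec_sq {i j : Fin 4} (hij : i ≠ j) : tvec hij * tvec hij = 1 := by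
  rw [tvec, ← Matrix.SpecialLinearGroup.transvection_add, show (1 : ZMod 2) + 1 = 0 from rfl]
  refine Subtype.ext ?_
  change Matrix.transvection i j 0 = 1
  simp

theorem avoid_cases : ∀ i j k l : Fin 4, (∃ m, m ≠ i ∧ m ≠ j ∧ m ≠ k ∧ m ≠ l) ∨
    (i ≠ j ∧ i ≠ k ∧ i ≠ l ∧ j ≠ k ∧ j ≠ l ∧ k ≠ l) := by decide

theorem exists_third : ∀ i j : Fin 4, ∃ k, k ≠ i ∧ k ≠ j := by decide

include hcen

theorem eq_mul_central {a b : E} (h : φ a = φ b) : ∃ c ∈ center E, a = b * c :=
  ⟨b⁻¹ * a, hcen (by rw [MonoidHom.mem_ker, map_mul, map_inv, h, inv_mul_cancel]), by group⟩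

theorem commute_congr {a b a' b' : E} (hab : Commute a b) (ha : φ a' = φ a) (hb : φ b' = φ b) :
    Commute a' b' := by
  obtain ⟨c, hc, rfl⟩ := eq_mul_central φ hcen ha
  obtain ⟨d, hd, rfl⟩ := eq_mul_central φ hcen hb
  have h1 : ∀ x, Commute c x := fun x => (mem_center_iff.1 hc x).symm
  have h2 : ∀ x, Commute x d := fun x => mem_center_iff.1 hd x
  exact Commute.mul_left (Commute.mul_right hab (h2 a)) (h1 _)

theorem commutator_congr {a b a' b' : E} (ha : φ a' = φ a) (hb : φ b' = φ b) : ⁅a', b'⁆ = ⁅a, b⁆ := by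
  obtain ⟨c, hc, rfl⟩ := eq_mul_central φ hcen ha
  obtain ⟨d, hd, rfl⟩ := eq_mul_central φ hcen hb
  rw [commutatorElement_def, commutatorElement_def]
  calc a * c * (b * d) * (a * c)⁻¹ * (b * d)⁻¹ = a * (c * (b * d) * c⁻¹) * a⁻¹ * (d⁻¹ * b⁻¹) := by group
    _ = a * (b * d) * a⁻¹ * (d⁻¹ * b⁻¹) := by rw [← mem_center_iff.1 hc (b * d)]; group
    _ = a * b * (d * a⁻¹ * d⁻¹) * b⁻¹ := by group
    _ = a * b * a⁻¹ * b⁻¹ := by rw [← mem_center_iff.1 hd a⁻¹]; group

/-- An element commuting with both images commutes with the commutator. -/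
theorem commute_commutator {g a b : E} (ha : Commute (φ g) (φ a)) (hb : Commute (φ g) (φ b)) :
    Commute g ⁅a, b⁆ := by
  have h : ∀ x, Commute (φ g) (φ x) → φ (g * x * g⁻¹) = φ x := fun x hx => by
    rw [map_mul, map_mul, map_inv, hx.eq, mul_inv_cancel_right]
  have e : g * ⁅a, b⁆ * g⁻¹ = ⁅g * a * g⁻¹, g * b * g⁻¹⁆ := by
    simp only [commutatorElement_def]; group
  rw [commutator_congr φ hcen (h a ha) (h b hb)] at e
  exact mul_inv_eq_iff_eq_mul.1 e

variable (e : Fin 4 → Fin 4 → E) (he : ∀ i j (h : i ≠ j), φ (e i j) = tvec h)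
  (hdis : ∀ i j k l, i ≠ j → i ≠ k → i ≠ l → j ≠ k → j ≠ l → k ≠ l → Commute (e i j) (e k l))

include he hdis

theorem lifts_commute {i j k l : Fin 4} (hij : i ≠ j) (hkl : k ≠ l) (hil : i ≠ l) (hjk : j ≠ k) {a b : E}
    (ha : φ a = tvec hij) (hb : φ b = tvec hkl) : Commute a b := by
  rcases avoid_cases i j k l with ⟨m, hmi, hmj, hmk, hml⟩ | ⟨h1, h2, h3, h4, h5, h6⟩
  · have h := commute_commutator φ hcen (g := a) (a := e k m) (b := e m l)
      (by rw [ha, he k m hmk.symm]; exact tvec_commute _ _ hmi.symm hjk)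
      (by rw [ha, he m l hml]; exact tvec_commute _ _ hil hmj.symm)
    refine commute_congr φ hcen h rfl ?_
    rw [hb, map_commutatorElement, he k m hmk.symm, he m l hml, tvec_comm]
  · exact commute_congr φ hcen (hdis i j k l h1 h2 h3 h4 h5 h6) (by rw [ha, he i j h1]) (by rw [hb, he k l h6])

theorem commutator_sq {i k j : Fin 4} (hik : i ≠ k) (hkj : k ≠ j) (hij : i ≠ j) {a b : E}
    (ha : φ a = tvec hik) (hb : φ b = tvec hkj) : ⁅a, b⁆ * ⁅a, b⁆ = 1 := by
  have hc : φ ⁅a, b⁆ = tvec hij := by rw [map_commutatorElement, ha, hb, tvec_comm]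
  have h1 : Commute a ⁅a, b⁆ := lifts_commute φ hcen e he hdis hik hij hij hik.symm ha hc
  have h2 : a * a ∈ center E := hcen (by rw [MonoidHom.mem_ker, map_mul, ha, tvec_sq])
  calc ⁅a, b⁆ * ⁅a, b⁆ = (a * ⁅a, b⁆ * a⁻¹) * ⁅a, b⁆ := by rw [h1.eq, mul_inv_cancel_right]
    _ = (a * a) * b * (a * a)⁻¹ * b⁻¹ := by simp only [commutatorElement_def]; group
    _ = 1 := by rw [← mem_center_iff.1 h2 b]; group

theorem exists_inv_lift {i j : Fin 4} (hij : i ≠ j) : ∃ a, φ a = tvec hij ∧ a * a = 1 := by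
  obtain ⟨k, hki, hkj⟩ := exists_third i j
  exact ⟨⁅e i k, e k j⁆, by rw [map_commutatorElement, he i k hki.symm, he k j hkj, tvec_comm],
    commutator_sq φ hcen e he hdis hki.symm hkj hij (he _ _ _) (he _ _ _)⟩

/-- The commutator does not depend on the middle index. -/
theorem middle_eq {i j k l : Fin 4} (hij : i ≠ j) (hki : k ≠ i) (hkj : k ≠ j) (hli : l ≠ i) (hlj : l ≠ j) :
    ⁅e i k, e k j⁆ = ⁅e i l, e l j⁆ := by
  rcases eq_or_ne k l with rfl | hkl
  · rfl
  obtain ⟨a, ha, -⟩ := exists_inv_lift φ hcen e he hdis hki.symm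
  obtain ⟨b, hb, hb2⟩ := exists_inv_lift φ hcen e he hdis hkl
  obtain ⟨c, hc, hc2⟩ := exists_inv_lift φ hcen e he hdis hlj
  set u := ⁅a, b⁆ with hu
  set d := ⁅b, c⁆ with hd
  have hφu : φ u = tvec hli.symm := by rw [hu, map_commutatorElement, ha, hb, tvec_comm]
  have hφd : φ d = tvec hkj := by rw [hd, map_commutatorElement, hb, hc, tvec_comm]
  have hu2 : u * u = 1 := commutator_sq φ hcen e he hdis hki.symm hkl hli.symm ha hb
  have hca : Commute c a := lifts_commute φ hcen e he hdis hlj hki.symm hkl.symm hij.symm hc ha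
  have hφv : φ ⁅a, d⁆ = tvec hij := by rw [map_commutatorElement, ha, hφd, tvec_comm]
  have hbv : Commute b ⁅a, d⁆ := lifts_commute φ hcen e he hdis hkl hij hkj hli hb hφv
  have hbi : b⁻¹ = b := inv_eq_of_mul_eq_one_left hb2
  have hcb : c * b * c⁻¹ = b * d := by
    rw [hd, commutatorElement_def, hbi]
    calc c * b * c⁻¹ = b * b * (c * b * c⁻¹) := by rw [hb2, one_mul]
      _ = b * (b * c * b * c⁻¹) := by group
  have hcu : c * u * c⁻¹ = u * ⁅a, d⁆ := by
    calc c * u * c⁻¹ = ⁅c * a * c⁻¹, c * b * c⁻¹⁆ := by simp only [hu, commutatorElement_def]; group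
      _ = ⁅a, b * d⁆ := by rw [hcb, hca.eq, mul_inv_cancel_right]
      _ = u * (b * ⁅a, d⁆ * b⁻¹) := by simp only [hu, commutatorElement_def]; group
      _ = u * ⁅a, d⁆ := by rw [hbv.eq, mul_inv_cancel_right]
  have key : ⁅u, c⁆ = ⁅a, d⁆ := by
    rw [commutatorElement_def, inv_eq_of_mul_eq_one_left hu2]
    calc u * c * u * c⁻¹ = u * (c * u * c⁻¹) := by group
      _ = ⁅a, d⁆ := by rw [hcu, ← mul_assoc, hu2, one_mul]
  rw [commutator_congr φ hcen (a := e i l) (b := e l j) (a' := u) (b' := c)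
      (by rw [hφu, he]) (by rw [hc, he]),
    commutator_congr φ hcen (a := e i k) (b := e k j) (a' := a) (b' := d)
      (by rw [ha, he]) (by rw [hφd, he])] at key
  exact key.symm

/-- The chosen lifts. -/
noncomputable def yLift (i j : Fin 4) : E :=
  ⁅e i (exists_third i j).choose, e (exists_third i j).choose j⁆

omit hcen hdis in
theorem yLift_map {i j : Fin 4} (hij : i ≠ j) : φ (yLift e i j) = tvec hij := by
  obtain ⟨h1, h2⟩ := (exists_third i j).choose_spec
  rw [yLift, map_commutatorElement, he _ _ h1.symm, he _ _ h2, tvec_comm]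

/-- The extension splits. -/
theorem exists_central_complement :
    ∃ M : Subgroup E, (∀ m ∈ M, φ m = 1 → m = 1) ∧ M.map φ = ⊤ := by
  classical
  let M : Subgroup E := closure {g | ∃ i j, i ≠ j ∧ g = yLift e i j}
  let x : Fin 4 → Fin 4 → ZMod 2 → M := fun i j t =>
    if h : i = j ∨ t = 0 then 1 else
      ⟨yLift e i j, subset_closure ⟨i, j, fun e' => h (Or.inl e'), rfl⟩⟩
  have x0 : ∀ i j, x i j 0 = 1 := fun i j => dif_pos (Or.inr rfl)
  have x1 : ∀ i j, i ≠ j → (x i j 1 : E) = yLift e i j := fun i j h => by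
    simp only [x]
    rw [dif_neg (by rintro (e' | e'); exacts [h e', one_ne_zero e'])]
  have ysq : ∀ i j, i ≠ j → yLift e i j * yLift e i j = 1 := fun i j h => by
    obtain ⟨h1, h2⟩ := (exists_third i j).choose_spec
    exact commutator_sq φ hcen e he hdis h1.symm h2 h (he _ _ _) (he _ _ _)
  have hC : CfsgLib.SLSteinberg.StComm x := by
    refine ⟨?_, ?_, ?_⟩
    · intro i j t u hij
      rcases two_cases t with rfl | rfl <;> rcases two_cases u with rfl | rfl
      · rw [add_zero, x0, one_mul]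
      · rw [zero_add, x0, one_mul]
      · rw [add_zero, x0, mul_one]
      · rw [show (1 : ZMod 2) + 1 = 0 from rfl, x0]
        refine Subtype.ext ?_
        rw [coe_mul, x1 i j hij, ysq i j hij]; rfl
    · intro i j k l hij hkl hil hjk t u
      rcases two_cases t with rfl | rfl <;> rcases two_cases u with rfl | rfl
      iterate 3 (first | (rw [x0]; exact Commute.one_left _) | (rw [x0 k l]; exact Commute.one_right _))
      refine Subtype.ext ?_
      rw [coe_mul, coe_mul, x1 i j hij, x1 k l hkl]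
      exact lifts_commute φ hcen e he hdis hij hkl hil hjk (yLift_map φ e he hij) (yLift_map φ e he hkl)
    · intro i j k hij hjk hik t u
      rcases two_cases t with rfl | rfl <;> rcases two_cases u with rfl | rfl
      · simp [x0]
      · simp [x0]
      · simp [x0]
      refine Subtype.ext ?_
      rw [show (1 : ZMod 2) * 1 = 1 from rfl, coe_mul, coe_mul, coe_inv, x1 i j hij, x1 j k hjk, coe_mul,
        x1 i k hik, x1 j k hjk]
      have h1 : ⁅yLift e i j, yLift e j k⁆ = yLift e i k := by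
        obtain ⟨h1, h2⟩ := (exists_third i k).choose_spec
        rw [commutator_congr φ hcen (a := e i j) (b := e j k) (by rw [yLift_map φ e he hij, he])
          (by rw [yLift_map φ e he hjk, he]), yLift]
        exact middle_eq φ hcen e he hdis hik hij.symm hjk h1 h2
      rw [← h1, commutatorElement_def]
      group
  have hφ : ∀ i j t, i ≠ j → (((φ.comp M.subtype) (x i j t) : Matrix.SpecialLinearGroup (Fin 4) (ZMod 2)) :
      Matrix (Fin 4) (Fin 4) (ZMod 2)) = Matrix.transvection i j t := by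
    intro i j t hij
    rcases two_cases t with rfl | rfl
    · rw [x0, map_one]; simp
    · rw [MonoidHom.comp_apply, show M.subtype (x i j 1) = yLift e i j from x1 i j hij, yLift_map φ e he hij]
      rfl
  have hgen : closure {g | ∃ i j, i ≠ j ∧ ∃ t, g = x i j t} = ⊤ := by
    refine eq_top_iff.2 ?_
    have h : (closure {g | ∃ i j, i ≠ j ∧ ∃ t, g = x i j t}).map M.subtype = M := by
      refine le_antisymm (map_subtype_le _) ((closure_le _).2 ?_)
      rintro _ ⟨i, j, hij, rfl⟩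
      exact ⟨x i j 1, subset_closure ⟨i, j, hij, 1, rfl⟩, x1 i j hij⟩
    intro m _
    have hm2 : (m : E) ∈ (closure {g | ∃ i j, i ≠ j ∧ ∃ t, g = x i j t}).map M.subtype := by
      rw [h]; exact m.2
    obtain ⟨m', hm', hmm⟩ := hm2
    exact Subtype.ext hmm ▸ hm'
  have hinj := CfsgLib.SLSteinberg.exists_hom x (hC.toRel (fun a b => by
    obtain ⟨c, h1, h2⟩ := exists_third a b
    exact ⟨c, h1, h2⟩)) (φ.comp M.subtype) hφ hgen
  refine ⟨M, fun m hm h => ?_, SL_le_of_transvections _ fun i j hij c => ?_⟩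
  · exact congrArg Subtype.val (hinj (a₁ := ⟨m, hm⟩) (a₂ := 1) (by rw [map_one]; exact h))
  · rcases two_cases c with rfl | rfl
    · convert one_mem (M.map φ)
      refine Subtype.ext ?_
      change Matrix.transvection i j 0 = 1
      simp
    · exact ⟨_, (x i j 1).2, by rw [x1 i j hij, yLift_map φ e he hij, tvec]⟩

end central

/-! ### Isometries permuting coordinates -/

/-- An isometry from a permutation of coordinates preserving the form. -/
noncomputable def coordIso (E : Equiv.Perm (Fin 4 ⊕ Fin 4)) (h : ∀ x : V8, qm (fun c => x (E c)) = qm x) :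
    qAut qm :=
  ⟨LinearEquiv.funCongrLeft (ZMod 2) (ZMod 2) E, h⟩

/-- A permutation of the indices. -/
noncomputable def idxIso (π : Equiv.Perm (Fin 4)) : qAut qm :=
  coordIso (Equiv.sumCongr π.symm π.symm) fun x => by
    have key : ∀ y : V8, qm y = ∑ i, y (.inl i) * y (.inr i) := fun y => by
      rw [qm_qd, qd, Fin.sum_univ_four]
    rw [key, key]
    exact Equiv.sum_comp π.symm fun i => x (.inl i) * x (.inr i)

/-- The exchange of the two coordinates of one index. -/
noncomputable def swapIso (j : Fin 4) : qAut qm :=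
  coordIso (Equiv.swap (.inl j) (.inr j)) fun x => by
    have key : ∀ y : V8, qm y = ∑ i, y (.inl i) * y (.inr i) := fun y => by
      rw [qm_qd, qd, Fin.sum_univ_four]
    rw [key, key]
    refine Finset.sum_congr rfl fun i _ => ?_
    rcases eq_or_ne i j with rfl | h
    · rw [Equiv.swap_apply_left, Equiv.swap_apply_right, mul_comm]
    · rw [Equiv.swap_apply_of_ne_of_ne (by simp [h]) (by simp),
        Equiv.swap_apply_of_ne_of_ne (by simp) (by simp [h])]

theorem idxIso_inW (π : Equiv.Perm (Fin 4)) {x : V8} (hx : InW x) : InW ((idxIso π).1 x) :=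
  fun i => hx (π.symm i)

theorem perm_four : ∀ i j k l : Fin 4, i ≠ j → i ≠ k → i ≠ l → j ≠ k → j ≠ l → k ≠ l →
    ∃ π : Equiv.Perm (Fin 4), π 0 = i ∧ π 1 = k ∧ π 2 = j ∧ π 3 = l := by decide +kernel

theorem frame_images : ∀ π : Equiv.Perm (Fin 4),
    let E : Equiv.Perm (Fin 4 ⊕ Fin 4) := Equiv.sumCongr π.symm π.symm
    let s : Equiv.Perm (Fin 4 ⊕ Fin 4) := Equiv.swap (.inl (π 2)) (.inr (π 2))
    let w : Equiv.Perm (Fin 4 ⊕ Fin 4) :=
      Equiv.sumCongr (Equiv.swap (π 2) (π 3)).symm (Equiv.swap (π 2) (π 3)).symm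
    ∀ c, fe 0 (E (w (s (w (s c))))) = fe (π 0) c ∧ fe 1 (E (w (s (w (s c))))) = fe (π 1) c ∧
      fe 2 (E (w (s (w (s c))))) = ff (π 2) c ∧ fe 3 (E (w (s (w (s c))))) = ff (π 3) c := by
  decide +kernel

variable {G : Type*} [Group G] [Finite G] {z : G} {Q : Subgroup G} {π : G → V8} {ρ : G → qAut qm}

/-- A root element fixes the elements orthogonal to both vectors. -/
theorem Root.fix (T : Sys z Q π ρ) {p v : V8} {X a : G} (hX : Root z Q π ρ p v X) (ha : a ∈ Q)
    (h1 : pb p (π a) = 0) (h2 : pb (π a) v = 0) : X * a * X⁻¹ = a := by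
  obtain ⟨g, g1, g2, g3, g4, g5, g6, g7⟩ := hX
  have P := T.pair g1 g2 g3
  rw [P.act ha (by rw [g4]; exact h1) g5 g6 (g4.symm ▸ g7), h2, P.eb_zero, one_mul]

theorem Root.image (T : Sys z Q π ρ) {p v : V8} {X : G} (hX : Root z Q π ρ p v X) (hv : qm v = 0)
    (pv : pb p v = 0) : X ∈ centralizer ({z} : Set G) ∧
      ∀ x, (ρ X).1 x = x + pb p x • v + pb x v • p := by
  obtain ⟨g, g1, g2, g3, g4, g5, g6, g7⟩ := hX
  have P := T.pair g1 g2 g3
  refine ⟨mem_centralizer_singleton_iff.2 g6, fun x => ?_⟩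
  rw [P.eval g5 g6 (g4.symm ▸ g7) (by rw [g4]; exact pv) x, g4, hv, zero_mul, add_zero]

/-- Vectors of the second standard subspace. -/
def InF (x : V8) : Prop := ∀ i : Fin 4, x (.inl i) = 0

theorem inF_ff (i : Fin 4) : InF (ff i) := fun j => Pi.single_eq_of_ne (by simp) _

theorem inF_perp {x y : V8} (hx : InF x) (hy : InF y) : pb x y = 0 := by
  rw [pb_bd, bd, qd, qd, qd]
  simp [Pi.add_apply, hx 0, hx 1, hx 2, hx 3, hy 0, hy 1, hy 2, hy 3]

theorem inF_qm {x : V8} (hx : InF x) : qm x = 0 := by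
  rw [qm_qd, qd]
  simp [hx 0, hx 1, hx 2, hx 3]

theorem fe_ff_perp : ∀ i j : Fin 4, i ≠ j → bd (fe i) (ff j) = 0 := by decide

theorem ff_fe_perp (i j : Fin 4) (h : i ≠ j) : pb (fe i) (ff j) = 0 := (pb_bd _ _).trans (fe_ff_perp i j h)

theorem sing_fe (i : Fin 4) : Sing (fe i) := ⟨fe_ne i, inW_qm (inW_fe i)⟩

theorem bd_fe_ff : ∀ i : Fin 4, bd (fe i) (ff i) = 1 := by decide

theorem entry_cases : ∀ i j a b : Fin 4, i ≠ j → fe b (.inl a) + bd (fe b) (ff j) * fe i (.inl a) =
    (if a = b then (1 : ZMod 2) else 0) + (if i = a ∧ j = b then 1 else 0) := by decide +kernel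

theorem transvection_entry (i j a b : Fin 4) (h : i ≠ j) :
    fe b (.inl a) + bd (fe b) (ff j) • fe i (.inl a) = Matrix.transvection i j (1 : ZMod 2) a b := by
  rw [smul_eq_mul, entry_cases i j a b h]
  simp [Matrix.transvection, Matrix.add_apply, Matrix.one_apply, Matrix.single_apply]

/-- Invertible matrices over two elements have determinant one. -/
noncomputable def toSL : GL (Fin 4) (ZMod 2) →* Matrix.SpecialLinearGroup (Fin 4) (ZMod 2) where
  toFun g := ⟨g, (two_cases _).resolve_left (g.isUnit.map Matrix.detMonoidHom).ne_zero⟩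
  map_one' := Subtype.ext rfl
  map_mul' _ _ := Subtype.ext rfl

theorem toSL_inj : Function.Injective toSL := fun _ _ h => Units.ext (congrArg Subtype.val h)

theorem eq_zero_of_both {x : V8} (hW : InW x) (hF : InF x) : x = 0 := funext fun k => by
  rcases k with i | i
  exacts [hF i, hW i]

namespace Ctx

variable (X : Ctx z Q π ρ)

include X

/-- The chosen lifts of the second frame. -/
noncomputable def hgen (i : Fin 4) : G := (X.T.S.pi_surj (ff i)).choose

theorem hgen_mem (i : Fin 4) : X.hgen i ∈ Q := (X.T.S.pi_surj (ff i)).choose_spec.1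

theorem pi_hgen (i : Fin 4) : π (X.hgen i) = ff i := (X.T.S.pi_surj (ff i)).choose_spec.2

/-- Their group. -/
noncomputable def H : Subgroup G := closure (Set.range X.hgen)

theorem h_le : X.H ≤ Q := (closure_le _).2 (by rintro _ ⟨i, rfl⟩; exact X.hgen_mem i)

theorem hgen_H (i : Fin 4) : X.hgen i ∈ X.H := subset_closure ⟨i, rfl⟩

theorem h_inF {a : G} (ha : a ∈ X.H) : InF (π a) := by
  induction ha using closure_induction with
  | mem x hx => obtain ⟨i, rfl⟩ := hx; rw [X.pi_hgen]; exact inF_ff i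
  | one => rw [X.T.S.pi_one]; exact fun _ => rfl
  | mul x y hx hy ex ey =>
    intro i
    rw [X.T.S.pi_mul _ (X.h_le hx) _ (X.h_le hy), Pi.add_apply, ex i, ey i, add_zero]
  | inv x hx ex => rw [X.T.S.pi_inv (X.h_le hx)]; exact ex

theorem h_trivial {a : G} (ha : a ∈ X.H) (h0 : π a = 0) : a = 1 := by
  have hsq : ∀ i, X.hgen i * X.hgen i = 1 := fun i => by
    rw [X.T.S.sq _ (X.hgen_mem i), X.pi_hgen, inF_qm (inF_ff i), zb_zero]
  let f : (i : Fin 4) → Multiplicative (ZMod 2) →* G := fun i =>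
    MonoidHom.mk' (fun c : Multiplicative (ZMod 2) => zb (X.hgen i) c.toAdd)
      fun c d => (zb_mul (z := X.hgen i) (hsq i) c.toAdd d.toAdd).symm
  have hf : ∀ i c, f i c = 1 ∨ f i c = X.hgen i := fun i c => by
    show zb _ _ = _ ∨ zb _ _ = _
    rcases two_cases c.toAdd with e | e <;> rw [e]
    exacts [.inl (zb_zero _), .inr (zb_one _)]
  have hcomm : Pairwise fun i j => ∀ c d, Commute (f i c) (f j d) := by
    intro i j _ c d
    rcases hf i c with e | e
    · rw [e]; exact Commute.one_left (f j d)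
    rcases hf j d with e' | e'
    · rw [e']; exact Commute.one_right (f i c)
    rw [e, e']
    exact (X.T.S.commute_iff (X.hgen_mem i) (X.hgen_mem j)).2
      (by rw [X.pi_hgen, X.pi_hgen]; exact inF_perp (inF_ff i) (inF_ff j))
  let F : ((i : Fin 4) → Multiplicative (ZMod 2)) →* G := MonoidHom.noncommPiCoprod f hcomm
  have hle : X.H ≤ F.range := (closure_le _).2 (by
    rintro _ ⟨i, rfl⟩
    exact ⟨Pi.mulSingle i (Multiplicative.ofAdd 1), by
      rw [MonoidHom.noncommPiCoprod_mulSingle]; exact zb_one _⟩)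
  have hpi : ∀ r, F r ∈ Q ∧ ∀ k, π (F r) (.inr k) = (r k).toAdd := by
    intro r
    induction r using Pi.mulSingle_induction with
    | one => rw [map_one]; exact ⟨one_mem _, fun k => by rw [X.T.S.pi_one]; rfl⟩
    | mul r s hr hs =>
      rw [map_mul]
      refine ⟨mul_mem hr.1 hs.1, fun k => ?_⟩
      rw [X.T.S.pi_mul _ hr.1 _ hs.1, Pi.add_apply, hr.2 k, hs.2 k]; rfl
    | mulSingle i c =>
      rw [MonoidHom.noncommPiCoprod_mulSingle]
      refine ⟨?_, fun k => ?_⟩
      · rcases hf i c with e | e <;> rw [e]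
        exacts [one_mem _, X.hgen_mem i]
      · show π (zb _ _) _ = _
        rcases eq_or_ne k i with rfl | hk
        · rw [Pi.mulSingle_eq_same]
          rcases two_cases c.toAdd with e | e <;> rw [e]
          · rw [zb_zero, X.T.S.pi_one]; rfl
          · rw [zb_one, X.pi_hgen]; simp [ff]
        · rw [Pi.mulSingle_eq_of_ne hk]
          rcases two_cases c.toAdd with e | e <;> rw [e]
          · rw [zb_zero, X.T.S.pi_one]; rfl
          · rw [zb_one, X.pi_hgen]; simp [ff, hk]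
  obtain ⟨r, rfl⟩ := hle ha
  have hr : r = 1 := funext fun k => by
    have h := (hpi r).2 k
    rw [h0] at h
    exact Multiplicative.toAdd.injective h.symm
  rw [hr, map_one]

/-- An element of the extraspecial group above the second subspace. -/
theorem exists_h {x : V8} (hx : InF x) : ∃ a ∈ X.H, π a = x := by
  have key : ∀ r : Fin 4 → ZMod 2, ∃ a ∈ X.H, π a = Sum.elim (0 : Fin 4 → ZMod 2) r := by
    intro r
    refine Pi.single_induction (fun r => ∃ a ∈ X.H, π a = Sum.elim (0 : Fin 4 → ZMod 2) r) r ?_ ?_ ?_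
    · exact ⟨1, one_mem _, by rw [X.T.S.pi_one]; funext k; rcases k with i | i <;> rfl⟩
    · rintro r s ⟨a, ha, ea⟩ ⟨b, hb, eb⟩
      refine ⟨a * b, mul_mem ha hb, ?_⟩
      rw [X.T.S.pi_mul _ (X.h_le ha) _ (X.h_le hb), ea, eb]
      funext k; rcases k with i | i <;> simp [Pi.add_apply]
    · intro i c
      rcases two_cases c with rfl | rfl
      · exact ⟨1, one_mem _, by rw [X.T.S.pi_one, Pi.single_zero]; funext k; rcases k with i | i <;> rfl⟩
      · refine ⟨X.hgen i, X.hgen_H i, ?_⟩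
        rw [X.pi_hgen]; funext k; rcases k with l | l <;> simp [ff, Pi.single_apply, Sum.elim_inl, Sum.elim_inr]
  obtain ⟨a, ha, e⟩ := key fun i => x (.inr i)
  exact ⟨a, ha, e.trans (funext fun k => by rcases k with i | i; exacts [(hx i).symm, rfl])⟩

/-- Any other choice of lifts is conjugate to the chosen one. -/
theorem exists_move_frame (u : Fin 4 → G) (hu : ∀ i, u i ∈ Q) (hπ : ∀ i, π (u i) = ff i) :
    ∃ q ∈ Q, ∀ i, q * X.hgen i * q⁻¹ = u i := by
  have h : ∀ i, ∃ c : ZMod 2, u i = zb z c * X.hgen i := fun i => by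
    rcases X.T.S.pi_eq (X.hgen_mem i) (hu i) (by rw [X.pi_hgen, hπ]) with e | e
    exacts [⟨0, by rw [zb_zero, one_mul, e]⟩, ⟨1, by rw [zb_one, e]⟩]
  choose c hc using h
  obtain ⟨q, hq, hqπ⟩ := X.T.S.pi_surj (Sum.elim c 0)
  refine ⟨q, hq, fun i => ?_⟩
  rw [X.T.S.comm hq (X.hgen_mem i), hqπ, X.pi_hgen, hc i,
    show pb (Sum.elim c 0) (ff i) = c i by rw [pb_bd, bd_ff]; rfl]
  group

/-- The image of a root element on one vector of the frame. -/
theorem root_ff {i j : Fin 4} (hij : i ≠ j) {Y : G} (hY : Root z Q π ρ (fe i) (ff j) Y) :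
    (ρ Y).1 (ff i) = ff i + ff j := by
  rw [(hY.image X.T (inF_qm (inF_ff j)) (ff_fe_perp i j hij)).2, inF_perp (inF_ff i) (inF_ff j), zero_smul, add_zero,
    (pb_bd (fe i) (ff i)).trans (bd_fe_ff i), one_smul]

/-- The element added at the index `j`. -/
theorem shift_el {i j : Fin 4} (hij : i ≠ j) {Y a : G} (hY : Root z Q π ρ (fe i) (ff j) Y) (ha : a ∈ Q)
    (hπ : π a = ff i) : a⁻¹ * (Y * a * Y⁻¹) ∈ Q ∧ π (a⁻¹ * (Y * a * Y⁻¹)) = ff j := by
  have hC := (hY.image X.T (inF_qm (inF_ff j)) (ff_fe_perp i j hij)).1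
  have h1 := X.T.S.conj_mem hC ha
  refine ⟨mul_mem (inv_mem ha) h1, ?_⟩
  rw [X.T.S.pi_mul _ (inv_mem ha) _ h1, X.T.S.pi_inv ha, X.T.S.rho_pi _ hC _ ha, hπ, X.root_ff hij hY,
    add_cancel8]

/-- A root element normalizes the group of an adapted frame. -/
theorem root_normalizes {i j : Fin 4} (hij : i ≠ j) {Y : G} (hY : Root z Q π ρ (fe i) (ff j) Y)
    (u : Fin 4 → G) (hu : ∀ m, u m ∈ Q) (hπ : ∀ m, π (u m) = ff m)
    (huj : u j = (u i)⁻¹ * (Y * u i * Y⁻¹)) : Y ∈ normalizer (closure (Set.range u) : Set G) := by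
  have hle : (closure (Set.range u)).map (MulAut.conj Y).toMonoidHom ≤ closure (Set.range u) := by
    rw [map_le_iff_le_comap, closure_le]
    rintro _ ⟨m, rfl⟩
    show Y * u m * Y⁻¹ ∈ closure (Set.range u)
    rcases eq_or_ne m i with rfl | hm
    · rw [show Y * u m * Y⁻¹ = u m * u j by rw [huj, mul_inv_cancel_left]]
      exact mul_mem (subset_closure ⟨m, rfl⟩) (subset_closure ⟨j, rfl⟩)
    · rw [hY.fix X.T (hu m) (by rw [hπ]; exact ff_fe_perp i m hm.symm)
        (by rw [hπ]; exact inF_perp (inF_ff m) (inF_ff j))]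
      exact subset_closure ⟨m, rfl⟩
  have heq := eq_of_le_of_card_ge hle (le_of_eq (card_map_of_injective (MulEquiv.injective _)).symm)
  refine mem_normalizer_iff.2 fun a => ?_
  have key : Y * a * Y⁻¹ ∈ closure (Set.range u) ↔ a ∈ closure (Set.range u) := by
    conv_lhs => rw [← heq, mem_conj_iff, show Y⁻¹ * (Y * a * Y⁻¹) * Y = a by group]
  exact key.symm

/-- The elements normalizing both. -/
noncomputable def K0 : Subgroup G := X.NC ⊓ normalizer (X.H : Set G)

/-- The action, in the special linear group. -/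
noncomputable def sres : X.K0 →* Matrix.SpecialLinearGroup (Fin 4) (ZMod 2) :=
  toSL.comp (X.res.comp (inclusion inf_le_left))

/-- A root element moved into the subgroup. -/
theorem root_lift {i j : Fin 4} (hij : i ≠ j) {Y q : G} (hY : Root z Q π ρ (fe i) (ff j) Y) (hq : q ∈ Q)
    (hn : Y ∈ normalizer (X.H.map (MulAut.conj q).toMonoidHom : Set G)) :
    ∃ h : q⁻¹ * Y * q ∈ X.K0, X.sres ⟨_, h⟩ = tvec hij := by
  obtain ⟨hC, hx⟩ := hY.image X.T (inF_qm (inF_ff j)) (ff_fe_perp i j hij)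
  have hqC := X.T.S.le hq
  have hρ : ρ (q⁻¹ * Y * q) = ρ Y := by
    rw [X.T.S.rho_mul _ (mul_mem (inv_mem hqC) hC) _ hqC, X.T.S.rho_mul _ (inv_mem hqC) _ hC,
      X.T.S.rho_Q hq, X.T.S.rho_Q (inv_mem hq), one_mul, mul_one]
  have hNC : q⁻¹ * Y * q ∈ X.NC := X.mem_NC.2 ⟨mul_mem (mul_mem (inv_mem hqC) hC) hqC, fun w hw => by
    rw [hρ, hx, inW_perp (inW_fe i) hw, zero_smul, add_zero]
    exact inW_add hw fun k => by rw [Pi.smul_apply, inW_fe i k, smul_zero]⟩
  have hN : q⁻¹ * Y * q ∈ normalizer (X.H : Set G) := mem_normalizer_iff.2 fun a => by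
    have h := mem_normalizer_iff.1 hn (q * a * q⁻¹)
    rw [mem_conj_iff, mem_conj_iff, show q⁻¹ * (q * a * q⁻¹) * q = a by group,
      show q⁻¹ * (Y * (q * a * q⁻¹) * Y⁻¹) * q = q⁻¹ * Y * q * a * (q⁻¹ * Y * q)⁻¹ by group] at h
    exact h
  refine ⟨⟨hNC, hN⟩, Subtype.ext (funext fun a => funext fun b => ?_)⟩
  show (X.res ⟨q⁻¹ * Y * q, hNC⟩ : Matrix (Fin 4) (Fin 4) (ZMod 2)) a b = Matrix.transvection i j 1 a b
  rw [res_apply, hρ, hx, inW_perp (inW_fe i) (inW_fe b), zero_smul, add_zero, Pi.add_apply, Pi.smul_apply,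
    pb_bd]
  exact transvection_entry i j a b hij

theorem sres_one {c : X.K0} : X.sres c = 1 ↔ ∀ w, InW w → (ρ (c : G)).1 w = w := by
  rw [sres, MonoidHom.comp_apply, map_eq_one_iff toSL toSL_inj]
  exact X.res_one (c := inclusion inf_le_left c)

/-- The kernel of the action. -/
theorem sres_ker {c : X.K0} (hc : X.sres c = 1) : (c : G) ∈ X.H ∨ z * (c : G) ∈ X.H := by
  have hfix := X.sres_one.1 hc
  have hC : (c : G) ∈ centralizer ({z} : Set G) := (X.mem_NC.1 c.2.1).1
  have hff : ∀ i, (ρ (c : G)).1 (ff i) = ff i := fun i => by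
    have h1 := X.h_inF ((mem_normalizer_iff.1 c.2.2 (X.hgen i)).1 (X.hgen_H i))
    rw [X.T.S.rho_pi _ hC _ (X.hgen_mem i), X.pi_hgen] at h1
    exact CharTwo.add_eq_zero.1 (funext fun k => congrFun (eq_zero_of_both (fixer_move hfix (ff i))
      (fun k => by rw [Pi.add_apply, h1 k, inF_ff i k, add_zero])) k)
  have hQ : (c : G) ∈ Q := (X.T.S.rho_ker _ hC).1 (qAut_ext fun x => by
    rw [basis_eq x]
    simp only [map_add, map_smul, hff, fun i => hfix (fe i) (inW_fe i)]
    rfl)
  have hF : InF (π (c : G)) := fun i => by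
    have h1 := (mem_normalizer_iff.1 c.2.2 (X.hgen i)).1 (X.hgen_H i)
    rw [X.T.S.comm hQ (X.hgen_mem i), X.pi_hgen, pb_bd, bd_ff,
      show zb z (π (c : G) (.inl i)) * (X.hgen i * c) * (c : G)⁻¹ = zb z (π (c : G) (.inl i)) * X.hgen i by group] at h1
    have h2 := mul_mem h1 (inv_mem (X.hgen_H i))
    rw [mul_inv_cancel_right] at h2
    rcases two_cases (π (c : G) (.inl i)) with e | e
    · exact e
    · rw [e, zb_one] at h2
      exact absurd (X.h_trivial h2 X.T.S.pi_z) X.T.S.z1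
  obtain ⟨a, ha, e⟩ := X.exists_h hF
  rcases X.T.S.pi_eq hQ (X.h_le ha) e.symm with e' | e'
  · exact .inl (e' ▸ ha)
  · exact .inr (e' ▸ ha)

/-- Root elements of a disjoint pair commute. -/
theorem roots_commute {i j k l : Fin 4} (hij : i ≠ j) (hik : i ≠ k) (hil : i ≠ l) (hjk : j ≠ k) (hjl : j ≠ l)
    (hkl : k ≠ l) {A B : G} (hA : Root z Q π ρ (fe i) (ff j) A) (hB : Root z Q π ρ (fe k) (ff l) B) :
    Commute A B := by
  obtain ⟨p, rfl, rfl, rfl, rfl⟩ := perm_four i j k l hij hik hil hjk hjl hkl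
  set w := idxIso (Equiv.swap (p 2) (p 3)) with hw
  set s := swapIso (p 2) with hs
  set σ : qAut qm := s * w * (s * w) * idxIso p with hσ
  have hEv : σ ∈ Ev := by
    refine mul_mem ?_ (stab_even X.T X.good fun x hx => idxIso_inW p hx)
    have hs2 : s⁻¹ = s := inv_eq_of_mul_eq_one_left (qAut_ext fun x => funext fun c =>
      congrArg x (Equiv.swap_apply_self _ _ c))
    have hw2 : w⁻¹ = w := inv_eq_of_mul_eq_one_left (qAut_ext fun x => funext fun c => congrArg x (by
      rcases c with m | m <;> simp))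
    rw [show s * w * (s * w) = ⁅s, w⁆ by rw [commutatorElement_def, hs2, hw2]; group]
    exact commutator_mem_commutator (mem_top _) (mem_top _)
  have himg : σ.1 (fe 0) = fe (p 0) ∧ σ.1 (fe 1) = fe (p 1) ∧ σ.1 (fe 2) = ff (p 2) ∧ σ.1 (fe 3) = ff (p 3) :=
    ⟨funext fun c => (frame_images p c).1, funext fun c => (frame_images p c).2.1,
      funext fun c => (frame_images p c).2.2.1, funext fun c => (frame_images p c).2.2.2⟩
  obtain ⟨h0, h1, h2, h3⟩ := himg
  obtain ⟨c, hc, hρ⟩ := (X.T.S.rho_range σ).1 hEv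
  have e := conj_baseU X.T (σ := σ) (τ := 1) hc (by rw [mul_one, hρ])
  rw [chart_one X.T] at e
  have hA' : A ∈ baseA (X.T.S.chart σ) := (root_el (X.T.chart σ)
    (Root.chart X.T (p := fe 0) (v := fe 2) (by rw [h0, h2]; exact hA) (sing_fe 0)
      (inW_perp (inW_fe 0) (inW_fe 2))) (inW_fe 0) (inW_fe 2)).1
  have hB' : B ∈ baseA (X.T.S.chart σ) := (root_el (X.T.chart σ)
    (Root.chart X.T (p := fe 1) (v := fe 3) (by rw [h1, h3]; exact hB) (sing_fe 1)
      (inW_perp (inW_fe 1) (inW_fe 3))) (inW_fe 1) (inW_fe 3)).1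
  rw [baseA, ← e, centralizer_map_conj] at hA' hB'
  obtain ⟨a, ha, rfl⟩ := hA'
  obtain ⟨b, hb, rfl⟩ := hB'
  exact (show Commute a b from X.a_comm ha hb).map _

theorem normalizes_moved {u : Fin 4 → G} {q : G} (hq : ∀ m, q * X.hgen m * q⁻¹ = u m) :
    closure (Set.range u) = X.H.map (MulAut.conj q).toMonoidHom := by
  rw [H, MonoidHom.map_closure, ← Set.range_comp]
  congr 2
  exact funext fun m => (hq m).symm

/-- Lifts inside the subgroup of a transvection. -/
theorem exists_lift {i j : Fin 4} (hij : i ≠ j) : ∃ c : X.K0, X.sres c = tvec hij := by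
  obtain ⟨Y, hY⟩ := X.T.exists_root (sing_fe i) (ff_fe_perp i j hij)
  set u := Function.update X.hgen j ((X.hgen i)⁻¹ * (Y * X.hgen i * Y⁻¹)) with hu
  obtain ⟨hw, hwπ⟩ := X.shift_el hij hY (X.hgen_mem i) (X.pi_hgen i)
  have hfr : ∀ m, u m ∈ Q ∧ π (u m) = ff m := fun m => by
    rcases eq_or_ne m j with rfl | hm
    · simp only [hu, Function.update_self]; exact ⟨hw, hwπ⟩
    · simp only [hu, Function.update_of_ne hm]; exact ⟨X.hgen_mem m, X.pi_hgen m⟩
  obtain ⟨q, hq, hqu⟩ := X.exists_move_frame u (fun m => (hfr m).1) fun m => (hfr m).2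
  have hn := X.root_normalizes hij hY u (fun m => (hfr m).1) (fun m => (hfr m).2)
    (by simp only [hu, Function.update_self, Function.update_of_ne hij])
  rw [X.normalizes_moved hqu] at hn
  obtain ⟨h, e⟩ := X.root_lift hij hY hq hn
  exact ⟨_, e⟩

/-- Commuting lifts of a disjoint pair. -/
theorem exists_lift_pair {i j k l : Fin 4} (hij : i ≠ j) (hik : i ≠ k) (hil : i ≠ l) (hjk : j ≠ k) (hjl : j ≠ l)
    (hkl : k ≠ l) : ∃ c d : X.K0, X.sres c = tvec hij ∧ X.sres d = tvec hkl ∧ Commute c d := by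
  obtain ⟨A, hA⟩ := X.T.exists_root (sing_fe i) (ff_fe_perp i j hij)
  obtain ⟨B, hB⟩ := X.T.exists_root (sing_fe k) (ff_fe_perp k l hkl)
  set u := Function.update (Function.update X.hgen j ((X.hgen i)⁻¹ * (A * X.hgen i * A⁻¹))) l
    ((X.hgen k)⁻¹ * (B * X.hgen k * B⁻¹)) with hu
  obtain ⟨hw, hwπ⟩ := X.shift_el hij hA (X.hgen_mem i) (X.pi_hgen i)
  obtain ⟨hw', hwπ'⟩ := X.shift_el hkl hB (X.hgen_mem k) (X.pi_hgen k)
  have hfr : ∀ m, u m ∈ Q ∧ π (u m) = ff m := fun m => by
    rcases eq_or_ne m l with rfl | hm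
    · simp only [hu, Function.update_self]; exact ⟨hw', hwπ'⟩
    rcases eq_or_ne m j with rfl | hm'
    · simp only [hu, Function.update_of_ne hm, Function.update_self]; exact ⟨hw, hwπ⟩
    · simp only [hu, Function.update_of_ne hm, Function.update_of_ne hm']
      exact ⟨X.hgen_mem m, X.pi_hgen m⟩
  obtain ⟨q, hq, hqu⟩ := X.exists_move_frame u (fun m => (hfr m).1) fun m => (hfr m).2
  have hnA := X.root_normalizes hij hA u (fun m => (hfr m).1) (fun m => (hfr m).2)
    (by simp only [hu, Function.update_self, Function.update_of_ne hjl, Function.update_of_ne hil,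
      Function.update_of_ne hij])
  have hnB := X.root_normalizes hkl hB u (fun m => (hfr m).1) (fun m => (hfr m).2)
    (by simp only [hu, Function.update_self, Function.update_of_ne hkl, Function.update_of_ne hjk.symm])
  rw [X.normalizes_moved hqu] at hnA hnB
  obtain ⟨hc, ec⟩ := X.root_lift hij hA hq hnA
  obtain ⟨hd, ed⟩ := X.root_lift hkl hB hq hnB
  refine ⟨_, _, ec, ed, Subtype.ext ?_⟩
  show q⁻¹ * A * q * (q⁻¹ * B * q) = q⁻¹ * B * q * (q⁻¹ * A * q)
  calc q⁻¹ * A * q * (q⁻¹ * B * q) = q⁻¹ * (A * B) * q := by group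
    _ = q⁻¹ * B * q * (q⁻¹ * A * q) := by rw [(X.roots_commute hij hik hil hjk hjl hkl hA hB).eq]; group

/-- The extension splits over the group of order 2048. -/
theorem exists_complement_NC : ∃ K : Subgroup G, K ≤ X.NC ∧ X.A ⊓ K = ⊥ ∧ X.A ⊔ K = X.NC := by
  classical
  haveI hHn : (X.H.subgroupOf X.K0).Normal := ⟨fun n hn g => by
    rw [mem_subgroupOf] at hn ⊢
    exact (mem_normalizer_iff.1 g.2.2 _).1 hn⟩
  have hker : X.H.subgroupOf X.K0 ≤ X.sres.ker := fun n hn => by
    rw [mem_subgroupOf] at hn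
    rw [MonoidHom.mem_ker, X.sres_one]
    intro w hw
    rw [X.T.S.rho_Q (X.h_le hn)]
    rfl
  let φ : X.K0 ⧸ X.H.subgroupOf X.K0 →* Matrix.SpecialLinearGroup (Fin 4) (ZMod 2) :=
    QuotientGroup.lift _ X.sres hker
  have hcen : φ.ker ≤ center (X.K0 ⧸ X.H.subgroupOf X.K0) := by
    intro x hx
    obtain ⟨c, rfl⟩ := QuotientGroup.mk_surjective x
    have hc : X.sres c = 1 := hx
    have hcC : ∀ g : X.K0, (g : G) * z = z * g := fun g =>
      mem_centralizer_singleton_iff.1 (X.mem_NC.1 g.2.1).1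
    rcases X.sres_ker hc with h | h
    · rw [show (QuotientGroup.mk c : X.K0 ⧸ X.H.subgroupOf X.K0) = 1 from
        (QuotientGroup.eq_one_iff c).2 (mem_subgroupOf.2 h)]
      exact one_mem _
    · have hz : z ∈ X.K0 := by
        refine ⟨X.q_le X.T.S.zQ, mem_normalizer_iff.2 fun a => ?_⟩
        constructor <;> intro ha
        · rw [← X.T.S.z_comm (X.h_le ha), mul_inv_cancel_right]; exact ha
        · have ha' : z * a * z⁻¹ ∈ Q := X.h_le ha
          have haQ : a ∈ Q := by
            have := mul_mem (mul_mem (inv_mem X.T.S.zQ) ha') X.T.S.zQ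
            rwa [show z⁻¹ * (z * a * z⁻¹) * z = a by group] at this
          rwa [← X.T.S.z_comm haQ, mul_inv_cancel_right] at ha
      have e : (QuotientGroup.mk c : X.K0 ⧸ X.H.subgroupOf X.K0) = QuotientGroup.mk ⟨z, hz⟩ := by
        refine QuotientGroup.eq.2 (mem_subgroupOf.2 ?_)
        show (c : G)⁻¹ * z ∈ X.H
        have := inv_mem h
        rwa [mul_inv_rev, inv_eq_of_mul_eq_one_left X.T.S.z2] at this
      rw [e, mem_center_iff]
      intro y
      obtain ⟨g, rfl⟩ := QuotientGroup.mk_surjective y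
      exact congrArg QuotientGroup.mk (Subtype.ext (hcC g) : g * ⟨z, hz⟩ = ⟨z, hz⟩ * g)
  have hex : ∀ i j : Fin 4, ∃ e : X.K0 ⧸ X.H.subgroupOf X.K0, ∀ h : i ≠ j, φ e = tvec h := fun i j => by
    by_cases h : i = j
    · exact ⟨1, fun h' => absurd h h'⟩
    · obtain ⟨c, hc⟩ := X.exists_lift h
      exact ⟨QuotientGroup.mk c, fun _ => hc⟩
  choose e he using hex
  obtain ⟨M, hM1, hM2⟩ := exists_central_complement φ hcen e (fun i j h => he i j h)
    (fun i j k l hij hik hil hjk hjl hkl => by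
      obtain ⟨c, d, hc, hd, hcd⟩ := X.exists_lift_pair hij hik hil hjk hjl hkl
      exact commute_congr φ hcen (hcd.map (QuotientGroup.mk' _)) ((he i j hij).trans hc.symm)
        ((he k l hkl).trans hd.symm))
  set K : Subgroup G := (M.comap (QuotientGroup.mk' _)).map X.K0.subtype with hK
  have hHK : X.H ≤ K := fun a ha => by
    have haK : a ∈ X.K0 := ⟨X.q_le (X.h_le ha), le_normalizer ha⟩
    refine ⟨⟨a, haK⟩, ?_, rfl⟩
    show QuotientGroup.mk' _ (⟨a, haK⟩ : X.K0) ∈ M
    rw [QuotientGroup.mk'_apply, (QuotientGroup.eq_one_iff _).2 (mem_subgroupOf.2 ha)]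
    exact one_mem _
  have hKle : K ≤ X.NC := (map_subtype_le _).trans inf_le_left
  refine ⟨K, hKle, ?_, le_antisymm (sup_le (fun a ha => ⟨X.a_le_N ha, X.a_le ha⟩) hKle) ?_⟩
  · rw [eq_bot_iff]
    rintro a ⟨ha, c, hc, rfl⟩
    have h1 : X.sres c = 1 := X.sres_one.2 fun w hw => X.rho_a ha hw
    have h2 := hM1 _ hc h1
    rw [QuotientGroup.mk'_apply, QuotientGroup.eq_one_iff, mem_subgroupOf] at h2
    rw [mem_bot]
    exact X.h_trivial h2 (eq_zero_of_both ((baseA_inf X.T.S (X.h_le h2)).1 ha) (X.h_inF h2))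
  · intro n hn
    have hQle : Q ≤ X.A ⊔ K := fun q hq => by
      have hW : InW (Sum.elim (fun i => π q (.inl i)) 0) := fun _ => rfl
      have hF : InF (Sum.elim 0 fun i => π q (.inr i)) := fun _ => rfl
      obtain ⟨a, ha, ea⟩ := X.T.S.pi_surj (Sum.elim (fun i => π q (.inl i)) 0)
      obtain ⟨b, hb, eb⟩ := X.exists_h hF
      have e : π (a * b) = π q := by
        rw [X.T.S.pi_mul _ ha _ (X.h_le hb), ea, eb]
        funext k; rcases k with i | i <;> simp
      have haA : a ∈ X.A ⊔ K := mem_sup_left ((baseA_inf X.T.S ha).2 (ea ▸ hW))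
      have hbK : b ∈ X.A ⊔ K := mem_sup_right (hHK hb)
      rcases X.T.S.pi_eq (mul_mem ha (X.h_le hb)) hq e with e' | e' <;> rw [e']
      exacts [mul_mem haA hbK, mul_mem (mem_sup_left X.zA) (mul_mem haA hbK)]
    have htop : toSL (X.res ⟨n, hn⟩) ∈ M.map φ := hM2 ▸ mem_top _
    obtain ⟨m, hm, hmn⟩ := htop
    obtain ⟨c, rfl⟩ := QuotientGroup.mk_surjective m
    have hres : X.res (inclusion inf_le_left c) = X.res ⟨n, hn⟩ := toSL_inj hmn
    have h1 : X.res ((inclusion inf_le_left c : X.NC)⁻¹ * ⟨n, hn⟩) = 1 := by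
      rw [map_mul, map_inv, hres, inv_mul_cancel]
    obtain ⟨a, ha, q, hq, ea⟩ := X.res_ker.1 h1
    have : n = (c : G) * (a * q) := by
      rw [← ea]
      exact (mul_inv_cancel_left (c : G) n).symm
    rw [this]
    exact mul_mem (mem_sup_right ⟨c, hm, rfl⟩) (mul_mem (mem_sup_left ha) (hQle hq))

end Ctx

end CfsgLib.CoType
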