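import Mathlib
import Cfsg.Agent.Lib.CoType.Form

/-!
Five singular classes, pairwise nonorthogonal, of sum zero: coordinates, and two orthogonal such families
of the space of dimension eight.
-/

set_option autoImplicit false

namespace CfsgLib.CoType

open Subgroup CfsgLib.Classical

/-- Five singular vectors, pairwise nonorthogonal, of sum zero. -/
structure Pent (s : Fin 5 → V8) : Prop where
  sing : ∀ i, qm (s i) = 0
  pair : ∀ i j, i ≠ j → pb (s i) (s j) = 1
  sum : s 0 + s 1 + s 2 + s 3 + s 4 = 0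

/-- The combination of the first four. -/
def pc (s : Fin 5 → V8) (c : Fin 4 → ZMod 2) : V8 := c 0 • s 0 + c 1 • s 1 + c 2 • s 2 + c 3 • s 3

/-- The form in the coordinates. -/
def pq (c : Fin 4 → ZMod 2) : ZMod 2 :=
  c 0 * c 1 + c 0 * c 2 + c 0 * c 3 + c 1 * c 2 + c 1 * c 3 + c 2 * c 3

/-- The product with the vector of index `j`. -/
def pl (c : Fin 4 → ZMod 2) (j : Fin 5) : ZMod 2 :=
  c 0 * (if j = 0 then 0 else 1) + c 1 * (if j = 1 then 0 else 1) + c 2 * (if j = 2 then 0 else 1) +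
    c 3 * (if j = 3 then 0 else 1)

/-- The coordinates of the five. -/
def pu (j : Fin 5) : Fin 4 → ZMod 2 := fun i => if j = 4 ∨ i.castSucc = j then 1 else 0

theorem pl_nondeg : ∀ c : Fin 4 → ZMod 2, (∀ j, pl c j = 0) → c = 0 := by decide +kernel

theorem pq_zero_cases : ∀ c : Fin 4 → ZMod 2, pq c = 0 → c ≠ 0 → ∃ j, c = pu j := by decide +kernel

theorem pu_inj : ∀ i j : Fin 5, pu i = pu j → i = j := by decide +kernel

theorem pu_ne : ∀ j : Fin 5, pu j ≠ 0 := by decide +kernel

theorem pc_add (s : Fin 5 → V8) (c d : Fin 4 → ZMod 2) : pc s (c + d) = pc s c + pc s d := by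
  simp only [pc, Pi.add_apply, add_smul]; abel

theorem pc_map (g : qAut qm) (s : Fin 5 → V8) (c : Fin 4 → ZMod 2) :
    g.1 (pc s c) = pc (fun i => g.1 (s i)) c := by
  simp [pc, map_add, map_smul]

theorem pc_zero (s : Fin 5 → V8) : pc s 0 = 0 := by simp [pc]

namespace Pent

variable {s : Fin 5 → V8} (S : Pent s)

include S

theorem last : s 4 = s 0 + s 1 + s 2 + s 3 :=
  (CharTwo.add_eq_zero.1 (funext fun i => congrFun S.sum i)).symm

theorem pc_pu : ∀ j, pc s (pu j) = s j := by
  intro j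
  fin_cases j <;> simp [pc, pu, Fin.ext_iff, S.last]

theorem gram (i j : Fin 5) : pb (s i) (s j) = if j = i then 0 else 1 := by
  by_cases h : j = i
  · subst h; rw [pb_self, if_pos rfl]
  · rw [S.pair i j (fun e => h e.symm), if_neg h]

theorem pb_pc (c : Fin 4 → ZMod 2) (j : Fin 5) : pb (pc s c) (s j) = pl c j := by
  simp only [pc, pl, pb_add_left, pb_smul_left, S.gram]

theorem qm_pc (c : Fin 4 → ZMod 2) : qm (pc s c) = pq c := by
  have h := S.gram
  simp only [pc, qm_add, quad_smul, pb_add_left, pb_smul_left, pb_smul_right, S.sing, h]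
  simp only [Fin.reduceEq, if_false, mul_zero, mul_one, zero_add, add_zero, pq]
  ring

theorem pc_inj : Function.Injective (pc s) := by
  intro c d h
  have h1 : pc s (c + d) = 0 := by rw [pc_add, h, add_self8]
  have h2 : c + d = 0 := pl_nondeg _ fun j => by rw [← S.pb_pc, h1, pb_zero_left]
  exact funext fun i => CharTwo.add_eq_zero.1 (congrFun h2 i)

theorem ne_zero (j : Fin 5) : s j ≠ 0 := fun h => pu_ne j (S.pc_inj (by rw [S.pc_pu, h, pc_zero]))

theorem inj : Function.Injective s := fun i j h => pu_inj i j (S.pc_inj (by rw [S.pc_pu, S.pc_pu, h]))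

theorem sing_cases {c : Fin 4 → ZMod 2} (h : qm (pc s c) = 0) (hne : pc s c ≠ 0) : ∃ j, pc s c = s j := by
  rw [S.qm_pc] at h
  obtain ⟨j, rfl⟩ := pq_zero_cases c h fun e => hne (e ▸ pc_zero s)
  exact ⟨j, S.pc_pu j⟩

theorem reindex (σ : Equiv.Perm (Fin 5)) : Pent (fun i => s (σ i)) := by
  refine ⟨fun i => S.sing _, fun i j h => S.pair _ _ (σ.injective.ne h), ?_⟩
  have h := Equiv.sum_comp σ s
  simp only [Fin.sum_univ_five] at h
  rw [h, S.sum]

theorem map (g : qAut qm) : Pent (fun i => g.1 (s i)) :=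
  ⟨fun i => (qAut_map g _).trans (S.sing i), fun i j h => (pb_map g _ _).trans (S.pair i j h),
    by simp only [← map_add, S.sum, map_zero]⟩

theorem diff {i j : Fin 5} (h : i ≠ j) : qm (s i + s j) = 1 := by
  rw [qm_add, S.sing, S.sing, S.pair i j h, zero_add, zero_add]

theorem swap {i j : Fin 5} (h : i ≠ j) (k : Fin 5) :
    (rf (s i + s j) (S.diff h)).1 (s k) = s (Equiv.swap i j k) := by
  rw [rf_apply, pb_add_right, S.gram, S.gram]
  by_cases h1 : k = i
  · subst h1
    rw [Equiv.swap_apply_left, if_pos rfl, if_neg (fun e => h e.symm), zero_add, one_smul, add_cancel8]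
  by_cases h2 : k = j
  · subst h2
    rw [Equiv.swap_apply_right, if_neg h, if_pos rfl, add_zero, one_smul, add_comm (s i), add_cancel8]
  · rw [Equiv.swap_apply_of_ne_of_ne h1 h2, if_neg (fun e => h1 e.symm), if_neg (fun e => h2 e.symm),
      CharTwo.add_self_eq_zero, zero_smul, add_zero]

end Pent

/-- Two orthogonal families. -/
structure Split (s w : Fin 5 → V8) : Prop where
  S : Pent s
  W : Pent w
  orth : ∀ i j, pb (s i) (w j) = 0

namespace Split

variable {s w : Fin 5 → V8} (H : Split s w)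

include H

theorem symm : Split w s := ⟨H.W, H.S, fun i j => by rw [pb_comm]; exact H.orth j i⟩

theorem orth_pc (i : Fin 5) (d : Fin 4 → ZMod 2) : pb (s i) (pc w d) = 0 := by
  simp [pc, pb_add_right, pb_smul_right, H.orth]

theorem orth_pc2 (c d : Fin 4 → ZMod 2) : pb (pc s c) (pc w d) = 0 := by
  simp [pc, pb_add_left, pb_smul_left, pb_add_right, pb_smul_right, H.orth]

theorem comb_inj {c c' d d' : Fin 4 → ZMod 2} (h : pc s c + pc w d = pc s c' + pc w d') : c = c' ∧ d = d' := by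
  have hc : c = c' := by
    have h2 : c + c' = 0 := pl_nondeg _ fun j => by
      rw [← H.S.pb_pc, pc_add]
      have e := congrArg (fun x => pb x (s j)) h
      simp only [pb_add_left] at e
      rw [pb_comm (pc w d), pb_comm (pc w d'), H.orth_pc, H.orth_pc, add_zero, add_zero] at e
      rw [pb_add_left, e, CharTwo.add_self_eq_zero]
    exact funext fun i => CharTwo.add_eq_zero.1 (congrFun h2 i)
  subst hc
  exact ⟨rfl, H.W.pc_inj (add_left_cancel h)⟩

theorem span (x : V8) : ∃ c d, x = pc s c + pc w d := by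
  have hb : Function.Bijective fun cd : (Fin 4 → ZMod 2) × (Fin 4 → ZMod 2) => pc s cd.1 + pc w cd.2 := by
    refine (Fintype.bijective_iff_injective_and_card _).2 ⟨fun a b h => ?_, by simp⟩
    obtain ⟨h1, h2⟩ := H.comb_inj h
    exact Prod.ext h1 h2
  obtain ⟨⟨c, d⟩, h⟩ := hb.2 x
  exact ⟨c, d, h.symm⟩

theorem qm_comb (c d : Fin 4 → ZMod 2) : qm (pc s c + pc w d) = pq c + pq d := by
  rw [qm_add, H.S.qm_pc, H.W.qm_pc, H.orth_pc2, add_zero]

theorem ext {g h : qAut qm} (hs : ∀ i, g.1 (s i) = h.1 (s i)) (hw : ∀ i, g.1 (w i) = h.1 (w i)) : g = h := by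
  refine qAut_ext fun x => ?_
  obtain ⟨c, d, rfl⟩ := H.span x
  simp only [map_add, pc_map, hs, hw]

theorem mem_right {x : V8} (h : ∀ i, pb (s i) x = 0) : ∃ d, x = pc w d := by
  obtain ⟨c, d, rfl⟩ := H.span x
  refine ⟨d, ?_⟩
  have hc : c = 0 := pl_nondeg c fun j => by
    have := h j
    rw [pb_add_right, H.orth_pc, add_zero, pb_comm, H.S.pb_pc] at this
    exact this
  rw [hc, pc_zero, zero_add]

/-- An isometry between two configurations. -/
theorem exists_iso {s' w' : Fin 5 → V8} (H' : Split s' w') :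
    ∃ h : qAut qm, (∀ i, h.1 (s i) = s' i) ∧ ∀ i, h.1 (w i) = w' i := by
  let mk : (Fin 5 → V8) → (Fin 5 → V8) → ((Fin 4 → ZMod 2) × (Fin 4 → ZMod 2)) →ₗ[ZMod 2] V8 := fun a b =>
    (AddMonoidHom.mk' (fun cd : (Fin 4 → ZMod 2) × (Fin 4 → ZMod 2) => pc a cd.1 + pc b cd.2) fun u v => by
      simp only [Prod.fst_add, Prod.snd_add, pc_add]; abel).toZModLinearMap 2
  have hb : Function.Bijective (mk s w) := ⟨fun a b h => Prod.ext (H.comb_inj h).1 (H.comb_inj h).2,
    fun x => by obtain ⟨c, d, h⟩ := H.span x; exact ⟨(c, d), h.symm⟩⟩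
  have hb' : Function.Bijective (mk s' w') := ⟨fun a b h => Prod.ext (H'.comb_inj h).1 (H'.comb_inj h).2,
    fun x => by obtain ⟨c, d, h⟩ := H'.span x; exact ⟨(c, d), h.symm⟩⟩
  let e : V8 ≃ₗ[ZMod 2] V8 := (LinearEquiv.ofBijective _ hb).symm.trans (LinearEquiv.ofBijective _ hb')
  have he : ∀ c d, e (pc s c + pc w d) = pc s' c + pc w' d := fun c d => by
    have h1 : (LinearEquiv.ofBijective _ hb).symm (pc s c + pc w d) = (c, d) :=
      (LinearEquiv.symm_apply_eq _).2 rfl
    show (LinearEquiv.ofBijective _ hb') ((LinearEquiv.ofBijective _ hb).symm (pc s c + pc w d)) = _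
    erw [h1]; rfl
  refine ⟨⟨e, fun x => ?_⟩, fun i => ?_, fun i => ?_⟩
  · obtain ⟨c, d, rfl⟩ := H.span x
    rw [he, H'.qm_comb, H.qm_comb]
  · have := he (pu i) 0
    rwa [pc_zero, pc_zero, add_zero, add_zero, H.S.pc_pu, H'.S.pc_pu] at this
  · have := he 0 (pu i)
    rwa [pc_zero, pc_zero, zero_add, zero_add, H.W.pc_pu, H'.W.pc_pu] at this

/-- Every permutation of one family is induced, the parity being the sign. -/
theorem exists_perm (σ : Equiv.Perm (Fin 5)) :
    ∃ k : qAut qm, (∀ i, k.1 (w i) = w i) ∧ (∀ i, k.1 (s i) = s (σ i)) ∧ (k ∈ Ev ↔ Equiv.Perm.sign σ = 1) := by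
  induction σ using Equiv.Perm.swap_induction_on with
  | one => exact ⟨1, fun i => rfl, fun i => rfl, by simp [one_mem]⟩
  | swap_mul f x y hxy ih =>
    obtain ⟨k, kw, ks, kev⟩ := ih
    refine ⟨rf _ (H.S.diff hxy) * k, fun i => ?_, fun i => ?_, ?_⟩
    · rw [qAut_mul_apply, kw, rf_fix]
      rw [pb_add_right, pb_comm _ (s x), pb_comm _ (s y), H.orth, H.orth, add_zero]
    · rw [qAut_mul_apply, ks, H.S.swap hxy]; rfl
    · rw [Subgroup.mul_mem_iff_of_index_two index_ev, kev, map_mul, Equiv.Perm.sign_swap hxy]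
      have h1 := rf_not_mem (H.S.diff hxy)
      rcases Int.units_eq_one_or (Equiv.Perm.sign f) with e | e <;> simp [e, h1]

/-- The elements of the index two subgroup fixing one family. -/
def fixer (w : Fin 5 → V8) : Subgroup (qAut qm) where
  carrier := {k | k ∈ Ev ∧ ∀ i, k.1 (w i) = w i}
  one_mem' := ⟨one_mem _, fun _ => rfl⟩
  mul_mem' := fun ha hb => ⟨mul_mem ha.1 hb.1, fun i => by rw [qAut_mul_apply, hb.2, ha.2]⟩
  inv_mem' := fun {a} ha => ⟨inv_mem ha.1, fun i => a.1.injective (by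
    rw [← qAut_mul_apply, mul_inv_cancel, ha.2]; rfl)⟩

/-- Permutation induced by an isometry keeping the other family's span. -/
theorem exists_image {k : qAut qm} (hk : ∀ i j, pb (k.1 (s i)) (w j) = 0) :
    ∃ σ : Equiv.Perm (Fin 5), ∀ i, k.1 (s i) = s (σ i) := by
  have h : ∀ i, ∃ j, k.1 (s i) = s j := fun i => by
    obtain ⟨d, hd⟩ := H.symm.mem_right (x := k.1 (s i)) fun j => by rw [pb_comm]; exact hk i j
    rw [hd]
    refine H.S.sing_cases ?_ ?_
    · rw [← hd, qAut_map]; exact H.S.sing i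
    · rw [← hd]; exact fun e => H.S.ne_zero i (k.1.map_eq_zero_iff.1 e)
  choose f hf using h
  have hinj : Function.Injective f := fun a b e => H.S.inj (k.1.injective (by rw [hf, hf, e]))
  exact ⟨Equiv.ofBijective f (Finite.injective_iff_bijective.1 hinj), hf⟩

theorem fixer_perm : ∃ φ : fixer w ≃* alternatingGroup (Fin 5),
    ∀ (k : fixer w) i, k.1.1 (s i) = s ((φ k : Equiv.Perm (Fin 5)) i) := by
  have hex : ∀ k : fixer w, ∃ σ : Equiv.Perm (Fin 5), ∀ i, k.1.1 (s i) = s (σ i) := fun k =>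
    H.exists_image fun i j => by rw [← k.2.2 j, pb_map, H.orth]
  choose f hf using hex
  have hsign : ∀ k, f k ∈ alternatingGroup (Fin 5) := by
    intro k
    obtain ⟨k', kw, ks, kev⟩ := H.exists_perm (f k)
    have : k.1 = k' := H.ext (fun i => by rw [hf, ks]) fun i => by rw [k.2.2, kw]
    exact Equiv.Perm.mem_alternatingGroup.2 (kev.1 (this ▸ k.2.1))
  let φ : fixer w →* alternatingGroup (Fin 5) := MonoidHom.mk' (fun k => ⟨f k, hsign k⟩) fun a b =>
    Subtype.ext (Equiv.ext fun i => H.S.inj (by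
      rw [← hf]
      show (a.1 * b.1).1 (s i) = s ((f a * f b) i)
      rw [qAut_mul_apply, hf, hf]; rfl))
  have hb : Function.Bijective φ := by
    constructor
    · intro a b e
      refine Subtype.ext (H.ext (fun i => ?_) fun i => by rw [a.2.2, b.2.2])
      rw [hf, hf, show f a = f b from congrArg Subtype.val e]
    · intro σ
      obtain ⟨k, kw, ks, kev⟩ := H.exists_perm σ.1
      refine ⟨⟨k, kev.2 (Equiv.Perm.mem_alternatingGroup.1 σ.2), kw⟩, Subtype.ext (Equiv.ext fun i => H.S.inj ?_)⟩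
      exact ((hf _ i).symm.trans (ks i))
  exact ⟨MulEquiv.ofBijective φ hb, fun k i => hf k i⟩

end Split

end CfsgLib.CoType
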