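import Mathlib
import Cfsg.Agent.Lib.CoType.Pentad
import Cfsg.Agent.Lib.CoType.InT

/-!
Elements of order five of the index two subgroup with a fixed space of dimension four and of minus type.
-/

set_option autoImplicit false
set_option linter.unusedSectionVars false
set_option linter.style.haveILetI false

namespace CfsgLib.CoType

open Subgroup CfsgLib.Classical
open Fin.NatCast

/-- The fixed vectors. -/
def fixV (g : qAut qm) : AddSubgroup V8 where
  carrier := {x | g.1 x = x}
  zero_mem' := map_zero _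
  add_mem' := fun {a b} ha hb => by
    show g.1 (a + b) = a + b
    rw [map_add, show g.1 a = a from ha, show g.1 b = b from hb]
  neg_mem' := fun {a} ha => by
    show g.1 (-a) = -a
    rw [map_neg, show g.1 a = a from ha]

/-- The sum over five iterates. -/
noncomputable def orbSum (g : qAut qm) : V8 →+ V8 :=
  AddMonoidHom.mk' (fun x => x + g.1 x + g.1 (g.1 x) + g.1 (g.1 (g.1 x)) + g.1 (g.1 (g.1 (g.1 x))))
    fun a b => by simp only [map_add]; abel

/-- Five singular fixed vectors and an orbit of five orthogonal to them. -/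
def Five (g : qAut qm) : Prop :=
  ∃ s w, Split s w ∧ (∀ i, g.1 (s i) = s i) ∧ ∀ i : Fin 5, g.1 (w i) = w (i + 1)

theorem exists_not_mem_of_card {α : Type*} (K : Set α) (F : Finset α) (h : F.card < Nat.card K) :
    ∃ x ∈ K, x ∉ F := by
  by_contra hc
  push Not at hc
  have := Nat.card_mono F.finite_toSet (t := (F : Set α)) (s := K) fun x hx => hc x hx
  rw [show Nat.card ↥(F : Set α) = F.card by simp] at this
  omega

theorem exists_sing_of_card (K : AddSubgroup V8) (h : 4 < Nat.card K) : ∃ x ∈ K, Sing x := by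
  classical
  by_contra hc
  have h1 : ∀ x ∈ K, x ≠ 0 → qm x = 1 := fun x hx hx0 =>
    (two_cases _).resolve_left fun e => hc ⟨x, hx, hx0, e⟩
  have h2 : ∀ x ∈ K, ∀ y ∈ K, x ≠ 0 → y ≠ 0 → x ≠ y → pb x y = 1 := fun x hx y hy hx0 hy0 hne => by
    have e := h1 _ (add_mem hx hy) fun e => hne (CharTwo.add_eq_zero.1 (funext fun i => congrFun e i))
    rw [qm_add, h1 x hx hx0, h1 y hy hy0] at e
    exact (by decide : ∀ a : ZMod 2, 1 + 1 + a = 1 → a = 1) _ e
  obtain ⟨x, hx, nx⟩ := exists_not_mem_of_card (K : Set V8) {0} (lt_trans (by simp) h)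
  obtain ⟨y, hy, ny⟩ := exists_not_mem_of_card (K : Set V8) {0, x} (lt_of_le_of_lt Finset.card_le_two (by omega : 2 < Nat.card K))
  obtain ⟨w, hw, nw⟩ := exists_not_mem_of_card (K : Set V8) {0, x, y, x + y} (lt_of_le_of_lt Finset.card_le_four h)
  simp only [Finset.mem_singleton, Finset.mem_insert, not_or] at nx ny nw
  have hne : x + y + w ≠ 0 := fun e => nw.2.2.2 (eq_neg_of_add_eq_zero_right e ▸ funext fun i => CharTwo.neg_eq _)
  refine hc ⟨x + y + w, add_mem (add_mem hx hy) hw, hne, ?_⟩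
  rw [qm_add, qm_add, h1 x hx nx, h1 y hy ny.1, h1 w hw nw.1, h2 x hx y hy nx ny.1 (Ne.symm ny.2),
    pb_add_left, h2 x hx w hw nx nw.1 (Ne.symm nw.2.1), h2 y hy w hw ny.1 nw.1 (Ne.symm nw.2.2.1)]
  decide

theorem cyc_indep : ∀ (f : Fin 5 → ZMod 2) (c : Fin 4 → ZMod 2), f 0 = 1 → f 0 + f 1 + f 2 + f 3 + f 4 = 0 →
    (∀ k, c 0 * f (0 + k) + c 1 * f (1 + k) + c 2 * f (2 + k) + c 3 * f (3 + k) = 0) → c = 0 := by
  decide +kernel

theorem shift_fixed : ∀ d : Fin 4 → ZMod 2,
    (fun i : Fin 4 => (if i = 0 then d 3 else if i = 1 then d 0 + d 3 else if i = 2 then d 1 + d 3 else d 2 + d 3)) = d →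
      d = 0 := by decide +kernel

theorem pl_surj : ∀ f : Fin 4 → ZMod 2, ∃ c, ∀ j : Fin 4, pl c j.castSucc = f j := by decide +kernel

section five

variable {g : qAut qm} (h5 : g ^ 5 = 1)

include h5

theorem five_iter (x : V8) : g.1 (g.1 (g.1 (g.1 (g.1 x)))) = x := by
  simp only [← qAut_mul_apply, ← mul_assoc]
  rw [show g * g * g * g * g = g ^ 5 by simp [pow_succ], h5]
  rfl

theorem orbSum_fix (x : V8) : orbSum g x ∈ fixV g := by
  show g.1 (_ + _ + _ + _ + _) = _ + _ + _ + _ + _
  simp only [map_add, five_iter h5]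
  abel

theorem orbSum_self {x : V8} (hx : x ∈ fixV g) : orbSum g x = x := by
  have e : g.1 x = x := hx
  show x + g.1 x + g.1 (g.1 x) + g.1 (g.1 (g.1 x)) + g.1 (g.1 (g.1 (g.1 x))) = x
  simp only [e]
  rw [add_self8, zero_add, add_self8, zero_add]

theorem orbSum_polar {a : V8} (ha : a ∈ fixV g) (x : V8) : pb a (orbSum g x) = pb a x := by
  have e : ∀ y, pb a (g.1 y) = pb a y := fun y => by conv_lhs => rw [← show g.1 a = a from ha, pb_map]
  show pb a (_ + _ + _ + _ + _) = _
  simp only [pb_add_right, e]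
  exact (by decide : ∀ u : ZMod 2, u + u + u + u + u = u) _

theorem card_fix_mul : Nat.card (fixV g) * Nat.card (orbSum g).ker = 256 := by
  have e : fixV g × (orbSum g).ker ≃ V8 :=
    { toFun := fun p => (p.1 : V8) + (p.2 : V8)
      invFun := fun x => (⟨orbSum g x, orbSum_fix h5 x⟩, ⟨x + orbSum g x, by
        rw [AddMonoidHom.mem_ker, map_add, orbSum_self h5 (orbSum_fix h5 x), add_self8]⟩)
      left_inv := fun ⟨⟨a, ha⟩, ⟨k, hk⟩⟩ => by
        have e : orbSum g (a + k) = a := by rw [map_add, orbSum_self h5 ha, AddMonoidHom.mem_ker.1 hk, add_zero]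
        refine Prod.ext (Subtype.ext e) (Subtype.ext ?_)
        show a + k + orbSum g (a + k) = k
        rw [e, add_comm (a + k), add_cancel8]
      right_inv := fun x => by
        show orbSum g x + (x + orbSum g x) = x
        rw [add_comm x, add_cancel8] }
  rw [← Nat.card_prod, Nat.card_congr e]
  simp

theorem five_mem_ev : g ∈ Ev := by
  have e : g = g ^ 3 * g ^ 3 := by rw [← pow_add, show 3 + 3 = 5 + 1 from rfl, pow_succ, h5, one_mul]
  rw [e]
  exact (Subgroup.mul_mem_iff_of_index_two index_ev).2 Iff.rfl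

theorem orbSum_perp {a k : V8} (ha : a ∈ fixV g) (hk : k ∈ (orbSum g).ker) : pb a k = 0 := by
  rw [← orbSum_polar h5 ha, AddMonoidHom.mem_ker.1 hk, pb_zero_right]

theorem orbit_ne {w : Fin 5 → V8} (gw : ∀ i : Fin 5, g.1 (w i) = w (i + 1)) (wk : ∀ i, w i ∈ (orbSum g).ker)
    (wsum : w 0 + w 1 + w 2 + w 3 + w 4 = 0) (h0 : Sing (w 0)) (hk : Nat.card (orbSum g).ker = 16)
    (hperp : ∀ i, pb (w i) (w 0) = 0) : False := by
  obtain ⟨y, hy⟩ := fact_y h0
  set x := y + orbSum g y with hx
  have xk : x ∈ (orbSum g).ker := by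
    rw [AddMonoidHom.mem_ker, hx, map_add, orbSum_self h5 (orbSum_fix h5 y), add_self8]
  have xw : pb x (w 0) = 1 := by
    rw [hx, pb_add_left, orbSum_perp h5 (orbSum_fix h5 y) (wk 0), add_zero, pb_comm, hy]
  have hinj : Function.Injective (pc w) := by
    intro c d hcd
    have h2 : pc w (c + d) = 0 := by rw [pc_add, hcd, add_self8]
    suffices h3 : c + d = 0 from funext fun i => CharTwo.add_eq_zero.1 (congrFun h3 i)
    generalize c + d = e at h2 ⊢
    have step : ∀ k l : Fin 5, k + 1 = l → pc (fun i => w (i + k)) e = 0 → pc (fun i => w (i + l)) e = 0 := by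
      intro k l hkl hk
      have h3 := congrArg g.1 hk
      rw [pc_map, map_zero] at h3
      rw [← hkl, ← h3]
      refine congrArg (fun f => pc f e) (funext fun i => ?_)
      rw [gw, add_assoc]
    have h0 : pc (fun i => w (i + 0)) e = 0 := by
      rw [← h2]
      exact congrArg (fun f => pc f e) (funext fun i => by rw [add_zero])
    have h1 := step 0 1 (by decide) h0
    have h2' := step 1 2 (by decide) h1
    have h3' := step 2 3 (by decide) h2'
    have h4 := step 3 4 (by decide) h3'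
    have hs : ∀ k : Fin 5, pc (fun i => w (i + k)) e = 0 := by
      intro k
      obtain ⟨k, hk⟩ := k
      interval_cases k
      exacts [h0, h1, h2', h3', h4]
    refine cyc_indep (fun i => pb x (w i)) e xw ?_ fun k => ?_
    · rw [← pb_zero_right x, ← wsum]
      simp only [pb_add_right]
    · have h := congrArg (pb x) (hs k)
      simp only [pc, pb_add_right, pb_smul_right, pb_zero_right] at h
      exact h
  have hs : ∀ (c : ZMod 2) i, c • w i ∈ (orbSum g).ker := fun c i => by
    rcases two_cases c with rfl | rfl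
    · rw [zero_smul]; exact zero_mem _
    · rw [one_smul]; exact wk i
  have hbij : Function.Bijective fun c : Fin 4 → ZMod 2 =>
      (⟨pc w c, add_mem (add_mem (add_mem (hs _ _) (hs _ _)) (hs _ _)) (hs _ _)⟩ : (orbSum g).ker) :=
    (Nat.bijective_iff_injective_and_card _).2 ⟨fun a b h => hinj (congrArg Subtype.val h), by rw [hk]; simp⟩
  obtain ⟨c, hc⟩ := hbij.2 ⟨x, xk⟩
  rw [← show pc w c = x from congrArg Subtype.val hc] at xw
  simp only [pc, pb_add_left, pb_smul_left, hperp, mul_zero, add_zero] at xw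
  exact zero_ne_one xw

/-- A pentad cycled by `g` outside the fixed space. -/
theorem exists_orbit (hk : Nat.card (orbSum g).ker = 16) :
    ∃ w, Pent w ∧ (∀ i : Fin 5, g.1 (w i) = w (i + 1)) ∧ ∀ i, w i ∈ (orbSum g).ker := by
  obtain ⟨w0, hw0, hs0⟩ := exists_sing_of_card _ (by rw [hk]; norm_num : 4 < Nat.card (orbSum g).ker)
  let w : Fin 5 → V8 := ![w0, g.1 w0, g.1 (g.1 w0), g.1 (g.1 (g.1 w0)), g.1 (g.1 (g.1 (g.1 w0)))]
  have gw : ∀ i : Fin 5, g.1 (w i) = w (i + 1) := fun i => by
    fin_cases i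
    exacts [rfl, rfl, rfl, rfl, five_iter h5 w0]
  have hinv : ∀ x ∈ (orbSum g).ker, g.1 x ∈ (orbSum g).ker := fun x hx => by
    have h : x + g.1 x + g.1 (g.1 x) + g.1 (g.1 (g.1 x)) + g.1 (g.1 (g.1 (g.1 x))) = 0 := hx
    rw [AddMonoidHom.mem_ker]
    show g.1 x + _ + _ + _ + _ = 0
    rw [← map_add, ← map_add, ← map_add, ← map_add, h, map_zero]
  have wk : ∀ i, w i ∈ (orbSum g).ker := fun i => by
    fin_cases i
    exacts [hw0, hinv _ hw0, hinv _ (hinv _ hw0), hinv _ (hinv _ (hinv _ hw0)),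
      hinv _ (hinv _ (hinv _ (hinv _ hw0)))]
  have wmap : ∀ i j, pb (w (i + 1)) (w (j + 1)) = pb (w i) (w j) := fun i j => by rw [← gw, ← gw, pb_map]
  have wsum : w 0 + w 1 + w 2 + w 3 + w 4 = 0 := hw0
  have wq : ∀ i, qm (w i) = 0 := fun i => by
    fin_cases i
    exacts [hs0.2, by exact (qAut_map g _).trans hs0.2,
      by exact (qAut_map g _).trans ((qAut_map g _).trans hs0.2),
      by exact (qAut_map g _).trans ((qAut_map g _).trans ((qAut_map g _).trans hs0.2)),
      by exact (qAut_map g _).trans ((qAut_map g _).trans ((qAut_map g _).trans ((qAut_map g _).trans hs0.2)))]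
  set a := pb (w 0) (w 1) with ha
  set b := pb (w 0) (w 2) with hb
  have g12 : pb (w 1) (w 2) = a := wmap 0 1
  have g23 : pb (w 2) (w 3) = a := (wmap 1 2).trans g12
  have g34 : pb (w 3) (w 4) = a := (wmap 2 3).trans g23
  have g40 : pb (w 4) (w 0) = a := (wmap 3 4).trans g34
  have g13 : pb (w 1) (w 3) = b := wmap 0 2
  have g24 : pb (w 2) (w 4) = b := (wmap 1 3).trans g13
  have g30 : pb (w 3) (w 0) = b := (wmap 2 4).trans g24
  have g41 : pb (w 4) (w 1) = b := (wmap 3 0).trans g30
  have hab : a = b := by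
    have h := congrArg qm wsum
    rw [QuadraticMap.map_zero] at h
    simp only [qm_add, pb_add_left, wq] at h
    rw [← ha, ← hb, g12, g23, g34, g13, g24, pb_comm (w 0) (w 4), g40,
      pb_comm (w 0) (w 3), g30, pb_comm (w 1) (w 4), g41] at h
    revert h
    generalize a = x, b = y
    revert x y
    decide
  have ha1 : a = 1 := by
    refine (two_cases a).resolve_left fun h0 => ?_
    have hb0 : b = 0 := hab.symm.trans h0
    refine orbit_ne h5 gw wk wsum (show Sing (w 0) from hs0) hk fun i => ?_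
    fin_cases i
    exacts [pb_self _, by exact (pb_comm _ _).trans h0, by exact (pb_comm _ _).trans hb0, g30.trans hb0, g40.trans h0]
  have hb1 : b = 1 := hab.symm.trans ha1
  refine ⟨w, ⟨wq, fun i j hij => ?_, wsum⟩, gw, wk⟩
  fin_cases i <;> fin_cases j
  exacts [absurd rfl hij, ha1, hb1, ((pb_comm _ _).trans g30).trans hb1, ((pb_comm _ _).trans g40).trans ha1,
    (pb_comm _ _).trans ha1, absurd rfl hij, g12.trans ha1, g13.trans hb1, ((pb_comm _ _).trans g41).trans hb1,
    (pb_comm _ _).trans hb1, ((pb_comm _ _).trans g12).trans ha1, absurd rfl hij, g23.trans ha1, g24.trans hb1,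
    g30.trans hb1, ((pb_comm _ _).trans g13).trans hb1, ((pb_comm _ _).trans g23).trans ha1, absurd rfl hij,
      g34.trans ha1,
    g40.trans ha1, g41.trans hb1, ((pb_comm _ _).trans g24).trans hb1, ((pb_comm _ _).trans g34).trans ha1,
      absurd rfl hij]

/-- From three fixed vectors spanning the fixed part of a perpendicular. -/
theorem five_of_frame {p u v : V8} (hp : Sing p) (fp : p ∈ fixV g) (fu : u ∈ fixV g) (fv : v ∈ fixV g)
    (pu : pb p u = 0) (pv : pb p v = 0) (qu : qm u = 1) (qv : qm v = 1) (uv : pb u v = 1)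
    (hspan : ∀ x ∈ fixV g, pb p x = 0 → Span3 p u v x) : Five g := by
  classical
  obtain ⟨y, hy⟩ := fact_y hp
  set y0 := orbSum g y with hy0
  have py0 : pb p y0 = 1 := (orbSum_polar h5 fp y).trans hy
  have fy0 : y0 ∈ fixV g := orbSum_fix h5 y
  set e1 := y0 + pb y0 v • u + pb y0 u • v with he1
  have fsmul : ∀ (c : ZMod 2) {x : V8}, x ∈ fixV g → c • x ∈ fixV g := fun c x hx => by
    rcases two_cases c with rfl | rfl
    · rw [zero_smul]; exact zero_mem _
    · rwa [one_smul]
  have fe1 : e1 ∈ fixV g := add_mem (add_mem fy0 (fsmul _ fu)) (fsmul _ fv)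
  have e1p : pb p e1 = 1 := by simp only [he1, pb_add_right, pb_smul_right, py0, pu, pv, mul_zero, add_zero]
  have e1u : pb e1 u = 0 := by
    simp only [he1, pb_add_left, pb_smul_left, pb_self, pb_comm v u, uv, mul_zero, mul_one, add_zero,
      CharTwo.add_self_eq_zero]
  have e1v : pb e1 v = 0 := by
    simp only [he1, pb_add_left, pb_smul_left, pb_self, uv, mul_zero, mul_one, add_zero, CharTwo.add_self_eq_zero]
  set e := e1 + qm e1 • p with he
  have fe : e ∈ fixV g := add_mem fe1 (fsmul _ fp)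
  have ep : pb p e = 1 := by simp only [he, pb_add_right, pb_smul_right, e1p, pb_self, mul_zero, add_zero]
  have eu : pb e u = 0 := by simp only [he, pb_add_left, pb_smul_left, e1u, pu, mul_zero, add_zero]
  have ev : pb e v = 0 := by simp only [he, pb_add_left, pb_smul_left, e1v, pv, mul_zero, add_zero]
  have qe : qm e = 0 := by
    rw [he, qm_add, quad_smul, hp.2, pb_smul_right, pb_comm e1 p, e1p]
    rcases two_cases (qm e1) with h | h <;> simp [h, CharTwo.add_self_eq_zero]
  let s : Fin 5 → V8 := ![p, e, p + e + u, p + e + v, p + e + u + v]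
  have sep : pb e p = 1 := (pb_comm _ _).trans ep
  have sup : pb u p = 0 := (pb_comm _ _).trans pu
  have svp : pb v p = 0 := (pb_comm _ _).trans pv
  have sue : pb u e = 0 := (pb_comm _ _).trans eu
  have sve : pb v e = 0 := (pb_comm _ _).trans ev
  have svu : pb v u = 1 := (pb_comm _ _).trans uv
  have S : Pent s := by
    refine ⟨fun i => ?_, fun i j hij => ?_, ?_⟩
    · fin_cases i <;> dsimp only [s] <;>
        simp only [Fin.mk_one, Fin.zero_eta, Fin.reduceFinMk, Matrix.cons_val, Matrix.cons_val_zero,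
          Matrix.cons_val_one, qm_add, hp.2, qe, qu, qv, pb_add_left, ep, eu, ev, pu, pv, uv] <;> decide
    · fin_cases i <;> fin_cases j <;>
        first
          | exact absurd rfl hij
          | (dsimp only [s]
             simp only [Fin.mk_one, Fin.zero_eta, Fin.reduceFinMk, Matrix.cons_val, Matrix.cons_val_zero,
               Matrix.cons_val_one, pb_add_left, pb_add_right, pb_self, ep, eu, ev, pu, pv, uv, sep, sup, svp,
               sue, sve, svu, add_zero, zero_add]
             try decide)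
    · funext k
      simp only [s, Matrix.cons_val, Matrix.cons_val_zero, Matrix.cons_val_one, Pi.add_apply, Pi.zero_apply]
      exact (by decide : ∀ a b c d : ZMod 2, a + b + (a + b + c) + (a + b + d) + (a + b + c + d) = 0) _ _ _ _
  have fs : ∀ i, s i ∈ fixV g := fun i => by
    fin_cases i
    exacts [fp, fe, add_mem (add_mem fp fe) fu, add_mem (add_mem fp fe) fv,
      add_mem (add_mem (add_mem fp fe) fu) fv]
  have fpc : ∀ c, pc s c ∈ fixV g := fun c =>
    add_mem (add_mem (add_mem (fsmul _ (fs 0)) (fsmul _ (fs 1))) (fsmul _ (fs 2))) (fsmul _ (fs 3))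
  have hall : ∀ x ∈ fixV g, ∃ c, x = pc s c := by
    intro x hx
    obtain ⟨α, β, γ, h⟩ := hspan (x + pb p x • e) (add_mem hx (fsmul _ fe))
      (by rw [pb_add_right, pb_smul_right, ep, mul_one, CharTwo.add_self_eq_zero])
    refine ⟨![α + β + γ, pb p x + β + γ, β, γ], ?_⟩
    have hx' : x = α • p + β • u + γ • v + pb p x • e := by
      rw [← h, add_assoc, add_self8, add_zero]
    refine hx'.trans (funext fun k => ?_)
    simp only [pc, s, Matrix.cons_val, Matrix.cons_val_zero, Matrix.cons_val_one, Pi.add_apply, Pi.smul_apply,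
      smul_eq_mul]
    exact (by decide : ∀ a b c d x y z δ : ZMod 2, x * a + y * c + z * d + δ * b =
      (x + y + z) * a + (δ + y + z) * b + y * (a + b + c) + z * (a + b + d)) (p k) (e k) (u k) (v k) α β γ (pb p x)
  have hcard : Nat.card (fixV g) = 16 := by
    have e' : Function.Bijective fun c : Fin 4 → ZMod 2 => (⟨pc s c, fpc c⟩ : fixV g) :=
      ⟨fun a b h => S.pc_inj (congrArg Subtype.val h), fun x => by
        obtain ⟨c, hc⟩ := hall x.1 x.2
        exact ⟨c, Subtype.ext hc.symm⟩⟩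
    rw [← Nat.card_eq_of_bijective _ e']
    simp
  have hk : Nat.card (orbSum g).ker = 16 := by
    have := card_fix_mul h5
    rw [hcard] at this
    omega
  obtain ⟨w, W, gw, wk⟩ := exists_orbit h5 hk
  refine ⟨s, w, ⟨S, W, fun i j => ?_⟩, fs, gw⟩
  rw [← orbSum_polar h5 (fs i), AddMonoidHom.mem_ker.1 (wk j), pb_zero_right]

/-- The frame in a fixed space of order sixteen of minus type. -/
theorem frame_of_fix {p : V8} (hp : Sing p) (fp : p ∈ fixV g) (h16 : Nat.card (fixV g) = 16)
    (hsing : ∀ x ∈ fixV g, pb p x = 0 → qm x = 0 → Pm p x) :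
    ∃ u v, u ∈ fixV g ∧ v ∈ fixV g ∧ pb p u = 0 ∧ pb p v = 0 ∧ qm u = 1 ∧ qm v = 1 ∧ pb u v = 1 ∧
      ∀ x ∈ fixV g, pb p x = 0 → Span3 p u v x := by
  classical
  obtain ⟨y, hy⟩ := fact_y hp
  set y0 := orbSum g y
  have py0 : pb p y0 = 1 := (orbSum_polar h5 fp y).trans hy
  have fy0 : y0 ∈ fixV g := orbSum_fix h5 y
  let F : AddSubgroup V8 :=
    { carrier := {x | x ∈ fixV g ∧ pb p x = 0}
      zero_mem' := ⟨zero_mem _, pb_zero_right _⟩
      add_mem' := fun {a b} ha hb => ⟨add_mem ha.1 hb.1, by rw [pb_add_right, ha.2, hb.2, add_zero]⟩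
      neg_mem' := fun {a} ha => by rwa [show -a = a from funext fun i => CharTwo.neg_eq _] }
  have hF : Nat.card F = 8 := by
    have e : fixV g ≃ F × ZMod 2 :=
      { toFun := fun x => (⟨(x : V8) + pb p x • y0, add_mem x.2 (by
            rcases two_cases (pb p x) with h | h <;> rw [h]
            · rw [zero_smul]; exact zero_mem _
            · rw [one_smul]; exact fy0), by
            rw [pb_add_right, pb_smul_right, py0, mul_one, CharTwo.add_self_eq_zero]⟩, pb p x)
        invFun := fun q => ⟨(q.1 : V8) + q.2 • y0, add_mem q.1.2.1 (by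
            rcases two_cases q.2 with h | h <;> rw [h]
            · rw [zero_smul]; exact zero_mem _
            · rw [one_smul]; exact fy0)⟩
        left_inv := fun x => Subtype.ext (by
          show (x : V8) + pb p x • y0 + pb p x • y0 = x
          rw [add_assoc, add_self8, add_zero])
        right_inv := fun ⟨q, c⟩ => by
          have hc : pb p ((q : V8) + c • y0) = c := by rw [pb_add_right, q.2.2, pb_smul_right, py0]; simp
          refine Prod.ext (Subtype.ext ?_) hc
          show (q : V8) + c • y0 + pb p ((q : V8) + c • y0) • y0 = q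
          rw [hc, add_assoc, add_self8, add_zero] }
    have := Nat.card_congr e
    rw [h16, Nat.card_prod, Nat.card_zmod] at this
    omega
  have hq : ∀ x ∈ F, x ≠ 0 → x ≠ p → qm x = 1 := fun x hx h0 h1 =>
    (two_cases _).resolve_left fun e => (hsing x hx.1 hx.2 e).elim h0 h1
  obtain ⟨u, hu, nu⟩ := exists_not_mem_of_card (F : Set V8) {0, p}
    (lt_of_le_of_lt Finset.card_le_two (by show 2 < Nat.card F; omega))
  obtain ⟨v, hv, nv⟩ := exists_not_mem_of_card (F : Set V8) {0, p, u, u + p}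
    (lt_of_le_of_lt Finset.card_le_four (by show 4 < Nat.card F; omega))
  simp only [Finset.mem_singleton, Finset.mem_insert, not_or] at nu nv
  have qu := hq u hu nu.1 nu.2
  have qv := hq v hv nv.1 nv.2.1
  have uv : pb u v = 1 := by
    have h := hq (u + v) (add_mem hu hv) (fun e => nv.2.2.1 (CharTwo.add_eq_zero.1 (funext fun i => congrFun e i)).symm)
      fun e => nv.2.2.2 (by rw [← e, add_cancel8])
    rw [qm_add, qu, qv] at h
    exact (by decide : ∀ a : ZMod 2, 1 + 1 + a = 1 → a = 1) _ h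
  refine ⟨u, v, hu.1, hv.1, hu.2, hv.2, qu, qv, uv, fun x hx hx' => ?_⟩
  have hm : ∀ c : ZMod 2 × ZMod 2 × ZMod 2, c.1 • p + c.2.1 • u + c.2.2 • v ∈ F := by
    rintro ⟨α, β, γ⟩
    have hs : ∀ (c : ZMod 2) {a : V8}, a ∈ F → c • a ∈ F := fun c a ha => by
      rcases two_cases c with rfl | rfl
      · rw [zero_smul]; exact zero_mem _
      · rwa [one_smul]
    exact add_mem (add_mem (hs _ (⟨fp, pb_self p⟩ : p ∈ F)) (hs _ hu)) (hs _ hv)
  have hb : Function.Bijective fun c => (⟨_, hm c⟩ : F) := by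
    refine (Nat.bijective_iff_injective_and_card _).2 ⟨?_, by rw [hF]; simp⟩
    rintro ⟨α, β, γ⟩ ⟨α', β', γ'⟩ h
    have h := congrArg Subtype.val h
    dsimp only at h
    have e1 := congrArg (pb u) h
    have e2 := congrArg (pb v) h
    simp only [pb_add_right, pb_smul_right, pb_self, pb_comm u p, pb_comm v p, hu.2, hv.2, uv, pb_comm v u,
      mul_zero, mul_one, add_zero, zero_add] at e1 e2
    subst e1 e2
    rw [smul_p_inj hp (add_right_cancel (add_right_cancel h))]
  obtain ⟨⟨α, β, γ⟩, hc⟩ := hb.2 ⟨x, hx, hx'⟩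
  exact ⟨α, β, γ, (congrArg Subtype.val hc).symm⟩

end five

theorem Five.pow_five {g : qAut qm} (h : Five g) : g ^ 5 = 1 := by
  obtain ⟨s, w, H, hs, hw⟩ := h
  refine H.ext (fun i => ?_) fun i => ?_
  · simp only [pow_succ, pow_zero, one_mul, qAut_mul_apply, hs]; rfl
  · simp only [pow_succ, pow_zero, one_mul, qAut_mul_apply, hw, add_assoc]
    rw [show (1 : Fin 5) + (1 + (1 + (1 + 1))) = 0 from rfl, add_zero]; rfl

namespace Split

variable {s w : Fin 5 → V8} (H : Split s w) {g : qAut qm} (gs : ∀ i, g.1 (s i) = s i)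
  (gw : ∀ i : Fin 5, g.1 (w i) = w (i + 1))

include H gs gw

/-- The fixed space. -/
theorem fix_iff {x : V8} : g.1 x = x ↔ ∃ c, x = pc s c := by
  refine ⟨fun hx => ?_, fun ⟨c, hc⟩ => by rw [hc, pc_map]; simp only [gs]⟩
  obtain ⟨c, d, rfl⟩ := H.span x
  refine ⟨c, ?_⟩
  rw [map_add, pc_map, pc_map] at hx
  simp only [gs] at hx
  have e : pc (fun i => g.1 (w i)) d = pc w (fun i : Fin 4 =>
      if i = 0 then d 3 else if i = 1 then d 0 + d 3 else if i = 2 then d 1 + d 3 else d 2 + d 3) := by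
    simp only [gw]
    funext k
    simp [pc, H.W.last]
    ring
  rw [e] at hx
  rw [shift_fixed d (H.comb_inj hx).2, pc_zero, add_zero]

theorem pow_w (n : ℕ) (i : Fin 5) : (g ^ n).1 (w i) = w (i + (n : Fin 5)) := by
  induction n with
  | zero => simp only [pow_zero, Nat.cast_zero, add_zero]; rfl
  | succ n ih => rw [pow_succ', qAut_mul_apply, ih, gw, Nat.cast_succ, add_assoc]

theorem pow_s (n : ℕ) (i : Fin 5) : (g ^ n).1 (s i) = s i := by
  induction n with
  | zero => simp only [pow_zero]; rfl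
  | succ n ih => rw [pow_succ', qAut_mul_apply, ih, gs]

theorem fixer_comm {k : qAut qm} (hk : k ∈ fixer w) : k * g = g * k := by
  obtain ⟨σ, hσ⟩ := H.exists_image (k := k) fun i j => by rw [← hk.2 j, pb_map, H.orth]
  exact H.ext (fun i => by rw [qAut_mul_apply, qAut_mul_apply, gs, hσ, gs])
    fun i => by rw [qAut_mul_apply, qAut_mul_apply, gw, hk.2, hk.2, gw]

/-- The centralizer. -/
theorem cent_cases {k : qAut qm} (hk : k ∈ Ev) (hc : k * g = g * k) :
    ∃ i : Fin 5, (g ^ (i : ℕ))⁻¹ * k ∈ fixer w := by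
  have hc' : ∀ x, k.1 (g.1 x) = g.1 (k.1 x) := fun x => by rw [← qAut_mul_apply, hc, qAut_mul_apply]
  obtain ⟨τ, hτ⟩ := H.symm.exists_image (k := k) fun i j => by
    obtain ⟨y, hy⟩ := k.1.surjective (s j)
    obtain ⟨c, hyc⟩ := (H.fix_iff gs gw).1 (k.1.injective (by rw [hc', hy, gs] : k.1 (g.1 y) = k.1 y))
    rw [← hy, pb_map, hyc, pb_comm]
    exact by simp [pc, pb_add_left, pb_smul_left, H.orth]
  have hstep : ∀ i, τ (i + 1) = τ i + 1 := fun i => H.W.inj (by rw [← hτ, ← gw, hc', hτ, gw])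
  have hall : ∀ i, τ i = i + τ 0 := fun i => by
    have h1 : τ 1 = 1 + τ 0 := by rw [← zero_add (1 : Fin 5), hstep, zero_add, add_comm]
    have h2 : τ 2 = 2 + τ 0 := by rw [show (2 : Fin 5) = 1 + 1 from rfl, hstep, h1, add_right_comm]
    have h3 : τ 3 = 3 + τ 0 := by rw [show (3 : Fin 5) = 2 + 1 from rfl, hstep, h2, add_right_comm]
    have h4 : τ 4 = 4 + τ 0 := by rw [show (4 : Fin 5) = 3 + 1 from rfl, hstep, h3, add_right_comm]
    fin_cases i
    exacts [(zero_add _).symm, h1, h2, h3, h4]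
  have hg : g ∈ Ev := five_mem_ev (Five.pow_five ⟨s, w, H, gs, gw⟩)
  refine ⟨τ 0, mul_mem (inv_mem (pow_mem hg _)) hk, fun i => (g ^ ((τ 0 : Fin 5) : ℕ)).1.injective ?_⟩
  rw [← qAut_mul_apply, ← mul_assoc, mul_inv_cancel, one_mul, hτ, H.pow_w gs gw, Fin.cast_val_eq_self, hall]

theorem fixer_pow {n : ℕ} (h : g ^ n ∈ fixer w) : g ^ n = 1 := by
  refine H.ext (fun i => ?_) fun i => by rw [h.2]; rfl
  rw [H.pow_s gs gw]; rfl

end Split

/-- Any two are conjugate in the index two subgroup. -/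
theorem five_conj {g g' : qAut qm} (h : Five g) (h' : Five g') : ∃ k ∈ Ev, k * g = g' * k := by
  obtain ⟨s, w, H, gs, gw⟩ := h
  obtain ⟨s', w', H', gs', gw'⟩ := h'
  obtain ⟨k, ks, kw⟩ := H.exists_iso H'
  have hk : k * g = g' * k := H.ext (fun i => by rw [qAut_mul_apply, qAut_mul_apply, gs, ks, gs'])
    fun i => by rw [qAut_mul_apply, qAut_mul_apply, gw, kw, kw, gw']
  by_cases hev : k ∈ Ev
  · exact ⟨k, hev, hk⟩
  have hd : qm (s 0 + s 1) = 1 := H.S.diff (by decide)
  refine ⟨k * rf _ hd, (Subgroup.mul_mem_iff_of_index_two index_ev).2 (iff_of_false hev (rf_not_mem hd)), ?_⟩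
  have hc : rf _ hd * g = g * rf _ hd := by
    refine qAut_ext fun x => ?_
    have hfix : g.1 (s 0 + s 1) = s 0 + s 1 := by rw [map_add, gs, gs]
    have hp : pb (g.1 x) (s 0 + s 1) = pb x (s 0 + s 1) := by conv_lhs => rw [← hfix, pb_map]
    rw [qAut_mul_apply, qAut_mul_apply, rf_apply, rf_apply, map_add, map_smul, hfix, hp]
  rw [mul_assoc, hc, ← mul_assoc, hk, mul_assoc]

end CfsgLib.CoType
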