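import Mathlib
import Cfsg.Agent.Lib.CoType.FiveElt
import Cfsg.Agent.Lib.CoType.Setup
import Cfsg.Agent.Lib.HJType.Basics

/-!
An element of order five of the centralizer of an involution: lifting centralizers through the extraspecial group.
-/

set_option autoImplicit false
set_option linter.style.haveILetI false
set_option linter.unusedSectionVars false

namespace CfsgLib.CoType

open Subgroup CfsgLib.Classical
open Fin.NatCast
open Split (fixer)

variable {G : Type*} [Group G] [Finite G]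

/-- The fixed part. -/
def cQ (Q : Subgroup G) (b : G) : Subgroup G := Q ⊓ centralizer ({b} : Set G)

/-- The moved part. -/
def cP (Q : Subgroup G) (b : G) : Subgroup G := Q ⊓ centralizer (cQ Q b : Set G)

/-- The centralizer of the fixed part. -/
def XX (z : G) (Q : Subgroup G) (b : G) : Subgroup G := centralizer ({z} : Set G) ⊓ centralizer (cQ Q b : Set G)

/-- The centralizer of the moved part in the centralizer of `b`. -/
def LL (z : G) (Q : Subgroup G) (b : G) : Subgroup G :=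
  centralizer ({z} : Set G) ⊓ centralizer ({b} : Set G) ⊓ centralizer (cP Q b : Set G)

namespace Setup

variable {z : G} {Q : Subgroup G} {π : G → V8} {ρ : G → qAut qm} (S : Setup z Q π ρ) {b : G}
  (hbz : b ∈ centralizer ({z} : Set G)) (hb5 : b ^ 5 = 1)

include S

theorem rho_pow {c : G} (hc : c ∈ centralizer ({z} : Set G)) (n : ℕ) : ρ (c ^ n) = ρ c ^ n := by
  induction n with
  | zero => rw [pow_zero, pow_zero, S.rho_one]
  | succ n ih => rw [pow_succ, pow_succ, S.rho_mul _ (pow_mem hc n) c hc, ih]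

theorem pi_conj_fix {c a : G} (hc : c ∈ centralizer ({z} : Set G)) (ha : a ∈ Q) (h : c * a = a * c) :
    (ρ c).1 (π a) = π a := by
  rw [← S.rho_pi c hc a ha, h, mul_inv_cancel_right]

include hbz hb5

theorem rho_five : ρ b ^ 5 = 1 := by rw [← S.rho_pow hbz, hb5, S.rho_one]

theorem fix_comm {a : G} (ha : a ∈ Q) (h : (ρ b).1 (π a) = π a) : b * a = a * b := by
  rw [← S.rho_pi b hbz a ha] at h
  rcases S.pi_eq ha (S.conj_mem hbz ha) h.symm with e | e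
  · exact mul_inv_eq_iff_eq_mul.1 e
  exfalso
  have hb : b * z = z * b := mem_centralizer_singleton_iff.1 hbz
  have step : ∀ y : G, b * (z * y) * b⁻¹ = z * (b * y * b⁻¹) := fun y => by
    rw [← mul_assoc, hb]; group
  have h5 : b ^ 5 * a * (b ^ 5)⁻¹ = b * (b * (b * (b * (b * a * b⁻¹) * b⁻¹) * b⁻¹) * b⁻¹) * b⁻¹ := by
    simp only [pow_succ, pow_zero]; group
  have h6 : a = z * a := by
    simp only [e, step] at h5
    rw [hb5] at h5
    simp only [one_mul, inv_one, mul_one, ← mul_assoc, S.z2] at h5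
    exact h5
  exact S.z1 (right_eq_mul.1 h6).symm.symm

theorem mem_cQ_iff {a : G} (ha : a ∈ Q) : a ∈ cQ Q b ↔ (ρ b).1 (π a) = π a :=
  ⟨fun h => S.pi_conj_fix hbz ha (mem_centralizer_singleton_iff.1 h.2).symm,
    fun h => ⟨ha, mem_centralizer_singleton_iff.2 (S.fix_comm hbz hb5 ha h).symm⟩⟩

theorem z_mem_cQ : z ∈ cQ Q b := (S.mem_cQ_iff hbz hb5 S.zQ).2 (by rw [S.pi_z, map_zero])

theorem card_cQ : Nat.card (cQ Q b) = 2 * Nat.card (fixV (ρ b)) := by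
  classical
  have hlift : ∀ v : fixV (ρ b), ∃ a : cQ Q b, π (a : G) = v := fun v => by
    obtain ⟨a, ha, e⟩ := S.pi_surj v.1
    exact ⟨⟨a, (S.mem_cQ_iff hbz hb5 ha).2 (by rw [e]; exact v.2)⟩, e⟩
  choose r hr using hlift
  have hbij : Function.Bijective fun p : ZMod 2 × fixV (ρ b) =>
      (⟨zb z p.1 * (r p.2 : G), mul_mem (by
        rcases two_cases p.1 with e | e <;> rw [e]
        · rw [zb_zero]; exact one_mem _
        · rw [zb_one]; exact S.z_mem_cQ hbz hb5) (r p.2).2⟩ : cQ Q b) := by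
    constructor
    · rintro ⟨c, v⟩ ⟨c', v'⟩ h
      have h := congrArg Subtype.val h
      dsimp only at h
      have hv : v = v' := by
        have hp : ∀ (c : ZMod 2) (v : fixV (ρ b)), π (zb z c * (r v : G)) = v := fun c v => by
          rcases two_cases c with rfl | rfl
          · rw [zb_zero, one_mul, hr]
          · rw [zb_one, S.pi_zmul (r v).2.1, hr]
        exact Subtype.ext (by rw [← hp c v, h, hp])
      subst hv
      refine Prod.ext ?_ rfl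
      have h := mul_right_cancel h
      rcases two_cases c with rfl | rfl <;> rcases two_cases c' with rfl | rfl <;>
        simp only [zb_zero, zb_one] at h ⊢
      · exact absurd h.symm S.z1
      · exact absurd h S.z1
    · intro a
      have hv : π (a : G) ∈ fixV (ρ b) := (S.mem_cQ_iff hbz hb5 a.2.1).1 a.2
      rcases S.pi_eq (r ⟨_, hv⟩).2.1 a.2.1 (hr ⟨_, hv⟩) with e | e
      · exact ⟨(0, ⟨_, hv⟩), Subtype.ext (by simp only [zb_zero, one_mul]; exact e.symm)⟩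
      · exact ⟨(1, ⟨_, hv⟩), Subtype.ext (by simp only [zb_one]; exact e.symm)⟩
  rw [← Nat.card_eq_of_bijective _ hbij, Nat.card_prod, Nat.card_zmod]

theorem not_mem_Q (hb1 : b ≠ 1) : b ∉ Q := fun h => hb1 (by
  have h2 := orderOf_dvd_of_pow_eq_one hb5
  have h3 := Subgroup.orderOf_dvd_natCard Q h
  rw [S.card] at h3
  exact orderOf_eq_one_iff.1 (Nat.eq_one_of_dvd_coprimes (by norm_num) h2 h3))

theorem rho_ne (hb1 : b ≠ 1) : ρ b ≠ 1 := fun h => S.not_mem_Q hbz hb5 hb1 ((S.rho_ker b hbz).1 h)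

theorem pow_eq_of_rho {n : ℕ} (hb1 : b ≠ 1) (h : ρ b ^ n = ρ b) : b ^ n = b := by
  haveI : Fact (Nat.Prime 5) := ⟨by norm_num⟩
  have h5 : orderOf (ρ b) = 5 := orderOf_eq_prime (S.rho_five hbz hb5) (S.rho_ne hbz hb5 hb1)
  have h5' : orderOf b = 5 := orderOf_eq_prime hb5 hb1
  conv_rhs => rw [← pow_one b]
  rw [pow_eq_pow_iff_modEq, h5']
  rw [← pow_one (ρ b), ← pow_mul, one_mul, pow_eq_pow_iff_modEq, h5] at h
  exact h

/-- Elements of order five over the same element are conjugate. -/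
theorem conj_lift (hb1 : b ≠ 1) {a : G} (ha : a ∈ centralizer ({z} : Set G)) (ha5 : a ^ 5 = 1)
    (h : ρ a = ρ b) :
    ∃ c ∈ centralizer ({z} : Set G), ρ c ∈ zpowers (ρ b) ∧ c * a * c⁻¹ = b := by
  haveI : Fact (Nat.Prime 5) := ⟨by norm_num⟩
  let M : Subgroup G :=
    { carrier := {c | c ∈ centralizer ({z} : Set G) ∧ ρ c ∈ zpowers (ρ b)}
      one_mem' := ⟨one_mem _, by rw [S.rho_one]; exact one_mem _⟩
      mul_mem' := fun {x y} hx hy => ⟨mul_mem hx.1 hy.1, by rw [S.rho_mul x hx.1 y hy.1]; exact mul_mem hx.2 hy.2⟩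
      inv_mem' := fun {x} hx => ⟨inv_mem hx.1, by rw [S.rho_inv hx.1]; exact inv_mem hx.2⟩ }
  let ψ : M →* qAut qm := MonoidHom.mk' (fun c => ρ (c : G)) fun x y => S.rho_mul x x.2.1 y y.2.1
  have hM : Nat.card M ∣ 512 * 5 := by
    have hk : Nat.card ψ.ker ∣ 512 := by
      rw [← S.card]
      have : ψ.ker.map M.subtype ≤ Q := by
        rintro _ ⟨c, hc, rfl⟩
        exact (S.rho_ker _ c.2.1).1 hc
      rw [← card_map_of_injective M.subtype_injective]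
      exact card_dvd_of_le this
    have hr : Nat.card ψ.range ∣ 5 := by
      rw [← orderOf_eq_prime (S.rho_five hbz hb5) (S.rho_ne hbz hb5 hb1), ← Nat.card_zpowers]
      exact card_dvd_of_le (by rintro _ ⟨c, rfl⟩; exact c.2.2)
    rw [← card_mul_index ψ.ker, index_ker]
    exact mul_dvd_mul hk hr
  have hbM : zpowers b ≤ M := zpowers_le.2 ⟨hbz, mem_zpowers _⟩
  have haM : zpowers a ≤ M := zpowers_le.2 ⟨ha, h ▸ mem_zpowers _⟩
  have ha1 : a ≠ 1 := fun e => S.rho_ne hbz hb5 hb1 (by rw [← h, e, S.rho_one])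
  obtain ⟨c, hc, hcon⟩ := HJType.exists_conj_eq (p := 5) (n := 1) hbM
    (by rw [Nat.card_zpowers, orderOf_eq_prime hb5 hb1]; norm_num)
    (fun hd => by have := hd.trans hM; norm_num at this) haM
    (by rw [Nat.card_zpowers, orderOf_eq_prime ha5 ha1]; norm_num)
  refine ⟨c, hc.1, hc.2, ?_⟩
  haveI : Finite G := inferInstance
  obtain ⟨n, hn⟩ := (Submonoid.mem_powers_iff _ _).1 <|
    mem_powers_iff_mem_zpowers.2 ((hcon a).2 (mem_zpowers a))
  rw [← hn]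
  refine S.pow_eq_of_rho hbz hb5 hb1 ?_
  rw [← S.rho_pow hbz, hn, S.rho_mul _ (mul_mem hc.1 ha) _ (inv_mem hc.1), S.rho_mul c hc.1 a ha, S.rho_inv hc.1, h]
  obtain ⟨k, hk⟩ := hc.2
  rw [← hk]
  show ρ b ^ k * ρ b * (ρ b ^ k)⁻¹ = ρ b
  group

/-- The centralizer of the image lifts. -/
theorem exists_cent_lift (hb1 : b ≠ 1) {k : qAut qm} (hk : k ∈ Ev) (hc : k * ρ b = ρ b * k) :
    ∃ c ∈ centralizer ({z} : Set G), c * b = b * c ∧ ρ c = k := by
  obtain ⟨c, hcz, rfl⟩ := (S.rho_range k).1 hk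
  have ha : c * b * c⁻¹ ∈ centralizer ({z} : Set G) := mul_mem (mul_mem hcz hbz) (inv_mem hcz)
  obtain ⟨m, hm, ⟨j, hj⟩, hmb⟩ := S.conj_lift hbz hb5 hb1 ha (by rw [conj_pow, hb5, mul_one, mul_inv_cancel])
    (by rw [S.rho_mul _ (mul_mem hcz hbz) _ (inv_mem hcz), S.rho_mul c hcz b hbz, S.rho_inv hcz, hc,
      mul_inv_cancel_right])
  haveI := finite_qAut qm
  obtain ⟨n, hn⟩ := (Submonoid.mem_powers_iff _ _).1 <| mem_powers_iff_mem_zpowers.2
    (show ρ m ∈ zpowers (ρ b) from ⟨j, hj⟩)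
  refine ⟨(b ^ n)⁻¹ * m * c, mul_mem (mul_mem (inv_mem (pow_mem hbz n)) hm) hcz, ?_, ?_⟩
  · have e : m * c * b = b * (m * c) := by
      conv_rhs => rw [← hmb]
      group
    calc (b ^ n)⁻¹ * m * c * b = (b ^ n)⁻¹ * (m * c * b) := by group
      _ = b * ((b ^ n)⁻¹ * m * c) := by rw [e]; group
  · rw [S.rho_mul _ (mul_mem (inv_mem (pow_mem hbz n)) hm) c hcz, S.rho_mul _ (inv_mem (pow_mem hbz n)) m hm,
      S.rho_inv (pow_mem hbz n), S.rho_pow hbz, ← hn, inv_mul_cancel, one_mul]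

end Setup

/-- An element of order five with its frame. -/
structure FiveData (z : G) (Q : Subgroup G) (π : G → V8) (ρ : G → qAut qm) (b : G) (s w : Fin 5 → V8) : Prop where
  S : Setup z Q π ρ
  hbz : b ∈ centralizer ({z} : Set G)
  hb5 : b ^ 5 = 1
  hb1 : b ≠ 1
  H : Split s w
  gs : ∀ i, (ρ b).1 (s i) = s i
  gw : ∀ i : Fin 5, (ρ b).1 (w i) = w (i + 1)

namespace FiveData

variable {z : G} {Q : Subgroup G} {π : G → V8} {ρ : G → qAut qm} {b : G} {s w : Fin 5 → V8}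
  (D : FiveData z Q π ρ b s w)

include D

theorem card_cQ : Nat.card (cQ Q b) = 32 := by
  rw [D.S.card_cQ D.hbz D.hb5]
  have hmem : ∀ c, pc s c ∈ fixV (ρ b) := fun c => (D.H.fix_iff D.gs D.gw).2 ⟨c, rfl⟩
  have e : Function.Bijective fun c : Fin 4 → ZMod 2 => (⟨pc s c, hmem c⟩ : fixV (ρ b)) :=
    ⟨fun a b h => D.H.S.pc_inj (congrArg Subtype.val h), fun x => by
      obtain ⟨c, hc⟩ := (D.H.fix_iff D.gs D.gw).1 x.2
      exact ⟨c, Subtype.ext hc.symm⟩⟩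
  rw [← Nat.card_eq_of_bijective _ e]
  simp

theorem pi_cQ {a : G} (ha : a ∈ cQ Q b) : ∃ c, π a = pc s c :=
  (D.H.fix_iff D.gs D.gw).1 ((D.S.mem_cQ_iff D.hbz D.hb5 ha.1).1 ha)

theorem mem_cQ {a : G} (ha : a ∈ Q) {c : Fin 4 → ZMod 2} (h : π a = pc s c) : a ∈ cQ Q b :=
  (D.S.mem_cQ_iff D.hbz D.hb5 ha).2 ((D.H.fix_iff D.gs D.gw).2 ⟨c, h⟩)

theorem pi_cP {a : G} (ha : a ∈ cP Q b) : ∃ d, π a = pc w d := by
  refine D.H.mem_right fun i => ?_
  obtain ⟨q, hq, e⟩ := D.S.pi_surj (s i)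
  rw [← e]
  exact (D.S.commute_iff hq ha.1).1
    (mem_centralizer_iff.1 ha.2 q (D.mem_cQ hq (e.trans (D.H.S.pc_pu i).symm)))

theorem mem_cP {a : G} (ha : a ∈ Q) {d : Fin 4 → ZMod 2} (h : π a = pc w d) : a ∈ cP Q b := by
  refine ⟨ha, mem_centralizer_iff.2 fun q hq => ?_⟩
  obtain ⟨c, hc⟩ := D.pi_cQ hq
  rw [D.S.commute_iff hq.1 ha, hc, h, D.H.orth_pc2]

theorem pi_mem_span {a : G} (ha : a ∈ Q) (h1 : ∀ q ∈ cQ Q b, q * a = a * q) (h2 : ∀ q ∈ cP Q b, q * a = a * q) :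
    a = 1 ∨ a = z := by
  refine (D.S.pi_ker a ha).1 (pb_nondeg fun v => ?_)
  obtain ⟨c, d, rfl⟩ := D.H.span v
  obtain ⟨q, hq, e⟩ := D.S.pi_surj (pc s c)
  obtain ⟨q', hq', e'⟩ := D.S.pi_surj (pc w d)
  rw [pb_add_right, ← e, ← e', (D.S.commute_iff ha hq).1 (h1 q (D.mem_cQ hq e)).symm,
    (D.S.commute_iff ha hq').1 (h2 q' (D.mem_cP hq' e')).symm, add_zero]

theorem rho_XX {c : G} (hc : c ∈ XX z Q b) : ρ c ∈ fixer s :=
  ⟨D.S.rho_mem hc.1, fun i => by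
    obtain ⟨q, hq, e⟩ := D.S.pi_surj (s i)
    rw [← e]
    exact D.S.pi_conj_fix hc.1 hq
      (mem_centralizer_iff.1 hc.2 q (D.mem_cQ hq (e.trans (D.H.S.pc_pu i).symm))).symm⟩

theorem rho_LL {c : G} (hc : c ∈ LL z Q b) : ρ c ∈ fixer w :=
  ⟨D.S.rho_mem hc.1.1, fun i => by
    obtain ⟨q, hq, e⟩ := D.S.pi_surj (w i)
    rw [← e]
    exact D.S.pi_conj_fix hc.1.1 hq
      (mem_centralizer_iff.1 hc.2 q (D.mem_cP hq (e.trans (D.H.W.pc_pu i).symm))).symm⟩

theorem orbit_w (d : Fin 4 → ZMod 2) :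
    orbSum (ρ b) (pc w d) = 0 := by
  have h5 := D.S.rho_five D.hbz D.hb5
  have hw : ∀ i, orbSum (ρ b) (w i) = 0 := fun i => by
    show w i + (ρ b).1 (w i) + (ρ b).1 ((ρ b).1 (w i)) + (ρ b).1 ((ρ b).1 ((ρ b).1 (w i))) +
      (ρ b).1 ((ρ b).1 ((ρ b).1 ((ρ b).1 (w i)))) = 0
    simp only [D.gw]
    rw [← D.H.W.sum]
    fin_cases i <;> simp only [Fin.zero_eta, Fin.mk_one, Fin.reduceFinMk, Fin.reduceAdd] <;> abel
  have hs : ∀ (c : ZMod 2) x, orbSum (ρ b) x = 0 → orbSum (ρ b) (c • x) = 0 := fun c x hx => by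
    rcases two_cases c with rfl | rfl
    · rw [zero_smul, map_zero]
    · rwa [one_smul]
  simp only [pc, map_add, hs _ _ (hw _), add_zero]

theorem mem_LL {c : G} (hc : c ∈ centralizer ({z} : Set G)) (hcb : c * b = b * c) (h : ρ c ∈ fixer w) :
    c ∈ LL z Q b := by
  refine ⟨⟨hc, mem_centralizer_singleton_iff.2 hcb⟩, mem_centralizer_iff.2 fun q hq => ?_⟩
  have hdz : ∀ q, q ∈ cP Q b → c * q * c⁻¹ * q⁻¹ = 1 ∨ c * q * c⁻¹ * q⁻¹ = z := fun q hq => by
    obtain ⟨d, hd⟩ := D.pi_cP hq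
    refine (D.S.pi_ker _ (mul_mem (D.S.conj_mem hc hq.1) (inv_mem hq.1))).1 ?_
    rw [D.S.pi_mul _ (D.S.conj_mem hc hq.1) _ (inv_mem hq.1), D.S.pi_inv hq.1, D.S.rho_pi c hc q hq.1, hd, pc_map]
    simp only [h.2]
    exact add_self8 _
  set δ : G → G := fun q => c * q * c⁻¹ * q⁻¹ with hδ
  have hzc : ∀ {a}, a ∈ centralizer ({z} : Set G) → a * z = z * a := fun ha => mem_centralizer_singleton_iff.1 ha
  have hzd : ∀ q ∈ cP Q b, ∀ r, r ∈ centralizer ({z} : Set G) → δ q * r = r * δ q := fun q hq r hr => by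
    rcases hdz q hq with e | e <;> rw [hδ] <;> simp only [e]
    · rw [one_mul, mul_one]
    · exact (hzc hr).symm
  have hmul : ∀ q ∈ cP Q b, ∀ r ∈ cP Q b, δ (q * r) = δ q * δ r := fun q hq r hr => by
    calc δ (q * r) = c * q * c⁻¹ * δ r * q⁻¹ := by simp only [hδ]; group
      _ = c * q * c⁻¹ * (δ r * q⁻¹) := by group
      _ = c * q * c⁻¹ * (q⁻¹ * δ r) := by rw [hzd r hr _ (inv_mem (D.S.le hq.1))]
      _ = δ q * δ r := by simp only [hδ]; group
  have hP : ∀ q ∈ cP Q b, b * q * b⁻¹ ∈ cP Q b := fun q hq => by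
    obtain ⟨d, hd⟩ := D.pi_cP hq
    have hq' := D.S.conj_mem D.hbz hq.1
    refine ⟨hq', mem_centralizer_iff.2 fun r hr => ?_⟩
    have e : r * b = b * r := mem_centralizer_singleton_iff.1 hr.2
    have e' : r * q = q * r := mem_centralizer_iff.1 hq.2 r hr
    exact ((Commute.mul_right e e').mul_right (Commute.inv_right e)).eq
  have hinv : ∀ q ∈ cP Q b, δ (b * q * b⁻¹) = δ q := fun q hq => by
    have hcb' : Commute c b := hcb
    calc δ (b * q * b⁻¹) = (c * b) * q * (c * b)⁻¹ * (b * q * b⁻¹)⁻¹ := by simp only [hδ]; group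
      _ = (b * c) * q * (b * c)⁻¹ * (b * q * b⁻¹)⁻¹ := by rw [hcb]
      _ = b * δ q * b⁻¹ := by simp only [hδ]; group
      _ = δ q := by rw [← hzd q hq b D.hbz, mul_inv_cancel_right]
  have h1 := hP q hq
  have h2 := hP _ h1
  have h3 := hP _ h2
  have h4 := hP _ h3
  have hr : δ (q * (b * q * b⁻¹) * (b * (b * q * b⁻¹) * b⁻¹) * (b * (b * (b * q * b⁻¹) * b⁻¹) * b⁻¹) *
      (b * (b * (b * (b * q * b⁻¹) * b⁻¹) * b⁻¹) * b⁻¹)) = δ q := by
    rw [hmul _ (mul_mem (mul_mem (mul_mem hq h1) h2) h3) _ h4, hmul _ (mul_mem (mul_mem hq h1) h2) _ h3,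
      hmul _ (mul_mem hq h1) _ h2, hmul _ hq _ h1, hinv _ h3, hinv _ h2, hinv _ h1, hinv _ hq]
    rcases hdz q hq with e | e <;> simp only [hδ, e]
    · simp
    · simp only [mul_assoc, D.S.z2, mul_one, one_mul]
  have hpi : π (q * (b * q * b⁻¹) * (b * (b * q * b⁻¹) * b⁻¹) * (b * (b * (b * q * b⁻¹) * b⁻¹) * b⁻¹) *
      (b * (b * (b * (b * q * b⁻¹) * b⁻¹) * b⁻¹) * b⁻¹)) = 0 := by
    obtain ⟨d, hd⟩ := D.pi_cP hq
    rw [D.S.pi_mul _ (mul_mem (mul_mem (mul_mem hq h1) h2) h3).1 _ h4.1,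
      D.S.pi_mul _ (mul_mem (mul_mem hq h1) h2).1 _ h3.1, D.S.pi_mul _ (mul_mem hq h1).1 _ h2.1,
      D.S.pi_mul _ hq.1 _ h1.1, D.S.rho_pi b D.hbz _ h3.1, D.S.rho_pi b D.hbz _ h2.1, D.S.rho_pi b D.hbz _ h1.1,
      D.S.rho_pi b D.hbz _ hq.1, hd]
    exact D.orbit_w d
  have hone : δ q = 1 := by
    rw [← hr]
    rcases (D.S.pi_ker _ (mul_mem (mul_mem (mul_mem (mul_mem hq h1) h2) h3) h4).1).1 hpi with e | e <;>
      rw [e]
    · simp only [hδ]; group
    · simp only [hδ]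
      rw [hzc hc, mul_inv_cancel_right, mul_inv_cancel]
  exact (mul_inv_eq_iff_eq_mul.1 (mul_inv_eq_one.1 hone)).symm

theorem LL_le : LL z Q b ≤ centralizer ({z} : Set G) := inf_le_left.trans inf_le_left

theorem XX_le : XX z Q b ≤ centralizer ({z} : Set G) := inf_le_left

theorem exists_LL {k : qAut qm} (hk : k ∈ fixer w) : ∃ c ∈ LL z Q b, ρ c = k := by
  obtain ⟨c, hc, hcb, rfl⟩ := D.S.exists_cent_lift D.hbz D.hb5 D.hb1 hk.1 (D.H.fixer_comm D.gs D.gw hk)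
  exact ⟨c, D.mem_LL hc hcb hk, rfl⟩

theorem ker_LL {c : G} : c ∈ LL z Q b ∧ ρ c = 1 ↔ c ∈ cQ Q b := by
  constructor
  · rintro ⟨hc, h⟩
    exact ⟨(D.S.rho_ker c hc.1.1).1 h, hc.1.2⟩
  · intro hc
    exact ⟨⟨⟨D.S.le hc.1, hc.2⟩, mem_centralizer_iff.2 fun q hq => (mem_centralizer_iff.1 hq.2 c hc).symm⟩,
      D.S.rho_Q hc.1⟩

theorem exists_XX {k : qAut qm} (hk : k ∈ fixer s) : ∃ c ∈ XX z Q b, ρ c = k := by
  classical
  obtain ⟨c, hc, rfl⟩ := (D.S.rho_range k).1 hk.1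
  have hlift : ∀ j : Fin 4, ∃ a ∈ Q, π a = s j.castSucc := fun j => D.S.pi_surj _
  choose a ha hπ using hlift
  have hcz : ∀ j, c * a j * c⁻¹ = a j ∨ c * a j * c⁻¹ = z * a j := fun j =>
    D.S.pi_eq (ha j) (D.S.conj_mem hc (ha j)) ((D.S.rho_pi c hc _ (ha j)).trans (by rw [hπ, hk.2])).symm
  obtain ⟨cc, hcc⟩ := pl_surj fun j => if c * a j * c⁻¹ = a j then 0 else 1
  obtain ⟨q, hq, hqπ⟩ := D.S.pi_surj (pc s cc)
  have hgen : ∀ j, q * c * a j * (q * c)⁻¹ = a j := fun j => by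
    have e := D.S.comm hq (ha j)
    rw [hqπ, hπ, D.H.S.pb_pc, hcc] at e
    rcases hcz j with h | h
    · rw [if_pos h, zb_zero, one_mul] at e
      calc q * c * a j * (q * c)⁻¹ = q * (c * a j * c⁻¹) * q⁻¹ := by group
        _ = a j := by rw [h, e, mul_inv_cancel_right]
    · have hne : c * a j * c⁻¹ ≠ a j := by rw [h]; exact fun h' => D.S.z1 (mul_eq_right.1 h')
      rw [if_neg hne, zb_one] at e
      calc q * c * a j * (q * c)⁻¹ = q * (c * a j * c⁻¹) * q⁻¹ := by group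
        _ = z * (q * a j) * q⁻¹ := by rw [h, ← mul_assoc q, D.S.z_comm hq]; group
        _ = a j := by rw [e, ← mul_assoc z, D.S.z2, one_mul, mul_inv_cancel_right]
  have hqc : q * c ∈ centralizer ({z} : Set G) := mul_mem (D.S.le hq) hc
  refine ⟨q * c, ⟨hqc, mem_centralizer_iff.2 fun x hx => ?_⟩, by
    rw [D.S.rho_mul q (D.S.le hq) c hc, D.S.rho_Q hq, one_mul]⟩
  obtain ⟨d, hd⟩ := D.pi_cQ hx
  let T : Subgroup G := centralizer ({q * c} : Set G)
  have hzT : z ∈ T := mem_centralizer_singleton_iff.2 (mem_centralizer_singleton_iff.1 hqc).symm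
  have haT : ∀ j, a j ∈ T := fun j => mem_centralizer_singleton_iff.2 (mul_inv_eq_iff_eq_mul.1 (hgen j)).symm
  have hpow : ∀ (e : ZMod 2) (j : Fin 4), ∃ y ∈ T, y ∈ Q ∧ π y = e • s j.castSucc := fun e j => by
    rcases two_cases e with rfl | rfl
    · exact ⟨1, one_mem _, one_mem _, by rw [zero_smul, D.S.pi_one]⟩
    · exact ⟨a j, haT j, ha j, by rw [one_smul, hπ]⟩
  obtain ⟨y0, T0, Q0, e0⟩ := hpow (d 0) 0
  obtain ⟨y1, T1, Q1, e1⟩ := hpow (d 1) 1
  obtain ⟨y2, T2, Q2, e2⟩ := hpow (d 2) 2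
  obtain ⟨y3, T3, Q3, e3⟩ := hpow (d 3) 3
  have hy : π (y0 * y1 * y2 * y3) = π x := by
    rw [D.S.pi_mul _ (mul_mem (mul_mem Q0 Q1) Q2) _ Q3, D.S.pi_mul _ (mul_mem Q0 Q1) _ Q2, D.S.pi_mul _ Q0 _ Q1,
      e0, e1, e2, e3, hd]
    rfl
  have hT : y0 * y1 * y2 * y3 ∈ T := mul_mem (mul_mem (mul_mem T0 T1) T2) T3
  have hxT : x ∈ T := by
    rcases D.S.pi_eq (mul_mem (mul_mem (mul_mem Q0 Q1) Q2) Q3) hx.1 hy with e | e <;> rw [e]
    · exact hT
    · exact mul_mem hzT hT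
  exact mem_centralizer_singleton_iff.1 hxT

theorem ker_XX {c : G} : c ∈ XX z Q b ∧ ρ c = 1 ↔ c ∈ cP Q b := by
  constructor
  · rintro ⟨hc, h⟩
    exact ⟨(D.S.rho_ker c hc.1).1 h, hc.2⟩
  · intro hc
    exact ⟨⟨D.S.le hc.1, hc.2⟩, D.S.rho_Q hc.1⟩

theorem card_cP : Nat.card (cP Q b) = 32 := by
  classical
  haveI := Fintype.ofFinite G
  have hlift : ∀ d : Fin 4 → ZMod 2, ∃ a : cP Q b, π (a : G) = pc w d := fun d => by
    obtain ⟨a, ha, e⟩ := D.S.pi_surj (pc w d)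
    exact ⟨⟨a, D.mem_cP ha e⟩, e⟩
  choose r hr using hlift
  have hz : z ∈ cP Q b := D.mem_cP D.S.zQ (d := 0) (by rw [D.S.pi_z, pc_zero])
  let f : ZMod 2 × (Fin 4 → ZMod 2) → cP Q b := fun p => ⟨zb z p.1 * (r p.2 : G), mul_mem (by
    rcases two_cases p.1 with e | e <;> rw [e]
    · rw [zb_zero]; exact one_mem _
    · rw [zb_one]; exact hz) (r p.2).2⟩
  have hp : ∀ (c : ZMod 2) d, π (zb z c * (r d : G)) = pc w d := fun c d => by
    rcases two_cases c with rfl | rfl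
    · rw [zb_zero, one_mul, hr]
    · rw [zb_one, D.S.pi_zmul (r d).2.1, hr]
  have hbij : Function.Bijective f := by
    constructor
    · rintro ⟨c, d⟩ ⟨c', d'⟩ h
      have h : zb z c * (r d : G) = zb z c' * (r d' : G) := congrArg Subtype.val h
      have hd : d = d' := D.H.W.pc_inj (by rw [← hp c d, h, hp])
      subst hd
      refine Prod.ext ?_ rfl
      have h := mul_right_cancel h
      rcases two_cases c with rfl | rfl <;> rcases two_cases c' with rfl | rfl <;>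
        simp only [zb_zero, zb_one] at h ⊢
      · exact absurd h.symm D.S.z1
      · exact absurd h D.S.z1
    · intro a
      obtain ⟨d, hd⟩ := D.pi_cP a.2
      rcases D.S.pi_eq (r d).2.1 a.2.1 ((hr d).trans hd.symm) with e | e
      · exact ⟨(0, d), Subtype.ext (by simp only [f, zb_zero, one_mul]; exact e.symm)⟩
      · exact ⟨(1, d), Subtype.ext (by simp only [f, zb_one]; exact e.symm)⟩
  rw [← Nat.card_eq_of_bijective _ hbij]
  simp

end FiveData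

end CfsgLib.CoType
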