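import Mathlib
import Cfsg.Agent.Lib.CoType.FiveBasic

/-!
The two commuting parts of the centralizer of an involution cut out by an element of order five.
-/

set_option autoImplicit false
set_option linter.style.haveILetI false
set_option linter.unusedSectionVars false

namespace CfsgLib.CoType

open Subgroup CfsgLib.Classical
open Split (fixer)
open scoped commutatorElement

variable {G : Type*} [Group G] [Finite G]

theorem card_fixer {s w : Fin 5 → V8} (H : Split s w) : Nat.card (fixer w) = 60 := by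
  obtain ⟨φ, -⟩ := H.fixer_perm
  rw [Nat.card_congr φ.toEquiv, nat_card_alternatingGroup]
  simp [Nat.factorial]

theorem fixer_perfect {s w : Fin 5 → V8} (H : Split s w) : commutator (fixer w) = ⊤ := by
  obtain ⟨φ, -⟩ := H.fixer_perm
  have h : commutator (alternatingGroup (Fin 5)) = ⊤ := commutator_alternatingGroup_eq_top (by simp)
  have hm : (commutator (fixer w)).map φ.toMonoidHom = commutator (alternatingGroup (Fin 5)) := by
    rw [commutator_def, map_commutator, map_top_of_surjective _ φ.surjective, ← commutator_def]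
  refine eq_top_iff.2 fun x _ => ?_
  obtain ⟨y, hy, hyx⟩ : φ x ∈ (commutator (fixer w)).map φ.toMonoidHom := by rw [hm, h]; exact mem_top _
  rwa [← φ.injective hyx]

namespace FiveData

variable {z : G} {Q : Subgroup G} {π : G → V8} {ρ : G → qAut qm} {b : G} {s w : Fin 5 → V8}
  (D : FiveData z Q π ρ b s w)

include D

theorem card_of_hom {K N : Subgroup G} {T : Subgroup (qAut qm)} (hK : K ≤ centralizer ({z} : Set G))
    (hmap : ∀ c ∈ K, ρ c ∈ T) (hsurj : ∀ k ∈ T, ∃ c ∈ K, ρ c = k) (hker : ∀ c, c ∈ K ∧ ρ c = 1 ↔ c ∈ N) :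
    Nat.card K = Nat.card N * Nat.card T := by
  let ψ : K →* T := MonoidHom.mk' (fun c => ⟨ρ (c : G), hmap c c.2⟩) fun x y =>
    Subtype.ext (D.S.rho_mul x (hK x.2) y (hK y.2))
  have hs : Function.Surjective ψ := fun k => by
    obtain ⟨c, hc, e⟩ := hsurj k k.2
    exact ⟨⟨c, hc⟩, Subtype.ext e⟩
  have hk : ψ.ker.map K.subtype = N := by
    ext c
    rw [← hker c]
    exact ⟨fun ⟨x, hx, e⟩ => e ▸ ⟨x.2, congrArg Subtype.val hx⟩, fun ⟨h1, h2⟩ => ⟨⟨c, h1⟩, Subtype.ext h2, rfl⟩⟩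
  have h := card_mul_index ψ.ker
  rw [index_ker, MonoidHom.range_eq_top.2 hs, card_top] at h
  rw [← h, ← hk, card_map_of_injective K.subtype_injective]

theorem card_LL : Nat.card (LL z Q b) = 1920 := by
  rw [D.card_of_hom D.LL_le (fun _ => D.rho_LL) (fun _ => D.exists_LL) (fun _ => D.ker_LL), D.card_cQ,
    card_fixer D.H]

theorem card_XX : Nat.card (XX z Q b) = 1920 := by
  rw [D.card_of_hom D.XX_le (fun _ => D.rho_XX) (fun _ => D.exists_XX) (fun _ => D.ker_XX), D.card_cP,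
    card_fixer D.H.symm]

theorem LL_le_sup {H : Subgroup G} (hQ : cQ Q b ≤ H) (hc : ⁅LL z Q b, LL z Q b⁆ ≤ H) : LL z Q b ≤ H := by
  intro c hc'
  let ψ : LL z Q b →* fixer w := MonoidHom.mk' (fun c => ⟨ρ (c : G), D.rho_LL c.2⟩) fun x y =>
    Subtype.ext (D.S.rho_mul x x.2.1.1 y y.2.1.1)
  have hs : Function.Surjective ψ := fun k => by
    obtain ⟨c, hc, e⟩ := D.exists_LL k.2
    exact ⟨⟨c, hc⟩, Subtype.ext e⟩
  have himg : (commutator (LL z Q b)).map ψ = ⊤ := by
    rw [commutator_def, map_commutator, map_top_of_surjective _ hs, ← commutator_def, fixer_perfect D.H]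
  obtain ⟨d, hd, hde⟩ : ψ ⟨c, hc'⟩ ∈ (commutator (LL z Q b)).map ψ := by rw [himg]; exact mem_top _
  have hdH : (d : G) ∈ H := hc (by
    rw [← map_subtype_commutator]
    exact mem_map_of_mem _ hd)
  have hq : (d : G)⁻¹ * c ∈ cQ Q b := D.ker_LL.1 ⟨mul_mem (inv_mem d.2) hc', by
    have h : ψ (d⁻¹ * ⟨c, hc'⟩) = 1 := by rw [map_mul, map_inv, hde, inv_mul_cancel]
    exact congrArg Subtype.val h⟩
  have := mul_mem hdH (hQ hq)
  rwa [mul_inv_cancel_left] at this

/-- The two parts commute. -/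
theorem XX_comm_LL {x c : G} (hx : x ∈ XX z Q b) (hc : c ∈ LL z Q b) : x * c = c * x := by
  suffices h : LL z Q b ≤ centralizer (XX z Q b : Set G) from mem_centralizer_iff.1 (h hc) x hx
  have hbC := D.hbz
  refine D.LL_le_sup (fun q hq => mem_centralizer_iff.2 fun y hy => (mem_centralizer_iff.1 hy.2 q hq).symm) ?_
  have key : ∀ x ∈ XX z Q b, ∀ c ∈ LL z Q b, x * c * x⁻¹ * c⁻¹ = 1 ∨ x * c * x⁻¹ * c⁻¹ = z := by
    intro x hx c hc
    have hx' : ρ x * ρ c = ρ c * ρ x := by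
      obtain ⟨σ, hσ⟩ := D.H.exists_image (k := ρ c) fun i j => by
        rw [← (D.rho_LL hc).2 j, pb_map, D.H.orth]
      obtain ⟨τ, hτ⟩ := D.H.symm.exists_image (k := ρ x) fun i j => by
        rw [← (D.rho_XX hx).2 j, pb_map, pb_comm, D.H.orth]
      exact D.H.ext (fun i => by rw [qAut_mul_apply, qAut_mul_apply, (D.rho_XX hx).2, hσ, (D.rho_XX hx).2])
        fun i => by rw [qAut_mul_apply, qAut_mul_apply, (D.rho_LL hc).2, hτ, (D.rho_LL hc).2]
    have hxz := D.XX_le hx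
    have hcz := D.LL_le hc
    have he : x * c * x⁻¹ * c⁻¹ ∈ Q := (D.S.rho_ker _ (mul_mem (mul_mem (mul_mem hxz hcz) (inv_mem hxz))
      (inv_mem hcz))).1 (by
        rw [D.S.rho_mul _ (mul_mem (mul_mem hxz hcz) (inv_mem hxz)) _ (inv_mem hcz),
          D.S.rho_mul _ (mul_mem hxz hcz) _ (inv_mem hxz), D.S.rho_mul x hxz c hcz, D.S.rho_inv hxz,
          D.S.rho_inv hcz, hx', mul_inv_cancel_right, mul_inv_cancel])
    have nQ : ∀ q ∈ cQ Q b, c * q * c⁻¹ ∈ cQ Q b := fun q hq => by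
      refine ⟨D.S.conj_mem hcz hq.1, mem_centralizer_singleton_iff.2 ?_⟩
      have e1 : Commute q b := mem_centralizer_singleton_iff.1 hq.2
      have e2 : Commute c b := mem_centralizer_singleton_iff.1 hc.1.2
      exact ((e2.mul_left e1).mul_left e2.inv_left).eq
    have nP : ∀ q ∈ cP Q b, x * q * x⁻¹ ∈ cP Q b := fun q hq => by
      refine ⟨D.S.conj_mem hxz hq.1, mem_centralizer_iff.2 fun r hr => ?_⟩
      have e1 : Commute r q := mem_centralizer_iff.1 hq.2 r hr
      have e2 : Commute r x := mem_centralizer_iff.1 hx.2 r hr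
      exact ((e2.mul_right e1).mul_right e2.inv_right).eq
    refine D.pi_mem_span he (fun q hq => ?_) fun q hq => ?_
    · have e1 : Commute q x := mem_centralizer_iff.1 hx.2 q hq
      have e2 : Commute (c⁻¹ * q * c) x := by
        have hq' : c⁻¹ * q * c ∈ cQ Q b := by
          refine ⟨by simpa using D.S.conj_mem (inv_mem hcz) hq.1, mem_centralizer_singleton_iff.2 ?_⟩
          have e1 : Commute q b := mem_centralizer_singleton_iff.1 hq.2
          have e2 : Commute c b := mem_centralizer_singleton_iff.1 hc.1.2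
          exact ((e2.inv_left.mul_left e1).mul_left e2).eq
        exact mem_centralizer_iff.1 hx.2 _ hq'
      calc q * (x * c * x⁻¹ * c⁻¹) = (q * x) * c * x⁻¹ * c⁻¹ := by group
        _ = x * c * ((c⁻¹ * q * c) * x⁻¹) * c⁻¹ := by rw [e1.eq]; group
        _ = x * c * (x⁻¹ * (c⁻¹ * q * c)) * c⁻¹ := by rw [e2.inv_right.eq]
        _ = x * c * x⁻¹ * c⁻¹ * q := by group
    · have e1 : Commute q c := mem_centralizer_iff.1 hc.2 q hq |>.symm |>.symm
      have e2 : Commute (x⁻¹ * q * x) c := by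
        have hq' : x⁻¹ * q * x ∈ cP Q b := by
          refine ⟨by simpa using D.S.conj_mem (inv_mem hxz) hq.1, mem_centralizer_iff.2 fun r hr => ?_⟩
          have e1 : Commute r q := mem_centralizer_iff.1 hq.2 r hr
          have e2 : Commute r x := mem_centralizer_iff.1 hx.2 r hr
          exact ((e2.inv_right.mul_right e1).mul_right e2).eq
        exact mem_centralizer_iff.1 hc.2 _ hq'
      calc q * (x * c * x⁻¹ * c⁻¹) = x * ((x⁻¹ * q * x) * c) * x⁻¹ * c⁻¹ := by group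
        _ = x * c * x⁻¹ * (q * c⁻¹) := by rw [e2.eq]; group
        _ = x * c * x⁻¹ * (c⁻¹ * q) := by rw [e1.inv_right.eq]
        _ = x * c * x⁻¹ * c⁻¹ * q := by group
  refine commutator_le.2 fun c hc d hd => mem_centralizer_iff.2 fun x hx => ?_
  have hcomm : ∀ e, e = 1 ∨ e = z → ∀ y ∈ centralizer ({z} : Set G), e * y = y * e := by
    rintro e (rfl | rfl) y hy
    · rw [one_mul, mul_one]
    · exact (mem_centralizer_singleton_iff.1 hy).symm
  set e := x * c * x⁻¹ * c⁻¹ with he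
  set e' := x * d * x⁻¹ * d⁻¹ with he'
  have h1 : x * c * x⁻¹ = e * c := by rw [he]; group
  have h2 : x * d * x⁻¹ = e' * d := by rw [he']; group
  have ce := hcomm e (key x hx c hc)
  have ce' := hcomm e' (key x hx d hd)
  have hez : e' ∈ centralizer ({z} : Set G) := by
    rcases key x hx d hd with h | h <;> rw [← he'] at h <;> rw [h]
    exacts [one_mem _, D.S.z_mem]
  have hcz := D.LL_le hc
  have hdz := D.LL_le hd
  have hconj : x * ⁅c, d⁆ * x⁻¹ = ⁅c, d⁆ := by
    calc x * ⁅c, d⁆ * x⁻¹ = (x * c * x⁻¹) * (x * d * x⁻¹) * (x * c * x⁻¹)⁻¹ * (x * d * x⁻¹)⁻¹ := by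
          rw [commutatorElement_def]; group
      _ = e * (c * e') * d * c⁻¹ * e⁻¹ * d⁻¹ * e'⁻¹ := by rw [h1, h2]; group
      _ = e * e' * (c * d * c⁻¹) * e⁻¹ * d⁻¹ * e'⁻¹ := by rw [← ce' c hcz]; group
      _ = e' * (e * (c * d * c⁻¹)) * e⁻¹ * d⁻¹ * e'⁻¹ := by rw [ce e' hez]; group
      _ = e' * (c * d * c⁻¹ * d⁻¹) * e'⁻¹ := by rw [ce _ (mul_mem (mul_mem hcz hdz) (inv_mem hcz))]; group
      _ = ⁅c, d⁆ := by
        rw [ce' _ (mul_mem (mul_mem (mul_mem hcz hdz) (inv_mem hcz)) (inv_mem hdz)), mul_inv_cancel_right,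
          commutatorElement_def]
  exact mul_inv_eq_iff_eq_mul.1 hconj

/-- The centralizer of `b` there is the product with `⟨b⟩`. -/
theorem K_cases {c : G} (hc : c ∈ centralizer ({z} : Set G)) (hcb : c * b = b * c) :
    ∃ i : ℕ, (b ^ i)⁻¹ * c ∈ LL z Q b := by
  have hk : ρ c * ρ b = ρ b * ρ c := by rw [← D.S.rho_mul c hc b D.hbz, hcb, D.S.rho_mul b D.hbz c hc]
  obtain ⟨i, hi⟩ := D.H.cent_cases D.gs D.gw (D.S.rho_mem hc) hk
  refine ⟨i, D.mem_LL (mul_mem (inv_mem (pow_mem D.hbz _)) hc) ?_ ?_⟩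
  · exact ((Commute.inv_left ((Commute.refl b).pow_left _)).mul_left hcb).eq
  · rwa [D.S.rho_mul _ (inv_mem (pow_mem D.hbz _)) c hc, D.S.rho_inv (pow_mem D.hbz _), D.S.rho_pow D.hbz]

theorem LL_pow {i : ℕ} (h : b ^ i ∈ LL z Q b) : b ^ i = 1 := by
  have h2 : ρ b ^ i ∈ fixer w := by rw [← D.S.rho_pow D.hbz]; exact D.rho_LL h
  have h3 := D.H.fixer_pow D.gs D.gw h2
  rw [← D.S.rho_pow D.hbz] at h3
  have hQ := (D.S.rho_ker _ (pow_mem D.hbz i)).1 h3
  have h5 : (b ^ i) ^ 5 = 1 := by rw [← pow_mul, mul_comm, pow_mul, D.hb5, one_pow]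
  by_contra hne
  exact D.S.not_mem_Q (pow_mem D.hbz i) h5 hne hQ

theorem cQ_le_LL : cQ Q b ≤ LL z Q b := fun _ hq => (D.ker_LL.2 hq).1

/-- What centralizes the fixed part. -/
theorem self_cQ {c : G} (hc : c ∈ centralizer ({z} : Set G)) (hcb : c * b = b * c)
    (h : ∀ q ∈ cQ Q b, c * q = q * c) : ∃ i : ℕ, (b ^ i)⁻¹ * c ∈ cQ Q b := by
  obtain ⟨i, hi⟩ := D.K_cases hc hcb
  refine ⟨i, D.ker_LL.1 ⟨hi, ?_⟩⟩
  have hX : (b ^ i)⁻¹ * c ∈ XX z Q b := by
    refine ⟨hi.1.1, mem_centralizer_iff.2 fun q hq => ?_⟩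
    have e1 : Commute q b := mem_centralizer_singleton_iff.1 hq.2
    have e2 : Commute q c := (h q hq).symm
    exact ((e1.pow_right i).inv_right.mul_right e2).eq
  exact D.H.ext (fun j => (D.rho_XX hX).2 j) fun j => (D.rho_LL hi).2 j

theorem card_K : Nat.card ↥(centralizer ({z} : Set G) ⊓ centralizer ({b} : Set G)) = 9600 := by
  have h5 : orderOf b = 5 := by
    haveI : Fact (Nat.Prime 5) := ⟨by norm_num⟩
    exact orderOf_eq_prime D.hb5 D.hb1
  have hbK : b ∈ centralizer ({z} : Set G) ⊓ centralizer ({b} : Set G) :=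
    ⟨D.hbz, mem_centralizer_singleton_iff.2 rfl⟩
  let f : Fin 5 × LL z Q b → ↥(centralizer ({z} : Set G) ⊓ centralizer ({b} : Set G)) := fun p =>
    ⟨b ^ (p.1 : ℕ) * (p.2 : G), mul_mem (pow_mem hbK _) p.2.2.1⟩
  have hmod : ∀ i : ℕ, b ^ i = b ^ (i % 5) := fun i => by rw [← h5, pow_mod_orderOf]
  have hf : Function.Bijective f := by
    constructor
    · rintro ⟨i, c⟩ ⟨j, d⟩ h
      have h : b ^ (i : ℕ) * (c : G) = b ^ (j : ℕ) * (d : G) := congrArg Subtype.val h
      have hm : b ^ ((i : ℕ) + (5 - (j : ℕ))) ∈ LL z Q b := by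
        have e : b ^ ((i : ℕ) + (5 - (j : ℕ))) = (d : G) * (c : G)⁻¹ := by
          refine eq_mul_inv_of_mul_eq ?_
          rw [add_comm, pow_add, mul_assoc, h, ← mul_assoc, ← pow_add, Nat.sub_add_cancel j.isLt.le, D.hb5, one_mul]
        rw [e]; exact mul_mem d.2 (inv_mem c.2)
      have h0 := orderOf_dvd_of_pow_eq_one (D.LL_pow hm)
      rw [h5] at h0
      have hij : i = j := Fin.ext (by omega)
      subst hij
      exact Prod.ext rfl (Subtype.ext (mul_left_cancel h))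
    · rintro ⟨c, hc, hc'⟩
      obtain ⟨i, hi⟩ := D.K_cases hc (mem_centralizer_singleton_iff.1 hc')
      refine ⟨(⟨i % 5, Nat.mod_lt _ (by norm_num)⟩, ⟨_, hi⟩), Subtype.ext ?_⟩
      show b ^ (i % 5) * ((b ^ i)⁻¹ * c) = c
      rw [← hmod, mul_inv_cancel_left]
  rw [← Nat.card_eq_of_bijective f hf, Nat.card_prod, D.card_LL, Nat.card_fin]

end FiveData

end CfsgLib.CoType
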