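import Mathlib
import Cfsg.Agent.Lib.CoType.Classify
import Cfsg.Agent.Lib.CoType.Invol
import Cfsg.Agent.Lib.CoType.FiveProd

/-!
An element of order five centralizing two involutions, each in the extraspecial group of the other.
-/

set_option autoImplicit false
set_option linter.style.haveILetI false
set_option linter.unusedSectionVars false

namespace CfsgLib.CoType

open Subgroup CfsgLib.Classical

variable {G : Type*} [Group G] [Finite G]

/-- A vector fixed up to `p` is fixed. -/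
theorem pm_fix {g : qAut qm} (h5 : g ^ 5 = 1) {p v : V8} (hp : g.1 p = p) (h : Pm p (v + g.1 v)) : g.1 v = v := by
  rcases h with e | e
  · exact (CharTwo.add_eq_zero.1 (funext fun i => congrFun e i)).symm
  have e1 : g.1 v = v + p := by rw [← e, add_cancel8]
  have e2 := five_iter h5 v
  simp only [e1, map_add, hp] at e2
  have e3 : v + p + p + p + p + p = v + p := by
    rw [add_assoc _ p p, add_self8, add_zero, add_assoc _ p p, add_self8, add_zero]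
  rw [e3] at e2
  rw [e1, e2]

/-- What is needed at one pair. -/
structure FivePair (z t : G) (Q R : Subgroup G) (π π' : G → V8) (ρ ρ' : G → qAut qm) (b : G)
    (s w : Fin 5 → V8) : Prop where
  C : Config z t Q R π π' ρ ρ'
  D : FiveData z Q π ρ b s w
  fp : (ρ b).1 (π t) = π t

namespace FivePair

variable {z t : G} {Q R : Subgroup G} {π π' : G → V8} {ρ ρ' : G → qAut qm} {b : G} {s w : Fin 5 → V8}
  (F : FivePair z t Q R π π' ρ ρ' b s w)

include F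

theorem t_cQ : t ∈ cQ Q b := (F.D.S.mem_cQ_iff F.D.hbz F.D.hb5 F.C.P.tQ).2 F.fp

theorem bt : b * t = t * b := (mem_centralizer_singleton_iff.1 F.t_cQ.2).symm

theorem hbt : b ∈ centralizer ({t} : Set G) := mem_centralizer_singleton_iff.2 F.bt

theorem hbR : cQ R b ≤ centralizer ({t} : Set G) := fun _ h => F.C.P.S'.le h.1

theorem tv_fix {r : G} (hr : r ∈ cQ R b) (hrz : r * z = z * r) :
    tv (π t) (ρ r) ∈ fixV (ρ b) := by
  have h := F.C.P.w_conj hr.1 hrz F.D.hbz F.hbt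
  have e : b * r * b⁻¹ = r := by
    rw [← mem_centralizer_singleton_iff.1 hr.2, mul_inv_cancel_right]
  rw [e] at h
  exact pm_fix (F.D.S.rho_five F.D.hbz F.D.hb5) F.fp h

theorem tv_lift {v : V8} (hv : v ∈ fixV (ρ b)) (hp : pb (π t) v = 0) :
    ∃ r ∈ cQ R b, r * z = z * r ∧ Pm (π t) (tv (π t) (ρ r) + v) := by
  obtain ⟨r, hr, hrz, hrv⟩ := F.C.P.w_surj hp
  refine ⟨r, ⟨hr, mem_centralizer_singleton_iff.2 ?_⟩, hrz, hrv⟩
  have hbC := F.D.hbz
  have hr' : b * r * b⁻¹ ∈ R := F.C.P.S'.conj_mem F.hbt hr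
  have hrz' : b * r * b⁻¹ * z = z * (b * r * b⁻¹) := mem_centralizer_singleton_iff.1
    (mul_mem (mul_mem hbC (mem_centralizer_singleton_iff.2 hrz)) (inv_mem hbC))
  have h1 : Pm (π t) (tv (π t) (ρ (b * r * b⁻¹)) + v) := by
    refine pm_trans (F.C.P.w_conj hr hrz hbC F.hbt) ?_
    conv => arg 2; arg 2; rw [← show (ρ b).1 v = v from hv]
    rw [← map_add]
    exact pm_map F.fp hrv
  have hQ : r⁻¹ * (b * r * b⁻¹) ∈ Q := F.C.P.w_eq hr hrz hr' hrz' (pm_trans hrv (pm_symm h1))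
  set e := r⁻¹ * (b * r * b⁻¹) with he
  have heR : e ∈ R := mul_mem (inv_mem hr) hr'
  have hbe : Commute b e := F.C.P.E_central hQ heR (mem_centralizer_singleton_iff.1 hbC) F.bt
  have e1 : b * r * b⁻¹ = r * e := by rw [he, mul_inv_cancel_left]
  have step : ∀ n : ℕ, b ^ n * r * (b ^ n)⁻¹ = r * e ^ n := by
    intro n
    induction n with
    | zero => simp
    | succ n ih =>
      calc b ^ (n + 1) * r * (b ^ (n + 1))⁻¹ = b * (b ^ n * r * (b ^ n)⁻¹) * b⁻¹ := by rw [pow_succ']; group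
        _ = b * r * b⁻¹ * (b * e ^ n * b⁻¹) := by rw [ih]; group
        _ = r * e ^ (n + 1) := by rw [e1, (hbe.pow_right n).eq, mul_inv_cancel_right, pow_succ', mul_assoc]
  have h5 := step 5
  rw [F.D.hb5, one_mul, inv_one, mul_one, left_eq_mul] at h5
  have h2 := F.C.P.E_sq hQ heR
  have e0 : e = 1 := by
    calc e = e ^ 5 * ((e * e) * (e * e))⁻¹ := by simp only [pow_succ, pow_zero]; group
      _ = 1 := by rw [h5, h2]; group
  rw [e0, mul_one] at e1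
  exact (mul_inv_eq_iff_eq_mul.1 e1).symm

theorem rho'_five : ρ' b ^ 5 = 1 := F.C.P.S'.rho_five F.hbt F.D.hb5

theorem q_fix : π' z ∈ fixV (ρ' b) :=
  F.C.P.S'.pi_conj_fix F.hbt F.C.P.zR (mem_centralizer_singleton_iff.1 F.D.hbz)

/-- The frame of the fixed space on the second side. -/
theorem frame' : ∃ u' v', u' ∈ fixV (ρ' b) ∧ v' ∈ fixV (ρ' b) ∧ pb (π' z) u' = 0 ∧ pb (π' z) v' = 0 ∧
    qm u' = 1 ∧ qm v' = 1 ∧ pb u' v' = 1 ∧ ∀ x ∈ fixV (ρ' b), pb (π' z) x = 0 → Span3 (π' z) u' v' x := by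
  classical
  have P := F.C.P
  have hp := P.p_sing
  have h5 := F.D.S.rho_five F.D.hbz F.D.hb5
  have h16 : Nat.card (fixV (ρ b)) = 16 := by
    have h1 := F.D.card_cQ
    rw [F.D.S.card_cQ F.D.hbz F.D.hb5] at h1
    omega
  have hsing : ∀ x ∈ fixV (ρ b), pb (π t) x = 0 → qm x = 0 → Pm (π t) x := by
    intro x hx hpx hqx
    obtain ⟨c, hc⟩ := (F.D.H.fix_iff F.D.gs F.D.gw).1 hx
    obtain ⟨c', hc'⟩ := (F.D.H.fix_iff F.D.gs F.D.gw).1 F.fp
    by_contra hn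
    simp only [Pm, not_or] at hn
    obtain ⟨j, hj⟩ := F.D.H.S.sing_cases (c := c) (by rw [← hc]; exact hqx) (by rw [← hc]; exact hn.1)
    obtain ⟨i, hi⟩ := F.D.H.S.sing_cases (c := c') (by rw [← hc']; exact hp.2) (by rw [← hc']; exact hp.1)
    rw [hc, hj, hc', hi] at hn hpx
    have hij : i ≠ j := fun e => hn.2 (by rw [e])
    rw [F.D.H.S.pair i j hij] at hpx
    exact one_ne_zero hpx
  obtain ⟨u, v, fu, fv, pu, pv, qu, qv, uv, hspan⟩ := frame_of_fix h5 hp F.fp h16 hsing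
  obtain ⟨ru, hru, zru, tru⟩ := F.tv_lift fu pu
  obtain ⟨rv, hrv, zrv, trv⟩ := F.tv_lift fv pv
  have hfix : ∀ {r}, r ∈ cQ R b → π' r ∈ fixV (ρ' b) := fun {r} hr =>
    P.S'.pi_conj_fix F.hbt hr.1 (mem_centralizer_singleton_iff.1 hr.2).symm
  have hq : ∀ {r} {x : V8}, r ∈ cQ R b → r * z = z * r → Pm (π t) (tv (π t) (ρ r) + x) → pb (π t) x = 0 →
      qm (π' r) = qm x := fun {r x} hr hrz h hx => by
    rw [← P.quad_eq hr.1 hrz, pm_quad hp h hx]
  refine ⟨π' ru, π' rv, hfix hru, hfix hrv, P.symm.perp hru.1 zru, P.symm.perp hrv.1 zrv,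
    (hq hru zru tru pu).trans qu, (hq hrv zrv trv pv).trans qv, ?_, ?_⟩
  · have hz : ru * rv * z = z * (ru * rv) := by rw [mul_assoc, zrv, ← mul_assoc, zru, mul_assoc]
    have h1 : Pm (π t) (tv (π t) (ρ (ru * rv)) + (u + v)) := by
      have h2 : Pm (π t) (tv (π t) (ρ ru) + tv (π t) (ρ rv) + (u + v)) := by
        rw [add_add_add_comm]
        exact tru.add trv
      exact pm_trans (P.w_mul hru.1 zru hrv.1 zrv) h2
    have h3 := hq (mul_mem hru hrv) hz h1 (by rw [pb_add_right, pu, pv, add_zero])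
    rw [P.S'.pi_mul _ hru.1 _ hrv.1, qm_add, qm_add, hq hru zru tru pu, hq hrv zrv trv pv, qu, qv, uv] at h3
    exact add_left_cancel h3
  · intro x hx hqx
    obtain ⟨r, hr, rfl⟩ := P.S'.pi_surj x
    have hrb : r ∈ cQ R b := (P.S'.mem_cQ_iff F.hbt F.D.hb5 hr).2 hx
    have hrz : r * z = z * r := mem_centralizer_singleton_iff.1 ((P.symm.mem_A hr).2 hqx)
    obtain ⟨α, β, γ, hv⟩ := hspan _ (F.tv_fix hrb hrz) (P.w_perp hr hrz)
    have hpow : ∀ (c : ZMod 2) (r₁ : G) (u₁ : V8), r₁ ∈ cQ R b → r₁ * z = z * r₁ →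
        Pm (π t) (tv (π t) (ρ r₁) + u₁) → ∃ r' ∈ cQ R b, r' * z = z * r' ∧
          Pm (π t) (tv (π t) (ρ r') + c • u₁) ∧ π' r' = c • π' r₁ := by
      intro c r₁ u₁ h1 h2 h3
      rcases two_cases c with rfl | rfl
      · refine ⟨1, one_mem _, by rw [one_mul, mul_one], ?_, by rw [zero_smul, P.S'.pi_one]⟩
        rw [P.S.rho_one, tv_one, zero_smul, add_zero]
        exact .inl rfl
      · exact ⟨r₁, h1, h2, by rwa [one_smul], by rw [one_smul]⟩
    obtain ⟨r₁, h₁, z₁, t₁, π₁⟩ := hpow β ru u hru zru tru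
    obtain ⟨r₂, h₂, z₂, t₂, π₂⟩ := hpow γ rv v hrv zrv trv
    have z₁₂ : r₁ * r₂ * z = z * (r₁ * r₂) := by rw [mul_assoc, z₂, ← mul_assoc, z₁, mul_assoc]
    have hE : (r₁ * r₂)⁻¹ * r ∈ Q := by
      refine P.w_eq (mul_mem h₁.1 h₂.1) z₁₂ hr hrz ?_
      have h4 : Pm (π t) (tv (π t) (ρ r₁) + tv (π t) (ρ r₂) + tv (π t) (ρ r)) := by
        rw [hv]
        have h5 : Pm (π t) (tv (π t) (ρ r₁) + β • u + (tv (π t) (ρ r₂) + γ • v) + α • π t) := by
          refine (t₁.add t₂).add ?_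
          rcases two_cases α with rfl | rfl
          · exact .inl (zero_smul _ _)
          · exact .inr (one_smul _ _)
        convert h5 using 1
        abel
      exact pm_trans (P.w_mul h₁.1 z₁ h₂.1 z₂) h4
    obtain ⟨δ, hδ⟩ : ∃ δ : ZMod 2, π' ((r₁ * r₂)⁻¹ * r) = δ • π' z := by
      rcases P.E_cases hE (mul_mem (inv_mem (mul_mem h₁.1 h₂.1)) hr) with e | e | e | e <;> rw [e]
      · exact ⟨0, by rw [zero_smul, P.S'.pi_one]⟩
      · exact ⟨1, (one_smul _ _).symm⟩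
      · exact ⟨0, by rw [zero_smul, P.S'.pi_z]⟩
      · exact ⟨1, by rw [one_smul, P.zt_comm, P.S'.pi_zmul P.zR]⟩
    refine ⟨δ, β, γ, ?_⟩
    rw [P.S'.pi_mul _ (inv_mem (mul_mem h₁.1 h₂.1)) _ hr, P.S'.pi_inv (mul_mem h₁.1 h₂.1),
      P.S'.pi_mul _ h₁.1 _ h₂.1, π₁, π₂] at hδ
    rw [← hδ]
    funext i
    simp only [Pi.add_apply]
    exact (by decide : ∀ a c x : ZMod 2, x = a + c + x + a + c) _ _ _

theorem five' : Five (ρ' b) := by
  obtain ⟨u', v', fu, fv, pu, pv, qu, qv, uv, hspan⟩ := F.frame'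
  exact five_of_frame F.rho'_five F.C.P.symm.p_sing F.q_fix fu fv pu pv qu qv uv hspan

/-- An element of the centralizer of `b` exchanging the sides. -/
theorem exists_y : ∃ y : G, y * b = b * y ∧ y * t * y⁻¹ = z ∧ ∀ x, y * x * y⁻¹ ∈ Q ↔ x ∈ R := by
  obtain ⟨g, hg, hR, hρ⟩ := F.C.conj_t
  have S := F.D.S
  set b' := g⁻¹ * b * g with hb'
  have hb'z : b' ∈ centralizer ({z} : Set G) := by
    rw [mem_centralizer_singleton_iff, hb']
    calc g⁻¹ * b * g * z = g⁻¹ * (b * (g * z * g⁻¹)) * g := by group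
      _ = g⁻¹ * ((g * z * g⁻¹) * b) * g := by rw [hg, F.bt]
      _ = z * (g⁻¹ * b * g) := by group
  have hf : Five (ρ b') := by rw [hb', ← hρ]; exact F.five'
  obtain ⟨k, hk, hkc⟩ := five_conj hf (⟨s, w, F.D.H, F.D.gs, F.D.gw⟩ : Five (ρ b))
  obtain ⟨c, hc, rfl⟩ := (S.rho_range k).1 hk
  have hb'5 : b' ^ 5 = 1 := by
    rw [hb', show g⁻¹ * b * g = g⁻¹ * b * g⁻¹⁻¹ by group, conj_pow, F.D.hb5]
    group
  obtain ⟨m, hm, -, hmb⟩ := S.conj_lift F.D.hbz F.D.hb5 F.D.hb1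
    (mul_mem (mul_mem hc hb'z) (inv_mem hc)) (by rw [conj_pow, hb'5, mul_one, mul_inv_cancel])
    (by rw [S.rho_mul _ (mul_mem hc hb'z) _ (inv_mem hc), S.rho_mul c hc b' hb'z, S.rho_inv hc, hkc,
      mul_inv_cancel_right])
  have hmc : m * c ∈ centralizer ({z} : Set G) := mul_mem hm hc
  refine ⟨m * c * g⁻¹, ?_, ?_, fun x => ?_⟩
  · conv_rhs => rw [← hmb]
    rw [hb']; group
  · rw [← hg]
    calc m * c * g⁻¹ * (g * z * g⁻¹) * (m * c * g⁻¹)⁻¹ = m * c * z * (m * c)⁻¹ := by group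
      _ = z := by rw [mem_centralizer_singleton_iff.1 hmc, mul_inv_cancel_right]
  · rw [hR, mem_conj_iff, mem_normalizer_iff.1 (S.norm hmc) (g⁻¹ * x * g)]
    rw [show m * c * g⁻¹ * x * (m * c * g⁻¹)⁻¹ = m * c * (g⁻¹ * x * g) * (m * c)⁻¹ by group]

/-- An involution of the further class centralized by `b`. -/
theorem exists_typeC' : ∃ x, TypeC z t Q R π ρ 1 x ∧ x * b = b * x := by
  have P := F.C.P
  have hp := P.p_sing
  have h5 := F.D.S.rho_five F.D.hbz F.D.hb5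
  obtain ⟨u', v', -, fv', -, pv', -, qv', -, -⟩ := F.frame'
  obtain ⟨y, hy⟩ := fact_y hp
  obtain ⟨r, hr, hrz, hqr⟩ : ∃ r, r ∈ cQ R b ∧ r * z = z * r ∧ qm (tv (π t) (ρ r)) = 1 := by
    obtain ⟨r, hr, rfl⟩ := P.S'.pi_surj v'
    have hrz : r * z = z * r := mem_centralizer_singleton_iff.1 ((P.symm.mem_A hr).2 pv')
    exact ⟨r, (P.S'.mem_cQ_iff F.hbt F.D.hb5 hr).2 fv', hrz, (P.quad_eq hr hrz).trans qv'⟩
  set v := tv (π t) (ρ r) with hv
  have fv : v ∈ fixV (ρ b) := F.tv_fix hr hrz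
  have pv : pb (π t) v = 0 := P.w_perp hr.1 hrz
  have nv : ¬ Pm (π t) v := fun h => by
    rcases h with e | e <;> rw [e] at hqr
    · rw [QuadraticMap.map_zero] at hqr; exact zero_ne_one hqr
    · rw [hp.2] at hqr; exact zero_ne_one hqr
  obtain ⟨u, fu, pu, qu, uv⟩ : ∃ u, u ∈ fixV (ρ b) ∧ pb (π t) u = 0 ∧ qm u = 1 ∧ pb u v = 1 := by
    have h16 : Nat.card (fixV (ρ b)) = 16 := by
      have h1 := F.D.card_cQ
      rw [F.D.S.card_cQ F.D.hbz F.D.hb5] at h1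
      omega
    obtain ⟨c, hc⟩ := (F.D.H.fix_iff F.D.gs F.D.gw).1 F.fp
    obtain ⟨d, hd⟩ := (F.D.H.fix_iff F.D.gs F.D.gw).1 fv
    have key : ∀ c d : Fin 4 → ZMod 2, pq c = 0 → pq d = 1 → pq (c + d) = 1 →
        ∃ a : Fin 4 → ZMod 2, pq (c + a) = 0 + pq a ∧ pq a = 1 ∧ pq (a + d) = 1 + 1 + 1 := by decide +kernel
    obtain ⟨a, a1, a2, a3⟩ := key c d (by rw [← F.D.H.S.qm_pc, ← hc]; exact hp.2)
      (by rw [← F.D.H.S.qm_pc, ← hd]; exact hqr)
      (by rw [← F.D.H.S.qm_pc, pc_add, ← hc, ← hd, qm_add, hp.2, hqr, pv, zero_add, add_zero])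
    refine ⟨pc s a, (F.D.H.fix_iff F.D.gs F.D.gw).2 ⟨a, rfl⟩, ?_, by rw [F.D.H.S.qm_pc, a2], ?_⟩
    · rw [← F.D.H.S.qm_pc, ← F.D.H.S.qm_pc, pc_add, ← hc, qm_add, hp.2, zero_add] at a1
      exact add_eq_left.1 a1
    · rw [← F.D.H.S.qm_pc, pc_add, ← hd, qm_add, hqr, F.D.H.S.qm_pc, a2] at a3
      exact add_left_cancel a3
  obtain ⟨a, ha, rfl⟩ := P.S.pi_surj u
  have hat : a * t = t * a := mem_centralizer_singleton_iff.1 ((P.mem_A ha).2 pu)
  have nu : ¬ Pm (π t) (π a) := fun h => by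
    rcases h with e | e <;> rw [e] at qu
    · rw [QuadraticMap.map_zero] at qu; exact zero_ne_one qu
    · rw [hp.2] at qu; exact zero_ne_one qu
  have ne : ¬ Pm (π t) (π a + v) := fun h => by
    have := h.polar (y := v) pv
    rw [pb_add_left, uv, pb_self, add_zero] at this
    exact one_ne_zero this
  refine ⟨a * r, ⟨a, r, ha, hat, hr.1, hrz, rfl,
    (P.invol_iff ha hat hr.1 hrz).2 ⟨qu.trans uv.symm, ((P.quad_eq hr.1 hrz).symm.trans hqr).trans uv.symm⟩,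
    hqr, pv, nv, qu, pu, nu, uv, ne⟩, ?_⟩
  have e1 : Commute a b := (F.D.S.fix_comm F.D.hbz F.D.hb5 ha fu).symm
  exact (e1.mul_left (mem_centralizer_singleton_iff.1 hr.2)).eq

end FivePair

end CfsgLib.CoType
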