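import Mathlib
import Cfsg.Agent.Lib.CoType.FivePair

/-!
The alternating group of degree five centralizing both extraspecial parts of order 32.
-/

set_option autoImplicit false
set_option linter.style.haveILetI false
set_option linter.unusedSectionVars false

namespace CfsgLib.CoType

open Subgroup CfsgLib.Classical
open Split (fixer)

variable {G : Type*} [Group G] [Finite G]

namespace FiveData

variable {z : G} {Q : Subgroup G} {π : G → V8} {ρ : G → qAut qm} {b : G} {s w : Fin 5 → V8}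
  (D : FiveData z Q π ρ b s w)

include D

theorem mem_LL_of_four {c : G} (hc : c ∈ centralizer ({z} : Set G)) (hcb : c * b = b * c) (h4 : c ^ 4 = 1) :
    c ∈ LL z Q b := by
  obtain ⟨i, hi⟩ := D.K_cases hc hcb
  have hbc : Commute (b ^ i)⁻¹ c := ((Commute.symm hcb).pow_left i).inv_left
  have h := pow_mem hi 4
  rw [hbc.mul_pow, h4, mul_one, inv_pow, inv_mem_iff, ← pow_mul] at h
  have h1 := D.LL_pow h
  have h5 : b ^ i = 1 := by
    have e : b ^ (5 * i) = b ^ (i * 4) * b ^ i := by rw [← pow_add]; congr 1; ring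
    rw [pow_mul, D.hb5, one_pow, h1, one_mul] at e
    exact e.symm
  rwa [h5, inv_one, one_mul] at hi

end FiveData

namespace FivePair

variable {z t : G} {Q R : Subgroup G} {π π' : G → V8} {ρ ρ' : G → qAut qm} {b : G} {s w : Fin 5 → V8}
  (F : FivePair z t Q R π π' ρ ρ' b s w)

include F

theorem mem_LL_of_R {r : G} (hr : r ∈ cQ R b) (hrz : r * z = z * r) : r ∈ LL z Q b := by
  refine F.D.mem_LL_of_four (mem_centralizer_singleton_iff.2 hrz) (mem_centralizer_singleton_iff.1 hr.2) ?_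
  rw [show r ^ 4 = r * r * (r * r) by simp only [pow_succ, pow_zero]; group, F.C.P.S'.sq r hr.1,
    zb_mul F.C.P.S'.z2, CharTwo.add_self_eq_zero, zb_zero]

theorem exists_r : ∃ r ∈ cQ R b, r * z ≠ z * r := by
  obtain ⟨y, hy⟩ := fact_y F.C.P.symm.p_sing
  obtain ⟨r, hr, e⟩ := F.C.P.S'.pi_surj (orbSum (ρ' b) y)
  refine ⟨r, (F.C.P.S'.mem_cQ_iff F.hbt F.D.hb5 hr).2 (by rw [e]; exact orbSum_fix F.rho'_five y), fun h => ?_⟩
  have h1 := (F.C.P.S'.commute_iff hr F.C.P.zR).1 h
  rw [e, pb_comm, orbSum_polar F.rho'_five F.q_fix, hy] at h1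
  exact one_ne_zero h1

theorem mem_Ct {x : G} (hx : x ∈ XX z Q b) : x ∈ centralizer ({t} : Set G) :=
  mem_centralizer_singleton_iff.2 (mem_centralizer_iff.1 hx.2 t F.t_cQ).symm

theorem cent_R {r : G} (hr : r ∈ cQ R b) (hrz : r * z ≠ z * r) {c : G} (hc : c ∈ XX z Q b)
    (hcr : c * r = r * c) : ∀ x ∈ cQ R b, c * x = x * c := by
  intro x hx
  have S' := F.C.P.S'
  have hone : ∀ {a}, a ∈ cQ R b → a * z = z * a → Commute c a := fun {a} ha haz =>
    F.D.XX_comm_LL hc (F.mem_LL_of_R ha haz)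
  by_cases hxz : x * z = z * x
  · exact hone hx hxz
  have h1 : x * r⁻¹ * z = z * (x * r⁻¹) := by
    refine (S'.commute_iff (mul_mem hx.1 (inv_mem hr.1)) F.C.P.zR).2 ?_
    rw [S'.pi_mul _ hx.1 _ (inv_mem hr.1), S'.pi_inv hr.1, pb_add_left,
      (two_cases _).resolve_left fun e => hxz ((S'.commute_iff hx.1 F.C.P.zR).2 e),
      (two_cases _).resolve_left fun e => hrz ((S'.commute_iff hr.1 F.C.P.zR).2 e), CharTwo.add_self_eq_zero]
  have h2 := (hone (mul_mem hx (inv_mem hr)) h1).mul_right (show Commute c r from hcr)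
  rwa [inv_mul_cancel_right] at h2

/-- The orbit of an element under the centralizer of the fixed part is small. -/
theorem card_XX_le {r : G} (hr : r ∈ cQ R b) (hrz : r * z ≠ z * r) :
    Nat.card (XX z Q b) ≤ Nat.card ↥(XX z Q b ⊓ centralizer ({r} : Set G)) * 32 := by
  classical
  haveI := Fintype.ofFinite G
  have P := F.C.P
  have S' := P.S'
  obtain ⟨s', w', H', gs', gw'⟩ := F.five'
  obtain ⟨u', v', fu, fv, pu, pv, qu, qv, uv, hspan⟩ := F.frame'
  obtain ⟨au, hau, eu⟩ := S'.pi_surj u'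
  obtain ⟨av, hav, ev⟩ := S'.pi_surj v'
  have hprR : ∀ {a}, a ∈ R → π' a ∈ fixV (ρ' b) → pb (π' z) (π' a) = 0 →
      a ∈ cQ R b ∧ a * z = z * a := fun {a} ha h1 h2 =>
    ⟨(S'.mem_cQ_iff F.hbt F.D.hb5 ha).2 h1, mem_centralizer_singleton_iff.1 ((P.symm.mem_A ha).2 h2)⟩
  have hau' := hprR hau (eu ▸ fu) (eu ▸ pu)
  have hav' := hprR hav (ev ▸ fv) (ev ▸ pv)
  let o : G → G := fun x => x * r * x⁻¹
  have hoR : ∀ {x}, x ∈ XX z Q b → o x ∈ R := fun {x} hx => S'.conj_mem (F.mem_Ct hx) hr.1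
  have hpb : ∀ {x}, x ∈ XX z Q b → ∀ a, a ∈ cQ R b → a * z = z * a →
      pb (π' (o x)) (π' a) = pb (π' r) (π' a) := by
    intro x hx a ha haz
    have e : x * a * x⁻¹ = a := mul_inv_eq_iff_eq_mul.2 (F.D.XX_comm_LL hx (F.mem_LL_of_R ha haz))
    conv_lhs => rw [← e]
    rw [S'.rho_pi x (F.mem_Ct hx) r hr.1, S'.rho_pi x (F.mem_Ct hx) a ha.1, pb_map]
  have hzR : z ∈ cQ R b ∧ z * z = z * z := ⟨⟨P.zR, mem_centralizer_singleton_iff.2
    (mem_centralizer_singleton_iff.1 F.D.hbz).symm⟩, rfl⟩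
  have hqm : ∀ {x}, x ∈ XX z Q b → qm (π' (o x)) = qm (π' r) := fun {x} hx => by
    rw [S'.rho_pi x (F.mem_Ct hx) r hr.1, qAut_map]
  have hdec : ∀ x, ∃ c d, π' (o x) = pc s' c + pc w' d := fun x => H'.span _
  choose cc dd hcd using hdec
  have hkey : ∀ {x x'}, x ∈ XX z Q b → x' ∈ XX z Q b → dd x = dd x' → π' (o x) = π' (o x') := by
    intro x x' hx hx' hd
    set δ := π' (o x) + π' (o x') with hδ
    have hfix : δ ∈ fixV (ρ' b) := (H'.fix_iff gs' gw').2 ⟨cc x + cc x', by
      rw [hδ, hcd, hcd, hd, pc_add]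
      funext i
      simp only [Pi.add_apply]
      exact (by decide : ∀ a b c : ZMod 2, a + c + (b + c) = a + b) _ _ _⟩
    have hperp : ∀ a, a ∈ cQ R b → a * z = z * a → pb δ (π' a) = 0 := fun a ha haz => by
      rw [hδ, pb_add_left, hpb hx a ha haz, hpb hx' a ha haz, CharTwo.add_self_eq_zero]
    obtain ⟨α, β, γ, he⟩ := hspan δ hfix (by rw [pb_comm]; exact hperp z hzR.1 hzR.2)
    have h1 := hperp au hau'.1 hau'.2
    have h2 := hperp av hav'.1 hav'.2
    rw [eu, he] at h1
    rw [ev, he] at h2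
    simp only [pb_add_left, pb_smul_left, pu, pv, uv, pb_self, pb_comm v' u', mul_zero, mul_one, add_zero,
      zero_add] at h1 h2
    subst h1 h2
    rw [zero_smul, zero_smul, add_zero, add_zero] at he
    rcases two_cases α with rfl | rfl
    · rw [zero_smul] at he
      exact CharTwo.add_eq_zero.1 (funext fun i => congrFun he i)
    · exfalso
      rw [one_smul] at he
      have h3 : π' (o x') = π' (o x) + π' z := by rw [← he, hδ, add_cancel8]
      have h4 := congrArg qm h3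
      rw [qm_add, hqm hx, hqm hx', hpb hx z hzR.1 hzR.2, P.symm.p_sing.2, add_zero, left_eq_add] at h4
      exact hrz ((S'.commute_iff hr.1 P.zR).2 h4)
  let X : Finset G := Finset.univ.filter fun x => x ∈ XX z Q b
  have hX : ∀ {x}, x ∈ X → x ∈ XX z Q b := fun hx => (Finset.mem_filter.1 hx).2
  have hXc : X.card = Nat.card (XX z Q b) := by
    rw [Nat.card_eq_fintype_card]
    exact (Fintype.card_subtype _).symm
  let T : Finset (Fin 4 → ZMod 2) := Finset.univ
  have hI : (X.image o).card ≤ 32 := by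
    have h := Finset.card_le_mul_card_image (f := fun a => if h : ∃ x ∈ X, o x = a then dd h.choose else 0)
      (X.image o) 2 (fun d hd => by
        obtain ⟨a, ha, hda⟩ := Finset.mem_image.1 hd
        obtain ⟨x₀, hx₀, rfl⟩ := Finset.mem_image.1 ha
        have hsub : ((X.image o).filter fun a' => (if h : ∃ x ∈ X, o x = a' then dd h.choose else 0) = d) ⊆
            ({o x₀, t * o x₀} : Finset G) := by
          intro a' ha'
          obtain ⟨ha', hd'⟩ := Finset.mem_filter.1 ha'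
          obtain ⟨x₁, hx₁, rfl⟩ := Finset.mem_image.1 ha'
          have hh₀ : ∃ x ∈ X, o x = o x₀ := ⟨x₀, hx₀, rfl⟩
          have hh₁ : ∃ x ∈ X, o x = o x₁ := ⟨x₁, hx₁, rfl⟩
          rw [dif_pos hh₁] at hd'
          rw [dif_pos hh₀] at hda
          have e := hkey (hX hh₀.choose_spec.1) (hX hh₁.choose_spec.1) (hda.trans hd'.symm)
          rw [hh₀.choose_spec.2, hh₁.choose_spec.2] at e
          rcases S'.pi_eq (hoR (hX hx₀)) (hoR (hX hx₁)) e with e' | e' <;> simp [e']
        exact (Finset.card_le_card hsub).trans Finset.card_le_two)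
    refine h.trans ?_
    have : (Finset.univ : Finset (Fin 4 → ZMod 2)).card = 16 := by simp
    have h2 := Finset.card_le_univ ((X.image o).image fun a => if h : ∃ x ∈ X, o x = a then dd h.choose else 0)
    simp at h2
    omega
  have h := Finset.card_le_mul_card_image (f := o) X (Nat.card ↥(XX z Q b ⊓ centralizer ({r} : Set G)))
    (fun a ha => by
      obtain ⟨x₀, hx₀, rfl⟩ := Finset.mem_image.1 ha
      rw [Nat.card_eq_fintype_card]
      refine le_trans ?_ (le_of_eq (Fintype.card_subtype fun c => c ∈ XX z Q b ⊓ centralizer ({r} : Set G)).symm)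
      refine Finset.card_le_card_of_injOn (fun x => x₀⁻¹ * x) ?_ fun _ _ _ _ e => mul_left_cancel e
      intro x hx
      obtain ⟨hx, he⟩ := Finset.mem_filter.1 (Finset.mem_coe.1 hx)
      refine Finset.mem_coe.2 (Finset.mem_filter.2 ⟨Finset.mem_univ _, mem_inf.2 ⟨mul_mem (inv_mem (hX hx₀)) (hX hx),
        mem_centralizer_singleton_iff.2 ?_⟩⟩)
      calc x₀⁻¹ * x * r = x₀⁻¹ * (o x) * x := by simp only [o]; group
        _ = x₀⁻¹ * (o x₀) * x := by rw [he]
        _ = r * (x₀⁻¹ * x) := by simp only [o]; group)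
  rw [← hXc]
  exact h.trans (Nat.mul_le_mul_left _ hI)

/-- The alternating group of degree five. -/
theorem exists_W : ∃ W : Subgroup G, Nonempty (W ≃* alternatingGroup (Fin 5)) ∧ W ≤ XX z Q b ∧
    W ≤ centralizer (cQ R b : Set G) ∧
    ∀ c ∈ centralizer ({z} : Set G), (∀ x ∈ cQ Q b, x * c = c * x) → (∀ x ∈ cQ R b, x * c = c * x) → c ∈ W := by
  classical
  obtain ⟨r, hr, hrz⟩ := F.exists_r
  refine ⟨XX z Q b ⊓ centralizer ({r} : Set G), ?_, inf_le_left, fun c hc => mem_centralizer_iff.2 fun x hx =>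
    (F.cent_R hr hrz hc.1 (mem_centralizer_singleton_iff.1 hc.2) x hx).symm,
    fun c hc h1 h2 => ⟨⟨hc, mem_centralizer_iff.2 h1⟩, mem_centralizer_singleton_iff.2 (h2 r hr).symm⟩⟩
  set W := XX z Q b ⊓ centralizer ({r} : Set G) with hW
  have P := F.C.P
  have D := F.D
  -- the kernel is trivial
  have hker : ∀ q ∈ W, ρ q = 1 → q = 1 := by
    intro q hq hq1
    have hqQ : q ∈ Q := (D.S.rho_ker q hq.1.1).1 hq1
    have hqr : q * r = r * q := mem_centralizer_singleton_iff.1 hq.2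
    have e1 := P.S'.comm hr.1 P.zR
    rw [(two_cases _).resolve_left fun e => hrz ((P.S'.commute_iff hr.1 P.zR).2 e), zb_one] at e1
    have hconj : r * z * r⁻¹ = t * z := by
      rw [e1]; group
    have hne : r * z * r⁻¹ ≠ z := fun h => hrz (mul_inv_eq_iff_eq_mul.1 h)
    have hmem : r * z * r⁻¹ ∈ Q := by rw [hconj]; exact mul_mem P.tQ P.S.zQ
    have P₂ := (F.C.pair_at hmem hne).P
    have hqR : q ∈ Q.map (MulAut.conj r).toMonoidHom := mem_conj_iff.2 (by
      rw [mul_assoc, hqr, inv_mul_cancel_left]; exact hqQ)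
    obtain ⟨y, hy⟩ := fact_y P.p_sing
    obtain ⟨e, he, hπe⟩ := D.S.pi_surj (orbSum (ρ b) y)
    have heQ : e ∈ cQ Q b := (D.S.mem_cQ_iff D.hbz D.hb5 he).2 (by
      rw [hπe]; exact orbSum_fix (D.S.rho_five D.hbz D.hb5) y)
    have hnot : π q = π t → False := fun hpi => by
      have h1 := (D.S.commute_iff he hqQ).1 (mem_centralizer_iff.1 hq.1.2 e heQ)
      rw [hπe, pb_comm, hpi, orbSum_polar (D.S.rho_five D.hbz D.hb5) F.fp, hy] at h1
      exact one_ne_zero h1
    rcases P₂.E_cases hqQ hqR with h | h | h | h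
    · exact h
    · exact absurd (by rw [← h]; exact hqr.symm) hrz
    · exact (hnot (by rw [h, hconj, D.S.pi_mul t P.tQ z D.S.zQ, D.S.pi_z, add_zero])).elim
    · exact (hnot (by
        rw [h, hconj, D.S.pi_zmul (mul_mem P.tQ D.S.zQ), D.S.pi_mul t P.tQ z D.S.zQ, D.S.pi_z, add_zero])).elim
  let ψ : W →* fixer s := MonoidHom.mk' (fun c => ⟨ρ (c : G), D.rho_XX c.2.1⟩) fun x y =>
    Subtype.ext (D.S.rho_mul x x.2.1.1 y y.2.1.1)
  have hinj : Function.Injective ψ := (injective_iff_map_eq_one ψ).2 fun x hx =>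
    Subtype.ext (hker x x.2 (congrArg Subtype.val hx))
  have h60 : 60 ≤ Nat.card W := by
    have h := F.card_XX_le hr hrz
    rw [D.card_XX] at h
    show 60 ≤ Nat.card W
    rw [← hW] at h
    omega
  haveI : Finite (fixer s) := Nat.finite_of_card_ne_zero (by rw [card_fixer D.H.symm]; norm_num)
  have hbij : Function.Bijective ψ := (Nat.bijective_iff_injective_and_card ψ).2 ⟨hinj, by
    have h := Nat.card_le_card_of_injective _ hinj
    rw [card_fixer D.H.symm] at h ⊢
    omega⟩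
  obtain ⟨φ, -⟩ := D.H.symm.fixer_perm
  exact ⟨(MulEquiv.ofBijective ψ hbij).trans φ⟩

end FivePair

end CfsgLib.CoType
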