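import Mathlib
import Cfsg.Agent.Lib.Tails.JTwoThm
import Cfsg.Agent.Lib.Components.AltStandard
import Cfsg.Agent.Lib.Ico.J2
import Cfsg.Prelude.Def_Spor_J2

/-!
A central extension of J2 by a group of order five splits.
-/

set_option autoImplicit false
set_option linter.style.haveILetI false
set_option linter.unusedSectionVars false

namespace CfsgLib.CoType

open Subgroup

variable {Γ : Type*} [Group Γ] [Finite Γ] {B : Subgroup Γ} [B.Normal]

theorem j2_comm_top : commutator Cfsg.Spor.J2 = ⊤ ∧ center Cfsg.Spor.J2 = ⊥ := by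
  haveI : IsSimpleGroup Cfsg.Spor.J2 := CfsgLib.Ico.j2_simple
  obtain ⟨e⟩ := CfsgLib.Ico.j2_equiv
  have hc : center Cfsg.Spor.J2 = ⊥ := by
    rcases (inferInstance : (center Cfsg.Spor.J2).Normal).eq_bot_or_eq_top with h | h
    · exact h
    · exfalso
      letI : CommGroup Cfsg.Spor.J2 :=
        { (inferInstance : Group Cfsg.Spor.J2) with
          mul_comm := fun a b => mem_center_iff.1 (h ▸ mem_top b : b ∈ center Cfsg.Spor.J2) a }
      haveI : Finite ↥CfsgLib.Golay.J2.grpJ2 := inferInstance
      haveI : Finite Cfsg.Spor.J2 := Finite.of_equiv _ e.symm.toEquiv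
      have hp := IsSimpleGroup.prime_card (α := Cfsg.Spor.J2)
      rw [Nat.card_congr e.toEquiv, CfsgLib.Golay.J2.card_grpJ2] at hp
      exact (by norm_num : ¬ Nat.Prime 604800) hp
  refine ⟨?_, hc⟩
  exact (CfsgLib.Components.Alt.isQuasisimple_of_simple inferInstance hc).1.commutator_eq_top

theorem split_j2 (hBc : B ≤ center Γ) (hB : Nat.card B = 5) (e : Γ ⧸ B ≃* Cfsg.Spor.J2) :
    Cfsg.layer Γ = commutator Γ ∧ Cfsg.Spor.IsoJ2 (commutator Γ) ∧ commutator Γ ⊓ B = ⊥ ∧
      commutator Γ ⊔ B = ⊤ := by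
  classical
  haveI : Fact (Nat.Prime 5) := ⟨by norm_num⟩
  haveI : IsSimpleGroup Cfsg.Spor.J2 := CfsgLib.Ico.j2_simple
  set σ : Γ →* Cfsg.Spor.J2 := e.toMonoidHom.comp (QuotientGroup.mk' B) with hσ
  have hsurj : Function.Surjective σ := e.surjective.comp (QuotientGroup.mk'_surjective B)
  have hker : σ.ker = B := by
    ext x
    simp [hσ, MonoidHom.mem_ker]
  have himg : (commutator Γ).map σ = ⊤ := by
    rw [commutator_def, map_commutator, map_top_of_surjective _ hsurj, ← commutator_def, j2_comm_top.1]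
  have hsup : commutator Γ ⊔ B = ⊤ := by
    rw [← hker, ← comap_map_eq, himg, comap_top]
  have hinf : commutator Γ ⊓ B = ⊥ := by
    by_contra hne
    have hle : B ≤ commutator Γ := by
      have h := card_subgroup_dvd_card ((commutator Γ ⊓ B).subgroupOf B)
      rw [hB, Nat.card_congr (subgroupOfEquivOfLe (inf_le_right : commutator Γ ⊓ B ≤ B)).toEquiv] at h
      rcases (Nat.dvd_prime (by norm_num : Nat.Prime 5)).1 h with h | h
      · exact absurd (card_eq_one.1 h) hne
      · exact (eq_of_le_of_card_ge inf_le_right (by rw [h, hB])).ge.trans inf_le_left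
    haveI : Finite (Shrink.{0} Γ) := Finite.of_equiv _ (equivShrink _)
    let φ : Shrink.{0} Γ ≃* Γ := Shrink.mulEquiv
    have hst : Cfsg.IsStemExtension (σ.comp φ.toMonoidHom) := by
      refine ⟨hsurj.comp φ.surjective, fun a ha => ?_, fun a ha => ?_⟩
      · rw [mem_center_iff]
        intro b
        apply φ.injective
        rw [map_mul, map_mul]
        exact mem_center_iff.1 (hBc (hker ▸ ha : φ a ∈ B)) (φ b)
      · have himg' : (commutator (Shrink.{0} Γ)).map φ.toMonoidHom = commutator Γ := by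
          rw [commutator_def, map_commutator, map_top_of_surjective _ φ.surjective, ← commutator_def]
        have h : φ a ∈ (commutator (Shrink.{0} Γ)).map φ.toMonoidHom := himg'.symm ▸ hle (hker ▸ ha : φ a ∈ B)
        obtain ⟨b, hb, hba⟩ := h
        exact φ.injective hba ▸ hb
    obtain ⟨π, hπ⟩ := CfsgLib.Schur.Tails.JTwo.multiplier_J2.2 (Shrink.{0} Γ) (σ.comp φ.toMonoidHom) hst
    have h1 := Subgroup.card_dvd_of_surjective π hπ
    have h2 : Nat.card (σ.comp φ.toMonoidHom).ker = 5 := by
      rw [← hB, ← hker]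
      exact Nat.card_congr
        { toFun := fun a => ⟨φ a.1, a.2⟩
          invFun := fun b => ⟨φ.symm b.1, by
            show σ (φ (φ.symm b.1)) = 1
            rw [φ.apply_symm_apply]; exact b.2⟩
          left_inv := fun a => Subtype.ext (φ.symm_apply_apply _)
          right_inv := fun b => Subtype.ext (φ.apply_symm_apply _) }
    rw [h2, show Nat.card (Multiplicative (ZMod 2)) = 2 from Nat.card_zmod 2] at h1
    norm_num at h1
  have hbij : Function.Bijective (σ.comp (commutator Γ).subtype) := by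
    constructor
    · refine (injective_iff_map_eq_one _).2 fun x hx => Subtype.ext ?_
      have : (x : Γ) ∈ commutator Γ ⊓ B := ⟨x.2, hker ▸ hx⟩
      rwa [hinf, mem_bot] at this
    · intro y
      obtain ⟨x, hx, hxy⟩ := himg.symm ▸ mem_top y
      exact ⟨⟨x, hx⟩, hxy⟩
  let ψ : commutator Γ ≃* Cfsg.Spor.J2 := MulEquiv.ofBijective _ hbij
  refine ⟨le_antisymm ?_ ?_, ⟨ψ⟩, hinf, hsup⟩
  · rw [← CfsgLib.Cores.commutator_layer_self (G := Γ), _root_.commutator_def]
    exact commutator_mono le_top le_top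
  · refine CfsgLib.Cores.component_le_layer ⟨(inferInstance : (commutator Γ).Normal).isSubnormal, ?_⟩
    haveI : Nontrivial (commutator Γ) := ψ.toEquiv.nontrivial
    haveI hs : IsSimpleGroup (commutator Γ) := IsSimpleGroup.isSimpleGroup_of_surjective ψ.symm.toMonoidHom ψ.symm.surjective
    refine CfsgLib.Components.Alt.isQuasisimple_of_simple hs ((eq_bot_iff).2 fun x hx => ?_)
    have : ψ x ∈ center Cfsg.Spor.J2 := mem_center_iff.2 fun y => by
      obtain ⟨y, rfl⟩ := ψ.surjective y
      rw [← map_mul, ← map_mul, mem_center_iff.1 hx y]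
    rw [j2_comm_top.2, mem_bot] at this
    exact mem_bot.2 (ψ.injective (this.trans (map_one ψ).symm))

end CfsgLib.CoType
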