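import Mathlib
import Cfsg.Agent.Lib.CoType.FiveOrbit
import Cfsg.Agent.Lib.CoType.JTwoSplit
import Cfsg.Agent.Lib.CoType.Distinct
import Cfsg.Agent.Lib.JTwoUniq.Main
import Cfsg.Agent.Lib.HJType.Generate
import Cfsg.Agent.Lib.LargeExtra.SubExtra

/-!
The centralizer of the element of order five: a group of type J2 and its centralizer.
-/

set_option autoImplicit false
set_option linter.style.haveILetI false
set_option linter.unusedSectionVars false

namespace CfsgLib.CoType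

open Subgroup CfsgLib.Classical
open scoped commutatorElement

variable {G : Type*} [Group G] [Finite G] {z t : G} {Q R : Subgroup G} {π π' : G → V8} {ρ ρ' : G → qAut qm}
  {b : G} {s w : Fin 5 → V8}

theorem eq_one_of_pow_two_five {H : Type*} [Group H] {x : H} {k : ℕ} (h2 : x ^ 2 ^ k = 1) (h5 : x ^ 5 = 1) :
    x = 1 :=
  orderOf_eq_one_iff.1 (Nat.eq_one_of_dvd_coprimes (Nat.Coprime.pow_left k (by norm_num : Nat.Coprime 2 5))
    (orderOf_dvd_of_pow_eq_one h2) (orderOf_dvd_of_pow_eq_one h5))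

theorem five_main (F : FivePair z t Q R π π' ρ ρ' b s w) (hE : Cfsg.IsExtraspecial 2 (cQ Q b)) (Γ : Subgroup G)
    (hΓ : ∀ x, x ∈ Γ ↔ x * b = b * x) :
    Cfsg.Spor.IsoJ2 ↥(Cfsg.layer Γ) ∧
      Nonempty (↥(centralizer (((Cfsg.layer Γ).map Γ.subtype : Subgroup G) : Set G)) ≃* alternatingGroup (Fin 5)) := by
  classical
  have D := F.D
  have S := D.S
  have P := F.C.P
  haveI : Fact (Nat.Prime 5) := ⟨by norm_num⟩
  have hzb : z * b = b * z := (mem_centralizer_singleton_iff.1 D.hbz).symm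
  have hQΓ : cQ Q b ≤ Γ := fun q hq => (hΓ q).2 (mem_centralizer_singleton_iff.1 hq.2)
  have hRΓ : cQ R b ≤ Γ := fun q hq => (hΓ q).2 (mem_centralizer_singleton_iff.1 hq.2)
  have hLΓ : LL z Q b ≤ Γ := fun q hq => (hΓ q).2 (mem_centralizer_singleton_iff.1 hq.1.2)
  obtain ⟨y, hyb, hyt, hyR⟩ := F.exists_y
  -- the central subgroup
  set β : Γ := ⟨b, (hΓ b).2 rfl⟩ with hβ
  set Bz : Subgroup Γ := zpowers β with hBz
  have hBc : Bz ≤ center Γ := zpowers_le.2 (mem_center_iff.2 fun g => Subtype.ext ((hΓ g).1 g.2))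
  haveI : Bz.Normal := ⟨fun n hn g => by rwa [mem_center_iff.1 (hBc hn) g, mul_inv_cancel_right]⟩
  have hβ5 : β ^ 5 = 1 := Subtype.ext (by rw [Subgroup.coe_pow, hβ, D.hb5, Subgroup.coe_one])
  have hBcard : Nat.card Bz = 5 := by
    rw [hBz, Nat.card_zpowers]
    exact orderOf_eq_prime hβ5 fun h => D.hb1 (congrArg Subtype.val h)
  have hB5 : ∀ x ∈ Bz, x ^ 5 = 1 := fun x hx => by
    obtain ⟨k, rfl⟩ := mem_zpowers_iff.1 hx
    rw [← zpow_natCast, ← zpow_mul, mul_comm, zpow_mul, zpow_natCast, hβ5, one_zpow]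
  set q₀ : Γ →* Γ ⧸ Bz := QuotientGroup.mk' Bz with hq₀
  have hq₀s : Function.Surjective q₀ := QuotientGroup.mk'_surjective Bz
  -- involutions lift uniquely
  have inv_eq : ∀ u v : Γ, (u : G) * u = 1 → (v : G) * v = 1 → q₀ u = q₀ v → u = v := by
    intro u v hu hv h
    have hm : u⁻¹ * v ∈ Bz := QuotientGroup.eq.1 h
    have hc := mem_center_iff.1 (hBc hm) u
    have hu' : u * u = 1 := Subtype.ext hu
    have hv' : v * v = 1 := Subtype.ext hv
    have h2 : (u⁻¹ * v) ^ 2 ^ 1 = 1 := by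
      rw [pow_one, pow_two]
      calc u⁻¹ * v * (u⁻¹ * v) = u⁻¹ * ((u * (u⁻¹ * v)) * (u⁻¹ * v)) := by group
        _ = u⁻¹ * (((u⁻¹ * v) * u) * (u⁻¹ * v)) := by rw [hc]
        _ = (u * u)⁻¹ * (v * v) := by group
        _ = 1 := by rw [hu', hv']; group
    exact inv_mul_eq_one.1 (eq_one_of_pow_two_five h2 (hB5 _ hm))
  set zΓ : Γ := ⟨z, (hΓ z).2 hzb⟩ with hzΓ
  have hzz : (zΓ : G) * zΓ = 1 := S.z2
  have hconj : ∀ x u : Γ, (u : G) * u = 1 → q₀ x * q₀ u = q₀ u * q₀ x → (x : G) * u = u * x := by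
    intro x u hu h
    have e : x * u * x⁻¹ = u := inv_eq _ _ (by
      calc ((x * u * x⁻¹ : Γ) : G) * (x * u * x⁻¹ : Γ) = x * ((u : G) * u) * (x : G)⁻¹ := by
            simp only [Subgroup.coe_mul, Subgroup.coe_inv]; group
        _ = 1 := by rw [hu, mul_one, mul_inv_cancel]) hu (by
      rw [map_mul, map_mul, map_inv, h, mul_inv_cancel_right])
    exact congrArg Subtype.val (mul_inv_eq_iff_eq_mul.1 e)
  have hBQ : ∀ x : Γ, x ∈ Bz → (x : G) ∈ Q → x = 1 := fun x hx hxQ => by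
    by_contra hne
    have h5 : (x : G) ^ 5 = 1 := by rw [← Subgroup.coe_pow, hB5 x hx, Subgroup.coe_one]
    exact S.not_mem_Q (S.le hxQ) h5 (fun h => hne (Subtype.ext h)) hxQ
  let ψ : cQ Q b →* Γ ⧸ Bz := q₀.comp (Subgroup.inclusion hQΓ)
  have hψ : Function.Injective ψ := (injective_iff_map_eq_one ψ).2 fun x hx => by
    have h1 := hBQ _ ((QuotientGroup.eq_one_iff _).1 hx) x.2.1
    exact Subtype.ext (congrArg (fun y : Γ => (y : G)) h1)
  set Qb := ψ.range with hQb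
  have hψmem : ∀ (q : G) (hq : q ∈ cQ Q b), q₀ ⟨q, hQΓ hq⟩ ∈ Qb := fun q hq => ⟨⟨q, hq⟩, rfl⟩
  -- the centralizer of the involution
  set zb' := q₀ zΓ with hzb'
  have hcom : (centralizer ({zb'} : Set (Γ ⧸ Bz))).comap q₀ =
      (centralizer ({z} : Set G) ⊓ centralizer ({b} : Set G)).subgroupOf Γ := by
    ext x
    rw [mem_comap, mem_subgroupOf, mem_centralizer_singleton_iff]
    constructor
    · exact fun h => ⟨mem_centralizer_singleton_iff.2 (hconj x zΓ hzz h),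
        mem_centralizer_singleton_iff.2 ((hΓ x).1 x.2)⟩
    · intro h
      rw [hzb', ← map_mul, ← map_mul]
      exact congrArg q₀ (Subtype.ext (mem_centralizer_singleton_iff.1 h.1))
  have hcardC : Nat.card (centralizer ({zb'} : Set (Γ ⧸ Bz))) = 1920 := by
    have hK : Nat.card ((centralizer ({z} : Set G) ⊓ centralizer ({b} : Set G)).subgroupOf Γ) = 9600 := by
      rw [Nat.card_congr (subgroupOfEquivOfLe (fun x hx => (hΓ x).2 (mem_centralizer_singleton_iff.1 hx.2) :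
        centralizer ({z} : Set G) ⊓ centralizer ({b} : Set G) ≤ Γ)).toEquiv, D.card_K]
    have h1 := card_mul_index ((centralizer ({z} : Set G) ⊓ centralizer ({b} : Set G)).subgroupOf Γ)
    rw [hK, ← hcom, index_comap_of_surjective _ hq₀s] at h1
    have h2 := card_mul_index (centralizer ({zb'} : Set (Γ ⧸ Bz)))
    have h3 := card_mul_index Bz
    rw [index_eq_card, ← h2, hBcard] at h3
    have hi : 0 < (centralizer ({zb'} : Set (Γ ⧸ Bz))).index := Nat.pos_of_ne_zero index_ne_zero_of_finite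
    have h4 : (Nat.card (centralizer ({zb'} : Set (Γ ⧸ Bz))) * 5) * (centralizer ({zb'} : Set (Γ ⧸ Bz))).index =
        9600 * (centralizer ({zb'} : Set (Γ ⧸ Bz))).index := by rw [h1, ← h3]; ring
    have := Nat.eq_of_mul_eq_mul_right hi h4
    omega
  have hCQ' : ∀ x : Γ ⧸ Bz, x ∈ centralizer ({zb'} : Set (Γ ⧸ Bz)) →
      ∃ c : Γ, q₀ c = x ∧ (c : G) ∈ centralizer ({z} : Set G) := by
    intro x hx
    obtain ⟨c, rfl⟩ := hq₀s x
    exact ⟨c, rfl, mem_centralizer_singleton_iff.2 (hconj c zΓ hzz (mem_centralizer_singleton_iff.1 hx))⟩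
  have hzcQ : z ∈ cQ Q b := S.z_mem_cQ D.hbz D.hb5
  have htcQ : t ∈ cQ Q b := F.t_cQ
  have hne : ∀ u v : Γ, (u : G) * u = 1 → (v : G) * v = 1 → (u : G) ≠ v → q₀ u ≠ q₀ v := fun u v hu hv h e =>
    h (congrArg Subtype.val (inv_eq u v hu hv e))
  set yΓ : Γ := ⟨y, (hΓ y).2 hyb⟩ with hyΓ
  set tΓ : Γ := ⟨t, hQΓ htcQ⟩ with htΓ
  have hytΓ : yΓ * tΓ * yΓ⁻¹ = zΓ := Subtype.ext hyt
  have htt : (tΓ : G) * tΓ = 1 := P.S'.z2
  have st : HJType.Setup zb' Qb := by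
    refine ⟨orderOf_eq_prime (p := 2) ?_ ?_, ?_, ?_, ?_, ?_, hcardC, ?_, ⟨q₀ yΓ⁻¹, ?_, ?_⟩⟩
    · rw [hzb', ← map_pow]
      exact (congrArg q₀ (Subtype.ext (by rw [Subgroup.coe_pow, pow_two]; exact S.z2) : zΓ ^ 2 = 1)).trans (map_one _)
    · intro h
      exact hne zΓ 1 hzz (one_mul 1) S.z1 (h.trans (map_one q₀).symm)
    · rintro _ ⟨q, rfl⟩
      rw [mem_centralizer_singleton_iff, hzb']
      show q₀ (inclusion hQΓ q) * q₀ zΓ = q₀ zΓ * q₀ (inclusion hQΓ q)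
      rw [← map_mul, ← map_mul]
      exact congrArg q₀ (Subtype.ext (S.z_comm q.2.1))
    · intro x hx
      obtain ⟨c, rfl, hcz⟩ := hCQ' x hx
      refine mem_normalizer_iff.2 fun u => ⟨?_, ?_⟩
      · rintro ⟨q, rfl⟩
        have hm : (c : G) * q * (c : G)⁻¹ ∈ cQ Q b := by
          refine ⟨S.conj_mem hcz q.2.1, mem_centralizer_singleton_iff.2 ?_⟩
          have e1 : Commute (c : G) b := (hΓ c).1 c.2
          have e2 : Commute (q : G) b := mem_centralizer_singleton_iff.1 q.2.2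
          exact ((e1.mul_left e2).mul_left e1.inv_left).eq
        refine ⟨⟨_, hm⟩, ?_⟩
        show q₀ (inclusion hQΓ ⟨_, hm⟩) = _
        rw [show (inclusion hQΓ ⟨_, hm⟩ : Γ) = c * inclusion hQΓ q * c⁻¹ from Subtype.ext rfl,
          map_mul, map_mul, map_inv]
        rfl
      · rintro ⟨q, hq⟩
        have hm : (c : G)⁻¹ * q * c ∈ cQ Q b := by
          refine ⟨by simpa using S.conj_mem (inv_mem hcz) q.2.1, mem_centralizer_singleton_iff.2 ?_⟩
          have e1 : Commute (c : G) b := (hΓ c).1 c.2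
          have e2 : Commute (q : G) b := mem_centralizer_singleton_iff.1 q.2.2
          exact ((e1.inv_left.mul_left e2).mul_left e1).eq
        refine ⟨⟨_, hm⟩, ?_⟩
        show q₀ (inclusion hQΓ ⟨_, hm⟩) = u
        rw [show (inclusion hQΓ ⟨_, hm⟩ : Γ) = c⁻¹ * inclusion hQΓ q * c from Subtype.ext rfl, map_mul, map_mul,
          map_inv, show q₀ (inclusion hQΓ q) = q₀ c * u * (q₀ c)⁻¹ from hq]
        group
    · exact CfsgLib.LargeExtra.isExtraspecial_of_mulEquiv (MonoidHom.ofInjective hψ) hE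
    · rw [← Nat.card_congr (MonoidHom.ofInjective hψ).toEquiv, D.card_cQ]
    · intro x hx hc
      obtain ⟨c, rfl, hcz⟩ := hCQ' x hx
      have hcomm : ∀ q ∈ cQ Q b, (c : G) * q = q * c := by
        intro q hq
        have h1 := hc _ (hψmem q hq)
        rw [← map_mul, ← map_mul] at h1
        have h2 : (c * ⟨q, hQΓ hq⟩)⁻¹ * (⟨q, hQΓ hq⟩ * c) ∈ Bz := QuotientGroup.eq.1 h1
        have h3 : (((c * ⟨q, hQΓ hq⟩)⁻¹ * (⟨q, hQΓ hq⟩ * c) : Γ) : G) ∈ Q := by
          show ((c : G) * q)⁻¹ * (q * c) ∈ Q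
          rw [show ((c : G) * q)⁻¹ * (q * c) = q⁻¹ * ((c : G)⁻¹ * q * (c : G)⁻¹⁻¹) by group]
          exact mul_mem (inv_mem hq.1) (S.conj_mem (inv_mem hcz) hq.1)
        exact congrArg Subtype.val (inv_mul_eq_one.1 (hBQ _ h2 h3))
      obtain ⟨i, hi⟩ := D.self_cQ hcz ((hΓ c).1 c.2) hcomm
      have hmem := hψmem _ hi
      rw [show (⟨(b ^ i)⁻¹ * (c : G), hQΓ hi⟩ : Γ) = (β ^ i)⁻¹ * c from Subtype.ext (by
        rw [Subgroup.coe_mul, Subgroup.coe_inv, Subgroup.coe_pow]), map_mul, map_inv, map_pow,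
        show q₀ β = 1 from (QuotientGroup.eq_one_iff _).2 (mem_zpowers β), one_pow, inv_one, one_mul] at hmem
      exact hmem
    · rw [hzb', ← map_inv, ← map_mul, ← map_mul, ← hytΓ,
        show yΓ⁻¹ * (yΓ * tΓ * yΓ⁻¹) * yΓ⁻¹⁻¹ = tΓ by group]
      exact hψmem t htcQ
    · rw [hzb', ← map_inv, ← map_mul, ← map_mul,
        show yΓ⁻¹ * zΓ * yΓ⁻¹⁻¹ = tΓ by rw [← hytΓ]; group]
      exact hne tΓ zΓ htt hzz P.ne
  -- two classes
  obtain ⟨x, hx, hxb⟩ := F.exists_typeC'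
  have hx2 : x * x = 1 := by obtain ⟨_, _, _, _, _, _, _, h, -⟩ := hx; exact h
  have hxz := F.C.not_conj_z hx
  set xΓ : Γ := ⟨x, (hΓ x).2 hxb⟩ with hxΓ
  have hcl : ∃ u v : Γ ⧸ Bz, orderOf u = 2 ∧ orderOf v = 2 ∧ ¬ IsConj u v := by
    have hord : ∀ u : Γ, (u : G) * u = 1 → (u : G) ≠ 1 → orderOf (q₀ u) = 2 := fun u hu hu1 =>
      orderOf_eq_prime (p := 2) (by
        rw [← map_pow, show u ^ 2 = 1 from Subtype.ext (by rw [Subgroup.coe_pow, pow_two]; exact hu), map_one])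
        fun h => hne u 1 hu (one_mul 1) hu1 (h.trans (map_one q₀).symm)
    refine ⟨q₀ zΓ, q₀ xΓ, st.hz, hord xΓ hx2 (fun h => ?_), fun hc => ?_⟩
    · obtain ⟨a, r, ha, hat, hr, hrz, e, -, hT⟩ := hx
      have e' : a * r = 1 := e.symm.trans h
      have hrQ : r ∈ Q := (eq_inv_of_mul_eq_one_right e').symm ▸ inv_mem ha
      exact hT.nv ((P.w_pm_iff hr hrz).2 hrQ)
    · obtain ⟨g, hg⟩ := isConj_iff.1 hc
      obtain ⟨g, rfl⟩ := hq₀s g
      rw [← map_mul, ← map_inv, ← map_mul] at hg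
      have e := inv_eq (g * zΓ * g⁻¹) xΓ (by
        show (g : G) * z * (g : G)⁻¹ * ((g : G) * z * (g : G)⁻¹) = 1
        exact HJType.conj_invol S.z2) hx2 hg
      exact hxz (isConj_iff.2 ⟨g, congrArg Subtype.val e⟩)
  obtain ⟨eJ⟩ := CfsgLib.JTwoUniq.iso_j2 st hcl
  obtain ⟨hlayer, hiso, hinf, hsup⟩ := split_j2 hBc hBcard eJ
  haveI : IsSimpleGroup (Γ ⧸ Bz) := by
    haveI := CfsgLib.Ico.j2_simple
    haveI : Nontrivial (Γ ⧸ Bz) := eJ.toEquiv.nontrivial
    exact IsSimpleGroup.isSimpleGroup_of_surjective eJ.symm.toMonoidHom eJ.symm.surjective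
  rw [hlayer]
  refine ⟨hiso, ?_⟩
  -- elements of two-power order lie in the derived group
  have htwo : ∀ x : Γ, (x : G) ^ 4 = 1 → x ∈ commutator Γ := by
    intro x hx4
    obtain ⟨l, hl, c, hc, rfl⟩ := mem_sup_of_normal_left.1 (hsup ▸ mem_top x)
    have hcc : Commute l c := mem_center_iff.1 (hBc hc) l
    have h4 : (l * c) ^ 4 = 1 := Subtype.ext (by rw [Subgroup.coe_pow, hx4, Subgroup.coe_one])
    rw [hcc.mul_pow] at h4
    have h5 : c ^ 4 ∈ commutator Γ ⊓ Bz := mem_inf.2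
      ⟨by rw [eq_inv_of_mul_eq_one_right h4]; exact inv_mem (pow_mem hl 4), pow_mem hc 4⟩
    rw [hinf, mem_bot] at h5
    rw [eq_one_of_pow_two_five (k := 2) h5 (hB5 c hc), mul_one]
    exact hl
  -- generation
  let M : Subgroup G := LL z Q b ⊔ (LL z Q b).map (MulAut.conj y⁻¹).toMonoidHom
  set H : Subgroup Γ := M.subgroupOf Γ with hH
  have hHtop : H.map q₀ = ⊤ := by
    have htne : q₀ tΓ ≠ zb' := hne tΓ zΓ htt hzz P.ne
    refine HJType.gen_two st hcl (hψmem t htcQ) ?_ ?_ htne ?_ ?_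
    · rw [← map_mul, show tΓ * tΓ = 1 from Subtype.ext htt, map_one]
    · exact fun h => hne tΓ 1 htt (one_mul 1) P.S'.z1 (h.trans (map_one q₀).symm)
    · intro x hx
      obtain ⟨c, rfl, hcz⟩ := hCQ' x hx
      obtain ⟨i, hi⟩ := D.K_cases hcz ((hΓ c).1 c.2)
      refine ⟨(β ^ i)⁻¹ * c, mem_subgroupOf.2 (mem_sup_left ?_), ?_⟩
      · rw [Subgroup.coe_mul, Subgroup.coe_inv, Subgroup.coe_pow]
        exact hi
      · rw [map_mul, map_inv, map_pow, show q₀ β = 1 from (QuotientGroup.eq_one_iff _).2 (mem_zpowers β), one_pow,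
          inv_one, one_mul]
    · intro x hx
      obtain ⟨c, rfl⟩ := hq₀s x
      have hct : (c : G) * t = t * c := hconj c tΓ htt (mem_centralizer_singleton_iff.1 hx)
      have hyc : y * c * y⁻¹ ∈ centralizer ({z} : Set G) := by
        rw [mem_centralizer_singleton_iff, ← hyt]
        exact (Commute.conj_iff y).2 hct
      have hycb : y * c * y⁻¹ * b = b * (y * c * y⁻¹) := by
        have e1 : Commute y b := hyb
        have e2 : Commute (c : G) b := (hΓ c).1 c.2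
        exact ((e1.mul_left e2).mul_left e1.inv_left).eq
      obtain ⟨i, hi⟩ := D.K_cases hyc hycb
      refine ⟨(β ^ i)⁻¹ * c, mem_subgroupOf.2 (mem_sup_right ⟨_, hi, ?_⟩), ?_⟩
      · rw [Subgroup.coe_mul, Subgroup.coe_inv, Subgroup.coe_pow]
        have e1 : Commute y (b ^ i)⁻¹ := ((show Commute y b from hyb).pow_right i).inv_right
        show y⁻¹ * ((b ^ i)⁻¹ * (y * c * y⁻¹)) * y⁻¹⁻¹ = (b ^ i)⁻¹ * c
        rw [← mul_assoc (b ^ i)⁻¹, ← mul_assoc (b ^ i)⁻¹, ← e1.eq]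
        group
      · rw [map_mul, map_inv, map_pow, show q₀ β = 1 from (QuotientGroup.eq_one_iff _).2 (mem_zpowers β), one_pow,
          inv_one, one_mul]
  have hLH : commutator Γ ≤ H := by
    rw [_root_.commutator_def]
    refine commutator_le.2 fun g₁ _ g₂ _ => ?_
    have hdec : ∀ g : Γ, ∃ h ∈ H, ∃ c ∈ center Γ, g = h * c := fun g => by
      obtain ⟨h, hh, he⟩ : q₀ g ∈ H.map q₀ := hHtop ▸ mem_top _
      exact ⟨h, hh, h⁻¹ * g, hBc (QuotientGroup.eq.1 he), by rw [mul_inv_cancel_left]⟩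
    obtain ⟨h₁, hh₁, c₁, hc₁, rfl⟩ := hdec g₁
    obtain ⟨h₂, hh₂, c₂, hc₂, rfl⟩ := hdec g₂
    have e1 := mem_center_iff.1 hc₁
    have e2 := mem_center_iff.1 hc₂
    have e : ⁅h₁ * c₁, h₂ * c₂⁆ = ⁅h₁, h₂⁆ := by
      calc ⁅h₁ * c₁, h₂ * c₂⁆ = h₁ * (c₁ * h₂) * (c₂ * c₁⁻¹) * h₁⁻¹ * c₂⁻¹ * h₂⁻¹ := by
            rw [commutatorElement_def]; group
        _ = h₁ * h₂ * (c₁ * c₂ * c₁⁻¹) * h₁⁻¹ * c₂⁻¹ * h₂⁻¹ := by rw [← e1 h₂]; group
        _ = h₁ * h₂ * (c₂ * h₁⁻¹) * c₂⁻¹ * h₂⁻¹ := by rw [e2 c₁, mul_inv_cancel_right]; group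
        _ = h₁ * h₂ * h₁⁻¹ * h₂⁻¹ := by rw [← e2 h₁⁻¹]; group
        _ = ⁅h₁, h₂⁆ := (commutatorElement_def _ _).symm
    rw [e]
    exact mul_mem (mul_mem (mul_mem hh₁ hh₂) (inv_mem hh₁)) (inv_mem hh₂)
  -- the centralizer
  obtain ⟨W, ⟨φ⟩, hWX, hWR, hWmax⟩ := F.exists_W
  have hWM : ∀ c ∈ W, M ≤ centralizer ({c} : Set G) := by
    intro c hc
    refine sup_le (fun m hm => mem_centralizer_singleton_iff.2 (D.XX_comm_LL (hWX hc) hm).symm) ?_
    rintro _ ⟨m, hm, rfl⟩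
    have hyX : y * c * y⁻¹ ∈ XX z Q b := by
      refine mem_inf.2 ⟨?_, mem_centralizer_iff.2 fun q hq => ?_⟩
      · rw [mem_centralizer_singleton_iff, ← hyt]
        exact (Commute.conj_iff y).2 (mem_centralizer_singleton_iff.1 (F.mem_Ct (hWX hc)))
      · have hq' : y⁻¹ * q * y ∈ cQ R b := by
          refine ⟨(hyR _).1 ?_, mem_centralizer_singleton_iff.2 ?_⟩
          · rw [show y * (y⁻¹ * q * y) * y⁻¹ = q by group]; exact hq.1
          · have e1 : Commute y b := hyb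
            have e2 : Commute q b := mem_centralizer_singleton_iff.1 hq.2
            exact ((e1.inv_left.mul_left e2).mul_left e1).eq
        have e3 : Commute (y⁻¹ * q * y) c := mem_centralizer_iff.1 (hWR hc) _ hq'
        calc q * (y * c * y⁻¹) = y * (y⁻¹ * q * y * c) * y⁻¹ := by group
          _ = y * c * y⁻¹ * q := by rw [e3.eq]; group
    refine mem_centralizer_singleton_iff.2 ?_
    have e3 : Commute (y * c * y⁻¹) m := D.XX_comm_LL hyX hm
    show y⁻¹ * m * y⁻¹⁻¹ * c = c * (y⁻¹ * m * y⁻¹⁻¹)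
    calc y⁻¹ * m * y⁻¹⁻¹ * c = y⁻¹ * (m * (y * c * y⁻¹)) * y := by group
      _ = c * (y⁻¹ * m * y⁻¹⁻¹) := by rw [← e3.eq]; group
  have hWeq : centralizer (((commutator Γ).map Γ.subtype : Subgroup G) : Set G) = W := by
    ext c
    constructor
    · intro hc
      have hL : ∀ g : Γ, (g : G) ^ 4 = 1 → (g : G) * c = c * g := fun g hg =>
        mem_centralizer_iff.1 hc _ (mem_map_of_mem _ (htwo g hg))
      have hz4 : z ^ 4 = 1 := by rw [show z ^ 4 = z * z * (z * z) by simp only [pow_succ, pow_zero]; group, S.z2, one_mul]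
      refine hWmax c (mem_centralizer_singleton_iff.2 (hL zΓ hz4).symm) (fun x hx => hL ⟨x, hQΓ hx⟩ ?_)
        fun x hx => hL ⟨x, hRΓ hx⟩ ?_
      · show x ^ 4 = 1
        rw [show x ^ 4 = x * x * (x * x) by simp only [pow_succ, pow_zero]; group, S.sq x hx.1, zb_mul S.z2,
          CharTwo.add_self_eq_zero, zb_zero]
      · show x ^ 4 = 1
        rw [show x ^ 4 = x * x * (x * x) by simp only [pow_succ, pow_zero]; group, P.S'.sq x hx.1, zb_mul P.S'.z2,
          CharTwo.add_self_eq_zero, zb_zero]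
    · intro hc
      refine mem_centralizer_iff.2 ?_
      rintro _ ⟨g, hg, rfl⟩
      exact mem_centralizer_singleton_iff.1 (hWM c hc (mem_subgroupOf.1 (hLH hg)))
  exact ⟨(MulEquiv.subgroupCongr hWeq).trans φ⟩

end CfsgLib.CoType
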