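import Mathlib
import Cfsg.Agent.Lib.CoType.InT
import Cfsg.Agent.Lib.SuzType.Form
import Cfsg.Agent.Lib.Classical.Witt

/-!
A standard minus line in the eight-dimensional plus space and the six-dimensional minus space orthogonal to it.
-/

set_option autoImplicit false
set_option linter.style.haveILetI false
set_option linter.unusedSimpArgs false

namespace CfsgLib.CoType

open CfsgLib.Classical

theorem two_eq_zero2 : (2 : ZMod 2) = 0 := by decide

theorem pb_coord (u v : V8) : pb u v =
    u (.inl 0) * v (.inr 0) + u (.inr 0) * v (.inl 0) + (u (.inl 1) * v (.inr 1) + u (.inr 1) * v (.inl 1)) +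
      (u (.inl 2) * v (.inr 2) + u (.inr 2) * v (.inl 2)) + (u (.inl 3) * v (.inr 3) + u (.inr 3) * v (.inl 3)) := by
  rw [pb, QuadraticMap.polar, qm_apply, qm_apply, qm_apply]
  simp only [Pi.add_apply]
  ring

theorem pb6_coord (u v : SuzType.V6) : SuzType.pb u v =
    u (.inl (.inl 0)) * v (.inl (.inr 0)) + u (.inl (.inr 0)) * v (.inl (.inl 0)) +
      (u (.inl (.inl 1)) * v (.inl (.inr 1)) + u (.inl (.inr 1)) * v (.inl (.inl 1))) +
      (u (.inr 0) * v (.inr 1) + u (.inr 1) * v (.inr 0)) := by
  rw [SuzType.pb, QuadraticMap.polar, SuzType.qm_apply, SuzType.qm_apply, SuzType.qm_apply]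
  simp only [Pi.add_apply]
  ring_nf
  simp [two_eq_zero2]

/-- The first vector of the standard minus line. -/
def eD : V8 := Sum.elim ![0, 0, 1, 0] ![0, 0, 1, 0]

/-- The second vector of the standard minus line. -/
def fD : V8 := Sum.elim ![0, 0, 1, 1] ![0, 0, 0, 1]

theorem qm_eD : qm eD = 1 := by rw [qm_apply]; rfl

theorem qm_fD : qm fD = 1 := by rw [qm_apply]; rfl

theorem pb_eD_fD : pb eD fD = 1 := by rw [pb_coord]; rfl

/-- The embedding of the orthogonal space. -/
def emb6 : SuzType.V6 →ₗ[ZMod 2] V8 where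
  toFun x := Sum.elim ![x (.inl (.inl 0)), x (.inl (.inl 1)), x (.inr 1), x (.inr 0) + x (.inr 1)]
    ![x (.inl (.inr 0)), x (.inl (.inr 1)), x (.inr 1), x (.inr 0)]
  map_add' x y := by
    funext i
    rcases i with i | i <;> fin_cases i <;> simp <;> ring
  map_smul' c x := by
    funext i
    rcases i with i | i <;> fin_cases i <;> simp <;> ring

/-- The projection to the orthogonal space. -/
def proj6 : V8 →ₗ[ZMod 2] SuzType.V6 where
  toFun x := Sum.elim (Sum.elim ![x (.inl 0), x (.inl 1)] ![x (.inr 0), x (.inr 1)])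
    ![x (.inl 2) + x (.inr 2) + x (.inr 3), x (.inl 3) + x (.inr 3)]
  map_add' x y := by
    funext i
    rcases i with (i | i) | i <;> fin_cases i <;> simp <;> ring
  map_smul' c x := by
    funext i
    rcases i with (i | i) | i <;> fin_cases i <;> simp <;> ring

theorem proj6_emb6 (v : SuzType.V6) : proj6 (emb6 v) = v := by
  funext i
  rcases i with (i | i) | i <;> fin_cases i <;> simp [proj6, emb6] <;> ring_nf <;> simp [two_eq_zero2]

theorem emb6_inj : Function.Injective emb6 := Function.LeftInverse.injective proj6_emb6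

theorem qm_emb6 (v : SuzType.V6) : qm (emb6 v) = SuzType.qm v := by
  rw [qm_apply, SuzType.qm_apply]
  simp [emb6]
  generalize v (.inr 0) = a
  generalize v (.inr 1) = b
  revert a b
  generalize v (.inl (.inl 0)) * v (.inl (.inr 0)) = c
  generalize v (.inl (.inl 1)) * v (.inl (.inr 1)) = d
  revert c d
  decide

theorem pb_emb6_eD (v : SuzType.V6) : pb (emb6 v) eD = 0 := by
  rw [pb_coord]
  simp [emb6, eD]
  ring_nf
  simp [two_eq_zero2]

theorem pb_emb6_fD (v : SuzType.V6) : pb (emb6 v) fD = 0 := by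
  rw [pb_coord]
  simp [emb6, fD]
  ring_nf
  simp [two_eq_zero2]

theorem pb_emb6 (u v : SuzType.V6) : pb (emb6 u) (emb6 v) = SuzType.pb u v := by
  simp only [pb, SuzType.pb, QuadraticMap.polar, ← map_add, qm_emb6]

theorem decomp8 (x : V8) : emb6 (proj6 x) + pb x fD • eD + pb x eD • fD = x := by
  funext i
  rw [pb_coord, pb_coord]
  rcases i with i | i <;> fin_cases i <;> simp [proj6, emb6, eD, fD] <;> ring_nf <;> simp [two_eq_zero2]

theorem proj6_of_perp {x : V8} (he : pb x eD = 0) (hf : pb x fD = 0) : emb6 (proj6 x) = x := by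
  conv_rhs => rw [← decomp8 x, he, hf, zero_smul, zero_smul, add_zero, add_zero]

theorem qm_decomp (v : SuzType.V6) (a b : ZMod 2) :
    qm (emb6 v + a • eD + b • fD) = SuzType.qm v + (a + b + a * b) := by
  rw [qm_add, qm_add, qm_emb6, quad_smul, quad_smul, qm_eD, qm_fD, pb_add_left, pb_smul_right, pb_smul_right,
    pb_smul_left, pb_smul_right, pb_emb6_eD, pb_emb6_fD, pb_eD_fD]
  revert a b
  generalize SuzType.qm v = c
  revert c
  decide

/-- An isometry of the six-dimensional space, extended by the identity on the line. -/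
noncomputable def extLin (h : qAut SuzType.qm) : V8 →ₗ[ZMod 2] V8 :=
  emb6 ∘ₗ h.1.toLinearMap ∘ₗ proj6 + (QuadraticMap.polarBilin qm fD).smulRight eD +
    (QuadraticMap.polarBilin qm eD).smulRight fD

theorem extLin_apply (h : qAut SuzType.qm) (x : V8) :
    extLin h x = emb6 (h.1 (proj6 x)) + pb x fD • eD + pb x eD • fD := by
  simp [extLin, pb, QuadraticMap.polar_comm]

theorem extLin_emb6 (h : qAut SuzType.qm) (v : SuzType.V6) : extLin h (emb6 v) = emb6 (h.1 v) := by
  rw [extLin_apply, proj6_emb6, pb_emb6_eD, pb_emb6_fD, zero_smul, zero_smul, add_zero, add_zero]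

theorem proj6_eD : proj6 eD = 0 := by
  funext i
  rcases i with (i | i) | i <;> fin_cases i <;> simp [proj6, eD] <;> decide

theorem proj6_fD : proj6 fD = 0 := by
  funext i
  rcases i with (i | i) | i <;> fin_cases i <;> simp [proj6, fD] <;> decide

theorem extLin_eD (h : qAut SuzType.qm) : extLin h eD = eD := by
  rw [extLin_apply, proj6_eD, map_zero, map_zero, pb_self, pb_eD_fD, one_smul, zero_smul, zero_add, add_zero]

theorem extLin_fD (h : qAut SuzType.qm) : extLin h fD = fD := by
  rw [extLin_apply, proj6_fD, map_zero, map_zero, pb_self, pb_comm fD eD, pb_eD_fD, one_smul, zero_smul, zero_add,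
    zero_add]

theorem extLin_mul (g h : qAut SuzType.qm) (x : V8) : extLin (g * h) x = extLin g (extLin h x) := by
  conv_rhs => rw [extLin_apply h, map_add, map_add, map_smul, map_smul, extLin_emb6, extLin_eD, extLin_fD]
  rw [extLin_apply, qAut_mul_apply]

theorem extLin_one (x : V8) : extLin 1 x = x := by
  rw [extLin_apply]
  exact decomp8 x

theorem qm_extLin (h : qAut SuzType.qm) (x : V8) : qm (extLin h x) = qm x := by
  conv_rhs => rw [← decomp8 x]
  rw [extLin_apply, qm_decomp, qm_decomp, h.2]

/-- The extension as an isometry. -/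
noncomputable def extIso (h : qAut SuzType.qm) : qAut qm :=
  ⟨LinearEquiv.ofLinear (extLin h) (extLin h⁻¹)
    (LinearMap.ext fun v => by rw [LinearMap.comp_apply, ← extLin_mul, mul_inv_cancel, extLin_one]; rfl)
    (LinearMap.ext fun v => by rw [LinearMap.comp_apply, ← extLin_mul, inv_mul_cancel, extLin_one]; rfl),
    fun v => qm_extLin h v⟩

theorem extIso_apply (h : qAut SuzType.qm) (x : V8) : (extIso h).1 x = extLin h x := rfl

/-- The extension as a homomorphism. -/
noncomputable def extQ : qAut SuzType.qm →* qAut qm :=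
  MonoidHom.mk' extIso fun g h => qAut_ext fun v => by
    rw [qAut_mul_apply, extIso_apply, extIso_apply, extIso_apply, extLin_mul]

theorem extQ_apply (h : qAut SuzType.qm) (x : V8) : (extQ h).1 x = extLin h x := extIso_apply h x

theorem extQ_mem {h : qAut SuzType.qm} (hh : h ∈ SuzType.Ev) : extQ h ∈ Ev :=
  (Subgroup.map_commutator ⊤ ⊤ extQ ▸ Subgroup.commutator_mono le_top le_top : (commutator _).map extQ ≤ _)
    (Subgroup.mem_map_of_mem extQ hh)

theorem extQ_rf {a : SuzType.V6} (ha : SuzType.qm a = 1) :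
    extQ (SuzType.rf a ha) = rf (emb6 a) ((qm_emb6 a).trans ha) := by
  refine qAut_ext fun x => ?_
  rw [extQ_apply, extLin_apply, rf_apply, SuzType.rf_apply, map_add, map_smul]
  have e : SuzType.pb (proj6 x) a = pb x (emb6 a) := by
    conv_rhs => rw [← decomp8 x]
    rw [pb_add_left, pb_add_left, pb_smul_left, pb_smul_left, pb_comm eD, pb_comm fD, pb_emb6_eD, pb_emb6_fD,
      pb_emb6, mul_zero, mul_zero, add_zero, add_zero]
  rw [e]
  conv_rhs => arg 1; rw [← decomp8 x]
  abel

theorem mem_ev6_of_extQ {h : qAut SuzType.qm} (hh : extQ h ∈ Ev) : h ∈ SuzType.Ev := by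
  by_contra hn
  obtain ⟨a, ha⟩ := exists_value SuzType.qm SuzType.polarNondeg_qm (by rw [Module.finrank_pi]; simp)
    (one_ne_zero (α := ZMod 2))
  have h1 : h * SuzType.rf a ha ∈ SuzType.Ev :=
    (Subgroup.mul_mem_iff_of_index_two SuzType.index_ev).2 (iff_of_false hn (SuzType.rf_not_mem ha))
  have h2 := extQ_mem h1
  rw [map_mul, extQ_rf] at h2
  exact rf_not_mem _ ((Subgroup.mul_mem_cancel_left _ hh).1 h2)

end CfsgLib.CoType
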