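import Mathlib
import Cfsg.Agent.Lib.CoType.ThreeStd
import Cfsg.Agent.Lib.CoType.FiveElt

/-!
Rotations of order three on a minus line of the eight-dimensional plus space, and their centralizers.
-/

set_option autoImplicit false
set_option linter.style.haveILetI false
set_option linter.unusedSimpArgs false

namespace CfsgLib.CoType

open Subgroup CfsgLib.Classical

/-- A rotation on a minus line, the identity on its orthogonal space. -/
def Rot (g : qAut qm) : Prop :=
  ∃ (e f : V8) (he : qm e = 1) (hf : qm f = 1), pb e f = 1 ∧ g = rf e he * rf f hf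

theorem rot_apply {e f : V8} (he : qm e = 1) (hf : qm f = 1) (h : pb e f = 1) (x : V8) :
    (rf e he * rf f hf).1 x = x + pb x f • f + (pb x e + pb x f) • e := by
  rw [qAut_mul_apply, rf_apply, rf_apply, pb_add_left, pb_smul_left, pb_comm f e, h, mul_one]

theorem rot_e {e f : V8} (he : qm e = 1) (hf : qm f = 1) (h : pb e f = 1) :
    (rf e he * rf f hf).1 e = f := by
  rw [rot_apply he hf h, pb_self, h, zero_add, one_smul, one_smul, add_right_comm, add_self8, zero_add]

theorem rot_f {e f : V8} (he : qm e = 1) (hf : qm f = 1) (h : pb e f = 1) :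
    (rf e he * rf f hf).1 f = f + e := by
  rw [rot_apply he hf h, pb_self, pb_comm f e, h, add_zero, zero_smul, add_zero, one_smul]

theorem rot_fix_iff {e f : V8} (he : qm e = 1) (hf : qm f = 1) (h : pb e f = 1) {x : V8} :
    (rf e he * rf f hf).1 x = x ↔ pb x e = 0 ∧ pb x f = 0 := by
  rw [rot_apply he hf h]
  constructor
  · intro e1
    have h1 := congrArg (fun y => pb y e) e1
    have h2 := congrArg (fun y => pb y f) e1
    simp only [pb_add_left, pb_smul_left, pb_self, pb_comm f e, h, mul_zero, mul_one, add_zero] at h1 h2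
    rw [add_eq_left] at h1 h2
    refine ⟨?_, h1⟩
    rwa [h1, add_zero] at h2
  · rintro ⟨e1, e2⟩
    rw [e1, e2, add_zero, zero_smul, zero_smul, add_zero, add_zero]

theorem rot_cube {e f : V8} (he : qm e = 1) (hf : qm f = 1) (h : pb e f = 1) :
    (rf e he * rf f hf) ^ 3 = 1 := by
  refine qAut_ext fun x => ?_
  rw [pow_succ, pow_succ, pow_one, qAut_mul_apply, qAut_mul_apply, rot_apply he hf h x]
  simp only [map_add, map_smul, rot_e he hf h, rot_f he hf h, rot_apply he hf h x]
  show _ = x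
  funext i
  simp only [Pi.add_apply, Pi.smul_apply, smul_eq_mul]
  generalize pb x e = a
  generalize pb x f = b
  generalize x i = c
  generalize e i = d
  generalize f i = k
  revert a b c d k
  decide

theorem rot_ne_one {e f : V8} (he : qm e = 1) (hf : qm f = 1) (h : pb e f = 1) :
    rf e he * rf f hf ≠ 1 := fun e1 => by
  have h1 := (rot_fix_iff he hf h (x := e)).1 (by rw [e1]; rfl)
  rw [h] at h1
  exact one_ne_zero h1.2

theorem Rot.mem_ev {g : qAut qm} (hg : Rot g) : g ∈ Ev := by
  obtain ⟨e, f, he, hf, -, rfl⟩ := hg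
  exact rf_mul_mem he hf

theorem Rot.cube {g : qAut qm} (hg : Rot g) : g ^ 3 = 1 := by
  obtain ⟨e, f, he, hf, h, rfl⟩ := hg
  exact rot_cube he hf h

theorem Rot.ne_one {g : qAut qm} (hg : Rot g) : g ≠ 1 := by
  obtain ⟨e, f, he, hf, h, rfl⟩ := hg
  exact rot_ne_one he hf h

theorem rf_conj (k : qAut qm) {a : V8} (ha : qm a = 1) :
    k * rf a ha * k⁻¹ = rf (k.1 a) ((qAut_map k a).trans ha) := by
  refine mul_inv_eq_iff_eq_mul.2 (qAut_ext fun x => ?_)
  rw [qAut_mul_apply, qAut_mul_apply, rf_apply, rf_apply, map_add, map_smul, pb_map]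

theorem rot_conj (k : qAut qm) {e f : V8} (he : qm e = 1) (hf : qm f = 1) :
    k * (rf e he * rf f hf) * k⁻¹ =
      rf (k.1 e) ((qAut_map k e).trans he) * rf (k.1 f) ((qAut_map k f).trans hf) := by
  rw [← rf_conj k he, ← rf_conj k hf]
  group

theorem rot_congr {e f e' f' : V8} (he : qm e = 1) (hf : qm f = 1) (he' : qm e' = 1) (hf' : qm f' = 1)
    (h1 : e = e') (h2 : f = f') : rf e he * rf f hf = rf e' he' * rf f' hf' := by
  subst h1 h2
  rfl

/-- Any minus line is an image of the standard one under the index two subgroup. -/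
theorem exists_std_line {e f : V8} (he : qm e = 1) (hf : qm f = 1) (h : pb e f = 1) :
    ∃ k ∈ Ev, k.1 eD = e ∧ k.1 fD = f := by
  classical
  let X : Submodule (ZMod 2) V8 := Submodule.span (ZMod 2) {eD, fD}
  let L : V8 →ₗ[ZMod 2] V8 :=
    (QuadraticMap.polarBilin qm fD).smulRight e + (QuadraticMap.polarBilin qm eD).smulRight f
  have hL : ∀ x, L x = pb fD x • e + pb eD x • f := fun x => rfl
  have key : ∀ a : X, ∃ c d : ZMod 2, (a : V8) = c • eD + d • fD ∧ L a = c • e + d • f := fun a => by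
    obtain ⟨c, d, hcd⟩ := Submodule.mem_span_pair.1 a.2
    refine ⟨c, d, hcd.symm, ?_⟩
    rw [← hcd, hL, pb_add_right, pb_add_right, pb_smul_right, pb_smul_right, pb_smul_right, pb_smul_right,
      pb_self, pb_self, pb_eD_fD, pb_comm fD eD, pb_eD_fD, mul_one, mul_one, mul_zero, mul_zero, add_zero, zero_add]
  obtain ⟨k, hk, hkX⟩ := witt_quad qm polarNondeg_qm X (L ∘ₗ X.subtype) (by
    refine (injective_iff_map_eq_zero _).2 fun a ha => ?_
    obtain ⟨c, d, h1, h2⟩ := key a
    rw [LinearMap.comp_apply, Submodule.subtype_apply, h2] at ha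
    have e1 := congrArg (fun y => pb y e) ha
    have e2 := congrArg (fun y => pb y f) ha
    simp only [pb_add_left, pb_smul_left, pb_self, pb_comm f e, h, pb_zero_left, mul_zero, mul_one, add_zero,
      zero_add] at e1 e2
    exact Subtype.ext (by rw [h1, e1, e2, zero_smul, zero_smul, add_zero]; rfl)) (fun a => by
    obtain ⟨c, d, h1, h2⟩ := key a
    rw [LinearMap.comp_apply, Submodule.subtype_apply, h2, h1, qm_add, qm_add, quad_smul, quad_smul, quad_smul,
      quad_smul, pb_smul_left, pb_smul_left, pb_smul_right, pb_smul_right, he, hf, qm_eD, qm_fD, h, pb_eD_fD])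
  let k' : qAut qm := ⟨k, hk⟩
  have ke : k'.1 eD = e := by
    refine (hkX ⟨eD, Submodule.subset_span (by simp)⟩).trans ?_
    show L eD = e
    rw [hL, pb_comm fD eD, pb_eD_fD, pb_self, one_smul, zero_smul, add_zero]
  have kf : k'.1 fD = f := by
    refine (hkX ⟨fD, Submodule.subset_span (by simp)⟩).trans ?_
    show L fD = f
    rw [hL, pb_self, pb_eD_fD, one_smul, zero_smul, zero_add]
  by_cases hev : k' ∈ Ev
  · exact ⟨k', hev, ke, kf⟩
  obtain ⟨a, ha⟩ := exists_value SuzType.qm SuzType.polarNondeg_qm (by rw [Module.finrank_pi]; simp)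
    (one_ne_zero (α := ZMod 2))
  have ha' : qm (emb6 a) = 1 := (qm_emb6 a).trans ha
  refine ⟨k' * rf (emb6 a) ha', (Subgroup.mul_mem_iff_of_index_two index_ev).2 (iff_of_false hev (rf_not_mem ha')),
    ?_, ?_⟩
  · rw [qAut_mul_apply, rf_fix ha' (by rw [pb_comm, pb_emb6_eD]), ke]
  · rw [qAut_mul_apply, rf_fix ha' (by rw [pb_comm, pb_emb6_fD]), kf]

/-- The standard rotation. -/
noncomputable def gD : qAut qm := rf eD qm_eD * rf fD qm_fD

theorem rot_gD : Rot gD := ⟨_, _, _, _, pb_eD_fD, rfl⟩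

theorem Rot.exists_conj {g : qAut qm} (hg : Rot g) : ∃ k ∈ Ev, k * gD * k⁻¹ = g := by
  obtain ⟨e, f, he, hf, h, rfl⟩ := hg
  obtain ⟨k, hk, h1, h2⟩ := exists_std_line he hf h
  exact ⟨k, hk, (rot_conj k _ _).trans (rot_congr _ _ he hf h1 h2)⟩

theorem gD_emb6 (v : SuzType.V6) : gD.1 (emb6 v) = emb6 v :=
  (rot_fix_iff _ _ pb_eD_fD).2 ⟨pb_emb6_eD v, pb_emb6_fD v⟩

theorem pb_proj6 (x : V8) (v : SuzType.V6) : SuzType.pb (proj6 x) v = pb x (emb6 v) := by
  conv_rhs => rw [← decomp8 x]
  rw [pb_add_left, pb_add_left, pb_smul_left, pb_smul_left, pb_comm eD, pb_comm fD, pb_emb6_eD, pb_emb6_fD,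
    pb_emb6, mul_zero, mul_zero, add_zero, add_zero]

/-- The centralizer of the standard rotation. -/
noncomputable abbrev cD : Subgroup (qAut qm) := centralizer ({gD} : Set (qAut qm))

theorem cD_comm (c : cD) (x : V8) : (c : qAut qm).1 (gD.1 x) = gD.1 ((c : qAut qm).1 x) := by
  rw [← qAut_mul_apply, ← qAut_mul_apply, mem_centralizer_singleton_iff.1 c.2]

theorem cD_emb6 (c : cD) (v : SuzType.V6) :
    emb6 (proj6 ((c : qAut qm).1 (emb6 v))) = (c : qAut qm).1 (emb6 v) := by
  have h : gD.1 ((c : qAut qm).1 (emb6 v)) = (c : qAut qm).1 (emb6 v) := by rw [← cD_comm, gD_emb6]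
  obtain ⟨h1, h2⟩ := (rot_fix_iff _ _ pb_eD_fD).1 h
  exact proj6_of_perp h1 h2

/-- The restriction to the orthogonal space. -/
noncomputable def chi : cD →* qAut SuzType.qm where
  toFun c := ⟨LinearEquiv.ofLinear (proj6 ∘ₗ (c : qAut qm).1.toLinearMap ∘ₗ emb6)
      (proj6 ∘ₗ ((c⁻¹ : cD) : qAut qm).1.toLinearMap ∘ₗ emb6)
      (LinearMap.ext fun v => by
        simp only [LinearMap.comp_apply, LinearEquiv.coe_coe, cD_emb6, LinearMap.id_apply]
        rw [← qAut_mul_apply, ← Subgroup.coe_mul, mul_inv_cancel]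
        exact proj6_emb6 v)
      (LinearMap.ext fun v => by
        simp only [LinearMap.comp_apply, LinearEquiv.coe_coe, cD_emb6, LinearMap.id_apply]
        rw [← qAut_mul_apply, ← Subgroup.coe_mul, inv_mul_cancel]
        exact proj6_emb6 v),
    fun v => by
      show SuzType.qm (proj6 ((c : qAut qm).1 (emb6 v))) = _
      rw [← qm_emb6, cD_emb6, qAut_map, qm_emb6]⟩
  map_one' := qAut_ext fun v => proj6_emb6 v
  map_mul' c d := qAut_ext fun v => by
    show proj6 (((c * d : cD) : qAut qm).1 (emb6 v)) = proj6 ((c : qAut qm).1 (emb6 (proj6 ((d : qAut qm).1 (emb6 v)))))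
    rw [cD_emb6, Subgroup.coe_mul, qAut_mul_apply]

theorem chi_apply (c : cD) (v : SuzType.V6) : emb6 ((chi c).1 v) = (c : qAut qm).1 (emb6 v) := cD_emb6 c v

theorem extQ_mem_cD (h : qAut SuzType.qm) : extQ h ∈ cD := by
  refine mem_centralizer_singleton_iff.2 ?_
  have key : extQ h * gD * (extQ h)⁻¹ = gD :=
    (rot_conj _ _ _).trans (rot_congr _ _ qm_eD qm_fD (extLin_eD h) (extLin_fD h))
  exact mul_inv_eq_iff_eq_mul.1 key

theorem chi_extQ (h : qAut SuzType.qm) : chi ⟨extQ h, extQ_mem_cD h⟩ = h := qAut_ext fun v =>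
  emb6_inj (by rw [chi_apply]; exact extLin_emb6 h v)

/-- An element commuting with the rotation is an extension times a power of it. -/
theorem cD_decomp (c : cD) : ∃ i : ℕ, (c : qAut qm) = extQ (chi c) * gD ^ i := by
  have hp : proj6 ((c : qAut qm).1 eD) = 0 := SuzType.polarNondeg_qm _ fun v => by
    show SuzType.pb _ v = 0
    rw [pb_proj6]
    have hv : emb6 v = (c : qAut qm).1 (((c⁻¹ : cD) : qAut qm).1 (emb6 v)) := by
      rw [← qAut_mul_apply, ← Subgroup.coe_mul, mul_inv_cancel]; rfl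
    rw [hv, pb_map, ← cD_emb6, pb_comm, pb_emb6_eD]
  have hd := decomp8 ((c : qAut qm).1 eD)
  rw [hp, map_zero, zero_add] at hd
  have hq : qm ((c : qAut qm).1 eD) = 1 := (qAut_map _ _).trans qm_eD
  obtain ⟨i, hi⟩ : ∃ i : ℕ, (c : qAut qm).1 eD = (gD ^ i).1 eD := by
    have e1 : gD.1 eD = fD := rot_e _ _ pb_eD_fD
    have e2 : gD.1 fD = fD + eD := rot_f _ _ pb_eD_fD
    rcases two_cases (pb ((c : qAut qm).1 eD) fD) with a | a <;>
      rcases two_cases (pb ((c : qAut qm).1 eD) eD) with b | b <;> rw [a, b] at hd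
    · exfalso
      rw [← hd, zero_smul, zero_smul, add_zero, QuadraticMap.map_zero] at hq
      exact zero_ne_one hq
    · exact ⟨1, by rw [pow_one, e1, ← hd, zero_smul, one_smul, zero_add]⟩
    · exact ⟨0, by rw [pow_zero, ← hd, one_smul, zero_smul, add_zero]; rfl⟩
    · exact ⟨2, by rw [pow_two, qAut_mul_apply, e1, e2, ← hd, one_smul, one_smul, add_comm]⟩
  refine ⟨i, qAut_ext fun x => ?_⟩
  have hemb : ∀ (n : ℕ) (v : SuzType.V6), (gD ^ n).1 (emb6 v) = emb6 v := by
    intro n
    induction n with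
    | zero => intro v; rfl
    | succ n ih => intro v; rw [pow_succ, qAut_mul_apply, gD_emb6, ih]
  have hle : ∀ y, (extQ (chi c)).1 (pb y fD • eD + pb y eD • fD) = pb y fD • eD + pb y eD • fD := fun y => by
    rw [extQ_apply, map_add, map_smul, map_smul, extLin_eD, extLin_fD]
  have hf : (c : qAut qm).1 fD = (gD ^ i).1 fD := by
    rw [← rot_e qm_eD qm_fD pb_eD_fD, ← gD, cD_comm, hi, ← qAut_mul_apply, ← qAut_mul_apply, ← pow_succ', pow_succ]
  have hg : ∀ a b : ZMod 2, (extQ (chi c)).1 ((gD ^ i).1 (a • eD + b • fD)) = (gD ^ i).1 (a • eD + b • fD) := by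
    intro a b
    set y := (gD ^ i).1 (a • eD + b • fD) with hy
    have hy0 : proj6 y = 0 := SuzType.polarNondeg_qm _ fun v => by
      show SuzType.pb _ v = 0
      rw [pb_proj6, ← hemb i v, hy, pb_map, pb_add_left, pb_smul_left, pb_smul_left, pb_comm eD, pb_comm fD,
        pb_emb6_eD, pb_emb6_fD, mul_zero, mul_zero, add_zero]
    have h := decomp8 y
    rw [hy0, map_zero, zero_add] at h
    rw [← h]
    exact hle y
  conv_lhs => rw [← decomp8 x, add_assoc, map_add, ← chi_apply, map_add, map_smul, map_smul, hi, hf, ← map_smul,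
    ← map_smul, ← map_add]
  conv_rhs => rw [← decomp8 x, qAut_mul_apply, add_assoc, map_add, hemb, map_add (extQ (chi c)).1, hg, extQ_apply,
    extLin_emb6]

theorem chi_ker {c : cD} (h : chi c = 1) : (c : qAut qm) ∈ zpowers gD := by
  obtain ⟨i, hi⟩ := cD_decomp c
  rw [hi, h, map_one, one_mul]
  exact pow_mem (mem_zpowers _) i

theorem chi_mem_ev_iff (c : cD) : chi c ∈ SuzType.Ev ↔ (c : qAut qm) ∈ Ev := by
  obtain ⟨i, hi⟩ := cD_decomp c
  rw [hi, mul_mem_cancel_right (pow_mem rot_gD.mem_ev i)]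
  exact ⟨extQ_mem, mem_ev6_of_extQ⟩

/-- A recognition of the rotations by their fixed space. -/
theorem rot_of_fix {g : qAut qm} (h3 : g ^ 3 = 1) (h1 : g ≠ 1) (hfix : 32 ≤ Nat.card (fixV g)) : Rot g := by
  classical
  have it : ∀ x, g.1 (g.1 (g.1 x)) = x := fun x => by
    rw [← qAut_mul_apply, ← qAut_mul_apply, ← pow_two, ← pow_succ, h3]; rfl
  let tr : V8 →+ V8 := AddMonoidHom.mk' (fun x => x + g.1 x + g.1 (g.1 x)) fun a b => by
    simp only [map_add]; abel
  have htr : ∀ x, tr x = x + g.1 x + g.1 (g.1 x) := fun x => rfl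
  have htrf : ∀ x, tr x ∈ fixV g := fun x => by
    show g.1 (tr x) = tr x
    rw [htr, map_add, map_add, it]; abel
  have hself : ∀ v : V8, v + v + v = v := fun v => by rw [add_self8, zero_add]
  have hfixtr : ∀ v ∈ fixV g, tr v = v := fun v hv => by
    rw [htr, show g.1 v = v from hv, show g.1 v = v from hv, hself]
  have hperp : ∀ v ∈ fixV g, ∀ x, pb v x = pb v (tr x) := fun v hv x => by
    have e : ∀ y, pb v (g.1 y) = pb v y := fun y => by
      conv_lhs => rw [← show g.1 v = v from hv]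
      exact pb_map g v y
    rw [htr, pb_add_right, pb_add_right, e, e, e]
    exact (by decide : ∀ a : ZMod 2, a = a + a + a) _
  have hker : Nat.card tr.ker ≤ 8 := by
    have hr : tr.range = fixV g := by
      refine le_antisymm (by rintro _ ⟨x, rfl⟩; exact htrf x) fun v hv => ⟨v, hfixtr v hv⟩
    have e := AddSubgroup.card_mul_index tr.ker
    rw [AddSubgroup.index_ker, hr, show Nat.card V8 = 256 by simp] at e
    nlinarith
  obtain ⟨x, hx⟩ : ∃ x, g.1 x ≠ x := by
    by_contra hc; push Not at hc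
    exact h1 (qAut_ext fun x => hc x)
  obtain ⟨e, he0⟩ : ∃ e, e = g.1 x + x := ⟨_, rfl⟩
  have hene : e ≠ 0 := fun h => hx (CharTwo.add_eq_zero.1 (funext fun i => congrFun (he0 ▸ h) i))
  have hek : e ∈ tr.ker := AddMonoidHom.mem_ker.2 (by
    rw [he0, map_add, htr, htr, it]
    funext i
    simp only [Pi.add_apply, Pi.zero_apply]
    exact (by decide : ∀ a b c : ZMod 2, b + c + a + (a + b + c) = 0) _ _ _)
  have hgk : ∀ {y}, y ∈ tr.ker → g.1 y ∈ tr.ker := fun {y} hy => by
    rw [AddMonoidHom.mem_ker] at hy ⊢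
    rw [htr, ← map_add, ← map_add, ← htr, hy, map_zero]
  have hgg : ∀ {y}, y ∈ tr.ker → g.1 (g.1 y) = y + g.1 y := fun {y} hy => by
    rw [AddMonoidHom.mem_ker, htr] at hy
    exact (CharTwo.add_eq_zero.1 (funext fun i => congrFun hy i)).symm
  have hne : ∀ {y}, y ∈ tr.ker → y ≠ 0 → g.1 y ≠ y := fun {y} hy h0 h => h0 (by
    rw [← hfixtr y h]; exact AddMonoidHom.mem_ker.1 hy)
  -- the kernel is the plane
  have hspan : ∀ y ∈ tr.ker, ∃ a b : ZMod 2, y = a • e + b • g.1 e := by
    intro y hy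
    by_contra hc
    push Not at hc
    have hinj : Function.Injective fun p : (ZMod 2 × ZMod 2) × (ZMod 2 × ZMod 2) =>
        (⟨p.1.1 • e + p.1.2 • g.1 e + (p.2.1 • y + p.2.2 • g.1 y), add_mem (add_mem
          (by rcases two_cases p.1.1 with h | h <;> rw [h] <;> simp [hek])
          (by rcases two_cases p.1.2 with h | h <;> rw [h] <;> simp [hgk hek]))
          (add_mem (by rcases two_cases p.2.1 with h | h <;> rw [h] <;> simp [hy])
            (by rcases two_cases p.2.2 with h | h <;> rw [h] <;> simp [hgk hy]))⟩ : tr.ker) := by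
      have hlin : ∀ a b c d : ZMod 2, a • e + b • g.1 e + (c • y + d • g.1 y) = 0 → a = 0 ∧ b = 0 ∧ c = 0 ∧ d = 0 := by
        intro a b c d hh
        have hh' := congrArg g.1 hh
        simp only [map_add, map_smul, map_zero, hgg hek, hgg hy] at hh'
        have z1 : ∀ {u}, u ∈ tr.ker → u ≠ 0 → ∀ a b : ZMod 2, a • u + b • g.1 u = 0 → a = 0 ∧ b = 0 := by
          intro u hu hu0 a b h
          rcases two_cases a with rfl | rfl <;> rcases two_cases b with rfl | rfl
          · exact ⟨rfl, rfl⟩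
          · simp only [zero_smul, one_smul, zero_add] at h
            exact absurd (by simpa using h) hu0
          · simp only [zero_smul, one_smul, add_zero] at h
            exact absurd h hu0
          · simp only [one_smul] at h
            exact absurd (CharTwo.add_eq_zero.1 (funext fun i => congrFun h i)).symm (hne hu hu0)
        rcases two_cases c with rfl | rfl <;> rcases two_cases d with rfl | rfl
        · simp only [zero_smul, add_zero] at hh
          exact ⟨(z1 hek hene a b hh).1, (z1 hek hene a b hh).2, rfl, rfl⟩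
        · exfalso
          refine hc (a + b) a ?_
          funext i
          have p1 := congrFun hh i
          have p2 := congrFun hh' i
          simp only [Pi.add_apply, Pi.smul_apply, Pi.zero_apply, smul_eq_mul] at p1 p2 ⊢
          exact (by decide : ∀ a b u1 u2 u3 u4 : ZMod 2, a * u1 + b * u2 + (0 * u3 + 1 * u4) = 0 →
            a * u2 + b * (u1 + u2) + (0 * u4 + 1 * (u3 + u4)) = 0 → u3 = (a + b) * u1 + a * u2) _ _ _ _ _ _ p1 p2
        · exfalso
          refine hc a b ?_
          funext i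
          have p1 := congrFun hh i
          simp only [Pi.add_apply, Pi.smul_apply, Pi.zero_apply, smul_eq_mul] at p1 ⊢
          exact (by decide : ∀ a b u1 u2 u3 u4 : ZMod 2, a * u1 + b * u2 + (1 * u3 + 0 * u4) = 0 →
            u3 = a * u1 + b * u2) _ _ _ _ _ _ p1
        · exfalso
          refine hc b (a + b) ?_
          funext i
          have p1 := congrFun hh i
          have p2 := congrFun hh' i
          simp only [Pi.add_apply, Pi.smul_apply, Pi.zero_apply, smul_eq_mul] at p1 p2 ⊢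
          exact (by decide : ∀ a b u1 u2 u3 u4 : ZMod 2, a * u1 + b * u2 + (1 * u3 + 1 * u4) = 0 →
            a * u2 + b * (u1 + u2) + (1 * u4 + 1 * (u3 + u4)) = 0 → u3 = b * u1 + (a + b) * u2) _ _ _ _ _ _ p1 p2
      intro p p' hp
      have hp' := congrArg Subtype.val hp
      have h0 := hlin (p.1.1 + p'.1.1) (p.1.2 + p'.1.2) (p.2.1 + p'.2.1) (p.2.2 + p'.2.2) (by
        rw [add_smul, add_smul, add_smul, add_smul]
        have h5 := congrArg (· + (p'.1.1 • e + p'.1.2 • g.1 e + (p'.2.1 • y + p'.2.2 • g.1 y))) hp'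
        simp only [add_self8] at h5
        rw [← h5]
        abel)
      obtain ⟨k1, k2, k3, k4⟩ := h0
      have := fun {a b : ZMod 2} (h : a + b = 0) => CharTwo.add_eq_zero.1 h
      exact Prod.ext (Prod.ext (this k1) (this k2)) (Prod.ext (this k3) (this k4))
    have := Nat.card_le_card_of_injective _ hinj
    rw [show Nat.card ((ZMod 2 × ZMod 2) × (ZMod 2 × ZMod 2)) = 16 by simp] at this
    omega
  have hq : qm (g.1 e) = qm e := qAut_map g e
  have hdec : ∀ v, ∃ a b : ZMod 2, v = tr v + (a • e + b • g.1 e) := fun v => by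
    obtain ⟨a, b, hab⟩ := hspan (v + tr v) (AddMonoidHom.mem_ker.2 (by rw [map_add, hfixtr _ (htrf v), add_self8]))
    exact ⟨a, b, by rw [← hab, add_comm v, add_cancel8]⟩
  have hfe : ∀ v ∈ fixV g, pb v e = 0 ∧ pb v (g.1 e) = 0 := fun v hv => by
    refine ⟨?_, ?_⟩
    · rw [hperp v hv, AddMonoidHom.mem_ker.1 hek, pb_zero_right]
    · rw [hperp v hv, AddMonoidHom.mem_ker.1 (hgk hek), pb_zero_right]
  have hpol : pb e (g.1 e) = 1 := by
    refine (two_cases _).resolve_left fun h => hene (pb_nondeg fun v => ?_)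
    obtain ⟨a, b, hv⟩ := hdec v
    rw [hv, pb_add_right, pb_comm, (hfe _ (htrf v)).1, pb_add_right, pb_smul_right, pb_smul_right, pb_self, h]
    simp
  have hqe : qm e = 1 := by
    have h := qAut_map g (g.1 e)
    rw [hgg hek, qm_add, hq, hpol] at h
    revert h
    generalize qm e = a
    revert a
    decide
  refine ⟨e, g.1 e, hqe, hq.trans hqe, hpol, qAut_ext fun v => ?_⟩
  obtain ⟨a, b, hv⟩ := hdec v
  rw [hv, map_add, map_add, map_smul, map_smul, show g.1 (tr v) = tr v from htrf v, hgg hek,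
    map_add, map_add, map_smul, map_smul, (rot_fix_iff _ _ hpol).2 (hfe _ (htrf v)), rot_e _ _ hpol, rot_f _ _ hpol,
    add_comm e (g.1 e)]

end CfsgLib.CoType
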