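import Mathlib
import Cfsg.Agent.Lib.CoType.ThreeRot
import Cfsg.Agent.Lib.CoType.FiveBasic

/-!
Elements of order three of the centralizer of an involution: lifting conjugacy and centralizers.
-/

set_option autoImplicit false
set_option linter.style.haveILetI false
set_option linter.unusedSectionVars false

namespace CfsgLib.CoType

open Subgroup CfsgLib.Classical

variable {G : Type*} [Group G] [Finite G]

namespace Setup

variable {z : G} {Q : Subgroup G} {π : G → V8} {ρ : G → qAut qm} (S : Setup z Q π ρ) {b : G}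
  (hbz : b ∈ centralizer ({z} : Set G)) (hb3 : b ^ 3 = 1)

include S hbz hb3

theorem rho_cube : ρ b ^ 3 = 1 := by rw [← S.rho_pow hbz, hb3, S.rho_one]

theorem fix_comm_three {a : G} (ha : a ∈ Q) (h : (ρ b).1 (π a) = π a) : b * a = a * b := by
  rw [← S.rho_pi b hbz a ha] at h
  rcases S.pi_eq ha (S.conj_mem hbz ha) h.symm with e | e
  · exact mul_inv_eq_iff_eq_mul.1 e
  exfalso
  have hb : b * z = z * b := mem_centralizer_singleton_iff.1 hbz
  have step : ∀ y : G, b * (z * y) * b⁻¹ = z * (b * y * b⁻¹) := fun y => by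
    rw [← mul_assoc, hb]; group
  have h5 : b ^ 3 * a * (b ^ 3)⁻¹ = b * (b * (b * a * b⁻¹) * b⁻¹) * b⁻¹ := by
    simp only [pow_succ, pow_zero]; group
  have h6 : a = z * a := by
    simp only [e, step] at h5
    rw [hb3] at h5
    simp only [one_mul, inv_one, mul_one, ← mul_assoc, S.z2] at h5
    exact h5
  exact S.z1 (right_eq_mul.1 h6).symm.symm

theorem mem_cQ_iff_three {a : G} (ha : a ∈ Q) : a ∈ cQ Q b ↔ (ρ b).1 (π a) = π a :=
  ⟨fun h => S.pi_conj_fix hbz ha (mem_centralizer_singleton_iff.1 h.2).symm,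
    fun h => ⟨ha, mem_centralizer_singleton_iff.2 (S.fix_comm_three hbz hb3 ha h).symm⟩⟩

theorem z_mem_cQ_three : z ∈ cQ Q b := (S.mem_cQ_iff_three hbz hb3 S.zQ).2 (by rw [S.pi_z, map_zero])

theorem not_mem_Q_three (hb1 : b ≠ 1) : b ∉ Q := fun h => hb1 (by
  have h2 := orderOf_dvd_of_pow_eq_one hb3
  have h3 := Subgroup.orderOf_dvd_natCard Q h
  rw [S.card] at h3
  exact orderOf_eq_one_iff.1 (Nat.eq_one_of_dvd_coprimes (by norm_num) h2 h3))

theorem rho_ne_three (hb1 : b ≠ 1) : ρ b ≠ 1 := fun h => S.not_mem_Q_three hbz hb3 hb1 ((S.rho_ker b hbz).1 h)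

theorem pow_eq_of_rho_three {n : ℕ} (hb1 : b ≠ 1) (h : ρ b ^ n = ρ b) : b ^ n = b := by
  haveI : Fact (Nat.Prime 3) := ⟨by norm_num⟩
  have h5 : orderOf (ρ b) = 3 := orderOf_eq_prime (S.rho_cube hbz hb3) (S.rho_ne_three hbz hb3 hb1)
  have h5' : orderOf b = 3 := orderOf_eq_prime hb3 hb1
  conv_rhs => rw [← pow_one b]
  rw [pow_eq_pow_iff_modEq, h5']
  rw [← pow_one (ρ b), ← pow_mul, one_mul, pow_eq_pow_iff_modEq, h5] at h
  exact h

/-- Elements of order three over the same element are conjugate. -/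
theorem conj_lift_three (hb1 : b ≠ 1) {a : G} (ha : a ∈ centralizer ({z} : Set G)) (ha3 : a ^ 3 = 1)
    (h : ρ a = ρ b) :
    ∃ c ∈ centralizer ({z} : Set G), ρ c ∈ zpowers (ρ b) ∧ c * a * c⁻¹ = b := by
  haveI : Fact (Nat.Prime 3) := ⟨by norm_num⟩
  let M : Subgroup G :=
    { carrier := {c | c ∈ centralizer ({z} : Set G) ∧ ρ c ∈ zpowers (ρ b)}
      one_mem' := ⟨one_mem _, by rw [S.rho_one]; exact one_mem _⟩
      mul_mem' := fun {x y} hx hy => ⟨mul_mem hx.1 hy.1, by rw [S.rho_mul x hx.1 y hy.1]; exact mul_mem hx.2 hy.2⟩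
      inv_mem' := fun {x} hx => ⟨inv_mem hx.1, by rw [S.rho_inv hx.1]; exact inv_mem hx.2⟩ }
  let ψ : M →* qAut qm := MonoidHom.mk' (fun c => ρ (c : G)) fun x y => S.rho_mul x x.2.1 y y.2.1
  have hM : Nat.card M ∣ 512 * 3 := by
    have hk : Nat.card ψ.ker ∣ 512 := by
      rw [← S.card]
      have : ψ.ker.map M.subtype ≤ Q := by
        rintro _ ⟨c, hc, rfl⟩
        exact (S.rho_ker _ c.2.1).1 hc
      rw [← card_map_of_injective M.subtype_injective]
      exact card_dvd_of_le this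
    have hr : Nat.card ψ.range ∣ 3 := by
      rw [← orderOf_eq_prime (S.rho_cube hbz hb3) (S.rho_ne_three hbz hb3 hb1), ← Nat.card_zpowers]
      exact card_dvd_of_le (by rintro _ ⟨c, rfl⟩; exact c.2.2)
    rw [← card_mul_index ψ.ker, index_ker]
    exact mul_dvd_mul hk hr
  have hbM : zpowers b ≤ M := zpowers_le.2 ⟨hbz, mem_zpowers _⟩
  have haM : zpowers a ≤ M := zpowers_le.2 ⟨ha, h ▸ mem_zpowers _⟩
  have ha1 : a ≠ 1 := fun e => S.rho_ne_three hbz hb3 hb1 (by rw [← h, e, S.rho_one])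
  obtain ⟨c, hc, hcon⟩ := HJType.exists_conj_eq (p := 3) (n := 1) hbM
    (by rw [Nat.card_zpowers, orderOf_eq_prime hb3 hb1]; norm_num)
    (fun hd => by have := hd.trans hM; norm_num at this) haM
    (by rw [Nat.card_zpowers, orderOf_eq_prime ha3 ha1]; norm_num)
  refine ⟨c, hc.1, hc.2, ?_⟩
  obtain ⟨n, hn⟩ := (Submonoid.mem_powers_iff _ _).1 <|
    mem_powers_iff_mem_zpowers.2 ((hcon a).2 (mem_zpowers a))
  rw [← hn]
  refine S.pow_eq_of_rho_three hbz hb3 hb1 ?_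
  rw [← S.rho_pow hbz, hn, S.rho_mul _ (mul_mem hc.1 ha) _ (inv_mem hc.1), S.rho_mul c hc.1 a ha, S.rho_inv hc.1, h]
  obtain ⟨k, hk⟩ := hc.2
  rw [← hk]
  show ρ b ^ k * ρ b * (ρ b ^ k)⁻¹ = ρ b
  group

/-- The centralizer of the image lifts. -/
theorem exists_cent_lift_three (hb1 : b ≠ 1) {k : qAut qm} (hk : k ∈ Ev) (hc : k * ρ b = ρ b * k) :
    ∃ c ∈ centralizer ({z} : Set G), c * b = b * c ∧ ρ c = k := by
  obtain ⟨c, hcz, rfl⟩ := (S.rho_range k).1 hk
  have ha : c * b * c⁻¹ ∈ centralizer ({z} : Set G) := mul_mem (mul_mem hcz hbz) (inv_mem hcz)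
  obtain ⟨m, hm, ⟨j, hj⟩, hmb⟩ := S.conj_lift_three hbz hb3 hb1 ha (by rw [conj_pow, hb3, mul_one, mul_inv_cancel])
    (by rw [S.rho_mul _ (mul_mem hcz hbz) _ (inv_mem hcz), S.rho_mul c hcz b hbz, S.rho_inv hcz, hc,
      mul_inv_cancel_right])
  haveI := finite_qAut qm
  obtain ⟨n, hn⟩ := (Submonoid.mem_powers_iff _ _).1 <| mem_powers_iff_mem_zpowers.2
    (show ρ m ∈ zpowers (ρ b) from ⟨j, hj⟩)
  refine ⟨(b ^ n)⁻¹ * m * c, mul_mem (mul_mem (inv_mem (pow_mem hbz n)) hm) hcz, ?_, ?_⟩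
  · have e : m * c * b = b * (m * c) := by
      conv_rhs => rw [← hmb]
      group
    calc (b ^ n)⁻¹ * m * c * b = (b ^ n)⁻¹ * (m * c * b) := by group
      _ = b * ((b ^ n)⁻¹ * m * c) := by rw [e]; group
  · rw [S.rho_mul _ (mul_mem (inv_mem (pow_mem hbz n)) hm) c hcz, S.rho_mul _ (inv_mem (pow_mem hbz n)) m hm,
      S.rho_inv (pow_mem hbz n), S.rho_pow hbz, ← hn, inv_mul_cancel, one_mul]

omit hbz hb3 in
/-- Lifts of order three of the rotations form one class. -/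
theorem rot_lift_conj {a b : G} (ha : a ∈ centralizer ({z} : Set G)) (ha3 : a ^ 3 = 1)
    (hb : b ∈ centralizer ({z} : Set G)) (hb3 : b ^ 3 = 1) (hra : Rot (ρ a)) (hrb : Rot (ρ b)) :
    ∃ c ∈ centralizer ({z} : Set G), c * a * c⁻¹ = b := by
  obtain ⟨k, hk, hka⟩ := hra.exists_conj
  obtain ⟨l, hl, hlb⟩ := hrb.exists_conj
  obtain ⟨c, hc, hρc⟩ := (S.rho_range (l * k⁻¹)).1 (mul_mem hl (inv_mem hk))
  have hb1 : b ≠ 1 := fun e => hrb.ne_one (by rw [e, S.rho_one])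
  obtain ⟨m, hm, -, hmb⟩ := S.conj_lift_three hb hb3 hb1 (mul_mem (mul_mem hc ha) (inv_mem hc))
    (by rw [conj_pow, ha3, mul_one, mul_inv_cancel]) (by
      rw [S.rho_mul _ (mul_mem hc ha) _ (inv_mem hc), S.rho_mul c hc a ha, S.rho_inv hc, hρc, ← hka, ← hlb]
      group)
  exact ⟨m * c, mul_mem hm hc, by rw [← hmb]; group⟩

omit hbz hb3 in
/-- A lift of order three of a given element of order three. -/
theorem exists_lift_three {k : qAut qm} (hk : k ∈ Ev) (hk3 : k ^ 3 = 1) :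
    ∃ c ∈ centralizer ({z} : Set G), c ^ 3 = 1 ∧ ρ c = k := by
  obtain ⟨c, hc, rfl⟩ := (S.rho_range k).1 hk
  have hQ : c ^ 3 ∈ Q := (S.rho_ker _ (pow_mem hc 3)).1 (by rw [S.rho_pow hc, hk3])
  have h : (c ^ 3) ^ 4 = 1 := by
    have e : ∀ a ∈ Q, a ^ 4 = 1 := fun a ha => by
      rw [show a ^ 4 = a * a * (a * a) by simp only [pow_succ, pow_zero]; group, S.sq a ha, zb_mul S.z2,
        CharTwo.add_self_eq_zero, zb_zero]
    exact e _ hQ
  refine ⟨c ^ 4, pow_mem hc 4, by rw [← pow_mul, mul_comm, pow_mul, h], ?_⟩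
  rw [S.rho_pow hc, pow_succ, hk3, one_mul]

end Setup

end CfsgLib.CoType
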