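import Mathlib
import Cfsg.Agent.Lib.CoType.ThreeBasic
import Cfsg.Agent.Lib.CoType.Classify
import Cfsg.Agent.Lib.CoType.Invol

/-!
A rotation centralizing two involutions, each in the extraspecial group of the other.
-/

set_option autoImplicit false
set_option linter.style.haveILetI false
set_option linter.unusedSectionVars false

namespace CfsgLib.CoType

open Subgroup CfsgLib.Classical

theorem Rot.card_fix {g : qAut qm} (hg : Rot g) : 64 ≤ Nat.card (fixV g) := by
  obtain ⟨k, hk, rfl⟩ := hg.exists_conj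
  have h : ∀ v : SuzType.V6, k.1 (emb6 v) ∈ fixV (k * gD * k⁻¹) := fun v => by
    show (k * gD * k⁻¹).1 (k.1 (emb6 v)) = k.1 (emb6 v)
    rw [← qAut_mul_apply, inv_mul_cancel_right, qAut_mul_apply, gD_emb6]
  refine le_trans (le_of_eq ?_) (Nat.card_le_card_of_injective (fun v : SuzType.V6 => (⟨_, h v⟩ : fixV _))
    fun a b e => emb6_inj (k.1.injective (congrArg Subtype.val e)))
  simp

/-- A vector fixed up to `p` is fixed. -/
theorem pm_fix_three {g : qAut qm} (h3 : g ^ 3 = 1) {p v : V8} (hp : g.1 p = p) (h : Pm p (v + g.1 v)) :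
    g.1 v = v := by
  rcases h with e | e
  · exact (CharTwo.add_eq_zero.1 (funext fun i => congrFun e i)).symm
  have e1 : g.1 v = v + p := by rw [← e, add_cancel8]
  have e2 : g.1 (g.1 (g.1 v)) = v := by
    rw [← qAut_mul_apply, ← qAut_mul_apply, ← pow_two, ← pow_succ, h3]; rfl
  simp only [e1, map_add, hp] at e2
  have e3 : v + p + p + p = v + p := by rw [add_assoc _ p p, add_self8, add_zero]
  rw [e3] at e2
  rw [e1, e2]

variable {G : Type*} [Group G] [Finite G] {z t : G} {Q R : Subgroup G} {π π' : G → V8} {ρ ρ' : G → qAut qm}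
  {b : G}

theorem Config.three_tv_lift (C : Config z t Q R π π' ρ ρ') (hbz : b ∈ centralizer ({z} : Set G)) (hb3 : b ^ 3 = 1)
    (fp : (ρ b).1 (π t) = π t) {v : V8} (hv : v ∈ fixV (ρ b)) (hp : pb (π t) v = 0) :
    ∃ r ∈ cQ R b, r * z = z * r ∧ Pm (π t) (tv (π t) (ρ r) + v) := by
  have P := C.P
  have hbt : b ∈ centralizer ({t} : Set G) := mem_centralizer_singleton_iff.2 (P.S.fix_comm_three hbz hb3 P.tQ fp)
  obtain ⟨r, hr, hrz, hrv⟩ := P.w_surj hp
  refine ⟨r, ⟨hr, mem_centralizer_singleton_iff.2 ?_⟩, hrz, hrv⟩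
  have hr' : b * r * b⁻¹ ∈ R := P.S'.conj_mem hbt hr
  have hrz' : b * r * b⁻¹ * z = z * (b * r * b⁻¹) := mem_centralizer_singleton_iff.1
    (mul_mem (mul_mem hbz (mem_centralizer_singleton_iff.2 hrz)) (inv_mem hbz))
  have h1 : Pm (π t) (tv (π t) (ρ (b * r * b⁻¹)) + v) := by
    refine pm_trans (P.w_conj hr hrz hbz hbt) ?_
    conv => arg 2; arg 2; rw [← show (ρ b).1 v = v from hv]
    rw [← map_add]
    exact pm_map fp hrv
  have hQ : r⁻¹ * (b * r * b⁻¹) ∈ Q := P.w_eq hr hrz hr' hrz' (pm_trans hrv (pm_symm h1))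
  set e := r⁻¹ * (b * r * b⁻¹) with he
  have heR : e ∈ R := mul_mem (inv_mem hr) hr'
  have hbe : Commute b e := P.E_central hQ heR (mem_centralizer_singleton_iff.1 hbz)
    (mem_centralizer_singleton_iff.1 hbt)
  have e1 : b * r * b⁻¹ = r * e := by rw [he, mul_inv_cancel_left]
  have step : ∀ n : ℕ, b ^ n * r * (b ^ n)⁻¹ = r * e ^ n := by
    intro n
    induction n with
    | zero => simp
    | succ n ih =>
      calc b ^ (n + 1) * r * (b ^ (n + 1))⁻¹ = b * (b ^ n * r * (b ^ n)⁻¹) * b⁻¹ := by rw [pow_succ']; group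
        _ = b * r * b⁻¹ * (b * e ^ n * b⁻¹) := by rw [ih]; group
        _ = r * e ^ (n + 1) := by rw [e1, (hbe.pow_right n).eq, mul_inv_cancel_right, pow_succ', mul_assoc]
  have h5 := step 3
  rw [hb3, one_mul, inv_one, mul_one, left_eq_mul] at h5
  have h2 := P.E_sq hQ heR
  have e0 : e = 1 := by
    calc e = e ^ 3 * (e * e)⁻¹ := by simp only [pow_succ, pow_zero]; group
      _ = 1 := by rw [h5, h2]; group
  rw [e0, mul_one] at e1
  exact (mul_inv_eq_iff_eq_mul.1 e1).symm

/-- The element is a rotation on the second side. -/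
theorem Config.three_rot' (C : Config z t Q R π π' ρ ρ') (hbz : b ∈ centralizer ({z} : Set G)) (hb3 : b ^ 3 = 1)
    (hrot : Rot (ρ b)) (fp : (ρ b).1 (π t) = π t) : Rot (ρ' b) := by
  classical
  have P := C.P
  have hb1 : b ≠ 1 := fun e => hrot.ne_one (by rw [e, P.S.rho_one])
  have hbt : b ∈ centralizer ({t} : Set G) := mem_centralizer_singleton_iff.2 (P.S.fix_comm_three hbz hb3 P.tQ fp)
  refine rot_of_fix (P.S'.rho_cube hbt hb3) (P.S'.rho_ne_three hbt hb3 hb1) ?_
  set p := π t with hp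
  set y := pt p with hy
  have hpy : pb p y = 1 := pt_spec P.p_sing
  let W : AddSubgroup V8 :=
    { carrier := {v | v ∈ fixV (ρ b) ∧ pb p v = 0}
      zero_mem' := ⟨zero_mem _, pb_zero_right _⟩
      add_mem' := fun {a c} ha hc => ⟨add_mem ha.1 hc.1, by rw [pb_add_right, ha.2, hc.2, add_zero]⟩
      neg_mem' := fun {a} ha => by
        rw [show -a = a from funext fun i => CharTwo.neg_eq _]; exact ha }
  have hW : 32 ≤ Nat.card W := by
    let φ : fixV (ρ b) →+ ZMod 2 := AddMonoidHom.mk' (fun v => pb p v.1) fun a c => pb_add_right _ _ _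
    have h1 : Nat.card φ.ker ≤ Nat.card W :=
      Nat.card_le_card_of_injective (fun v => (⟨v.1.1, v.1.2, AddMonoidHom.mem_ker.1 v.2⟩ : W)) fun a c e =>
        Subtype.ext (Subtype.ext (congrArg (fun w : W => w.1) e))
    have h2 := AddSubgroup.card_mul_index φ.ker
    have h3 : φ.ker.index ≤ 2 := by
      rw [AddSubgroup.index_ker]
      exact le_trans (Nat.card_le_card_of_injective _ Subtype.val_injective) (le_of_eq (Nat.card_zmod 2))
    have h4 := hrot.card_fix
    nlinarith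
  have hnorm : ∀ v : W, v.1 + pb v.1 y • p ∈ fixV (ρ b) ∧ pb p (v.1 + pb v.1 y • p) = 0 ∧
      pb (v.1 + pb v.1 y • p) y = 0 := fun v => by
    refine ⟨add_mem v.2.1 ?_, ?_, ?_⟩
    · rcases two_cases (pb v.1 y) with e | e <;> rw [e]
      · rw [zero_smul]; exact zero_mem _
      · rw [one_smul]; exact fp
    · rw [pb_add_right, v.2.2, pb_smul_right, pb_self, mul_zero, add_zero]
    · rw [pb_add_left, pb_smul_left, hpy, mul_one, CharTwo.add_self_eq_zero]
  have hl : ∀ v : V8, ∃ r : G, v ∈ fixV (ρ b) → pb p v = 0 →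
      r ∈ cQ R b ∧ r * z = z * r ∧ Pm p (tv p (ρ r) + v) := fun v => by
    by_cases h : v ∈ fixV (ρ b) ∧ pb p v = 0
    · obtain ⟨r, h1, h2, h3⟩ := C.three_tv_lift hbz hb3 fp h.1 h.2
      exact ⟨r, fun _ _ => ⟨h1, h2, h3⟩⟩
    · exact ⟨1, fun a c => absurd ⟨a, c⟩ h⟩
  choose r hr using hl
  have hzR : z ∈ cQ R b := ⟨P.zR, mem_centralizer_singleton_iff.2 (mem_centralizer_singleton_iff.1 hbz).symm⟩
  have htR : t ∈ cQ R b := P.S'.z_mem_cQ_three hbt hb3
  have hm : ∀ {u : G} (c : ZMod 2), u ∈ cQ R b → zb u c ∈ cQ R b := fun {u} c h => by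
    rcases two_cases c with e | e <;> rw [e]
    · rw [zb_zero]; exact one_mem _
    · rw [zb_one]; exact h
  let F : W × ZMod 2 → cQ R b := fun x =>
    ⟨zb z x.2 * zb t (pb x.1.1 y) * r (x.1.1 + pb x.1.1 y • p),
      mul_mem (mul_mem (hm _ hzR) (hm _ htR)) (hr _ (hnorm x.1).1 (hnorm x.1).2.1).1⟩
  have hF : Function.Injective F := by
    rintro ⟨v, c⟩ ⟨v', c'⟩ h
    have h' := congrArg Subtype.val h
    simp only [F] at h'
    obtain ⟨hR, hrz, hrv⟩ := hr _ (hnorm v).1 (hnorm v).2.1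
    obtain ⟨hR', hrz', hrv'⟩ := hr _ (hnorm v').1 (hnorm v').2.1
    have he : ∀ c d : ZMod 2, zb z c * zb t d ∈ Q := fun c d => mul_mem
      (by rcases two_cases c with e | e <;> rw [e] <;> simp [zb_zero, zb_one, P.S.zQ])
      (by rcases two_cases d with e | e <;> rw [e] <;> simp [zb_zero, zb_one, P.tQ])
    have hq : (r (v.1 + pb v.1 y • p))⁻¹ * r (v'.1 + pb v'.1 y • p) ∈ Q := by
      have hc := P.S.conj_mem (inv_mem (P.R_z hR.1 hrz).1) (mul_mem (inv_mem (he c' (pb v'.1 y))) (he c (pb v.1 y)))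
      convert hc using 1
      rw [inv_inv, mul_assoc _ _ (r _), mul_assoc _ _ (r _), h']
      group
    have htv : Pm p (tv p (ρ (r (v.1 + pb v.1 y • p))) + tv p (ρ (r (v'.1 + pb v'.1 y • p)))) := by
      have hC := (P.R_z hR.1 hrz).1
      rw [show ρ (r (v.1 + pb v.1 y • p)) = ρ (r (v'.1 + pb v'.1 y • p)) from (inv_mul_eq_one.1
        (by rw [← P.S.rho_inv hC, ← P.S.rho_mul _ (inv_mem hC) _ (P.R_z hR'.1 hrz').1]; exact P.S.rho_Q hq))]
      exact pm_self _
    have hvv : Pm p (v.1 + pb v.1 y • p + (v'.1 + pb v'.1 y • p)) :=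
      pm_trans (pm_trans (pm_symm hrv) htv) hrv'
    have heq : v.1 + pb v.1 y • p = v'.1 + pb v'.1 y • p := by
      rcases hvv with e | e
      · exact CharTwo.add_eq_zero.1 (funext fun i => congrFun e i)
      · exfalso
        have := congrArg (fun w => pb w y) e
        rw [pb_add_left (v.1 + pb v.1 y • p) (v'.1 + pb v'.1 y • p) y, (hnorm v).2.2, (hnorm v').2.2, hpy,
          add_zero] at this
        exact zero_ne_one this
    rw [heq] at h'
    have h'' := mul_right_cancel h'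
    have hinj : ∀ c d c' d' : ZMod 2, zb z c * zb t d = zb z c' * zb t d' → c = c' ∧ d = d' := by
      intro c d c' d' e
      have hp0 : ∀ c d : ZMod 2, π (zb z c * zb t d) = d • p := fun c d => by
        rcases two_cases c with e | e <;> rcases two_cases d with e' | e' <;> subst e e' <;>
          simp [zb_zero, zb_one, P.S.pi_one, P.S.pi_z, P.S.pi_zmul P.tQ, hp]
      have hd : d = d' := smul_p_inj P.p_sing (by rw [← hp0 c d, e, hp0])
      subst hd
      refine ⟨?_, rfl⟩
      have e' := mul_right_cancel e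
      rcases two_cases c with e1 | e1 <;> rcases two_cases c' with e2 | e2 <;> subst e1 e2 <;>
        simp only [zb_zero, zb_one] at e' ⊢
      · exact absurd e'.symm P.S.z1
      · exact absurd e' P.S.z1
    obtain ⟨h1, h2⟩ := hinj _ _ _ _ h''
    rw [h2] at heq
    exact Prod.ext (Subtype.ext (add_right_cancel heq)) h1
  have h1 := Nat.card_le_card_of_injective F hF
  rw [Nat.card_prod, Nat.card_zmod] at h1
  -- the fixed vectors on the second side
  have hcard : Nat.card (cQ R b) ≤ 2 * Nat.card (fixV (ρ' b)) := by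
    let ψ : cQ R b → fixV (ρ' b) := fun a => ⟨π' a.1, (P.S'.mem_cQ_iff_three hbt hb3 a.2.1).1 a.2⟩
    have hψ : Function.Injective (fun a : cQ R b =>
        (ψ a, decide ((a : G) = Function.invFunOn π' (R : Set G) (π' (a : G))))) := by
      intro a c e
      simp only [Prod.mk.injEq, decide_eq_decide] at e
      obtain ⟨e1, e2⟩ := e
      have e1' : π' (a : G) = π' (c : G) := congrArg Subtype.val e1
      set m := Function.invFunOn π' (R : Set G) (π' (a : G)) with hm0
      have hmR : m ∈ R ∧ π' m = π' (a : G) := Function.invFunOn_pos ⟨a.1, a.2.1, rfl⟩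
      rw [← e1', ← hm0] at e2
      have ha := P.S'.pi_eq hmR.1 a.2.1 hmR.2
      have hc := P.S'.pi_eq hmR.1 c.2.1 (hmR.2.trans e1')
      refine Subtype.ext ?_
      rcases ha with ha | ha <;> rcases hc with hc | hc
      · rw [ha, hc]
      · rw [ha, e2.1 ha]
      · rw [hc, e2.2 hc]
      · rw [ha, hc]
    refine le_trans (Nat.card_le_card_of_injective _ hψ) (le_of_eq ?_)
    rw [Nat.card_prod, mul_comm, show Nat.card Bool = 2 by simp]
  omega

/-- An element commuting with `b` exchanging the sides. -/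
theorem Config.three_exists_y (C : Config z t Q R π π' ρ ρ') (hbz : b ∈ centralizer ({z} : Set G)) (hb3 : b ^ 3 = 1)
    (hrot : Rot (ρ b)) (fp : (ρ b).1 (π t) = π t) : ∃ y : G, y * b = b * y ∧ y * t * y⁻¹ = z := by
  have hrot' := C.three_rot' hbz hb3 hrot fp
  obtain ⟨g, hg, -, hρ⟩ := C.conj_t
  have S := C.P.S
  set b' := g⁻¹ * b * g with hb'
  have hb'z : b' ∈ centralizer ({z} : Set G) := by
    rw [mem_centralizer_singleton_iff, hb']
    calc g⁻¹ * b * g * z = g⁻¹ * (b * (g * z * g⁻¹)) * g := by group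
      _ = g⁻¹ * ((g * z * g⁻¹) * b) * g := by rw [hg, C.P.S.fix_comm_three hbz hb3 C.P.tQ fp]
      _ = z * (g⁻¹ * b * g) := by group
  have hb'3 : b' ^ 3 = 1 := by
    rw [hb', show g⁻¹ * b * g = g⁻¹ * b * g⁻¹⁻¹ by group, conj_pow, hb3]
    group
  obtain ⟨c, hc, hcb⟩ := S.rot_lift_conj hb'z hb'3 hbz hb3 (by rw [hb', ← hρ]; exact hrot') hrot
  refine ⟨c * g⁻¹, ?_, ?_⟩
  · conv_rhs => rw [← hcb]
    rw [hb']; group
  · rw [← hg]
    calc c * g⁻¹ * (g * z * g⁻¹) * (c * g⁻¹)⁻¹ = c * z * c⁻¹ := by group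
      _ = z := by rw [mem_centralizer_singleton_iff.1 hc, mul_inv_cancel_right]

end CfsgLib.CoType
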