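import Mathlib
import Cfsg.Agent.Lib.CoType.ThreeRot
import Cfsg.Agent.Lib.Classical.QuadSiegel
import Cfsg.Agent.Lib.SuzType.Hyp

/-!
The index two subgroup in dimension six, and a second rotation commuting with the standard one.
-/

set_option autoImplicit false
set_option linter.style.haveILetI false

namespace CfsgLib.CoType

open Subgroup CfsgLib.Classical
open scoped commutatorElement

theorem omega6_center : center ↥(Cfsg.Omega (ZMod 2) ⇑SuzType.qm) = ⊥ :=
  Subgroup.card_eq_one.1 (card_center_Omega_one _ SuzType.polarNondeg_qm (by simp) fun _ => two_eq_zero2)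

/-- The group `Ω` is the index two subgroup. -/
noncomputable def omega6Equiv : ↥(Cfsg.Omega (ZMod 2) ⇑SuzType.qm) ≃* ↥SuzType.Ev :=
  ((isoEquiv SuzType.qm).subgroupMap _).trans
    (MulEquiv.subgroupCongr (map_commutator_equiv (isoEquiv SuzType.qm)))

theorem ev6_simple : IsSimpleGroup ↥SuzType.Ev := by
  haveI : IsSimpleGroup (Cfsg.POmega (ZMod 2) ⇑SuzType.qm) := isSimpleGroup_POmega _ SuzType.polarNondeg_qm (by simp)
  let e : Cfsg.POmega (ZMod 2) ⇑SuzType.qm ≃* ↥SuzType.Ev :=
    ((QuotientGroup.quotientMulEquivOfEq omega6_center).trans QuotientGroup.quotientBot).trans omega6Equiv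
  haveI : Nontrivial ↥SuzType.Ev := e.symm.toEquiv.nontrivial
  exact IsSimpleGroup.isSimpleGroup_of_surjective e.toMonoidHom e.surjective

theorem ev6_center : center ↥SuzType.Ev = ⊥ := by
  refine (eq_bot_iff_forall _).2 fun x hx => ?_
  have h : omega6Equiv.symm x ∈ center ↥(Cfsg.Omega (ZMod 2) ⇑SuzType.qm) := mem_center_iff.2 fun y =>
    omega6Equiv.injective (by
      rw [map_mul, map_mul, MulEquiv.apply_symm_apply]
      exact mem_center_iff.1 hx _)
  rw [omega6_center, mem_bot] at h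
  exact omega6Equiv.symm.injective (h.trans (map_one omega6Equiv.symm).symm)

theorem ev6_perfect : ⁅SuzType.Ev, SuzType.Ev⁆ = SuzType.Ev := by
  haveI := ev6_simple
  have h : (commutator ↥SuzType.Ev) = ⊤ := by
    refine (IsSimpleGroup.eq_bot_or_eq_top_of_normal _ inferInstance).resolve_left fun h => ?_
    have hc := (commutator_eq_bot_iff_center_eq_top _).1 h
    rw [ev6_center] at hc
    exact bot_ne_top hc
  have h2 := congrArg (Subgroup.map SuzType.Ev.subtype) h
  rwa [_root_.commutator_def, map_commutator, ← MonoidHom.range_eq_map, SuzType.Ev.range_subtype] at h2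

/-- The first vector of a minus line in the six-dimensional space. -/
def a6 : SuzType.V6 := fun i => if i = .inr 0 then 1 else 0

/-- The second vector. -/
def b6 : SuzType.V6 := fun i => if i = .inr 1 then 1 else 0

theorem qm_a6 : SuzType.qm a6 = 1 := by rw [SuzType.qm_apply]; rfl

theorem qm_b6 : SuzType.qm b6 = 1 := by rw [SuzType.qm_apply]; rfl

theorem pb_a6_b6 : SuzType.pb a6 b6 = 1 := by rw [pb6_coord]; rfl

/-- The second rotation. -/
noncomputable def g6 : qAut SuzType.qm := SuzType.rf a6 qm_a6 * SuzType.rf b6 qm_b6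

theorem g6_mem : g6 ∈ SuzType.Ev := SuzType.rf_mul_mem _ _

theorem extQ_g6 : extQ g6 = rf (emb6 a6) ((qm_emb6 _).trans qm_a6) * rf (emb6 b6) ((qm_emb6 _).trans qm_b6) := by
  rw [g6, map_mul, extQ_rf, extQ_rf]

theorem rot_extQ_g6 : Rot (extQ g6) := ⟨_, _, _, _, (pb_emb6 _ _).trans pb_a6_b6, extQ_g6⟩

theorem g6_cube : g6 ^ 3 = 1 := by
  have h : extQ (g6 ^ 3) = extQ 1 := by rw [map_pow, map_one]; exact rot_extQ_g6.cube
  refine qAut_ext fun v => emb6_inj ?_
  rw [← extLin_emb6, ← extLin_emb6, ← extQ_apply, ← extQ_apply, h]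

theorem g6_a : g6.1 a6 = b6 := emb6_inj (by
  rw [← extLin_emb6, ← extQ_apply, extQ_g6, rot_e _ _ ((pb_emb6 _ _).trans pb_a6_b6)])

theorem g6_b : g6.1 b6 = b6 + a6 := emb6_inj (by
  rw [← extLin_emb6, ← extQ_apply, extQ_g6, rot_f _ _ ((pb_emb6 _ _).trans pb_a6_b6), map_add])

theorem g6_ne : g6 ≠ 1 := fun h => rot_extQ_g6.ne_one (by rw [h, map_one])

theorem g6_span (v : SuzType.V6) : ∃ α β : ZMod 2, g6.1 v + v = α • a6 + β • b6 := by
  refine ⟨SuzType.pb v a6 + SuzType.pb v b6, SuzType.pb v b6, emb6_inj ?_⟩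
  rw [map_add, map_add, map_smul, map_smul, ← extLin_emb6, ← extQ_apply, extQ_g6,
    rot_apply _ _ ((pb_emb6 _ _).trans pb_a6_b6), pb_emb6, pb_emb6, add_comm _ (emb6 v), ← add_assoc, ← add_assoc,
    add_self8, zero_add, add_comm]

/-- Commutators in the centralizer of the rotation fix the line. -/
theorem cD_commutator (c : cD) (hc : c ∈ commutator cD) : ∃ h, (c : qAut qm) = extQ h := by
  have key : ∀ a b : cD, (⁅a, b⁆ : cD).1 = extQ ⁅chi a, chi b⁆ := fun a b => by
    obtain ⟨i, hi⟩ := cD_decomp a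
    obtain ⟨j, hj⟩ := cD_decomp b
    have cg : ∀ (h : qAut SuzType.qm) (n : ℕ), Commute (extQ h) (gD ^ n) := fun h n =>
      (show Commute (extQ h) gD from mem_centralizer_singleton_iff.1 (extQ_mem_cD h)).pow_right n
    have e : (⁅a, b⁆ : cD).1 = ⁅(a : qAut qm), (b : qAut qm)⁆ := by
      rw [commutatorElement_def, commutatorElement_def]; rfl
    rw [e, hi, hj, map_commutatorElement]
    have c1 := cg (chi a) j
    have c2 := cg (chi b) i
    have c3 : Commute (gD ^ i) (gD ^ j) := Commute.pow_pow (Commute.refl _) i j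
    set A := extQ (chi a)
    set B := extQ (chi b)
    set x := gD ^ i
    set y := gD ^ j
    rw [commutatorElement_def, commutatorElement_def]
    calc A * x * (B * y) * (A * x)⁻¹ * (B * y)⁻¹
        = A * (x * B) * (y * x⁻¹) * A⁻¹ * y⁻¹ * B⁻¹ := by group
      _ = A * B * (x * y * x⁻¹) * A⁻¹ * y⁻¹ * B⁻¹ := by rw [c2.symm.eq]; group
      _ = A * B * (y * A⁻¹) * y⁻¹ * B⁻¹ := by rw [c3.eq, mul_inv_cancel_right]; group
      _ = A * B * A⁻¹ * B⁻¹ := by rw [c1.symm.inv_right.eq]; group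
  rw [_root_.commutator_def] at hc
  have hle : (⁅(⊤ : Subgroup cD), (⊤ : Subgroup cD)⁆) ≤ extQ.range.comap cD.subtype :=
    commutator_le.2 fun a _ b _ => mem_comap.2 ⟨_, (key a b).symm⟩
  obtain ⟨h, hh⟩ := mem_comap.1 (hle hc)
  exact ⟨h, hh.symm⟩

end CfsgLib.CoType
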