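import Mathlib
import Cfsg.Agent.Lib.CoType.ThreePair
import Cfsg.Agent.Lib.CoType.ThreeSix
import Cfsg.Agent.Lib.LargeExtra.SubExtra

/-!
The centralizer of a rotation inside the centralizer of the involution.
-/

set_option autoImplicit false
set_option linter.style.haveILetI false
set_option linter.unusedSectionVars false

namespace CfsgLib.CoType

open Subgroup CfsgLib.Classical
open scoped commutatorElement

variable {G : Type*} [Group G] [Finite G]

/-- A rotation at a pair, with a frame. -/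
structure ThreeData (z t : G) (Q R : Subgroup G) (π π' : G → V8) (ρ ρ' : G → qAut qm) (b : G) (k : qAut qm) :
    Prop where
  C : Config z t Q R π π' ρ ρ'
  hbz : b ∈ centralizer ({z} : Set G)
  hb3 : b ^ 3 = 1
  hk : k * gD * k⁻¹ = ρ b
  fp : (ρ b).1 (π t) = π t
  hE : Cfsg.IsExtraspecial 2 Q

/-- The elements commuting with the involution and the rotation. -/
def KK (z b : G) : Subgroup G := centralizer ({z} : Set G) ⊓ centralizer ({b} : Set G)

namespace ThreeData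

variable {z t : G} {Q R : Subgroup G} {π π' : G → V8} {ρ ρ' : G → qAut qm} {b : G} {k : qAut qm}
  (D : ThreeData z t Q R π π' ρ ρ' b k)

include D

theorem S : Setup z Q π ρ := D.C.P.S

theorem rot : Rot (ρ b) := by
  rw [← D.hk]
  exact ⟨_, _, _, _, (pb_map k _ _).trans pb_eD_fD, rot_conj k qm_eD qm_fD⟩

theorem b_ne : b ≠ 1 := fun e => D.rot.ne_one (by rw [e, D.S.rho_one])

theorem conj_mem_cD {c : G} (hc : c ∈ KK z b) : k⁻¹ * ρ c * k ∈ cD := by
  refine mem_centralizer_singleton_iff.2 ?_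
  have h : ρ c * ρ b = ρ b * ρ c := by
    rw [← D.S.rho_mul c hc.1 b D.hbz, ← D.S.rho_mul b D.hbz c hc.1, mem_centralizer_singleton_iff.1 hc.2]
  have e : gD = k⁻¹ * ρ b * k := by rw [← D.hk]; group
  rw [e]
  calc k⁻¹ * ρ c * k * (k⁻¹ * ρ b * k) = k⁻¹ * (ρ c * ρ b) * k := by group
    _ = k⁻¹ * ρ b * k * (k⁻¹ * ρ c * k) := by rw [h]; group

/-- The image in the isometries of the fixed space. -/
noncomputable def χ : KK z b →* qAut SuzType.qm :=
  chi.comp (MonoidHom.mk' (fun c => (⟨k⁻¹ * ρ (c : G) * k, D.conj_mem_cD c.2⟩ : cD)) fun a c => Subtype.ext (by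
    show k⁻¹ * ρ ((a : G) * c) * k = k⁻¹ * ρ (a : G) * k * (k⁻¹ * ρ (c : G) * k)
    rw [D.S.rho_mul _ a.2.1 _ c.2.1]
    group))

theorem χ_emb (c : KK z b) (v : SuzType.V6) :
    k.1 (emb6 ((D.χ c).1 v)) = (ρ (c : G)).1 (k.1 (emb6 v)) := by
  rw [χ, MonoidHom.comp_apply, chi_apply, ← qAut_mul_apply, ← qAut_mul_apply]
  exact congrArg (fun g : qAut qm => g.1 (emb6 v)) (show k * (k⁻¹ * ρ (c : G) * k) = ρ (c : G) * k by group)

theorem χ_mem (c : KK z b) : D.χ c ∈ SuzType.Ev := by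
  refine (chi_mem_ev_iff _).2 ?_
  show k⁻¹ * ρ (c : G) * k ∈ Ev
  have hn : Ev.Normal := normal_of_index_eq_two index_ev
  have := hn.conj_mem _ (D.S.rho_mem c.2.1) k⁻¹
  rwa [inv_inv] at this

theorem χ_surj {h : qAut SuzType.qm} (hh : h ∈ SuzType.Ev) : ∃ c : KK z b, D.χ c = h := by
  have hn : Ev.Normal := normal_of_index_eq_two index_ev
  have hcomm : k * extQ h * k⁻¹ * ρ b = ρ b * (k * extQ h * k⁻¹) := by
    rw [← D.hk]
    calc k * extQ h * k⁻¹ * (k * gD * k⁻¹) = k * (extQ h * gD) * k⁻¹ := by group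
      _ = k * gD * k⁻¹ * (k * extQ h * k⁻¹) := by
        rw [mem_centralizer_singleton_iff.1 (extQ_mem_cD h)]; group
  obtain ⟨c, hc, hcb, hρ⟩ := D.S.exists_cent_lift_three D.hbz D.hb3 D.b_ne (hn.conj_mem _ (extQ_mem hh) k) hcomm
  refine ⟨⟨c, hc, mem_centralizer_singleton_iff.2 hcb⟩, ?_⟩
  rw [χ, MonoidHom.comp_apply]
  conv_rhs => rw [← chi_extQ h]
  refine congrArg chi (Subtype.ext ?_)
  show k⁻¹ * ρ c * k = extQ h
  rw [hρ]; group

theorem b_mem : b ∈ KK z b := ⟨D.hbz, mem_centralizer_singleton_iff.2 rfl⟩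

theorem χ_b : D.χ ⟨b, D.b_mem⟩ = 1 := qAut_ext fun v => emb6_inj (k.1.injective (by
  rw [D.χ_emb, ← qAut_mul_apply]
  show (ρ b * k).1 (emb6 v) = _
  rw [← D.hk, inv_mul_cancel_right, qAut_mul_apply, gD_emb6]
  rfl))

theorem cQ_le : cQ Q b ≤ KK z b := fun _ h => ⟨D.S.le h.1, h.2⟩

theorem χ_cQ {q : G} (hq : q ∈ cQ Q b) : D.χ ⟨q, D.cQ_le hq⟩ = 1 := qAut_ext fun v => emb6_inj (k.1.injective (by
  rw [D.χ_emb]
  show (ρ q).1 (k.1 (emb6 v)) = _
  rw [D.S.rho_Q hq.1]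
  rfl))

theorem χ_ker {c : KK z b} (h : D.χ c = 1) : ∃ i : ℕ, (b ^ i)⁻¹ * (c : G) ∈ cQ Q b := by
  have h' := chi_ker (c := ⟨k⁻¹ * ρ (c : G) * k, D.conj_mem_cD c.2⟩) h
  haveI := finite_qAut qm
  obtain ⟨i, hi⟩ := (Submonoid.mem_powers_iff _ _).1 (mem_powers_iff_mem_zpowers.2 h')
  have hi : gD ^ i = k⁻¹ * ρ (c : G) * k := hi
  refine ⟨i, mem_inf.2 ⟨?_, mul_mem (inv_mem (pow_mem (show b ∈ centralizer ({b} : Set G) from mem_centralizer_singleton_iff.2 rfl) i)) c.2.2⟩⟩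
  refine (D.S.rho_ker _ (mul_mem (inv_mem (pow_mem D.hbz i)) c.2.1)).1 ?_
  rw [D.S.rho_mul _ (inv_mem (pow_mem D.hbz i)) _ c.2.1, D.S.rho_inv (pow_mem D.hbz i), D.S.rho_pow D.hbz, ← D.hk,
    conj_pow, hi]
  group

theorem fix_iff {v : V8} : (ρ b).1 v = v ↔ ∃ u, v = k.1 (emb6 u) := by
  constructor
  · intro hv
    have hv' : gD.1 (k⁻¹.1 v) = k⁻¹.1 v := by
      conv_rhs => rw [← hv, ← qAut_mul_apply, ← D.hk]
      rw [← qAut_mul_apply]
      exact congrArg (fun g : qAut qm => g.1 v) (by group)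
    obtain ⟨h1, h2⟩ := (rot_fix_iff _ _ pb_eD_fD).1 hv'
    refine ⟨proj6 (k⁻¹.1 v), ?_⟩
    rw [proj6_of_perp h1 h2, ← qAut_mul_apply, mul_inv_cancel]
    rfl
  · rintro ⟨u, rfl⟩
    rw [← D.hk, ← qAut_mul_apply, inv_mul_cancel_right, qAut_mul_apply, gD_emb6]

theorem pi_cQ {q : G} (hq : q ∈ cQ Q b) : ∃ u, π q = k.1 (emb6 u) :=
  D.fix_iff.1 ((D.S.mem_cQ_iff_three D.hbz D.hb3 hq.1).1 hq)

theorem exists_cQ (u : SuzType.V6) : ∃ q ∈ cQ Q b, π q = k.1 (emb6 u) := by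
  obtain ⟨q, hq, e⟩ := D.S.pi_surj (k.1 (emb6 u))
  exact ⟨q, (D.S.mem_cQ_iff_three D.hbz D.hb3 hq).2 (by rw [e]; exact D.fix_iff.2 ⟨u, rfl⟩), e⟩

theorem z_cQ : z ∈ cQ Q b := D.S.z_mem_cQ_three D.hbz D.hb3

theorem t_cQ : t ∈ cQ Q b := (D.S.mem_cQ_iff_three D.hbz D.hb3 D.C.P.tQ).2 D.fp

theorem card_cQ : Nat.card (cQ Q b) = 128 := by
  classical
  choose r hr using D.exists_cQ
  let f : ZMod 2 × SuzType.V6 → cQ Q b := fun p => ⟨zb z p.1 * r p.2, mul_mem (by
    rcases two_cases p.1 with e | e <;> rw [e]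
    · rw [zb_zero]; exact one_mem _
    · rw [zb_one]; exact D.z_cQ) (hr p.2).1⟩
  have hp : ∀ (c : ZMod 2) u, π (zb z c * r u) = k.1 (emb6 u) := fun c u => by
    rcases two_cases c with rfl | rfl
    · rw [zb_zero, one_mul, (hr u).2]
    · rw [zb_one, D.S.pi_zmul (hr u).1.1, (hr u).2]
  have hbij : Function.Bijective f := by
    constructor
    · rintro ⟨c, u⟩ ⟨c', u'⟩ h
      have h : zb z c * r u = zb z c' * r u' := congrArg Subtype.val h
      have hu : u = u' := emb6_inj (k.1.injective (by rw [← hp c u, h, hp]))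
      subst hu
      refine Prod.ext ?_ rfl
      have h := mul_right_cancel h
      rcases two_cases c with rfl | rfl <;> rcases two_cases c' with rfl | rfl <;>
        simp only [zb_zero, zb_one] at h ⊢
      · exact absurd h.symm D.S.z1
      · exact absurd h D.S.z1
    · intro a
      obtain ⟨u, hu⟩ := D.pi_cQ a.2
      rcases D.S.pi_eq (hr u).1.1 a.2.1 ((hr u).2.trans hu.symm) with e | e
      · exact ⟨(0, u), Subtype.ext (by simp only [f, zb_zero, one_mul]; exact e.symm)⟩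
      · exact ⟨(1, u), Subtype.ext (by simp only [f, zb_one]; exact e.symm)⟩
  rw [← Nat.card_eq_of_bijective _ hbij]
  simp

theorem cQ_centre {x : G} (hx : x ∈ cQ Q b) (h : ∀ y ∈ cQ Q b, y * x = x * y) : x = 1 ∨ x = z := by
  refine (D.S.pi_ker x hx.1).1 ?_
  obtain ⟨u, hu⟩ := D.pi_cQ hx
  have hu0 : u = 0 := SuzType.polarNondeg_qm _ fun v => by
    obtain ⟨y, hy, e⟩ := D.exists_cQ v
    show SuzType.pb u v = 0
    rw [← pb_emb6, ← pb_map k, ← hu, ← e]
    exact (D.S.commute_iff hx.1 hy.1).1 (h y hy).symm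
  rw [hu, hu0, map_zero, map_zero]

theorem cQ_extra : Cfsg.IsExtraspecial 2 (cQ Q b) := by
  have hle : cQ Q b ≤ Q := fun _ h => h.1
  obtain ⟨x, hx, ex⟩ := D.exists_cQ a6
  obtain ⟨y, hy, ey⟩ := D.exists_cQ b6
  have hne : x * y ≠ y * x := fun e => by
    have := (D.S.commute_iff hx.1 hy.1).1 e
    rw [ex, ey, pb_map, pb_emb6, pb_a6_b6] at this
    exact one_ne_zero this
  have h := LargeExtra.isExtraspecial_subgroup D.hE ((cQ Q b).subgroupOf Q)
    ⟨⟨x, hx.1⟩, hx, ⟨y, hy.1⟩, hy, fun e => hne (congrArg Subtype.val e)⟩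
    (fun u hu hc => by
      refine mem_center_iff.2 fun w => Subtype.ext ?_
      show (w : G) * (u : G) = (u : G) * (w : G)
      rcases D.cQ_centre hu (fun v hv => congrArg Subtype.val (hc ⟨v, hv.1⟩ hv)) with e | e
      · rw [show (u : G) = 1 from e, mul_one, one_mul]
      · rw [show (u : G) = z from e]; exact D.S.z_comm w.2)
  exact LargeExtra.isExtraspecial_of_mulEquiv (subgroupOfEquivOfLe hle) h

theorem cQ_self {c : KK z b} (h : ∀ q ∈ cQ Q b, (c : G) * q = q * c) : D.χ c = 1 :=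
  qAut_ext fun v => emb6_inj (k.1.injective (by
    obtain ⟨q, hq, e⟩ := D.exists_cQ v
    rw [D.χ_emb, ← e]
    exact (D.S.pi_conj_fix c.2.1 hq.1 (h q hq)).trans e))

/-- An element of the derived group over the second rotation, acting trivially on the line. -/
theorem exists_second : ∃ d : KK z b, d ∈ commutator (KK z b) ∧ D.χ d = g6 ∧
    ρ (d : G) = k * extQ g6 * k⁻¹ := by
  have hr : D.χ.range = SuzType.Ev := le_antisymm (by rintro _ ⟨c, rfl⟩; exact D.χ_mem c)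
    fun h hh => D.χ_surj hh
  have hg : g6 ∈ (commutator (KK z b)).map D.χ := by
    rw [_root_.commutator_def, map_commutator, ← MonoidHom.range_eq_map, hr, ev6_perfect]
    exact g6_mem
  obtain ⟨d, hd, hdg⟩ := hg
  refine ⟨d, hd, hdg, ?_⟩
  let ψ : KK z b →* cD := MonoidHom.mk' (fun c => (⟨k⁻¹ * ρ (c : G) * k, D.conj_mem_cD c.2⟩ : cD)) fun a c =>
    Subtype.ext (by
      show k⁻¹ * ρ ((a : G) * c) * k = k⁻¹ * ρ (a : G) * k * (k⁻¹ * ρ (c : G) * k)
      rw [D.S.rho_mul _ a.2.1 _ c.2.1]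
      group)
  have hψd : ψ d ∈ commutator cD := by
    have := mem_map_of_mem ψ hd
    rw [_root_.commutator_def, map_commutator] at this
    rw [_root_.commutator_def]
    exact commutator_mono le_top le_top this
  obtain ⟨h, hh⟩ := cD_commutator _ hψd
  have hh' : k⁻¹ * ρ (d : G) * k = extQ h := hh
  have he : h = g6 := by
    rw [← hdg, ← chi_extQ h]
    exact congrArg chi (Subtype.ext hh'.symm)
  rw [← he, ← hh']
  group

end ThreeData

end CfsgLib.CoType
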