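import Mathlib
import Cfsg.Agent.Lib.CoType.ThreeCent
import Cfsg.Agent.Lib.Local.CharP
import Cfsg.Agent.Lib.Local.PComp
import Cfsg.Agent.S1719
import Cfsg.Agent.S5380

/-!
The centralizer of a rotation: a perfect central extension of the group of Suzuki type.
-/

set_option autoImplicit false
set_option linter.style.haveILetI false
set_option linter.unusedSectionVars false

namespace CfsgLib.CoType

open Subgroup CfsgLib.Classical
open scoped commutatorElement

theorem f2_three : ∀ a b c : ZMod 2, a + c = b + a + (c + b) := by decide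

theorem f2_two : ∀ a b : ZMod 2, b + (b + a) + (a + b) = b := by decide

variable {G : Type*} [Group G] [Finite G] {z t : G} {Q R : Subgroup G} {π π' : G → V8} {ρ ρ' : G → qAut qm}
  {b : G} {k : qAut qm}

theorem three_suz (D : ThreeData z t Q R π π' ρ ρ' b k) (y : G) (hyb : y * b = b * y) (hyt : y * t * y⁻¹ = z)
    (Γ : Subgroup G) (hΓ : ∀ x, x ∈ Γ ↔ x * b = b * x) (Bz : Subgroup Γ) [Bz.Normal]
    (hBz : Bz = zpowers (⟨b, (hΓ b).2 rfl⟩ : Γ)) :
    Cfsg.Spor.IsoSuz (Γ ⧸ Bz) ∧ Cfsg.IsQuasisimple Γ := by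
  classical
  haveI : Fact (Nat.Prime 3) := ⟨Nat.prime_three⟩
  haveI : Fact (Nat.Prime 2) := ⟨Nat.prime_two⟩
  have S := D.S
  have hKΓ : KK z b ≤ Γ := fun x hx => (hΓ x).2 (mem_centralizer_singleton_iff.1 hx.2)
  set β : Γ := ⟨b, (hΓ b).2 rfl⟩ with hβ
  have hBc : Bz ≤ center Γ := hBz ▸ zpowers_le.2 (mem_center_iff.2 fun g => Subtype.ext ((hΓ g).1 g.2))
  have hβ3 : β ^ 3 = 1 := Subtype.ext (by rw [Subgroup.coe_pow, hβ, D.hb3, Subgroup.coe_one])
  have hB3 : ∀ x ∈ Bz, x ^ 3 = 1 := fun x hx => by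
    obtain ⟨i, rfl⟩ := mem_zpowers_iff.1 (hBz ▸ hx : x ∈ zpowers β)
    rw [← zpow_natCast, ← zpow_mul, mul_comm, zpow_mul, zpow_natCast, hβ3, one_zpow]
  set q₀ : Γ →* Γ ⧸ Bz := QuotientGroup.mk' Bz with hq₀
  have hq₀s : Function.Surjective q₀ := QuotientGroup.mk'_surjective Bz
  have hpow4 : ∀ a ∈ Q, a ^ 4 = 1 := fun a ha => by
    rw [show a ^ 4 = a * a * (a * a) by simp only [pow_succ, pow_zero]; group, S.sq a ha, zb_mul S.z2,
      CharTwo.add_self_eq_zero, zb_zero]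
  have one_of : ∀ x : Γ, x ^ 3 = 1 → x ^ 4 = 1 → x = 1 := fun x h3 h4 => by
    rw [pow_succ, h3, one_mul] at h4; exact h4
  have hBQ : ∀ x : Γ, x ∈ Bz → (x : G) ∈ Q → x = 1 := fun x hx hxQ =>
    one_of x (hB3 x hx) (Subtype.ext (by rw [Subgroup.coe_pow, hpow4 _ hxQ, Subgroup.coe_one]))
  -- involutions lift uniquely
  have inv_eq : ∀ u v : Γ, (u : G) * u = 1 → (v : G) * v = 1 → q₀ u = q₀ v → u = v := by
    intro u v hu hv h
    have hm : u⁻¹ * v ∈ Bz := QuotientGroup.eq.1 h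
    have hc := mem_center_iff.1 (hBc hm) u
    have hu' : u * u = 1 := Subtype.ext hu
    have hv' : v * v = 1 := Subtype.ext hv
    have h2 : (u⁻¹ * v) * (u⁻¹ * v) = 1 := by
      calc u⁻¹ * v * (u⁻¹ * v) = u⁻¹ * ((u * (u⁻¹ * v)) * (u⁻¹ * v)) := by group
        _ = u⁻¹ * (((u⁻¹ * v) * u) * (u⁻¹ * v)) := by rw [hc]
        _ = (u * u)⁻¹ * (v * v) := by group
        _ = 1 := by rw [hu', hv']; group
    exact inv_mul_eq_one.1 (one_of _ (hB3 _ hm) (by simp only [pow_succ, pow_zero, one_mul, mul_assoc] at h2 ⊢; rw [h2, mul_one, h2]))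
  have hzb : z * b = b * z := (mem_centralizer_singleton_iff.1 D.hbz).symm
  set zΓ : Γ := ⟨z, (hΓ z).2 hzb⟩ with hzΓ
  have hzz : (zΓ : G) * zΓ = 1 := S.z2
  set zb' := q₀ zΓ with hzb'
  set Cb : Subgroup (Γ ⧸ Bz) := centralizer ({zb'} : Set (Γ ⧸ Bz)) with hCb
  let φ₀ : KK z b →* Γ ⧸ Bz := q₀.comp (Subgroup.inclusion hKΓ)
  have hφ₀ : ∀ c : KK z b, φ₀ c ∈ Cb := fun c => mem_centralizer_singleton_iff.2 (by
    show q₀ _ * q₀ zΓ = q₀ zΓ * q₀ _
    rw [← map_mul, ← map_mul]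
    exact congrArg q₀ (Subtype.ext (mem_centralizer_singleton_iff.1 c.2.1)))
  let φ : KK z b →* Cb := φ₀.codRestrict Cb hφ₀
  have hφs : Function.Surjective φ := by
    rintro ⟨x, hx⟩
    obtain ⟨c, rfl⟩ := hq₀s x
    have h : (c : G) * z = z * c := by
      have hx' := mem_centralizer_singleton_iff.1 hx
      have e : c * zΓ * c⁻¹ = zΓ := inv_eq _ _ (by
        calc ((c * zΓ * c⁻¹ : Γ) : G) * (c * zΓ * c⁻¹ : Γ) = c * (z * z) * (c : G)⁻¹ := by
              simp only [Subgroup.coe_mul, Subgroup.coe_inv, hzΓ]; group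
          _ = 1 := by rw [S.z2, mul_one, mul_inv_cancel]) hzz (by
        rw [map_mul, map_mul, map_inv, hx', mul_inv_cancel_right])
      exact congrArg Subtype.val (mul_inv_eq_iff_eq_mul.1 e)
    exact ⟨⟨c, mem_centralizer_singleton_iff.2 h, mem_centralizer_singleton_iff.2 ((hΓ c).1 c.2)⟩, Subtype.ext rfl⟩
  have hφk : φ.ker ≤ D.χ.ker := fun c hc => by
    have h : (Subgroup.inclusion hKΓ c) ∈ zpowers β :=
      hBz ▸ (QuotientGroup.eq_one_iff _).1 (congrArg Subtype.val (MonoidHom.mem_ker.1 hc))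
    obtain ⟨i, hi⟩ := mem_zpowers_iff.1 h
    have : c = (⟨b, D.b_mem⟩ : KK z b) ^ i := Subtype.ext (by
      rw [SubgroupClass.coe_zpow]
      exact (congrArg Subtype.val hi).symm.trans (SubgroupClass.coe_zpow _ _))
    rw [MonoidHom.mem_ker, this, map_zpow, D.χ_b, one_zpow]
  let χb : Cb →* qAut SuzType.qm := φ.liftOfSurjective hφs ⟨D.χ, hφk⟩
  have hχb : ∀ c, χb (φ c) = D.χ c := fun c => φ.liftOfRightInverse_comp_apply _ _ ⟨D.χ, hφk⟩ c
  have hrange : χb.range = SuzType.Ev := by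
    refine le_antisymm ?_ fun h hh => ?_
    · rintro _ ⟨x, rfl⟩
      obtain ⟨c, rfl⟩ := hφs x
      rw [hχb]; exact D.χ_mem c
    · obtain ⟨c, rfl⟩ := D.χ_surj hh
      exact ⟨φ c, hχb c⟩
  let ψ : cQ Q b →* Cb := φ.comp (Subgroup.inclusion D.cQ_le)
  have hψ : Function.Injective ψ := (injective_iff_map_eq_one ψ).2 fun x hx => by
    have h := hBQ _ ((QuotientGroup.eq_one_iff _).1 (congrArg Subtype.val hx)) x.2.1
    exact Subtype.ext (congrArg (fun y : Γ => (y : G)) h)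
  have hker : χb.ker = ψ.range := by
    refine le_antisymm (fun x hx => ?_) ?_
    · obtain ⟨c, rfl⟩ := hφs x
      rw [MonoidHom.mem_ker, hχb] at hx
      obtain ⟨i, hi⟩ := D.χ_ker hx
      refine ⟨⟨_, hi⟩, Subtype.ext ?_⟩
      show q₀ ⟨_, _⟩ = q₀ ⟨_, _⟩
      refine QuotientGroup.eq.2 ?_
      rw [hBz]
      refine mem_zpowers_iff.2 ⟨(i : ℤ), Subtype.ext ?_⟩
      show ((β ^ (i : ℤ) : Γ) : G) = ((b ^ i)⁻¹ * (c : G))⁻¹ * (c : G)
      rw [zpow_natCast, Subgroup.coe_pow, mul_inv_rev, inv_inv, mul_assoc]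
      show b ^ i = (c : G)⁻¹ * (b ^ i * (c : G))
      have e : Commute (b ^ i) (c : G) :=
        (show Commute b (c : G) from (mem_centralizer_singleton_iff.1 c.2.2).symm).pow_left i
      rw [e.eq, inv_mul_cancel_left]
    · rintro _ ⟨q, rfl⟩
      rw [MonoidHom.mem_ker]
      exact (hχb _).trans (D.χ_cQ q.2)
  set Qc : Subgroup Cb := ψ.range with hQc
  haveI hQn : Qc.Normal := hker ▸ χb.normal_ker
  have eQ : cQ Q b ≃* Qc := MonoidHom.ofInjective hψ
  have hQx : Cfsg.IsExtraspecial 2 Qc := LargeExtra.isExtraspecial_of_mulEquiv eQ D.cQ_extra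
  have hQcard : Nat.card Qc = 2 ^ 7 := by rw [← Nat.card_congr eQ.toEquiv, D.card_cQ]; norm_num
  haveI := ev6_simple
  let χr : Cb →* ↥SuzType.Ev := χb.codRestrict SuzType.Ev fun x => hrange ▸ ⟨x, rfl⟩
  have hχrs : Function.Surjective χr := by
    rintro ⟨h, hh⟩
    obtain ⟨x, rfl⟩ : h ∈ χb.range := hrange ▸ hh
    exact ⟨x, rfl⟩
  -- the core
  have hcore : Cfsg.pCore 2 Cb = Qc := by
    refine le_antisymm ?_ (CfsgLib.Cores.le_pCore hQx.1.1)
    rw [← hker]
    haveI : ((Cfsg.pCore 2 Cb).map χr).Normal := by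
      haveI := CfsgLib.Cores.pCore_characteristic (G := Cb) 2
      exact Normal.map inferInstance χr hχrs
    rcases IsSimpleGroup.eq_bot_or_eq_top_of_normal ((Cfsg.pCore 2 Cb).map χr) inferInstance with h | h
    · exact fun x hx => congrArg Subtype.val ((eq_bot_iff_forall _).1 h _ (mem_map_of_mem _ hx))
    · exfalso
      have hp : IsPGroup 2 ↥SuzType.Ev :=
        ((h ▸ (CfsgLib.Cores.isPGroup_pCore (G := Cb) 2).map χr : IsPGroup 2 (⊤ : Subgroup ↥SuzType.Ev))).of_equiv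
          Subgroup.topEquiv
      haveI : Finite (qAut SuzType.qm) := finite_qAut _
      have h2 := hp.bot_lt_center
      rw [ev6_center] at h2
      exact lt_irrefl _ h2
  have hself : centralizer (Qc : Set Cb) ≤ Qc := by
    intro x hx
    obtain ⟨c, rfl⟩ := hφs x
    rw [← hker, MonoidHom.mem_ker, hχb]
    refine D.cQ_self fun q hq => ?_
    have h := congrArg Subtype.val (mem_centralizer_iff.1 hx _ ⟨⟨q, hq⟩, rfl⟩)
    have h' : (Subgroup.inclusion hKΓ (Subgroup.inclusion D.cQ_le ⟨q, hq⟩) * Subgroup.inclusion hKΓ c)⁻¹ *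
        (Subgroup.inclusion hKΓ c * Subgroup.inclusion hKΓ (Subgroup.inclusion D.cQ_le ⟨q, hq⟩)) ∈ Bz := by
      refine QuotientGroup.eq.1 ?_
      rw [QuotientGroup.mk_mul, QuotientGroup.mk_mul]
      exact h
    have h3 : (q * (c : G))⁻¹ * ((c : G) * q) ∈ Q := by
      rw [show (q * (c : G))⁻¹ * ((c : G) * q) = (c : G)⁻¹ * q⁻¹ * (c : G)⁻¹⁻¹ * q by group]
      exact mul_mem (S.conj_mem (inv_mem c.2.1) (inv_mem hq.1)) hq.1
    exact (congrArg Subtype.val (inv_mul_eq_one.1 (hBQ _ h' h3))).symm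
  have hF : Cfsg.generalizedFittingSubgroup Cb = Qc := by
    have hc : CfsgLib.Local.HasCharP 2 Cb := by
      show centralizer (Cfsg.pCore 2 Cb : Set Cb) ≤ Cfsg.pCore 2 Cb
      rw [hcore]; exact hself
    rw [hc.generalizedFittingSubgroup_eq, hcore]
  have eOm : Cb ⧸ Qc ≃* Cfsg.Omega (ZMod 2) (Cfsg.quadFormMinus 2 (ZMod 2) 1 1) := by
    have hk : Qc = χr.ker := by
      ext x
      rw [← hker, MonoidHom.mem_ker, MonoidHom.mem_ker]
      exact ⟨fun h => Subtype.ext h, fun h => congrArg Subtype.val h⟩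
    have e : Cb ⧸ Qc ≃* Cfsg.Omega (ZMod 2) ⇑SuzType.qm :=
      (QuotientGroup.quotientMulEquivOfEq hk).trans
        ((QuotientGroup.quotientKerEquivOfSurjective χr hχrs).trans omega6Equiv.symm)
    rwa [SuzType.coe_qm] at e
  -- not weakly closed
  have hne : ∀ u v : Γ, (u : G) * u = 1 → (v : G) * v = 1 → (u : G) ≠ v → q₀ u ≠ q₀ v := fun u v hu hv h e =>
    h (congrArg Subtype.val (inv_eq u v hu hv e))
  have hzo : orderOf zb' = 2 := orderOf_eq_prime (p := 2) (by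
      rw [hzb', ← map_pow, show zΓ ^ 2 = 1 from Subtype.ext (by rw [Subgroup.coe_pow, pow_two]; exact hzz), map_one])
    fun h => hne zΓ 1 hzz (one_mul 1) S.z1 (h.trans (map_one q₀).symm)
  set yΓ : Γ := ⟨y, (hΓ y).2 hyb⟩ with hyΓ
  set tΓ : Γ := ⟨t, hKΓ (D.cQ_le D.t_cQ)⟩ with htΓ
  have hyy : q₀ yΓ⁻¹ * zb' * (q₀ yΓ⁻¹)⁻¹ = q₀ tΓ := by
    rw [hzb', ← map_inv, ← map_mul, ← map_mul,
      show yΓ⁻¹ * zΓ * yΓ⁻¹⁻¹ = tΓ from Subtype.ext (by
        show y⁻¹ * z * y⁻¹⁻¹ = t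
        rw [← hyt]; group)]
  have htC : q₀ tΓ ∈ Cb := hφ₀ ⟨t, D.cQ_le D.t_cQ⟩
  have hnwc : ∃ g : Γ ⧸ Bz, (∃ hq : g * zb' * g⁻¹ ∈ Cb, (⟨g * zb' * g⁻¹, hq⟩ : Cb) ∈ Qc) ∧
      g * zb' * g⁻¹ ≠ zb' := by
    refine ⟨q₀ yΓ⁻¹, ⟨hyy ▸ htC, ⟨⟨t, D.t_cQ⟩, Subtype.ext hyy.symm⟩⟩, ?_⟩
    rw [hyy]
    exact hne tΓ zΓ D.C.P.S'.z2 hzz D.C.P.ne
  obtain ⟨eS⟩ := Cfsg.Agent.S1719.result zb' hzo Qc hF hQx hQcard eOm hnwc
  refine ⟨⟨eS⟩, ?_⟩
  -- simplicity of the quotient
  haveI : IsSimpleGroup (Γ ⧸ Bz) := by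
    haveI := CfsgLib.Suz.simple
    haveI : Nontrivial (Γ ⧸ Bz) := eS.toEquiv.nontrivial
    exact IsSimpleGroup.isSimpleGroup_of_surjective eS.symm.toMonoidHom eS.symm.surjective
  obtain ⟨qa, hqa, epa⟩ := D.exists_cQ a6
  obtain ⟨qb, hqb, epb⟩ := D.exists_cQ b6
  have hab : qa * qb ≠ qb * qa := fun e => by
    have := (S.commute_iff hqa.1 hqb.1).1 e
    rw [epa, epb, pb_map, pb_emb6, pb_a6_b6] at this
    exact one_ne_zero this
  have hψne : ψ ⟨qa, hqa⟩ * ψ ⟨qb, hqb⟩ ≠ ψ ⟨qb, hqb⟩ * ψ ⟨qa, hqa⟩ := fun e => hab (by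
    rw [← map_mul, ← map_mul] at e
    exact congrArg Subtype.val (hψ e))
  have hcen : center (Γ ⧸ Bz) = ⊥ := (IsSimpleGroup.eq_bot_or_eq_top_of_normal _ inferInstance).resolve_right
    fun h => hψne (Subtype.ext (mem_center_iff.1
      (h ▸ mem_top ((ψ ⟨qb, hqb⟩ : Cb) : Γ ⧸ Bz)) ((ψ ⟨qa, hqa⟩ : Cb) : Γ ⧸ Bz)))
  have hcomm : commutator (Γ ⧸ Bz) = ⊤ := by
    refine (IsSimpleGroup.eq_bot_or_eq_top_of_normal _ inferInstance).resolve_left fun h => ?_
    have hc := (commutator_eq_bot_iff_center_eq_top _).1 h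
    rw [hcen] at hc
    exact bot_ne_top hc
  have hsup : commutator Γ ⊔ Bz = ⊤ := by
    have h : (commutator Γ).map q₀ = ⊤ := by
      rw [_root_.commutator_def, map_commutator, map_top_of_surjective _ hq₀s, ← _root_.commutator_def, hcomm]
    rw [← QuotientGroup.ker_mk' Bz, ← comap_map_eq, ← hq₀, h, comap_top]
  -- the central element lies in the derived group
  have hmem : β ∈ commutator Γ := by
    by_contra hβn
    have hinf : ∀ x ∈ Bz, x ∈ commutator Γ → x = 1 := by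
      intro x hx hxc
      by_contra hx1
      obtain ⟨i, rfl⟩ := mem_zpowers_iff.1 (hBz ▸ hx : x ∈ zpowers β)
      have hb : β ∈ zpowers (β ^ i) := mem_zpowers_of_prime_card (p := 3) (G := zpowers β)
        (g' := ⟨β, mem_zpowers β⟩) (g := ⟨β ^ i, zpow_mem (mem_zpowers β) i⟩)
        (by rw [Nat.card_zpowers, orderOf_eq_prime hβ3 fun e => D.b_ne (congrArg Subtype.val e)])
        (fun e => hx1 (congrArg Subtype.val e)) |> fun h => by
          obtain ⟨j, hj⟩ := mem_zpowers_iff.1 h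
          exact mem_zpowers_iff.2 ⟨j, by simpa using congrArg Subtype.val hj⟩
      exact hβn ((zpowers_le.2 hxc) hb)
    obtain ⟨d, hdK, hdχ, hdρ⟩ := D.exists_second
    let ι : KK z b →* Γ := Subgroup.inclusion hKΓ
    have hdΓ : ι d ∈ commutator Γ := by
      have := mem_map_of_mem ι hdK
      rw [_root_.commutator_def, map_commutator] at this
      rw [_root_.commutator_def]
      exact commutator_mono le_top le_top this
    -- an element of order three
    have hd12 : ((ι d) ^ 3) ^ 4 ∈ Bz := by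
      obtain ⟨i, hi⟩ := D.χ_ker (c := d ^ 3) (by rw [map_pow, hdχ, g6_cube])
      have hbd : Commute (b ^ i) ((d ^ 3 : KK z b) : G) :=
        (show Commute b _ from (mem_centralizer_singleton_iff.1 (d ^ 3 : KK z b).2.2).symm).pow_left i
      have h4 := hpow4 _ hi.1
      rw [hbd.inv_left.mul_pow, inv_pow, inv_mul_eq_one] at h4
      rw [hBz]
      refine mem_zpowers_iff.2 ⟨((i * 4 : ℕ) : ℤ), Subtype.ext ?_⟩
      rw [zpow_natCast, Subgroup.coe_pow, pow_mul]
      show (b ^ i) ^ 4 = _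
      rw [h4]
      simp [ι]
    have hd121 : ((ι d) ^ 3) ^ 4 = 1 := hinf _ hd12 (pow_mem (pow_mem hdΓ 3) 4)
    set l : Γ := (ι d) ^ 4 with hl
    have hl3 : l ^ 3 = 1 := by rw [hl, ← pow_mul, mul_comm, pow_mul, hd121]
    have hlc : l ∈ commutator Γ := pow_mem hdΓ 4
    have hlK : (l : G) ∈ KK z b := by rw [hl, Subgroup.coe_pow]; exact pow_mem d.2 4
    have hlKeq : (⟨l, hlK⟩ : KK z b) = d ^ 4 := Subtype.ext (by simp [hl, ι])
    have hlχ : D.χ ⟨l, hlK⟩ = g6 := by rw [hlKeq, map_pow, hdχ, pow_succ, g6_cube, one_mul]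
    have hlρ : ρ (l : G) = k * extQ g6 * k⁻¹ := by
      rw [hl, Subgroup.coe_pow, show ((ι d : Γ) : G) = (d : G) from rfl, S.rho_pow d.2.1, hdρ, conj_pow,
        pow_succ, rot_extQ_g6.cube, one_mul]
    have hlr : Rot (ρ (l : G)) := by
      rw [hlρ, extQ_g6]
      exact ⟨_, _, _, _, (pb_map k _ _).trans ((pb_emb6 _ _).trans pb_a6_b6), rot_conj k _ _⟩
    obtain ⟨c, hc, hcl⟩ := S.rot_lift_conj D.hbz D.hb3 hlK.1 (by rw [← Subgroup.coe_pow, hl3, Subgroup.coe_one])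
      D.rot hlr
    -- the centralizer of its image is quasisimple
    set lb : Cb := φ ⟨l, hlK⟩ with hlb
    have hlbq : (lb : Γ ⧸ Bz) = q₀ l := rfl
    have hlb1 : lb ≠ 1 := fun e => g6_ne (by rw [← hlχ, ← hχb, ← hlb, e, map_one])
    have hlbχ : χb lb = g6 := (hχb _).trans hlχ
    have hY3 : Nat.card (zpowers lb) = 3 := by
      rw [Nat.card_zpowers]
      refine orderOf_eq_prime (Subtype.ext ?_) hlb1
      rw [Subgroup.coe_pow, hlbq, ← map_pow, hl3, map_one, Subgroup.coe_one]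
    let Hq : Subgroup (cQ Q b) :=
      { carrier := {x | ∃ α γ : ZMod 2, π (x : G) = k.1 (emb6 (α • a6 + γ • b6))}
        one_mem' := ⟨0, 0, by
          rw [Subgroup.coe_one, S.pi_one, zero_smul, zero_smul, add_zero, map_zero, map_zero]⟩
        mul_mem' := fun {x x'} ⟨α, γ, e⟩ ⟨α', γ', e'⟩ => ⟨α + α', γ + γ', by
          rw [Subgroup.coe_mul, S.pi_mul _ x.2.1 _ x'.2.1, e, e', ← map_add, ← map_add, add_smul, add_smul]
          congr 2; abel⟩
        inv_mem' := fun {x} ⟨α, γ, e⟩ => ⟨α, γ, by rw [Subgroup.coe_inv, S.pi_inv x.2.1, e]⟩ }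
    have hcom_pi : ∀ (q : cQ Q b) (c' : KK z b), ∃ h : cQ Q b,
        ψ h = ⁅ψ q, φ c'⁆ ∧ ∀ u, π (q : G) = k.1 (emb6 u) → π (h : G) = k.1 (emb6 (u + (D.χ c').1 u)) := by
      intro q c'
      have hm : (q : G) * ((c' : G) * (q : G)⁻¹ * (c' : G)⁻¹) ∈ cQ Q b :=
        mem_inf.2 ⟨mul_mem q.2.1 (S.conj_mem c'.2.1 (inv_mem q.2.1)),
          mul_mem q.2.2 (mul_mem (mul_mem c'.2.2 (inv_mem q.2.2)) (inv_mem c'.2.2))⟩
      refine ⟨⟨_, hm⟩, ?_, fun u hu => ?_⟩
      · show φ _ = _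
        rw [show (Subgroup.inclusion D.cQ_le ⟨_, hm⟩ : KK z b) = ⁅Subgroup.inclusion D.cQ_le q, c'⁆ from
          Subtype.ext (by
            rw [commutatorElement_def]
            show (q : G) * ((c' : G) * (q : G)⁻¹ * (c' : G)⁻¹) = (q : G) * (c' : G) * (q : G)⁻¹ * (c' : G)⁻¹
            group), map_commutatorElement]
        rfl
      · show π ((q : G) * ((c' : G) * (q : G)⁻¹ * (c' : G)⁻¹)) = _
        rw [S.pi_mul _ q.2.1 _ (S.conj_mem c'.2.1 (inv_mem q.2.1)), S.rho_pi _ c'.2.1 _ (inv_mem q.2.1),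
          S.pi_inv q.2.1, hu, ← D.χ_emb, ← map_add, ← map_add]
    have hcomH : ⁅Qc, zpowers lb⁆ = Hq.map ψ := by
      refine le_antisymm (commutator_le.2 ?_) ?_
      · rintro _ ⟨q, rfl⟩ w hw
        obtain ⟨n, rfl⟩ := mem_zpowers_iff.1 hw
        obtain ⟨h, hh, hπ⟩ := hcom_pi q ((⟨l, hlK⟩ : KK z b) ^ n)
        refine ⟨h, ?_, by rw [hh, map_zpow]⟩
        obtain ⟨u, hu⟩ := D.pi_cQ q.2
        have key : ∀ n : ℤ, ∃ α γ : ZMod 2, u + (g6 ^ n).1 u = α • a6 + γ • b6 := by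
          intro n
          obtain ⟨j, hj⟩ : ∃ j : Fin 3, g6 ^ n = g6 ^ (j : ℕ) := ⟨⟨(n % 3).toNat, by omega⟩, by
            rw [← zpow_natCast]
            have e : n = ((n % 3).toNat : ℤ) + 3 * (n / 3) := by omega
            conv_lhs => rw [e]
            rw [zpow_add, zpow_mul, show g6 ^ (3 : ℤ) = 1 by
              rw [show (3 : ℤ) = ((3 : ℕ) : ℤ) from rfl, zpow_natCast, g6_cube], one_zpow, mul_one]⟩
          rw [hj]
          fin_cases j
          · exact ⟨0, 0, by rw [zero_smul, zero_smul, add_zero, pow_zero]; exact SuzType.add_self6 u⟩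
          · obtain ⟨α, γ, h⟩ := g6_span u
            exact ⟨α, γ, by rw [pow_one, add_comm]; exact h⟩
          · obtain ⟨α, γ, h⟩ := g6_span u
            obtain ⟨α', γ', h'⟩ := g6_span (g6.1 u)
            refine ⟨α + α', γ + γ', ?_⟩
            show u + (g6 ^ 2).1 u = _
            rw [pow_two, qAut_mul_apply]
            rw [add_smul, add_smul, add_add_add_comm, ← h, ← h']
            funext i
            simp only [Pi.add_apply]
            exact f2_three _ _ _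
        obtain ⟨α, γ, hαγ⟩ := key n
        exact ⟨α, γ, by rw [hπ u hu, map_zpow, hlχ, hαγ]⟩
      · have gen : ∀ u v : SuzType.V6, g6.1 u + u = v → ∃ h : cQ Q b, π (h : G) = k.1 (emb6 v) ∧
            ψ h ∈ ⁅Qc, zpowers lb⁆ := by
          intro u v huv
          obtain ⟨q, hq, hu⟩ := D.exists_cQ u
          obtain ⟨h, hh, hπ⟩ := hcom_pi ⟨q, hq⟩ ⟨l, hlK⟩
          refine ⟨h, by rw [hπ u hu, hlχ, add_comm, huv], ?_⟩
          rw [hh]
          exact commutator_mem_commutator ⟨_, rfl⟩ (mem_zpowers lb)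
        obtain ⟨u1, e1, m1⟩ := gen b6 a6 (by rw [g6_b, add_comm, SuzType.add_cancel6])
        obtain ⟨u2, e2, m2⟩ := gen (a6 + b6) b6 (by
          rw [map_add, g6_a, g6_b]
          funext i
          simp only [Pi.add_apply]
          exact f2_two _ _)
        have hzmem : ψ ⟨z, D.z_cQ⟩ ∈ ⁅Qc, zpowers lb⁆ := by
          have hne12 : pb (π (u1 : G)) (π (u2 : G)) = 1 := by rw [e1, e2, pb_map, pb_emb6, pb_a6_b6]
          have hc := S.comm u1.2.1 u2.2.1
          rw [hne12, zb_one] at hc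
          have he : (⟨z, D.z_cQ⟩ : cQ Q b) = u1 * u2 * (u2 * u1)⁻¹ := Subtype.ext (by
            show z = (u1 : G) * u2 * ((u2 : G) * u1)⁻¹
            rw [hc, mul_inv_cancel_right])
          rw [he, map_mul, map_inv, map_mul, map_mul]
          exact mul_mem (mul_mem m1 m2) (inv_mem (mul_mem m2 m1))
        rintro _ ⟨x, ⟨α, γ, hx⟩, rfl⟩
        obtain ⟨w, hwm, hw⟩ : ∃ w : cQ Q b, ψ w ∈ ⁅Qc, zpowers lb⁆ ∧ π (w : G) = π (x : G) := by
          rcases two_cases α with rfl | rfl <;> rcases two_cases γ with rfl | rfl <;>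
            simp only [zero_smul, one_smul, zero_add, add_zero] at hx
          · exact ⟨1, by rw [map_one]; exact one_mem _,
              by rw [hx, Subgroup.coe_one, S.pi_one, map_zero, map_zero]⟩
          · exact ⟨u2, m2, e2.trans hx.symm⟩
          · exact ⟨u1, m1, e1.trans hx.symm⟩
          · exact ⟨u1 * u2, by rw [map_mul]; exact mul_mem m1 m2,
              by rw [hx, Subgroup.coe_mul, S.pi_mul _ u1.2.1 _ u2.2.1, e1, e2, map_add, map_add]⟩
        rcases S.pi_eq w.2.1 x.2.1 hw with e | e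
        · rw [show x = w from Subtype.ext e]; exact hwm
        · rw [show x = ⟨z, D.z_cQ⟩ * w from Subtype.ext e, map_mul]; exact mul_mem hzmem hwm
    have hH8 : Nat.card Hq = 8 := by
      choose r hr using D.exists_cQ
      have hrH : ∀ p : ZMod 2 × ZMod 2, (⟨_, (hr (p.1 • a6 + p.2 • b6)).1⟩ : cQ Q b) ∈ Hq :=
        fun p => ⟨p.1, p.2, (hr _).2⟩
      have hzH : ∀ c : ZMod 2, ∃ h : Hq, ((h : cQ Q b) : G) = zb z c := fun c => by
        rcases two_cases c with rfl | rfl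
        · exact ⟨1, by rw [zb_zero]; rfl⟩
        · exact ⟨⟨⟨z, D.z_cQ⟩, 0, 0, by
            rw [zero_smul, zero_smul, add_zero, map_zero, map_zero]; exact S.pi_z⟩, by rw [zb_one]⟩
      choose zH hzH using hzH
      let f : ZMod 2 × (ZMod 2 × ZMod 2) → Hq := fun p => zH p.1 * ⟨_, hrH p.2⟩
      have hfv : ∀ p, ((f p : cQ Q b) : G) = zb z p.1 * r (p.2.1 • a6 + p.2.2 • b6) := fun p => by
        show ((zH p.1 : cQ Q b) : G) * _ = _
        rw [hzH]
      have hp : ∀ (c : ZMod 2) u, π (zb z c * r u) = k.1 (emb6 u) := fun c u => by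
        rcases two_cases c with rfl | rfl
        · rw [zb_zero, one_mul, (hr u).2]
        · rw [zb_one, S.pi_zmul (hr u).1.1, (hr u).2]
      have hbij : Function.Bijective f := by
        constructor
        · rintro ⟨c, α, γ⟩ ⟨c', α', γ'⟩ h
          have h : zb z c * r (α • a6 + γ • b6) = zb z c' * r (α' • a6 + γ' • b6) := by
            rw [← hfv (c, α, γ), ← hfv (c', α', γ'), h]
          have hu : α • a6 + γ • b6 = α' • a6 + γ' • b6 := emb6_inj (k.1.injective (by rw [← hp c, h, hp]))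
          have hα := congrFun hu (.inr 0)
          have hγ := congrFun hu (.inr 1)
          simp [a6, b6] at hα hγ
          subst hα hγ
          refine Prod.ext ?_ rfl
          have h := mul_right_cancel h
          rcases two_cases c with rfl | rfl <;> rcases two_cases c' with rfl | rfl <;>
            simp only [zb_zero, zb_one] at h ⊢
          · exact absurd h.symm S.z1
          · exact absurd h S.z1
        · rintro ⟨a, α, γ, ha⟩
          rcases S.pi_eq (hr _).1.1 a.2.1 ((hr (α • a6 + γ • b6)).2.trans ha.symm) with e | e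
          · exact ⟨(0, α, γ), Subtype.ext (Subtype.ext (by rw [hfv, zb_zero, one_mul]; exact e.symm))⟩
          · exact ⟨(1, α, γ), Subtype.ext (Subtype.ext (by rw [hfv, zb_one]; exact e.symm))⟩
      rw [← Nat.card_eq_of_bijective _ hbij]
      simp
    have hcard8 : Nat.card ↥⁅Qc, zpowers lb⁆ = 8 := by
      rw [hcomH, card_map_of_injective hψ, hH8]
    have hna : ¬ IsMulCommutative ↥⁅Qc, zpowers lb⁆ := fun h => hψne (by
      have ma : ψ ⟨qa, hqa⟩ ∈ ⁅Qc, zpowers lb⁆ := by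
        rw [hcomH]; exact mem_map_of_mem _ ⟨1, 0, by rw [one_smul, zero_smul, add_zero]; exact epa⟩
      have mb : ψ ⟨qb, hqb⟩ ∈ ⁅Qc, zpowers lb⁆ := by
        rw [hcomH]; exact mem_map_of_mem _ ⟨0, 1, by rw [one_smul, zero_smul, zero_add]; exact epb⟩
      exact congrArg Subtype.val (h.is_comm.comm ⟨_, ma⟩ ⟨_, mb⟩))
    haveI : (((zpowers lb).map Cb.subtype).subgroupOf
        (centralizer (((zpowers lb).map Cb.subtype : Subgroup (Γ ⧸ Bz)) : Set (Γ ⧸ Bz)))).Normal := by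
      refine ⟨fun a ha g => ?_⟩
      have hc := Subgroup.mem_centralizer_iff.1 g.2 _ (Subgroup.mem_subgroupOf.1 ha)
      rw [show g * a * g⁻¹ = a from Subtype.ext (by
        show (g : Γ ⧸ Bz) * a * (g : Γ ⧸ Bz)⁻¹ = a
        rw [← hc, mul_inv_cancel_right])]
      exact ha
    letI : Fintype (GaloisField 3 2) := Fintype.ofFinite _
    have hK : Fintype.card (GaloisField 3 2) = 9 := by
      rw [← Nat.card_eq_fintype_card, GaloisField.card 3 2 (by norm_num)]; rfl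
    obtain ⟨hqs, -, -⟩ := Cfsg.Agent.S5380.result zb' hzo Qc hF hQx hQcard eOm hnwc (zpowers lb) hY3 hcard8 hna
      (GaloisField 3 2) hK
    -- lift to the centralizer of the element
    set CY : Subgroup (Γ ⧸ Bz) := centralizer (((zpowers lb).map Cb.subtype : Subgroup (Γ ⧸ Bz)) : Set (Γ ⧸ Bz))
      with hCY
    have hperfY : q₀ l ∈ ⁅CY, CY⁆ := by
      have hlY : q₀ l ∈ CY := mem_centralizer_iff.2 (by
        rintro _ ⟨w, hw, rfl⟩
        obtain ⟨n, rfl⟩ := mem_zpowers_iff.1 hw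
        rw [Cb.coe_subtype, SubgroupClass.coe_zpow, hlbq]
        exact ((Commute.refl (q₀ l)).zpow_left n).eq)
      have := mem_map_of_mem CY.subtype (hqs.1.commutator_eq_top ▸ mem_top (⟨_, hlY⟩ : CY) :
        (⟨_, hlY⟩ : CY) ∈ commutator CY)
      rwa [_root_.commutator_def, map_commutator, ← MonoidHom.range_eq_map, CY.range_subtype] at this
    set CL : Subgroup Γ := centralizer ({l} : Set Γ) with hCL
    have hle : CY ≤ CL.map q₀ := by
      intro x hx
      obtain ⟨g, rfl⟩ := hq₀s x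
      refine mem_map_of_mem _ (mem_centralizer_singleton_iff.2 ?_)
      have h1 : q₀ l * q₀ g = q₀ g * q₀ l :=
        mem_centralizer_iff.1 hx _ ⟨lb, mem_zpowers lb, hlbq⟩
      have h2 : ⁅g, l⁆ ∈ Bz := (QuotientGroup.eq_one_iff _).1 (by
        show q₀ ⁅g, l⁆ = 1
        rw [map_commutatorElement, commutatorElement_eq_one_iff_mul_comm]
        exact h1.symm)
      exact commutatorElement_eq_one_iff_mul_comm.1 (hinf _ h2 (commutator_mem_commutator (mem_top _) (mem_top _)))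
    obtain ⟨d', hd', hd'q⟩ : q₀ l ∈ (⁅CL, CL⁆).map q₀ := by
      rw [map_commutator]; exact commutator_mono hle hle hperfY
    have hdc : d' ∈ commutator Γ := by
      rw [_root_.commutator_def]; exact commutator_mono le_top le_top hd'
    have hld : d' = l := inv_mul_eq_one.1 (hinf _ (QuotientGroup.eq.1 hd'q) (mul_mem (inv_mem hdc) hlc))
    rw [hld] at hd'
    -- transport
    have h3 : (MulAut.conj c⁻¹).toMonoidHom.comp Γ.subtype l = b := by
      show c⁻¹ * (l : G) * c⁻¹⁻¹ = b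
      rw [← hcl]; group
    have hsub : CL.map ((MulAut.conj c⁻¹).toMonoidHom.comp Γ.subtype) ≤ (⊤ : Subgroup Γ).map Γ.subtype := by
      rintro _ ⟨g, hg, rfl⟩
      refine mem_map.2 ⟨⟨_, ?_⟩, mem_top _, rfl⟩
      refine (hΓ _).2 ?_
      have e := congrArg ((MulAut.conj c⁻¹).toMonoidHom.comp Γ.subtype) (mem_centralizer_singleton_iff.1 hg)
      rw [map_mul, map_mul, h3] at e
      exact e
    have h4 : b ∈ (commutator Γ).map Γ.subtype := by
      have h5 := mem_map_of_mem ((MulAut.conj c⁻¹).toMonoidHom.comp Γ.subtype) hd'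
      rw [h3, map_commutator] at h5
      rw [_root_.commutator_def, map_commutator]
      exact commutator_mono hsub hsub h5
    obtain ⟨w, hw, hwb⟩ := h4
    exact hβn ((Subtype.ext hwb : w = β) ▸ hw)
  have hperf : commutator Γ = ⊤ := by
    rw [← hsup, sup_eq_left.2 (hBz ▸ zpowers_le.2 hmem : Bz ≤ commutator Γ)]
  refine CfsgLib.Local.isQuasisimple_of_central_quotient ⟨hperf⟩ Bz hBc ⟨⟨hcomm⟩, ?_⟩
  haveI : Nontrivial ((Γ ⧸ Bz) ⧸ center (Γ ⧸ Bz)) :=
    ((QuotientGroup.quotientMulEquivOfEq hcen).trans QuotientGroup.quotientBot).toEquiv.nontrivial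
  exact IsSimpleGroup.isSimpleGroup_of_surjective (QuotientGroup.mk' _) (QuotientGroup.mk'_surjective _)

end CfsgLib.CoType
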