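import Mathlib
import Cfsg.Agent.Lib.CoType.ThreeSuz
import Cfsg.Agent.Lib.CoType.Hyp

/-!
The rotation of the hypotheses and the conclusion about its centralizer.
-/

set_option autoImplicit false
set_option linter.style.haveILetI false

namespace CfsgLib.CoType

open Subgroup CfsgLib.Classical
open scoped commutatorElement

theorem three_main {G : Type*} [Group G] [Finite G] (z : G) (hz : orderOf z = 2)
    (Q : Subgroup (Subgroup.centralizer ({z} : Set G))) [Q.Normal]
    (hF : Cfsg.generalizedFittingSubgroup (Subgroup.centralizer ({z} : Set G)) = Q)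
    (hQ : Cfsg.IsExtraspecial 2 Q) (hcard : Nat.card Q = 2 ^ 9)
    (e : (Subgroup.centralizer ({z} : Set G)) ⧸ Q ≃* Cfsg.Omega (ZMod 2) (Cfsg.quadFormPlus 4 (ZMod 2)))
    (hnwc : ∃ g : G, (∃ hq : g * z * g⁻¹ ∈ Subgroup.centralizer ({z} : Set G),
      (⟨g * z * g⁻¹, hq⟩ : Subgroup.centralizer ({z} : Set G)) ∈ Q) ∧ g * z * g⁻¹ ≠ z)
    (X : Subgroup (Subgroup.centralizer ({z} : Set G))) (hX : Nat.card X = 3) (hQX : Nat.card ↥⁅Q, X⁆ = 8)
    (N : Subgroup ↥(Subgroup.centralizer ((X.map (Subgroup.centralizer ({z} : Set G)).subtype : Subgroup G) : Set G)))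
    [N.Normal] (hN : N = (X.map (Subgroup.centralizer ({z} : Set G)).subtype).subgroupOf _) :
    Cfsg.IsQuasisimple ↥(Subgroup.centralizer ((X.map (Subgroup.centralizer ({z} : Set G)).subtype : Subgroup G) : Set G)) ∧
      Cfsg.Spor.IsoSuz (↥(Subgroup.centralizer ((X.map (Subgroup.centralizer ({z} : Set G)).subtype : Subgroup G) : Set G)) ⧸ N) := by
  classical
  haveI : Fact (Nat.Prime 3) := ⟨Nat.prime_three⟩
  obtain ⟨t, R, π, π', ρ, ρ', C⟩ := config_of_hyp_map z hz Q hF hQ hcard e hnwc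
  set Qg := Q.map (Subgroup.centralizer ({z} : Set G)).subtype with hQg
  have S := C.P.S
  have hE : Cfsg.IsExtraspecial 2 Qg :=
    LargeExtra.isExtraspecial_of_mulEquiv (Q.equivMapOfInjective (Subgroup.centralizer ({z} : Set G)).subtype (Subgroup.centralizer ({z} : Set G)).subtype_injective) hQ
  obtain ⟨x, hx⟩ := exists_prime_orderOf_dvd_card' (G := X) 3 (by rw [hX])
  set b : G := ((x : (Subgroup.centralizer ({z} : Set G))) : G) with hb
  have hxo : orderOf (x : (Subgroup.centralizer ({z} : Set G))) = 3 := by rw [Subgroup.orderOf_coe]; exact hx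
  have hXz : X = zpowers (x : (Subgroup.centralizer ({z} : Set G))) :=
    (eq_of_le_of_card_ge (zpowers_le.2 x.2) (by rw [Nat.card_zpowers, hxo, hX])).symm
  have hXm : X.map (Subgroup.centralizer ({z} : Set G)).subtype = zpowers b := by rw [hXz, MonoidHom.map_zpowers]; rfl
  have hbz : b ∈ (Subgroup.centralizer ({z} : Set G)) := (x : (Subgroup.centralizer ({z} : Set G))).2
  have hbo : orderOf b = 3 := by rw [hb, Subgroup.orderOf_coe]; exact hxo
  have hb3 : b ^ 3 = 1 := by rw [← hbo, pow_orderOf_eq_one]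
  have hb1 : b ≠ 1 := fun h => by rw [h, orderOf_one] at hbo; omega
  -- the rotation
  have hrot : Rot (ρ b) := by
    refine rot_of_fix (S.rho_cube hbz hb3) (S.rho_ne_three hbz hb3 hb1) ?_
    let f : V8 →+ V8 := AddMonoidHom.mk' (fun v => v + (ρ b).1 v) fun u v => by rw [map_add]; abel
    have hker : Nat.card f.ker ≤ Nat.card (fixV (ρ b)) :=
      Nat.card_le_card_of_injective (fun v => (⟨v.1,
        (CharTwo.add_eq_zero.1 (funext fun i => congrFun (AddMonoidHom.mem_ker.1 v.2) i)).symm⟩ : fixV (ρ b)))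
        fun a c h => Subtype.ext (congrArg (fun w : fixV (ρ b) => w.1) h)
    have hr : Nat.card f.range ≤ 8 := by
      rw [← hQX]
      refine Nat.card_le_card_of_surjective (fun q : ↥⁅Q, X⁆ =>
        if h : π ((q : (Subgroup.centralizer ({z} : Set G))) : G) ∈ f.range then (⟨_, h⟩ : f.range) else 0) ?_
      rintro ⟨w, v, rfl⟩
      obtain ⟨q, ⟨qc, hqc, rfl⟩, hqv⟩ := S.pi_surj v
      have hm : ⁅qc, (x : (Subgroup.centralizer ({z} : Set G)))⁆ ∈ ⁅Q, X⁆ := commutator_mem_commutator hqc x.2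
      have hπ : π ((⁅qc, (x : (Subgroup.centralizer ({z} : Set G)))⁆ : (Subgroup.centralizer ({z} : Set G))) : G) = f v := by
        have e1 : ((⁅qc, (x : (Subgroup.centralizer ({z} : Set G)))⁆ : (Subgroup.centralizer ({z} : Set G))) : G) = (qc : G) * (b * (qc : G)⁻¹ * b⁻¹) := by
          rw [commutatorElement_def]
          show (qc : G) * b * (qc : G)⁻¹ * b⁻¹ = _
          group
        have hqQ : (qc : G) ∈ Qg := mem_map_of_mem _ hqc
        rw [e1, S.pi_mul _ hqQ _ (S.conj_mem hbz (inv_mem hqQ)), S.rho_pi b hbz _ (inv_mem hqQ), S.pi_inv hqQ,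
          show π (qc : G) = v from hqv]
        rfl
      refine ⟨⟨_, hm⟩, ?_⟩
      dsimp only
      rw [dif_pos (by rw [hπ]; exact ⟨v, rfl⟩)]
      exact Subtype.ext hπ
    have h1 := AddSubgroup.card_mul_index f.ker
    rw [AddSubgroup.index_ker, show Nat.card V8 = 256 by simp] at h1
    nlinarith
  obtain ⟨k, -, hk⟩ := hrot.exists_conj
  -- a singular fixed vector
  set e1 : SuzType.V6 := fun i => if i = .inl (.inl 0) then 1 else 0 with he1
  have hq1 : qm (k.1 (emb6 e1)) = 0 := by rw [qAut_map, qm_emb6, SuzType.qm_apply, he1]; rfl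
  have hv1 : k.1 (emb6 e1) ≠ 0 := fun h => by
    have h' : emb6 e1 = 0 := k.1.injective (h.trans (map_zero _).symm)
    have := congrFun (emb6_inj (h'.trans (map_zero _).symm)) (.inl (.inl 0))
    simp [he1] at this
  obtain ⟨a, ha, hπa⟩ := S.pi_surj (k.1 (emb6 e1))
  have ha2 : a * a = 1 := by rw [S.sq a ha, hπa, hq1, zb_zero]
  have ha1 : a ≠ 1 := fun h => hv1 (by rw [← hπa, h, S.pi_one])
  have haz : a ≠ z := fun h => hv1 (by rw [← hπa, h, S.pi_z])
  have hfix : (ρ b).1 (π a) = π a := by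
    rw [hπa, ← hk, ← qAut_mul_apply, inv_mul_cancel_right, qAut_mul_apply, gD_emb6]
  obtain ⟨g, rfl⟩ := isConj_iff.1 (C.P.q_conj C.zt ha ha2 ha1)
  have C' := C.pair_at ha haz
  have D := ThreeData.mk C' hbz hb3 hk hfix hE
  obtain ⟨y, hyb, hyt⟩ := C'.three_exists_y hbz hb3 hrot hfix
  have hΓ : ∀ w, w ∈ (Subgroup.centralizer ((X.map (Subgroup.centralizer ({z} : Set G)).subtype : Subgroup G) : Set G)) ↔ w * b = b * w := fun w => by
    rw [hXm]
    constructor
    · exact fun h => (mem_centralizer_iff.1 h b (mem_zpowers b)).symm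
    · intro h
      refine mem_centralizer_iff.2 fun v hv => ?_
      obtain ⟨i, rfl⟩ := mem_zpowers_iff.1 hv
      exact ((show Commute b w from h.symm).zpow_left i).eq
  have hNz : N = zpowers (⟨b, (hΓ b).2 rfl⟩ : (Subgroup.centralizer ((X.map (Subgroup.centralizer ({z} : Set G)).subtype : Subgroup G) : Set G))) := by
    rw [hN]
    ext w
    have key : ∀ v : G, v ∈ X.map (Subgroup.centralizer ({z} : Set G)).subtype ↔ v ∈ zpowers b :=
      fun v => by rw [hXm]
    rw [mem_subgroupOf, key, mem_zpowers_iff, mem_zpowers_iff]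
    constructor
    · rintro ⟨i, hi⟩; exact ⟨i, Subtype.ext (by rw [SubgroupClass.coe_zpow]; exact hi)⟩
    · rintro ⟨i, hi⟩; exact ⟨i, by rw [← hi, SubgroupClass.coe_zpow]⟩
  exact (three_suz D y hyb hyt (Subgroup.centralizer ((X.map (Subgroup.centralizer ({z} : Set G)).subtype : Subgroup G) : Set G)) hΓ N hNz).symm

end CfsgLib.CoType
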