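import Mathlib
import Cfsg.Agent.Lib.CoType.TwoStab

/-!
The alternating forms in dimension four over two elements: decompositions into one or two lines.
-/

set_option autoImplicit false
set_option linter.style.haveILetI false

namespace CfsgLib.CoType

/-- A vector of the standard subspace from its coordinates. -/
def wv (a : Fin 4 → ZMod 2) : V8 := Sum.elim a 0

theorem inW_wv (a : Fin 4 → ZMod 2) : InW (wv a) := fun _ => rfl

theorem wv_of_inW {x : V8} (hx : InW x) : wv (fun i => x (.inl i)) = x := funext fun k => by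
  rcases k with i | i
  exacts [rfl, (hx i).symm]

/-- The wedge of two vectors. -/
def wdg (p v : Fin 4 → ZMod 2) : Fin 6 → ZMod 2 := fun k =>
  p (pr k).1 * v (pr k).2 + p (pr k).2 * v (pr k).1

/-- The Pfaffian. -/
def pf (c : Fin 6 → ZMod 2) : ZMod 2 := c 0 * c 5 + c 1 * c 4 + c 2 * c 3

/-- Independence of four vectors. -/
def indB (a b c d : Fin 4 → ZMod 2) : Prop :=
  ∀ x : Fin 4 → ZMod 2, x 0 • a + x 1 • b + x 2 • c + x 3 • d = 0 → x = 0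

instance (a b c d : Fin 4 → ZMod 2) : Decidable (indB a b c d) :=
  inferInstanceAs (Decidable (∀ x : Fin 4 → ZMod 2, x 0 • a + x 1 • b + x 2 • c + x 3 • d = 0 → x = 0))

/-- The basis. -/
def bas (i : Fin 4) : Fin 4 → ZMod 2 := Pi.single i 1

theorem wv_bas (i : Fin 4) : wv (bas i) = fe i := funext fun k => by
  rcases k with j | j <;> simp [wv, bas, fe, Pi.single_apply]

theorem hind_wv {a b c d : Fin 4 → ZMod 2} (h : indB a b c d) :
    ∀ x : Fin 4 → ZMod 2, x 0 • wv a + x 1 • wv b + x 2 • wv c + x 3 • wv d = 0 → x = 0 := fun x hx =>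
  h x (funext fun i => congrFun hx (.inl i))

/-- The thirty five lines. -/
def lines : List ((Fin 4 → ZMod 2) × (Fin 4 → ZMod 2)) := [
  (![1,0,0,0], ![0,1,0,0]),
  (![1,0,0,0], ![0,0,1,0]),
  (![1,0,0,0], ![0,1,1,0]),
  (![1,0,0,0], ![0,0,0,1]),
  (![1,0,0,0], ![0,1,0,1]),
  (![1,0,0,0], ![0,0,1,1]),
  (![1,0,0,0], ![0,1,1,1]),
  (![0,1,0,0], ![0,0,1,0]),
  (![0,1,0,0], ![1,0,1,0]),
  (![0,1,0,0], ![0,0,0,1]),
  (![0,1,0,0], ![1,0,0,1]),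
  (![0,1,0,0], ![0,0,1,1]),
  (![0,1,0,0], ![1,0,1,1]),
  (![1,1,0,0], ![0,0,1,0]),
  (![1,1,0,0], ![1,0,1,0]),
  (![1,1,0,0], ![0,0,0,1]),
  (![1,1,0,0], ![1,0,0,1]),
  (![1,1,0,0], ![0,0,1,1]),
  (![1,1,0,0], ![1,0,1,1]),
  (![0,0,1,0], ![0,0,0,1]),
  (![0,0,1,0], ![1,0,0,1]),
  (![0,0,1,0], ![0,1,0,1]),
  (![0,0,1,0], ![1,1,0,1]),
  (![1,0,1,0], ![0,0,0,1]),
  (![1,0,1,0], ![1,0,0,1]),
  (![1,0,1,0], ![0,1,0,1]),
  (![1,0,1,0], ![1,1,0,1]),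
  (![0,1,1,0], ![0,0,0,1]),
  (![0,1,1,0], ![1,0,0,1]),
  (![0,1,1,0], ![0,1,0,1]),
  (![0,1,1,0], ![1,1,0,1]),
  (![1,1,1,0], ![0,0,0,1]),
  (![1,1,1,0], ![1,0,0,1]),
  (![1,1,1,0], ![0,1,0,1]),
  (![1,1,1,0], ![1,1,0,1])]

theorem one_line : ∀ c : Fin 6 → ZMod 2, c ≠ 0 → pf c = 0 →
    ∃ l ∈ lines, c = wdg l.1 l.2 ∧ ∃ i j, indB l.1 l.2 (bas i) (bas j) := by
  decide +kernel

theorem two_lines : ∀ c : Fin 6 → ZMod 2, pf c = 1 →
    ∃ l ∈ lines, ∃ m ∈ lines, c = wdg l.1 l.2 + wdg m.1 m.2 ∧ indB l.1 l.2 m.1 m.2 := by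
  decide +kernel

theorem extend_three : ∀ x : Fin 4 → ZMod 2, ¬(x 2 = 0 ∧ x 3 = 0) →
    ∃ j, indB (bas 0) (bas 1) x (bas j) := by
  decide +kernel

theorem counts_forms : (Finset.univ.filter fun c : Fin 6 → ZMod 2 => c ≠ 0 ∧ pf c = 0).card = 35 ∧
    (Finset.univ.filter fun c : Fin 6 → ZMod 2 => pf c = 1).card = 28 := by
  decide +kernel

end CfsgLib.CoType
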