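import Mathlib
import Cfsg.Agent.Lib.CoType.TwoForms

/-!
The conjugates of the involution inside the group of order 2048: what happens over each alternating form.
-/

set_option autoImplicit false
set_option linter.style.haveILetI false
set_option linter.unusedSectionVars false
set_option linter.unusedSimpArgs false

namespace CfsgLib.CoType

open Subgroup CfsgLib.Classical

variable {G : Type*} [Group G] [Finite G] {z : G} {Q : Subgroup G} {π : G → V8} {ρ : G → qAut qm}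

theorem coord_of_el (S : Setup z Q π ρ) {a b : Fin 4 → ZMod 2} {u : G} (h : El S (wv a) (wv b) u) :
    coord (ρ u) = wdg a b := by
  have e : ∀ x, (ρ u).1 x + x = pb (wv a) x • wv b + pb x (wv b) • wv a := fun x => by
    rw [h.2, add_comm _ x, add_assoc x, add_cancel8]
  have hl : ∀ (a : Fin 4 → ZMod 2) i, pb (wv a) (ff i) = a i := fun a i => by rw [pb_bd]; exact bd_ff _ i
  funext k
  fin_cases k <;>
  · simp only [coord, ← pb_bd, e, pb_add_left, pb_smul_left, hl, fun a i => pb_comm (ff i) (wv a), wdg, pr]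
    (simp [hl, fun a i => pb_comm (ff i) (wv a)]; ring)

namespace Ctx

variable (X : Ctx z Q π ρ)

include X

/-- Conjugate to the involution under the normalizer. -/
def Orb (u : G) : Prop := ∃ n ∈ X.N, n * z * n⁻¹ = u

theorem orb_conj {m u : G} (hm : m ∈ X.N) : X.Orb (m * u * m⁻¹) ↔ X.Orb u := by
  constructor
  · rintro ⟨n, hn, e⟩
    exact ⟨m⁻¹ * n, mul_mem (inv_mem hm) hn, by
      rw [show m⁻¹ * n * z * (m⁻¹ * n)⁻¹ = m⁻¹ * (n * z * n⁻¹) * m by group, e]; group⟩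
  · rintro ⟨n, hn, e⟩
    exact ⟨m * n, mul_mem hm hn, by
      rw [show m * n * z * (m * n)⁻¹ = m * (n * z * n⁻¹) * m⁻¹ by group, e]⟩

theorem conj_A {m u : G} (hm : m ∈ X.N) (hu : u ∈ X.A) : m * u * m⁻¹ ∈ X.A := (mem_normalizer_iff.1 hm u).1 hu

theorem orb_A {u : G} (h : X.Orb u) : u ∈ X.A ∧ u ≠ 1 := by
  obtain ⟨n, hn, rfl⟩ := h
  exact ⟨X.conj_A hn X.zA, fun e => X.T.S.z1 (conj_eq_one_iff.1 e)⟩

theorem orb_z : X.Orb z := ⟨1, one_mem _, by group⟩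

theorem orb_U {a : G} (ha : a ∈ X.U) (h1 : a ≠ 1) : X.Orb a := by
  by_cases h0 : π a = 0
  · rcases (X.T.S.pi_ker a ha.1).1 h0 with e | e
    · exact absurd e h1
    · exact e.symm ▸ X.orb_z
  · obtain ⟨n, -, hn, e, -⟩ := exists_transport X.T X.good ha h0
    exact ⟨n, hn, e⟩

theorem cd_mul {a b : G} (ha : a ∈ X.A) (hb : b ∈ X.A) : coord (ρ (a * b)) = coord (ρ a) + coord (ρ b) := by
  show coord _ = coord _ + coord _
  rw [X.T.S.rho_mul a (X.a_le ha) b (X.a_le hb), coord_mul (fun w => X.rho_a ha) (fun w => X.rho_a hb)]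

theorem cd_eq_iff {a b : G} (ha : a ∈ X.A) (hb : b ∈ X.A) : coord (ρ a) = coord (ρ b) ↔ a⁻¹ * b ∈ X.U := by
  have hC := X.a_le ha
  have hC' := X.a_le hb
  constructor
  · intro h
    have h1 : ρ a = ρ b := coord_inj (fun w => X.rho_a ha) (fun w => X.rho_a hb) h
    have hQ : a⁻¹ * b ∈ Q := (X.T.S.rho_ker _ (mul_mem (inv_mem hC) hC')).1 (by
      rw [X.T.S.rho_mul _ (inv_mem hC) _ hC', X.T.S.rho_inv hC, h1, inv_mul_cancel])
    exact ⟨hQ, (baseA_inf X.T.S hQ).1 (mul_mem (inv_mem ha) hb)⟩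
  · intro h
    have h1 := X.T.S.rho_Q h.1
    rw [X.T.S.rho_mul _ (inv_mem hC) _ hC', X.T.S.rho_inv hC, inv_mul_eq_one] at h1
    rw [h1]

theorem cd_U {a : G} (ha : a ∈ X.U) : coord (ρ a) = 0 := by
  show coord (ρ a) = 0
  rw [X.T.S.rho_Q ha.1]
  funext j
  fin_cases j <;> simp [coord, add_self8, ← pb_bd]

/-- The shift by an element of the extraspecial group. -/
theorem shift {q u : G} (hq : q ∈ Q) (hu : u ∈ X.A) :
    ∃ k ∈ X.U, q * u * q⁻¹ = u * k ∧ π k = (ρ u).1 (π q) + π q := by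
  have hui : u⁻¹ = u := inv_eq_of_mul_eq_one_right (X.a_sq hu)
  have huC := X.a_le hu
  have hk1 : u⁻¹ * q * u * q⁻¹ ∈ Q := by
    rw [hui]
    have := X.T.S.conj_mem huC hq
    rw [hui] at this
    exact mul_mem this (inv_mem hq)
  have hk2 : u⁻¹ * q * u * q⁻¹ ∈ X.A := by
    rw [show u⁻¹ * q * u * q⁻¹ = u⁻¹ * (q * u * q⁻¹) by group]
    exact mul_mem (inv_mem hu) (X.conj_A (X.q_le hq).1 hu)
  refine ⟨_, ⟨hk1, (baseA_inf X.T.S hk1).1 hk2⟩, by group, ?_⟩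
  have h := X.T.S.conj_mem huC hq
  rw [show u⁻¹ * q * u * q⁻¹ = u * q * u⁻¹ * q⁻¹ by rw [hui], X.T.S.pi_mul _ h _ (inv_mem hq),
    X.T.S.rho_pi u huC q hq, X.T.S.pi_inv hq]

/-- The move of a vector by an element over a line. -/
theorem el_move {p v : V8} {u : G} (hu : El X.T.S p v u) (x : V8) :
    (ρ u).1 x + x = pb p x • v + pb x v • p := by
  rw [hu.2, add_comm _ x, add_assoc x, add_cancel8]

/-! ### The first line -/

theorem exists_line_base : ∃ b, El X.T.S (fe 0) (fe 1) b ∧ (∀ c : ZMod 2, X.Orb (b * zb z c)) ∧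
    ∃ t ∈ Q, π t = fe 0 ∧ ∃ g : G, g * z * g⁻¹ = t ∧ z ∈ Q.map (MulAut.conj g).toMonoidHom ∧
      b ∈ Q.map (MulAut.conj g).toMonoidHom := by
  obtain ⟨t, ht, hπ⟩ := X.T.S.pi_surj (fe 0)
  have htU : t ∈ X.U := ⟨ht, hπ ▸ inW_fe 0⟩
  obtain ⟨n, g, hn, -, hg, hgz, hmap⟩ := exists_transport X.T X.good htU (by rw [hπ]; exact fe_ne 0)
  have htz : t ≠ z := fun h => fe_ne 0 (by rw [← hπ, h, X.T.S.pi_z])
  have P := X.T.pair (g := g) (hg ▸ ht) (hg ▸ htz) hgz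
  rw [hg] at P
  obtain ⟨b, b1, b2, b3⟩ := P.w_surj (v := fe 1) (by rw [hπ, pb_bd]; decide)
  have e := root_el X.T (p := fe 0) (v := fe 1) (b := b)
    ⟨g, hg ▸ ht, hg ▸ htz, hgz, by rw [hg, hπ], b1, b2, hπ ▸ b3⟩ (inW_fe 0) (inW_fe 1)
  refine ⟨b, e, fun c => ?_, t, ht, hπ, g, hg, hgz, b1⟩
  have hzc : zb z c ∈ X.U ∧ zb z c ∈ Q.map (MulAut.conj g).toMonoidHom := by
    rcases two_cases c with rfl | rfl
    · rw [zb_zero]; exact ⟨one_mem _, one_mem _⟩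
    · rw [zb_one]; exact ⟨X.zU, hgz⟩
  have hb : b * zb z c ∈ (baseU X.T.S).map (MulAut.conj n).toMonoidHom :=
    hmap ▸ ⟨mul_mem e.1 (X.u_le hzc.1), mul_mem b1 hzc.2⟩
  have hne : b * zb z c ∉ Q := fun h => by
    have h1 : b ∈ Q := by
      have := mul_mem h (inv_mem hzc.1.1)
      rwa [mul_inv_cancel_right] at this
    have h2 := coord_of_el X.T.S (a := bas 0) (b := bas 1) (by rw [wv_bas, wv_bas]; exact e)
    rw [show coord (ρ b) = 0 from X.cd_U ⟨h1, (baseA_inf X.T.S h1).1 e.1⟩] at h2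
    exact absurd h2 (by decide)
  obtain ⟨a, ha, ea⟩ := hb
  rw [← ea]
  refine (X.orb_conj hn).2 (X.orb_U ha fun h => hne ?_)
  rw [← ea, h, map_one]
  exact one_mem _

theorem line_not_orb {b a : G} (hb : El X.T.S (fe 0) (fe 1) b) (ha : a ∈ X.U)
    (hbt : ∃ t ∈ Q, π t = fe 0 ∧ ∃ g : G, g * z * g⁻¹ = t ∧ z ∈ Q.map (MulAut.conj g).toMonoidHom ∧
      b ∈ Q.map (MulAut.conj g).toMonoidHom)
    (hns : ¬(π a (.inl 2) = 0 ∧ π a (.inl 3) = 0)) : ¬ X.Orb (b * a) := by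
  obtain ⟨t, ht, hπ, g, hg, hgz, hbR⟩ := hbt
  have htz : t ≠ z := fun h => fe_ne 0 (by rw [← hπ, h, X.T.S.pi_z])
  have P := X.T.pair (g := g) (hg ▸ ht) (hg ▸ htz) hgz
  rw [hg] at P
  have C : Config z t Q _ π _ ρ _ := ⟨P, ⟨g, hg, rfl, fun _ => rfl⟩, X.hsymm⟩
  have htA : t ∈ X.A := X.u_le ⟨ht, hπ ▸ inW_fe 0⟩
  have hbz : b * z = z * b := mem_centralizer_singleton_iff.1 (X.a_le hb.1)
  have hw : Pm (π t) (tv (π t) (ρ b) + fe 1) := by
    have h : tv (π t) (ρ b) = fe 1 + pb (pt (π t)) (fe 1) • π t := by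
      rw [tv, X.el_move hb, ← hπ, pt_spec P.p_sing, one_smul]
    rcases two_cases (pb (pt (π t)) (fe 1)) with e | e <;> rw [h, e]
    · exact .inl (by rw [zero_smul, add_zero, add_self8])
    · exact .inr (by rw [one_smul, add_comm (fe 1), add_assoc, add_self8, add_zero])
  have hpa : pb (π t) (π a) = 0 := by rw [hπ]; exact inW_perp (inW_fe 0) ha.2
  have hnpm : ∀ v, InW v → ¬(v (.inl 2) = 0 ∧ v (.inl 3) = 0) → ¬ Pm (π t) v := fun v _ hv h => hv (by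
    rcases h with e | e <;> rw [e]
    · exact ⟨rfl, rfl⟩
    · rw [hπ]; exact ⟨by simp [fe], by simp [fe]⟩)
  have hT : Typ (π t) 0 (fe 1) (π a) := by
    refine ⟨inW_qm (inW_fe 1), by rw [hπ, pb_bd]; decide, ?_, inW_qm ha.2, hpa, hnpm _ ha.2 hns,
      inW_perp ha.2 (inW_fe 1), hnpm _ (inW_add ha.2 (inW_fe 1)) ?_⟩
    · rw [hπ]; rintro (e | e) <;> revert e <;> decide
    · rintro ⟨h2, h3⟩
      exact hns ⟨by simpa [fe] using h2, by simpa [fe] using h3⟩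
  rintro ⟨n, -, e⟩
  refine C.not_conj_z (x := b * a) (c₀ := 0) ⟨a, b, ha.1, X.a_comm (X.u_le ha) htA, hbR, hbz,
    X.a_comm hb.1 (X.u_le ha), X.a_sq (mul_mem hb.1 (X.u_le ha)), ?_⟩ (isConj_iff.2 ⟨n, e⟩)
  exact hT.congr P.p_sing (pm_symm hw) (P.w_perp hbR hbz)

/-- Over the first line the shifts are reached. -/
theorem line_shift {u k : G} (hu : El X.T.S (fe 0) (fe 1) u) (hk : k ∈ X.U)
    (hs : π k (.inl 2) = 0 ∧ π k (.inl 3) = 0) :
    ∃ q ∈ Q, ∃ e : ZMod 2, q * u * q⁻¹ = u * (k * zb z e) := by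
  obtain ⟨q, hq, hπ⟩ := X.T.S.pi_surj (π k (.inl 1) • ff 0 + π k (.inl 0) • ff 1)
  obtain ⟨k', hk', e, hπ'⟩ := X.shift hq hu.1
  refine ⟨q, hq, ?_⟩
  have h : π k = π k' := by
    rw [hπ', X.el_move hu, hπ]
    simp only [pb_add_left, pb_add_right, pb_smul_left, pb_smul_right]
    simp only [pb_bd]
    rw [show bd (fe 0) (ff 0) = 1 by decide, show bd (fe 0) (ff 1) = 0 by decide,
      show bd (ff 0) (fe 1) = 0 by decide, show bd (ff 1) (fe 1) = 1 by decide]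
    conv_lhs => rw [basis_eq (π k), hk.2 0, hk.2 1, hk.2 2, hk.2 3, hs.1, hs.2]
    funext i
    simp only [Pi.add_apply, Pi.smul_apply, smul_eq_mul]
    ring
  rcases X.T.S.pi_eq hk.1 hk'.1 h with e' | e'
  · exact ⟨0, by rw [e, e', zb_zero, mul_one]⟩
  · exact ⟨1, by rw [e, e', zb_one, X.T.S.z_comm hk.1]⟩

end Ctx

end CfsgLib.CoType
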