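import Mathlib
import Cfsg.Agent.Lib.CoType.TwoOrbit

/-!
Transport of the fibres over the forms, and the classes over each kind of form.
-/

set_option autoImplicit false
set_option linter.style.haveILetI false
set_option linter.unusedSectionVars false
set_option linter.unusedSimpArgs false

namespace CfsgLib.CoType

open Subgroup CfsgLib.Classical

variable {G : Type*} [Group G] [Finite G] {z : G} {Q : Subgroup G} {π : G → V8} {ρ : G → qAut qm}

namespace Ctx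

variable (X : Ctx z Q π ρ)

include X

/-- Conjugate under the normalizer. -/
def Rel (u v : G) : Prop := ∃ n ∈ X.N, n * u * n⁻¹ = v

theorem rel_symm {u v : G} (h : X.Rel u v) : X.Rel v u := by
  obtain ⟨n, hn, rfl⟩ := h
  exact ⟨n⁻¹, inv_mem hn, by group⟩

theorem rel_trans {u v w : G} (h : X.Rel u v) (h' : X.Rel v w) : X.Rel u w := by
  obtain ⟨n, hn, rfl⟩ := h
  obtain ⟨m, hm, rfl⟩ := h'
  exact ⟨m * n, mul_mem hm hn, by group⟩

theorem rel_orb {u v : G} (h : X.Rel u v) : X.Orb u ↔ X.Orb v := by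
  obtain ⟨n, hn, rfl⟩ := h
  exact (X.orb_conj hn).symm

theorem conj_U {m a : G} (hm : m ∈ X.NC) (ha : a ∈ X.U) : m * a * m⁻¹ ∈ X.U := by
  have h := X.T.S.conj_mem hm.2 ha.1
  exact ⟨h, (baseA_inf X.T.S h).1 (X.conj_A hm.1 (X.u_le ha))⟩

theorem coord_conj {m u v : G} (hm : m ∈ X.NC) (hu : u ∈ X.A) (hv : v ∈ X.A) (h : coord (ρ u) = coord (ρ v)) :
    coord (ρ (m * u * m⁻¹)) = coord (ρ (m * v * m⁻¹)) := by
  rw [X.cd_eq_iff (X.conj_A hm.1 hu) (X.conj_A hm.1 hv),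
    show (m * u * m⁻¹)⁻¹ * (m * v * m⁻¹) = m * (u⁻¹ * v) * m⁻¹ by group]
  exact X.conj_U hm ((X.cd_eq_iff hu hv).1 h)

/-- The conjugates of the involution over a form. -/
def OF (c : Fin 6 → ZMod 2) : Set G := {u | u ∈ X.A ∧ coord (ρ u) = c ∧ X.Orb u}

/-- The other nontrivial elements over a form. -/
def NF (c : Fin 6 → ZMod 2) : Set G := {u | u ∈ X.A ∧ coord (ρ u) = c ∧ ¬ X.Orb u}

theorem fibre_move {m b : G} (hm : m ∈ X.NC) (hb : b ∈ X.A) :
    Nat.card (X.OF (coord (ρ (m * b * m⁻¹)))) = Nat.card (X.OF (coord (ρ b))) := by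
  have back : ∀ u, u ∈ X.A → coord (ρ u) = coord (ρ (m * b * m⁻¹)) → coord (ρ (m⁻¹ * u * m)) = coord (ρ b) := by
    intro u hu h
    have h1 := X.coord_conj (inv_mem hm) hu (X.conj_A hm.1 hb) h
    rwa [inv_inv, show m⁻¹ * (m * b * m⁻¹) * m = b by group] at h1
  refine Nat.card_congr
    { toFun := fun u => ⟨m⁻¹ * u * m, by simpa using X.conj_A (inv_mem hm.1) u.2.1, back _ u.2.1 u.2.2.1, by
        simpa using (X.orb_conj (m := m⁻¹) (u := (u : G)) (inv_mem hm.1)).2 u.2.2.2⟩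
      invFun := fun u => ⟨m * u * m⁻¹, X.conj_A hm.1 u.2.1, X.coord_conj hm u.2.1 hb u.2.2.1,
        (X.orb_conj hm.1).2 u.2.2.2⟩
      left_inv := fun u => Subtype.ext (by show m * (m⁻¹ * (u : G) * m) * m⁻¹ = u; group)
      right_inv := fun u => Subtype.ext (by show m⁻¹ * (m * (u : G) * m⁻¹) * m = u; group) }

/-! ### One line -/

theorem line_class {b : G} (hb : El X.T.S (fe 0) (fe 1) b) (hO : ∀ c : ZMod 2, X.Orb (b * zb z c)) {a : G}
    (ha : a ∈ X.U) (hs : π a (.inl 2) = 0 ∧ π a (.inl 3) = 0) : X.Orb (b * a) := by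
  obtain ⟨q, hq, e, h⟩ := X.line_shift hb ha hs
  have hqz : q * zb z e * q⁻¹ = zb z e := by rw [X.T.S.zb_comm hq, mul_inv_cancel_right]
  have h' : q * (b * zb z e) * q⁻¹ = b * a := by
    calc q * (b * zb z e) * q⁻¹ = (q * b * q⁻¹) * (q * zb z e * q⁻¹) := by group
      _ = b * a * (zb z e * zb z e) := by rw [h, hqz]; group
      _ = b * a := by rw [zb_mul X.T.S.z2, CharTwo.add_self_eq_zero, zb_zero, mul_one]
  rw [← h']
  exact (X.orb_conj (X.q_le hq).1).2 (hO e)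

/-- The numbers over the first line, and the single further class. -/
theorem line_facts : ∃ u₀ b, El X.T.S (fe 0) (fe 1) b ∧ Nat.card (X.OF (coord (ρ b))) = 8 ∧
    (¬ X.Orb u₀ ∧ u₀ ∈ X.A ∧ coord (ρ u₀) = coord (ρ b)) ∧
      ∀ u ∈ X.A, coord (ρ u) = coord (ρ b) → ¬ X.Orb u → X.Rel u₀ u := by
  obtain ⟨b, hb, hO, hbt⟩ := X.exists_line_base
  obtain ⟨a₀, ha₀, hπ₀⟩ := X.T.S.pi_surj (fe 2)
  have ha₀U : a₀ ∈ X.U := ⟨ha₀, hπ₀ ▸ inW_fe 2⟩
  have hn₀ : ¬(π a₀ (.inl 2) = 0 ∧ π a₀ (.inl 3) = 0) := by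
    rw [hπ₀]; rintro ⟨h, -⟩; simp [fe] at h
  have hu₀A : b * a₀ ∈ X.A := mul_mem hb.1 (X.u_le ha₀U)
  have hdiv : ∀ u ∈ X.A, coord (ρ u) = coord (ρ b) → b⁻¹ * u ∈ X.U :=
    fun u hu h => (X.cd_eq_iff hb.1 hu).1 h.symm
  have hiff : ∀ u ∈ X.A, coord (ρ u) = coord (ρ b) →
      (X.Orb u ↔ π (b⁻¹ * u) (.inl 2) = 0 ∧ π (b⁻¹ * u) (.inl 3) = 0) := by
    intro u hu h
    constructor
    · intro ho
      by_contra hns
      exact X.line_not_orb hb (hdiv u hu h) hbt hns (by rwa [mul_inv_cancel_left])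
    · intro hs
      have := X.line_class hb hO (hdiv u hu h) hs
      rwa [mul_inv_cancel_left] at this
  have hc0 : coord (ρ (b * a₀)) = coord (ρ b) := by
    rw [X.cd_mul hb.1 (X.u_le ha₀U), X.cd_U ha₀U, add_zero]
  refine ⟨b * a₀, b, hb, ?_, ⟨?_, hu₀A, hc0⟩, ?_⟩
  · let f : X.U →* Multiplicative (ZMod 2 × ZMod 2) :=
      MonoidHom.mk' (fun a => Multiplicative.ofAdd (π (a : G) (.inl 2), π (a : G) (.inl 3))) fun a c => by
        rw [coe_mul, X.T.S.pi_mul _ a.2.1 _ c.2.1, ← ofAdd_add]; rfl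
    have hsurj : Function.Surjective f := fun y => by
      obtain ⟨a, ha, e⟩ := X.T.S.pi_surj (wv ![0, 0, y.toAdd.1, y.toAdd.2])
      refine ⟨⟨a, ha, e ▸ inW_wv _⟩, Multiplicative.toAdd.injective ?_⟩
      show (π a (.inl 2), π a (.inl 3)) = _
      rw [e]
      rfl
    have hk : Nat.card (X.OF (coord (ρ b))) = Nat.card f.ker := Nat.card_congr
      { toFun := fun u => ⟨⟨b⁻¹ * u, hdiv _ u.2.1 u.2.2.1⟩, by
          obtain ⟨h1, h2⟩ := (hiff _ u.2.1 u.2.2.1).1 u.2.2.2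
          show Multiplicative.ofAdd (π (b⁻¹ * (u : G)) (.inl 2), π (b⁻¹ * (u : G)) (.inl 3)) = 1
          rw [h1, h2]; rfl⟩
        invFun := fun a => ⟨b * (a.1 : G), mul_mem hb.1 (X.u_le a.1.2), by
          rw [X.cd_mul hb.1 (X.u_le a.1.2), X.cd_U a.1.2, add_zero], by
          have h := congrArg Multiplicative.toAdd a.2
          exact X.line_class hb hO a.1.2 ⟨congrArg Prod.fst h, congrArg Prod.snd h⟩⟩
        left_inv := fun u => Subtype.ext (by show b * (b⁻¹ * (u : G)) = u; group)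
        right_inv := fun a => Subtype.ext (Subtype.ext (by show b⁻¹ * (b * (a.1 : G)) = a.1; group)) }
    have h := card_mul_index f.ker
    rw [index_ker, MonoidHom.range_eq_top.2 hsurj, card_top, show Nat.card (X.U) = 32 from card_baseU X.T,
      show Nat.card (Multiplicative (ZMod 2 × ZMod 2)) = 4 by simp [Nat.card_eq_fintype_card]] at h
    omega
  · exact X.line_not_orb hb ha₀U hbt hn₀
  · intro u hu h hno
    have haU := hdiv u hu h
    set a := b⁻¹ * u with ha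
    have hns : ¬(π a (.inl 2) = 0 ∧ π a (.inl 3) = 0) := fun hs => hno ((hiff u hu h).2 hs)
    obtain ⟨j, hj⟩ := extend_three (fun i => π a (.inl i)) hns
    obtain ⟨c, hc, hcf⟩ := X.exists_nc ![fe 0, fe 1, π a, fe j] (fun i => by
        fin_cases i
        exacts [inW_fe 0, inW_fe 1, haU.2, inW_fe j]) (fun x hx => hind_wv hj x (by
        rw [wv_bas, wv_bas, wv_of_inW haU.2, wv_bas]; exact hx))
    have e0 : (ρ c).1 (fe 0) = fe 0 := hcf 0
    have e1 : (ρ c).1 (fe 1) = fe 1 := hcf 1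
    have e2 : (ρ c).1 (fe 2) = π a := hcf 2
    have hb' := X.el_conj hc hb
    rw [e0, e1] at hb'
    have hcb : coord (ρ (c * b * c⁻¹)) = coord (ρ b) := by
      rw [coord_of_el X.T.S (a := bas 0) (b := bas 1) (by rw [wv_bas, wv_bas]; exact hb'),
        coord_of_el X.T.S (a := bas 0) (b := bas 1) (by rw [wv_bas, wv_bas]; exact hb)]
    have hbo : X.Orb b := by simpa [zb_zero] using hO 0
    have hk1 := (hiff _ hb'.1 hcb).1 ((X.orb_conj hc.1).2 hbo)
    have hk1U := hdiv _ hb'.1 hcb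
    set k₁ := b⁻¹ * (c * b * c⁻¹) with hk₁
    have ha' := X.conj_U hc ha₀U
    set a' := c * a₀ * c⁻¹ with ha'd
    have hπa' : π a' = π a := by rw [ha'd, X.T.S.rho_pi c hc.2 a₀ ha₀, hπ₀, e2]
    have hstep : c * (b * a₀) * c⁻¹ = b * k₁ * a' := by rw [hk₁, ha'd]; group
    -- shift away the first part
    obtain ⟨q, hq, e, hqs⟩ := X.line_shift hb hk1U hk1
    obtain ⟨q', hq', hπq⟩ := X.T.S.pi_surj (ff 2)
    have hz₀ : q' * (b * a₀) * q'⁻¹ = b * a₀ * z := by
      obtain ⟨k, hk, hk', hπk⟩ := X.shift hq' hb.1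
      have hk0 : π k = 0 := by
        rw [hπk, X.el_move hb, hπq, pb_bd, pb_bd, show bd (fe 0) (ff 2) = 0 by decide,
          show bd (ff 2) (fe 1) = 0 by decide, zero_smul, zero_smul, add_zero]
      have hcm : q' * a₀ * q'⁻¹ = z * a₀ := by
        rw [X.T.S.comm hq' ha₀, hπq, hπ₀, pb_bd, show bd (ff 2) (fe 2) = 1 by decide, zb_one]
        group
      rcases (X.T.S.pi_ker k hk.1).1 hk0 with e' | e'
      · calc q' * (b * a₀) * q'⁻¹ = (q' * b * q'⁻¹) * (q' * a₀ * q'⁻¹) := by group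
          _ = b * (z * a₀) := by rw [hk', hcm, e', mul_one]
          _ = b * a₀ * z := by rw [X.a_comm X.zA (X.u_le ha₀U)]; group
      · exfalso
        -- conjugation by `q'` then moves `b` to `b z`; fix by the first vector
        have hbq : b * q' = q' * b := by
          obtain ⟨t, ht, hπt, g, hg, hgz, hbR⟩ := hbt
          have htz : t ≠ z := fun h => fe_ne 0 (by rw [← hπt, h, X.T.S.pi_z])
          have P := X.T.pair (g := g) (hg ▸ ht) (hg ▸ htz) hgz
          rw [hg] at P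
          have hbz : b * z = z * b := mem_centralizer_singleton_iff.1 (X.a_le hb.1)
          obtain ⟨w, hw⟩ : ∃ w, Pm (π t) (tv (π t) (ρ b) + w) ∧ w = fe 1 := by
            refine ⟨fe 1, ?_, rfl⟩
            have h : tv (π t) (ρ b) = fe 1 + pb (pt (π t)) (fe 1) • π t := by
              rw [tv, X.el_move hb, ← hπt, pt_spec P.p_sing, one_smul]
            rcases two_cases (pb (pt (π t)) (fe 1)) with e | e <;> rw [h, e]
            · exact .inl (by rw [zero_smul, add_zero, add_self8])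
            · exact .inr (by rw [one_smul, add_comm (fe 1), add_assoc, add_self8, add_zero])
          have h := P.act hq' (by rw [hπt, hπq, pb_bd]; decide) hbR hbz hw.1
          rw [hπq, hw.2, pb_bd, show bd (ff 2) (fe 1) = 0 by decide, P.eb_zero, one_mul] at h
          exact mul_inv_eq_iff_eq_mul.1 h
        rw [show q' * b * q'⁻¹ = b by rw [← hbq, mul_inv_cancel_right], left_eq_mul] at hk'
        exact X.T.S.z1 (e' ▸ hk')
    have hq₂ : q⁻¹ * (b * k₁ * a') * q = b * a ∨ q⁻¹ * (b * k₁ * a') * q = b * a * z := by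
      have hqi : q⁻¹ * (b * k₁) * q = b * zb z e := by
        have hz : q⁻¹ * zb z e * q = zb z e := by
          rw [mul_assoc, ← X.T.S.zb_comm hq, inv_mul_cancel_left]
        calc q⁻¹ * (b * k₁) * q = q⁻¹ * (b * (k₁ * zb z e) * zb z e) * q := by
              rw [show b * (k₁ * zb z e) * zb z e = b * k₁ * (zb z e * zb z e) by group, zb_mul X.T.S.z2,
                CharTwo.add_self_eq_zero, zb_zero, mul_one]
          _ = q⁻¹ * (q * b * q⁻¹) * q * (q⁻¹ * zb z e * q) := by rw [← hqs]; group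
          _ = b * zb z e := by rw [hz]; group
      have hq2 : π (q⁻¹ * a' * q) = π a := by
        rw [X.T.S.pi_mul _ (mul_mem (inv_mem hq) ha'.1) q hq, X.T.S.pi_mul _ (inv_mem hq) a' ha'.1,
          X.T.S.pi_inv hq, hπa', add_comm (π q), add_assoc, add_self8, add_zero]
      have hv : q⁻¹ * (b * k₁ * a') * q = b * zb z e * (q⁻¹ * a' * q) := by rw [← hqi]; group
      have hm : zb z e * (q⁻¹ * a' * q) ∈ Q := by
        refine mul_mem ?_ (mul_mem (mul_mem (inv_mem hq) ha'.1) hq)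
        rcases two_cases e with rfl | rfl
        · rw [zb_zero]; exact one_mem _
        · rw [zb_one]; exact X.T.S.zQ
      have hπm : π (zb z e * (q⁻¹ * a' * q)) = π a := by
        rcases two_cases e with rfl | rfl
        · rw [zb_zero, one_mul, hq2]
        · rw [zb_one, X.T.S.pi_zmul (mul_mem (mul_mem (inv_mem hq) ha'.1) hq), hq2]
      rw [hv, mul_assoc b (zb z e)]
      rcases X.T.S.pi_eq haU.1 hm hπm.symm with e' | e'
      · exact .inl (by rw [e'])
      · exact .inr (by rw [e', ← mul_assoc b z, X.a_comm hb.1 X.zA, mul_assoc, X.a_comm X.zA (mul_mem hb.1 (X.u_le haU))])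
    have h1 : X.Rel (b * a₀) (q⁻¹ * (b * k₁ * a') * q) := by
      refine ⟨q⁻¹ * c, mul_mem (inv_mem (X.q_le hq).1) hc.1, ?_⟩
      rw [← hstep]; group
    have hu : b * a = u := by rw [ha, mul_inv_cancel_left]
    rcases hq₂ with e' | e'
    · rw [e', hu] at h1; exact h1
    · rw [e', hu] at h1
      have hcz : (q⁻¹ * c) * z * (q⁻¹ * c)⁻¹ = z := by
        have := mem_centralizer_singleton_iff.1 (mul_mem (inv_mem (X.T.S.le hq)) hc.2)
        rw [this, mul_inv_cancel_right]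
      refine X.rel_trans ⟨q', (X.q_le hq').1, hz₀⟩ ⟨q⁻¹ * c, mul_mem (inv_mem (X.q_le hq).1) hc.1, ?_⟩
      have h2 : (q⁻¹ * c) * (b * a₀) * (q⁻¹ * c)⁻¹ = u * z := by
        rw [show (q⁻¹ * c) * (b * a₀) * (q⁻¹ * c)⁻¹ = q⁻¹ * (c * (b * a₀) * c⁻¹) * q by group, hstep, e', hu]
      calc (q⁻¹ * c) * (b * a₀ * z) * (q⁻¹ * c)⁻¹
          = (q⁻¹ * c) * (b * a₀) * (q⁻¹ * c)⁻¹ * ((q⁻¹ * c) * z * (q⁻¹ * c)⁻¹) := by group
        _ = u * (z * z) := by rw [h2, hcz, mul_assoc]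
        _ = u := by rw [X.T.S.z2, mul_one]

/-! ### Two lines -/

/-- Over a form of rank four every element is one of two up to conjugation by the extraspecial group. -/
theorem four_facts : ∃ u₀ ∈ X.A, coord (ρ u₀) = wdg (bas 0) (bas 1) + wdg (bas 2) (bas 3) ∧
    (∀ u ∈ X.A, coord (ρ u) = coord (ρ u₀) → X.Rel u₀ u ∨ X.Rel (u₀ * z) u) ∧
      (¬ X.Rel u₀ (u₀ * z) → Nat.card {u : G // u ∈ X.A ∧ coord (ρ u) = coord (ρ u₀) ∧ X.Rel u₀ u} = 16) := by
  obtain ⟨e₁, he₁⟩ := exists_el X.T (inW_fe 0) (fe_ne 0) (inW_fe 1)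
  obtain ⟨e₂, he₂⟩ := exists_el X.T (inW_fe 2) (fe_ne 2) (inW_fe 3)
  set u₀ := e₁ * e₂ with hu₀
  have hA : u₀ ∈ X.A := mul_mem he₁.1 he₂.1
  have hcd : coord (ρ u₀) = wdg (bas 0) (bas 1) + wdg (bas 2) (bas 3) := by
    rw [hu₀, X.cd_mul he₁.1 he₂.1, coord_of_el X.T.S (a := bas 0) (b := bas 1) (by rw [wv_bas, wv_bas]; exact he₁),
      coord_of_el X.T.S (a := bas 2) (b := bas 3) (by rw [wv_bas, wv_bas]; exact he₂)]
  have hsurj : ∀ w, InW w → ∃ x, (ρ u₀).1 x + x = w := by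
    intro w hw
    refine ⟨w (.inl 0) • ff 1 + w (.inl 1) • ff 0 + w (.inl 2) • ff 3 + w (.inl 3) • ff 2, ?_⟩
    rw [X.T.S.rho_mul e₁ (X.a_le he₁.1) e₂ (X.a_le he₂.1), qAut_mul_apply, he₂.2]
    simp only [map_add, map_smul, X.rho_a he₁.1 (inW_fe 2), X.rho_a he₁.1 (inW_fe 3), he₁.2,
      pb_add_left, pb_add_right, pb_smul_left, pb_smul_right]
    simp only [pb_bd]
    conv_rhs => rw [basis_eq w, hw 0, hw 1, hw 2, hw 3]
    funext i
    simp only [Pi.add_apply, Pi.smul_apply, smul_eq_mul]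
    rw [show bd (fe 0) (ff 0) = 1 by decide, show bd (fe 0) (ff 1) = 0 by decide,
      show bd (fe 0) (ff 2) = 0 by decide, show bd (fe 0) (ff 3) = 0 by decide,
      show bd (fe 2) (ff 0) = 0 by decide, show bd (fe 2) (ff 1) = 0 by decide,
      show bd (fe 2) (ff 2) = 1 by decide, show bd (fe 2) (ff 3) = 0 by decide,
      show bd (ff 0) (fe 1) = 0 by decide, show bd (ff 1) (fe 1) = 1 by decide,
      show bd (ff 2) (fe 1) = 0 by decide, show bd (ff 3) (fe 1) = 0 by decide,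
      show bd (ff 0) (fe 3) = 0 by decide, show bd (ff 1) (fe 3) = 0 by decide,
      show bd (ff 2) (fe 3) = 0 by decide, show bd (ff 3) (fe 3) = 1 by decide,
      show bd (fe 0) (fe 2) = 0 by decide, show bd (fe 2) (fe 1) = 0 by decide,
      show bd (fe 0) (fe 3) = 0 by decide, show bd (fe 3) (fe 1) = 0 by decide]
    generalize ff 0 i = A0
    generalize ff 1 i = A1
    generalize ff 2 i = A2
    generalize ff 3 i = A3
    generalize w (.inl 0) = w0
    generalize w (.inl 1) = w1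
    generalize w (.inl 2) = w2
    generalize w (.inl 3) = w3
    ring_nf
    simp [CharTwo.two_eq_zero]
  have hall : ∀ u ∈ X.A, coord (ρ u) = coord (ρ u₀) → X.Rel u₀ u ∨ X.Rel (u₀ * z) u := by
    intro u hu h
    have hk := (X.cd_eq_iff hA hu).1 h.symm
    obtain ⟨x, hx⟩ := hsurj _ hk.2
    obtain ⟨q, hq, rfl⟩ := X.T.S.pi_surj x
    obtain ⟨k, hkU, he, hπ⟩ := X.shift hq hA
    rcases X.T.S.pi_eq hk.1 hkU.1 (hx.symm.trans hπ.symm) with e | e
    · exact .inl ⟨q, (X.q_le hq).1, by rw [he, e, mul_inv_cancel_left]⟩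
    · refine .inr ⟨q, (X.q_le hq).1, ?_⟩
      rw [show q * (u₀ * z) * q⁻¹ = (q * u₀ * q⁻¹) * (q * z * q⁻¹) by group, he, X.T.S.z_comm hq,
        mul_inv_cancel_right, e, ← mul_assoc z, mul_assoc u₀, X.a_comm (mul_mem (mul_mem X.zA (inv_mem hA)) hu) X.zA,
        ← mul_assoc z, ← mul_assoc z, X.T.S.z2, one_mul, mul_inv_cancel_left]
  refine ⟨u₀, hA, hcd, hall, fun hne => ?_⟩
  have hcz : coord (ρ (u₀ * z)) = coord (ρ u₀) := by rw [X.cd_mul hA X.zA, X.cd_U X.zU, add_zero]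
  have hflip : ∀ {v w : G}, X.Rel v w → X.Rel (v * z) (w * z) ∨ ∃ n ∈ X.N, n * v * n⁻¹ = w ∧ n * z * n⁻¹ ≠ z := by
    rintro v w ⟨n, hn, rfl⟩
    by_cases h : n * z * n⁻¹ = z
    · exact .inl ⟨n, hn, by rw [show n * (v * z) * n⁻¹ = n * v * n⁻¹ * (n * z * n⁻¹) by group, h]⟩
    · exact .inr ⟨n, hn, rfl, h⟩
  -- exactly one of the two elements over each vector
  have hone : ∀ u ∈ X.A, coord (ρ u) = coord (ρ u₀) → (X.Rel u₀ u ↔ ¬ X.Rel u₀ (u * z)) := by
    intro u hu h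
    have hk := (X.cd_eq_iff hA hu).1 h.symm
    obtain ⟨x, hx⟩ := hsurj _ hk.2
    obtain ⟨q, hq, rfl⟩ := X.T.S.pi_surj x
    obtain ⟨k, hkU, he, hπ⟩ := X.shift hq hA
    have hqz : q * (u₀ * z) * q⁻¹ = u₀ * k * z := by
      rw [show q * (u₀ * z) * q⁻¹ = (q * u₀ * q⁻¹) * (q * z * q⁻¹) by group, he, X.T.S.z_comm hq,
        mul_inv_cancel_right]
    have r1 : X.Rel u₀ (u₀ * k) := ⟨q, (X.q_le hq).1, he⟩
    have r2 : X.Rel (u₀ * z) (u₀ * k * z) := ⟨q, (X.q_le hq).1, hqz⟩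
    have n2 : ¬ X.Rel u₀ (u₀ * k * z) := fun r => hne (X.rel_trans r (X.rel_symm r2))
    rcases X.T.S.pi_eq hk.1 hkU.1 (hx.symm.trans hπ.symm) with e | e
    · have hu' : u₀ * k = u := by rw [e, mul_inv_cancel_left]
      rw [hu'] at r1 n2
      exact ⟨fun _ => n2, fun _ => r1⟩
    · have hu' : u₀ * k = u * z := by
        rw [e, X.a_comm X.zA (mul_mem (inv_mem hA) hu), ← mul_assoc, mul_inv_cancel_left]
      have hu'' : u₀ * k * z = u := by rw [hu', mul_assoc, X.T.S.z2, mul_one]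
      rw [hu''] at n2
      rw [hu'] at r1
      exact ⟨fun r => absurd r n2, fun r => absurd r1 r⟩
  set F := {u : G // u ∈ X.A ∧ coord (ρ u) = coord (ρ u₀)} with hF
  have hFc : Nat.card F = 32 := by
    rw [← card_baseU X.T]
    exact Nat.card_congr
      { toFun := fun u => (⟨u₀⁻¹ * u.1, (X.cd_eq_iff hA u.2.1).1 u.2.2.symm⟩ : X.U)
        invFun := fun a => ⟨u₀ * a.1, mul_mem hA (X.u_le a.2), by
          rw [X.cd_mul hA (X.u_le a.2), X.cd_U a.2, add_zero]⟩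
        left_inv := fun u => Subtype.ext (by show u₀ * (u₀⁻¹ * u.1) = u.1; group)
        right_inv := fun a => Subtype.ext (by show u₀⁻¹ * (u₀ * a.1) = a.1; group) }
  let τ : F → F := fun u => ⟨u.1 * z, mul_mem u.2.1 X.zA, by rw [X.cd_mul u.2.1 X.zA, X.cd_U X.zU, add_zero, u.2.2]⟩
  let e1 : {u : G // u ∈ X.A ∧ coord (ρ u) = coord (ρ u₀) ∧ X.Rel u₀ u} ≃ {u : F // X.Rel u₀ u.1} :=
    { toFun := fun u => ⟨⟨u.1, u.2.1, u.2.2.1⟩, u.2.2.2⟩
      invFun := fun u => ⟨u.1.1, u.1.2.1, u.1.2.2, u.2⟩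
      left_inv := fun _ => rfl
      right_inv := fun _ => rfl }
  let e2 : {u : F // X.Rel u₀ u.1} ≃ {u : F // ¬ X.Rel u₀ u.1} :=
    { toFun := fun u => ⟨τ u.1, (hone u.1.1 u.1.2.1 u.1.2.2).1 u.2⟩
      invFun := fun u => ⟨τ u.1, (hone _ (τ u.1).2.1 (τ u.1).2.2).2 (by
        show ¬ X.Rel u₀ (u.1.1 * z * z)
        rw [mul_assoc, X.T.S.z2, mul_one]; exact u.2)⟩
      left_inv := fun u => Subtype.ext (Subtype.ext (by show u.1.1 * z * z = u.1.1; rw [mul_assoc, X.T.S.z2, mul_one]))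
      right_inv := fun u => Subtype.ext (Subtype.ext (by show u.1.1 * z * z = u.1.1; rw [mul_assoc, X.T.S.z2, mul_one])) }
  classical
  have h := Nat.card_congr (Equiv.sumCompl (fun u : F => X.Rel u₀ u.1))
  rw [Nat.card_sum, ← Nat.card_congr e2, hFc] at h
  rw [Nat.card_congr e1]
  omega

end Ctx

end CfsgLib.CoType
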