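import Mathlib
import Cfsg.Agent.Lib.CoType.TwoForms

/-!
Elements of orders five and seven of the general linear group of dimension four over two elements.
-/

set_option autoImplicit false
set_option linter.style.haveILetI false

namespace CfsgLib.CoType

open Matrix
open scoped MatrixGroups

/-- The element of order five. -/
def m5 : Matrix (Fin 4) (Fin 4) (ZMod 2) := !![0, 0, 0, 1; 1, 0, 0, 1; 0, 1, 0, 1; 0, 0, 1, 1]

/-- The element of order seven. -/
def m7 : Matrix (Fin 4) (Fin 4) (ZMod 2) := !![0, 0, 1, 0; 1, 0, 1, 0; 0, 1, 0, 0; 0, 0, 0, 1]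

/-- As a unit. -/
def u5 : GL (Fin 4) (ZMod 2) :=
  ⟨m5, m5 * m5 * m5 * m5, by decide +kernel, by decide +kernel⟩

/-- As a unit. -/
def u7 : GL (Fin 4) (ZMod 2) :=
  ⟨m7, m7 * m7 * m7 * m7 * m7 * m7, by decide +kernel, by decide +kernel⟩

theorem order_u5 : orderOf u5 = 5 := by
  haveI : Fact (Nat.Prime 5) := ⟨by norm_num⟩
  refine orderOf_eq_prime (Units.ext ?_) (fun h => ?_)
  · rw [Units.val_pow_eq_pow_val]
    show m5 ^ 5 = 1
    decide +kernel
  · have := congrArg Units.val h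
    revert this
    show ¬ m5 = 1
    decide +kernel

theorem order_u7 : orderOf u7 = 7 := by
  haveI : Fact (Nat.Prime 7) := ⟨by norm_num⟩
  refine orderOf_eq_prime (Units.ext ?_) (fun h => ?_)
  · rw [Units.val_pow_eq_pow_val]
    show m7 ^ 7 = 1
    decide +kernel
  · have := congrArg Units.val h
    revert this
    show ¬ m7 = 1
    decide +kernel

/-- The columns forced on a matrix carrying `m5` to a power. -/
def c5 (k : ℕ) (a : Fin 4 → ZMod 2) : Matrix (Fin 4) (Fin 4) (ZMod 2) :=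
  Matrix.of fun i j => ((m5 ^ (k * j.val)) *ᵥ a) i

/-- The columns forced on a matrix carrying `m7` to a power. -/
def c7 (k : ℕ) (a b : Fin 4 → ZMod 2) : Matrix (Fin 4) (Fin 4) (ZMod 2) :=
  Matrix.of fun i j => if j = 3 then b i else ((m7 ^ (k * j.val)) *ᵥ a) i

theorem forced5 {h : Matrix (Fin 4) (Fin 4) (ZMod 2)} {k : ℕ} (e : h * m5 = m5 ^ k * h) :
    h = c5 k (fun i => h i 0) := by
  have hp : ∀ n : ℕ, h * m5 ^ n = m5 ^ (k * n) * h := by
    intro n
    induction n with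
    | zero => simp
    | succ n ih =>
      rw [pow_succ, ← mul_assoc, ih, mul_assoc, e, ← mul_assoc, ← pow_add]
      congr 2
  have hcol : ∀ j : Fin 4, ∀ l, (m5 ^ j.val) l 0 = if l = j then 1 else 0 := by decide +kernel
  funext i j
  show h i j = ((m5 ^ (k * j.val)) *ᵥ fun i => h i 0) i
  have := congrFun (congrFun (hp j.val) i) 0
  simp only [Matrix.mul_apply, hcol j, mul_ite, mul_one, mul_zero, Finset.sum_ite_eq', Finset.mem_univ, if_true] at this
  rw [this]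
  rfl

theorem forced7 {h : Matrix (Fin 4) (Fin 4) (ZMod 2)} {k : ℕ} (e : h * m7 = m7 ^ k * h) :
    h = c7 k (fun i => h i 0) (fun i => h i 3) := by
  have hp : ∀ n : ℕ, h * m7 ^ n = m7 ^ (k * n) * h := by
    intro n
    induction n with
    | zero => simp
    | succ n ih =>
      rw [pow_succ, ← mul_assoc, ih, mul_assoc, e, ← mul_assoc, ← pow_add]
      congr 2
  have hcol : ∀ j : Fin 4, j ≠ 3 → ∀ l, (m7 ^ j.val) l 0 = if l = j then 1 else 0 := by decide +kernel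
  funext i j
  show h i j = if j = 3 then h i 3 else ((m7 ^ (k * j.val)) *ᵥ fun i => h i 0) i
  split_ifs with hj
  · rw [hj]
  · have := congrFun (congrFun (hp j.val) i) 0
    simp only [Matrix.mul_apply, hcol j hj, mul_ite, mul_one, mul_zero, Finset.sum_ite_eq', Finset.mem_univ,
      if_true] at this
    rw [this]
    rfl

/-- Injectivity of a matrix, decidably. -/
def injB (h : Matrix (Fin 4) (Fin 4) (ZMod 2)) : Prop := ∀ x : Fin 4 → ZMod 2, h *ᵥ x = 0 → x = 0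

instance (h : Matrix (Fin 4) (Fin 4) (ZMod 2)) : Decidable (injB h) :=
  inferInstanceAs (Decidable (∀ x : Fin 4 → ZMod 2, h *ᵥ x = 0 → x = 0))

theorem count5 : (Finset.univ.filter fun p : Fin 5 × (Fin 4 → ZMod 2) =>
    c5 p.1.val p.2 * m5 = m5 ^ p.1.val * c5 p.1.val p.2 ∧ injB (c5 p.1.val p.2)).card = 60 ∧
    (Finset.univ.filter fun a : Fin 4 → ZMod 2 => c5 1 a * m5 = m5 * c5 1 a ∧ injB (c5 1 a)).card = 15 := by
  decide +kernel

theorem count7 : (Finset.univ.filter fun p : Fin 7 × (Fin 4 → ZMod 2) × (Fin 4 → ZMod 2) =>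
    c7 p.1.val p.2.1 p.2.2 * m7 = m7 ^ p.1.val * c7 p.1.val p.2.1 p.2.2 ∧ injB (c7 p.1.val p.2.1 p.2.2)).card = 21 ∧
    (Finset.univ.filter fun a : (Fin 4 → ZMod 2) × (Fin 4 → ZMod 2) =>
      c7 1 a.1 a.2 * m7 = m7 * c7 1 a.1 a.2 ∧ injB (c7 1 a.1 a.2)).card = 7 := by
  decide +kernel

/-- The action on the coordinates of forms. -/
def wAct (h : Matrix (Fin 4) (Fin 4) (ZMod 2)) (c : Fin 6 → ZMod 2) : Fin 6 → ZMod 2 := fun k =>
  c 0 * wdg (fun i => h i 0) (fun i => h i 1) k + c 1 * wdg (fun i => h i 0) (fun i => h i 2) k +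
  c 2 * wdg (fun i => h i 0) (fun i => h i 3) k + c 3 * wdg (fun i => h i 1) (fun i => h i 2) k +
  c 4 * wdg (fun i => h i 1) (fun i => h i 3) k + c 5 * wdg (fun i => h i 2) (fun i => h i 3) k

theorem fix5 : (∀ a : Fin 4 → ZMod 2, m5 *ᵥ a = a → a = 0) ∧
    (∀ a : Fin 4 → ZMod 2, a ᵥ* m5 = a → a = 0) ∧
    (∀ c : Fin 6 → ZMod 2, wAct m5 c = c → c = 0 ∨ pf c = 1) ∧
    (Finset.univ.filter fun c : Fin 6 → ZMod 2 => c ≠ 0 ∧ wAct m5 c = c).card = 3 ∧
    ∃ a : Fin 4 → ZMod 2, c5 1 a * m5 = m5 * c5 1 a ∧ injB (c5 1 a) ∧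
      ∃ c : Fin 6 → ZMod 2, c ≠ 0 ∧ wAct m5 c = c ∧ wAct (c5 1 a) c ≠ c := by
  decide +kernel

theorem fix7 : (∀ a : Fin 4 → ZMod 2, m7 *ᵥ a = a → a = 0 ∨ a = bas 3) ∧
    m7 *ᵥ bas 3 = bas 3 ∧ bas 3 ᵥ* m7 = bas 3 ∧
    (∀ a : Fin 4 → ZMod 2, a ᵥ* m7 = a → a = 0 ∨ a = bas 3) ∧
    (∀ c : Fin 6 → ZMod 2, wAct m7 c = c → c = 0) := by
  decide +kernel

end CfsgLib.CoType
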