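import Mathlib
import Cfsg.Agent.Lib.CoType.TwoCount

/-!
The orbit of the involution has 759 elements, and the other nontrivial elements form one orbit.
-/

set_option autoImplicit false
set_option linter.style.haveILetI false
set_option linter.unusedSectionVars false
set_option linter.unusedSimpArgs false

namespace CfsgLib.CoType

open Subgroup CfsgLib.Classical

variable {G : Type*} [Group G] [Finite G] {z : G} {Q : Subgroup G} {π : G → V8} {ρ : G → qAut qm}

namespace Ctx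

variable (X : Ctx z Q π ρ)

include X

/-- The fixed points of an element of prime order. -/
theorem fix_mod {x : G} (hx : x ∈ X.N) {r : ℕ} [Fact r.Prime] (hr : orderOf x = r) :
    Nat.card ↥(X.A ⊓ centralizer ({x} : Set G)) % r = 2048 % r := by
  let K := zpowers x
  have hK : ∀ k : K, (k : G) ∈ X.N := fun k => zpowers_le.2 hx k.2
  letI : MulAction K X.A :=
    { smul := fun k a => ⟨(k : G) * a * (k : G)⁻¹, X.conj_A (hK k) a.2⟩
      one_smul := fun a => Subtype.ext (by show ((1 : K) : G) * a * ((1 : K) : G)⁻¹ = a; simp)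
      mul_smul := fun k l a => Subtype.ext (by
        show ((k * l : K) : G) * a * ((k * l : K) : G)⁻¹ = (k : G) * ((l : G) * a * (l : G)⁻¹) * (k : G)⁻¹
        rw [coe_mul]; group) }
  have hp : IsPGroup r K := IsPGroup.of_card (n := 1) (by rw [Nat.card_zpowers, hr, pow_one])
  have h := hp.card_modEq_card_fixedPoints X.A
  rw [X.card_A] at h
  have e : Nat.card (MulAction.fixedPoints K X.A) = Nat.card ↥(X.A ⊓ centralizer ({x} : Set G)) := Nat.card_congr
    { toFun := fun a => ⟨(a.1 : G), a.1.2, mem_centralizer_singleton_iff.2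
        (mul_inv_eq_iff_eq_mul.1 (congrArg Subtype.val (a.2 ⟨x, mem_zpowers x⟩))).symm⟩
      invFun := fun a => ⟨⟨a.1, a.2.1⟩, fun k => Subtype.ext (by
        obtain ⟨i, hi⟩ := mem_zpowers_iff.1 k.2
        have h1 : (k : G) * a.1 = a.1 * (k : G) := by
          rw [← hi]
          exact ((show Commute (a.1 : G) x from mem_centralizer_singleton_iff.1 a.2.2).zpow_right i).eq.symm
        show (k : G) * a.1 * (k : G)⁻¹ = a.1
        rw [h1, mul_inv_cancel_right])⟩
      left_inv := fun _ => rfl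
      right_inv := fun _ => rfl }
  rw [e] at h
  exact h.symm

theorem fix_pow {x : G} (hx : x ∈ X.N) {r : ℕ} [Fact r.Prime] (hr : orderOf x = r) (h2 : r ≠ 2) :
    ∃ j, j < 11 ∧ Nat.card ↥(X.A ⊓ centralizer ({x} : Set G)) = 2 ^ j ∧ 2 ^ j % r = 2048 % r := by
  set F := X.A ⊓ centralizer ({x} : Set G) with hF
  have h : Nat.card F ∣ 2 ^ 11 := by
    have := card_dvd_of_le (inf_le_left : F ≤ X.A)
    rwa [X.card_A] at this
  obtain ⟨j, hj, e⟩ := (Nat.dvd_prime_pow Nat.prime_two).1 h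
  refine ⟨j, lt_of_le_of_ne hj fun hj' => h2 ?_, e, e ▸ X.fix_mod hx hr⟩
  have hEq : F = X.A := eq_of_le_of_card_ge inf_le_left (by rw [X.card_A, e, hj']; norm_num)
  have hxA : x ∈ X.A := X.cent_A fun a ha => mem_centralizer_singleton_iff.1 (hEq.symm ▸ ha : a ∈ F).2
  have := orderOf_dvd_of_pow_eq_one (X.elementary.2 x hxA)
  rw [hr] at this
  exact (Nat.prime_dvd_prime_iff_eq (Fact.out (p := r.Prime)) Nat.prime_two).1 this

/-- An element of order twenty-three fixes only the identity. -/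
theorem fix_twentythree {x a : G} (hx : x ∈ X.N) (hr : orderOf x = 23) (ha : a ∈ X.A) (hc : a * x = x * a) :
    a = 1 := by
  haveI : Fact (Nat.Prime 23) := ⟨by norm_num⟩
  obtain ⟨j, hj, e, hm⟩ := X.fix_pow hx hr (by norm_num)
  have hj0 : j = 0 := by
    revert hm
    interval_cases j <;> norm_num
  rw [hj0, pow_zero, card_eq_one] at e
  have : a ∈ X.A ⊓ centralizer ({x} : Set G) := ⟨ha, mem_centralizer_singleton_iff.2 hc⟩
  rwa [e, mem_bot] at this

/-- No element of order 311 or 71. -/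
theorem no_order {x : G} (hx : x ∈ X.N) {r : ℕ} (hr : orderOf x = r) : r ≠ 311 ∧ r ≠ 71 := by
  constructor <;> rintro rfl
  · haveI : Fact (Nat.Prime 311) := ⟨by norm_num⟩
    obtain ⟨j, hj, -, hm⟩ := X.fix_pow hx hr (by norm_num)
    revert hm
    interval_cases j <;> norm_num
  · haveI : Fact (Nat.Prime 71) := ⟨by norm_num⟩
    obtain ⟨j, hj, -, hm⟩ := X.fix_pow hx hr (by norm_num)
    revert hm
    interval_cases j <;> norm_num

/-- The orbit as a set. -/
def O : Set G := {u | X.Orb u}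

/-- Counting the normalizer by the orbit. -/
theorem card_N : Nat.card X.N = Nat.card X.O * Nat.card X.NC := by
  classical
  let f : X.N → X.O := fun n => ⟨(n : G) * z * (n : G)⁻¹, n, n.2, rfl⟩
  have hfib : ∀ y : X.O, Nat.card {n : X.N // f n = y} = Nat.card X.NC := by
    rintro ⟨_, m, hm, rfl⟩
    refine Nat.card_congr
      { toFun := fun n => ⟨m⁻¹ * (n.1 : G), X.N.mul_mem (X.N.inv_mem hm) n.1.2, mem_centralizer_singleton_iff.2 ?_⟩
        invFun := fun c => ⟨⟨m * c.1, mul_mem hm c.2.1⟩, Subtype.ext ?_⟩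
        left_inv := fun n => Subtype.ext (Subtype.ext (mul_inv_cancel_left m (n.1 : G)))
        right_inv := fun c => Subtype.ext (inv_mul_cancel_left m (c.1 : G)) }
    · have h : (n.1 : G) * z * (n.1 : G)⁻¹ = m * z * m⁻¹ := congrArg Subtype.val n.2
      calc m⁻¹ * (n.1 : G) * z = m⁻¹ * ((n.1 : G) * z * (n.1 : G)⁻¹) * (n.1 : G) := by group
        _ = z * (m⁻¹ * (n.1 : G)) := by rw [h]; group
    · show m * c.1 * z * (m * c.1)⁻¹ = m * z * m⁻¹
      rw [show m * c.1 * z * (m * c.1)⁻¹ = m * (c.1 * z * (c.1)⁻¹) * m⁻¹ by group,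
        mem_centralizer_singleton_iff.1 c.2.2, mul_inv_cancel_right]
  haveI := Fintype.ofFinite X.O
  have h := Nat.card_congr (Equiv.sigmaFiberEquiv f)
  rw [Nat.card_sigma, Finset.sum_congr rfl (fun y _ => hfib y), Finset.sum_const, Finset.card_univ,
    ← Nat.card_eq_fintype_card, smul_eq_mul] at h
  exact h.symm

theorem of_zero : Nat.card (X.OF 0) = 31 := by
  have e : X.OF 0 = (X.U : Set G) \ {1} := by
    ext u
    constructor
    · rintro ⟨hu, h, ho⟩
      refine ⟨?_, (X.orb_A ho).2⟩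
      have h1 := (X.cd_eq_iff (one_mem _) hu).1 (by rw [h, X.cd_U (one_mem _)])
      rwa [inv_one, one_mul] at h1
    · rintro ⟨hu, h⟩
      exact ⟨X.u_le hu, X.cd_U hu, X.orb_U hu h⟩
  rw [e, Nat.card_coe_set_eq, Set.ncard_diff_singleton_of_mem X.U.one_mem, ← Nat.card_coe_set_eq,
    show Nat.card ↥(X.U : Set G) = 32 from card_baseU X.T]

/-- Every form of rank two is carried from the first line. -/
theorem line_move {c : Fin 6 → ZMod 2} (hc0 : c ≠ 0) (hpf : pf c = 0) {b : G}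
    (hb : El X.T.S (fe 0) (fe 1) b) : ∃ m ∈ X.NC, coord (ρ (m * b * m⁻¹)) = c := by
  obtain ⟨l, -, hl, i, j, hind⟩ := one_line c hc0 hpf
  obtain ⟨m, hm, hmf⟩ := X.exists_nc ![wv l.1, wv l.2, fe i, fe j] (fun k => by
      fin_cases k
      exacts [inW_wv _, inW_wv _, inW_fe i, inW_fe j]) (fun x hx => hind_wv hind x (by
      rw [wv_bas, wv_bas]; exact hx))
  refine ⟨m, hm, ?_⟩
  have h := X.el_conj hm hb
  rw [show (ρ m).1 (fe 0) = wv l.1 from hmf 0, show (ρ m).1 (fe 1) = wv l.2 from hmf 1] at h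
  rw [coord_of_el X.T.S h, hl]

theorem four_move {c : Fin 6 → ZMod 2} (hpf : pf c = 1) :
    ∃ m ∈ X.NC, ∀ u ∈ X.A, coord (ρ u) = wdg (bas 0) (bas 1) + wdg (bas 2) (bas 3) →
      coord (ρ (m * u * m⁻¹)) = c := by
  obtain ⟨l, -, k, -, hl, hind⟩ := two_lines c hpf
  obtain ⟨m, hm, hmf⟩ := X.exists_nc ![wv l.1, wv l.2, wv k.1, wv k.2] (fun i => by
      fin_cases i <;> exact inW_wv _) (fun x hx => hind_wv hind x hx)
  refine ⟨m, hm, fun u hu h => ?_⟩
  obtain ⟨e₁, h₁⟩ := exists_el X.T (inW_fe 0) (fe_ne 0) (inW_fe 1)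
  obtain ⟨e₂, h₂⟩ := exists_el X.T (inW_fe 2) (fe_ne 2) (inW_fe 3)
  have h' : coord (ρ u) = coord (ρ (e₁ * e₂)) := by
    rw [h, X.cd_mul h₁.1 h₂.1, coord_of_el X.T.S (a := bas 0) (b := bas 1) (by rw [wv_bas, wv_bas]; exact h₁),
      coord_of_el X.T.S (a := bas 2) (b := bas 3) (by rw [wv_bas, wv_bas]; exact h₂)]
  rw [X.coord_conj hm hu (mul_mem h₁.1 h₂.1) h',
    show m * (e₁ * e₂) * m⁻¹ = (m * e₁ * m⁻¹) * (m * e₂ * m⁻¹) by group]
  have g₁ := X.el_conj hm h₁
  have g₂ := X.el_conj hm h₂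
  rw [show (ρ m).1 (fe 0) = wv l.1 from hmf 0, show (ρ m).1 (fe 1) = wv l.2 from hmf 1] at g₁
  rw [show (ρ m).1 (fe 2) = wv k.1 from hmf 2, show (ρ m).1 (fe 3) = wv k.2 from hmf 3] at g₂
  rw [X.cd_mul g₁.1 g₂.1, coord_of_el X.T.S g₁, coord_of_el X.T.S g₂, hl]

/-- The shape of the answer. -/
theorem card_O_cases : ∃ k, Nat.card X.O = 311 + 28 * k ∧ (k = 0 ∨ k = 16 ∨ k = 32) := by
  classical
  obtain ⟨u₁, b, hb, h8, -, -⟩ := X.line_facts
  obtain ⟨u₀, hA, hcd, hall, h16⟩ := X.four_facts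
  set k := Nat.card (X.OF (coord (ρ u₀))) with hk
  have hk' : k = 0 ∨ k = 16 ∨ k = 32 := by
    have hF : Nat.card {u : G // u ∈ X.A ∧ coord (ρ u) = coord (ρ u₀)} = 32 := by
      rw [← card_baseU X.T]
      exact Nat.card_congr
        { toFun := fun u => (⟨u₀⁻¹ * u.1, (X.cd_eq_iff hA u.2.1).1 u.2.2.symm⟩ : X.U)
          invFun := fun a => ⟨u₀ * a.1, mul_mem hA (X.u_le a.2), by
            rw [X.cd_mul hA (X.u_le a.2), X.cd_U a.2, add_zero]⟩
          left_inv := fun u => Subtype.ext (by show u₀ * (u₀⁻¹ * u.1) = u.1; group)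
          right_inv := fun a => Subtype.ext (by show u₀⁻¹ * (u₀ * a.1) = a.1; group) }
    by_cases hrel : X.Rel u₀ (u₀ * z)
    · have hone : ∀ u ∈ X.A, coord (ρ u) = coord (ρ u₀) → X.Rel u₀ u := fun u hu h =>
        (hall u hu h).elim id fun r => X.rel_trans hrel r
      by_cases ho : X.Orb u₀
      · refine .inr (.inr ?_)
        rw [hk, ← hF]
        exact Nat.card_congr
          { toFun := fun u => ⟨u.1, u.2.1, u.2.2.1⟩
            invFun := fun u => ⟨u.1, u.2.1, u.2.2, (X.rel_orb (hone _ u.2.1 u.2.2)).1 ho⟩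
            left_inv := fun _ => rfl
            right_inv := fun _ => rfl }
      · refine .inl (Nat.card_eq_zero.2 (.inl ⟨fun u => ho ?_⟩))
        exact (X.rel_orb (hone _ u.2.1 u.2.2.1)).2 u.2.2.2
    · have hcz : coord (ρ (u₀ * z)) = coord (ρ u₀) := by rw [X.cd_mul hA X.zA, X.cd_U X.zU, add_zero]
      by_cases ho : X.Orb u₀ <;> by_cases ho' : X.Orb (u₀ * z)
      · refine .inr (.inr ?_)
        rw [hk, ← hF]
        exact Nat.card_congr
          { toFun := fun u => ⟨u.1, u.2.1, u.2.2.1⟩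
            invFun := fun u => ⟨u.1, u.2.1, u.2.2,
              (hall _ u.2.1 u.2.2).elim (fun r => (X.rel_orb r).1 ho) fun r => (X.rel_orb r).1 ho'⟩
            left_inv := fun _ => rfl
            right_inv := fun _ => rfl }
      · refine .inr (.inl ?_)
        rw [hk, ← h16 hrel]
        exact Nat.card_congr
          { toFun := fun u => ⟨u.1, u.2.1, u.2.2.1, (hall _ u.2.1 u.2.2.1).resolve_right fun r =>
              ho' ((X.rel_orb r).2 u.2.2.2)⟩
            invFun := fun u => ⟨u.1, u.2.1, u.2.2.1, (X.rel_orb u.2.2.2).1 ho⟩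
            left_inv := fun _ => rfl
            right_inv := fun _ => rfl }
      · refine .inr (.inl ?_)
        have hsplit := h16 hrel
        have hc : Nat.card (X.OF (coord (ρ u₀))) + 16 = 32 := by
          rw [← hsplit, ← hF]
          rw [← Nat.card_sum]
          refine Nat.card_congr (Equiv.ofBijective (Sum.elim (fun u => ⟨u.1, u.2.1, u.2.2.1⟩)
            (fun u => ⟨u.1, u.2.1, u.2.2.1⟩)) ⟨?_, ?_⟩)
          · rintro (⟨u, hu⟩ | ⟨u, hu⟩) (⟨v, hv⟩ | ⟨v, hv⟩) e <;>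
              have e' : u = v := congrArg Subtype.val e <;> subst e'
            · rfl
            · exact absurd ((X.rel_orb hv.2.2).2 hu.2.2) ho
            · exact absurd ((X.rel_orb hu.2.2).2 hv.2.2) ho
            · rfl
          · rintro ⟨u, hu, hu'⟩
            rcases hall u hu hu' with r | r
            · exact ⟨.inr ⟨u, hu, hu', r⟩, rfl⟩
            · exact ⟨.inl ⟨u, hu, hu', (X.rel_orb r).1 ho'⟩, rfl⟩
        omega
      · refine .inl (Nat.card_eq_zero.2 (.inl ⟨fun u => ?_⟩))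
        rcases hall _ u.2.1 u.2.2.1 with r | r
        · exact ho ((X.rel_orb r).2 u.2.2.2)
        · exact ho' ((X.rel_orb r).2 u.2.2.2)
  refine ⟨k, ?_, hk'⟩
  have hval : ∀ c, Nat.card (X.OF c) = if c = 0 then 31 else if pf c = 0 then 8 else k := by
    intro c
    split_ifs with h0 hp
    · rw [h0]; exact X.of_zero
    · obtain ⟨m, hm, e⟩ := X.line_move h0 hp hb
      rw [← e, X.fibre_move hm hb.1, h8]
    · obtain ⟨m, hm, e⟩ := X.four_move ((two_cases (pf c)).resolve_left hp)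
      rw [← e u₀ hA hcd, X.fibre_move hm hA]
  have h := Nat.card_congr (α := (c : Fin 6 → ZMod 2) × X.OF c) (β := X.O)
    { toFun := fun s => ⟨s.2.1, s.2.2.2.2⟩
      invFun := fun u => ⟨coord (ρ (u : G)), ⟨u.1, (X.orb_A u.2).1, rfl, u.2⟩⟩
      left_inv := fun ⟨c, ⟨u, hu, hc, ho⟩⟩ => by subst hc; rfl
      right_inv := fun _ => rfl }
  rw [← h, Nat.card_sigma, Finset.sum_congr rfl fun c _ => hval c]
  obtain ⟨n35, n28⟩ := counts_forms
  rw [Finset.sum_ite, Finset.sum_const, Finset.sum_ite, Finset.sum_const, Finset.sum_const, Finset.filter_filter,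
    Finset.filter_filter, smul_eq_mul, smul_eq_mul, smul_eq_mul,
    show (Finset.univ.filter fun c : Fin 6 → ZMod 2 => c = 0).card = 1 by decide,
    show (Finset.univ.filter fun c : Fin 6 → ZMod 2 => ¬c = 0 ∧ pf c = 0).card = 35 from n35,
    show (Finset.univ.filter fun c : Fin 6 → ZMod 2 => ¬c = 0 ∧ ¬pf c = 0).card = 28 by decide +kernel]
  ring

/-- The orbit of the involution. -/
theorem card_O : Nat.card X.O = 759 := by
  obtain ⟨k, hk, h0 | h16 | h32⟩ := X.card_O_cases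
  · exfalso
    haveI : Fact (Nat.Prime 311) := ⟨by norm_num⟩
    have hd : 311 ∣ Nat.card X.N := by rw [X.card_N, hk, h0]; exact Dvd.intro _ rfl
    obtain ⟨x, hx⟩ := exists_prime_orderOf_dvd_card' 311 hd
    exact (X.no_order x.2 ((Subgroup.orderOf_coe x).trans hx)).1 rfl
  · rw [hk, h16]
  · exfalso
    haveI : Fact (Nat.Prime 71) := ⟨by norm_num⟩
    have hd : 71 ∣ Nat.card X.N := by rw [X.card_N, hk, h32]; exact Dvd.dvd.mul_right (by norm_num) _
    obtain ⟨x, hx⟩ := exists_prime_orderOf_dvd_card' 71 hd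
    exact (X.no_order x.2 ((Subgroup.orderOf_coe x).trans hx)).2 rfl

theorem k_sixteen {u₀ : G} (hA : u₀ ∈ X.A) (hcd : coord (ρ u₀) = wdg (bas 0) (bas 1) + wdg (bas 2) (bas 3)) :
    (∃ u ∈ X.A, coord (ρ u) = coord (ρ u₀) ∧ X.Orb u) ∧ ∃ u ∈ X.A, coord (ρ u) = coord (ρ u₀) ∧ ¬ X.Orb u := by
  obtain ⟨u₁, b, hb, h8, -, -⟩ := X.line_facts
  classical
  have hval : ∀ c, Nat.card (X.OF c) = if c = 0 then 31 else if pf c = 0 then 8 else Nat.card (X.OF (coord (ρ u₀))) := by
    intro c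
    split_ifs with h0 hp
    · rw [h0]; exact X.of_zero
    · obtain ⟨m, hm, e⟩ := X.line_move h0 hp hb
      rw [← e, X.fibre_move hm hb.1, h8]
    · obtain ⟨m, hm, e⟩ := X.four_move ((two_cases (pf c)).resolve_left hp)
      rw [← e u₀ hA hcd, X.fibre_move hm hA]
  have h := Nat.card_congr (α := (c : Fin 6 → ZMod 2) × X.OF c) (β := X.O)
    { toFun := fun s => ⟨s.2.1, s.2.2.2.2⟩
      invFun := fun u => ⟨coord (ρ (u : G)), ⟨u.1, (X.orb_A u.2).1, rfl, u.2⟩⟩
      left_inv := fun ⟨c, ⟨u, hu, hc, ho⟩⟩ => by subst hc; rfl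
      right_inv := fun _ => rfl }
  rw [X.card_O, Nat.card_sigma, Finset.sum_congr rfl fun c _ => hval c] at h
  obtain ⟨n35, -⟩ := counts_forms
  rw [Finset.sum_ite, Finset.sum_const, Finset.sum_ite, Finset.sum_const, Finset.sum_const, Finset.filter_filter,
    Finset.filter_filter, smul_eq_mul, smul_eq_mul, smul_eq_mul,
    show (Finset.univ.filter fun c : Fin 6 → ZMod 2 => c = 0).card = 1 by decide,
    show (Finset.univ.filter fun c : Fin 6 → ZMod 2 => ¬c = 0 ∧ pf c = 0).card = 35 from n35,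
    show (Finset.univ.filter fun c : Fin 6 → ZMod 2 => ¬c = 0 ∧ ¬pf c = 0).card = 28 by decide +kernel] at h
  have hk : Nat.card (X.OF (coord (ρ u₀))) = 16 := by omega
  constructor
  · by_contra hn
    push Not at hn
    rw [Nat.card_eq_zero.2 (.inl ⟨fun u : X.OF (coord (ρ u₀)) => hn _ u.2.1 u.2.2.1 u.2.2.2⟩)] at hk
    omega
  · by_contra hn
    push Not at hn
    have h32 : Nat.card (X.OF (coord (ρ u₀))) = 32 := by
      rw [← card_baseU X.T]
      exact Nat.card_congr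
        { toFun := fun u => (⟨u₀⁻¹ * u.1, (X.cd_eq_iff hA u.2.1).1 u.2.2.1.symm⟩ : X.U)
          invFun := fun a => ⟨u₀ * a.1, mul_mem hA (X.u_le a.2), by
            rw [X.cd_mul hA (X.u_le a.2), X.cd_U a.2, add_zero], hn _ (mul_mem hA (X.u_le a.2)) (by
            rw [X.cd_mul hA (X.u_le a.2), X.cd_U a.2, add_zero])⟩
          left_inv := fun u => Subtype.ext (by show u₀ * (u₀⁻¹ * u.1) = u.1; group)
          right_inv := fun a => Subtype.ext (by show u₀⁻¹ * (u₀ * a.1) = a.1; group) }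
    omega

/-- One orbit outside. -/
theorem second_orbit : ∃ w ∈ X.A, w ≠ 1 ∧ ¬ X.Orb w ∧ ∀ u ∈ X.A, u ≠ 1 → ¬ X.Orb u → X.Rel w u := by
  classical
  obtain ⟨u₁, b, hb, h8, ⟨hn₁, hA₁, hc₁⟩, hline⟩ := X.line_facts
  obtain ⟨u₀, hA, hcd, hall, h16⟩ := X.four_facts
  obtain ⟨⟨v, hv, hvc, hvo⟩, w₀, hw₀, hw₀c, hw₀o⟩ := X.k_sixteen hA hcd
  -- over the form of rank four
  have hfour : ∀ u ∈ X.A, coord (ρ u) = coord (ρ u₀) → ¬ X.Orb u → X.Rel w₀ u := by
    intro u hu h ho
    rcases hall v hv hvc with rv | rv <;> rcases hall u hu h with ru | ru <;>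
      rcases hall w₀ hw₀ hw₀c with rw' | rw'
    all_goals first
      | exact X.rel_trans (X.rel_symm rw') ru
      | exact absurd ((X.rel_orb (X.rel_trans (X.rel_symm rv) ru)).1 hvo) ho
      | exact absurd ((X.rel_orb (X.rel_trans (X.rel_symm rv) rw')).1 hvo) hw₀o
  -- every element outside is in one of the two classes
  have hcls : ∀ u ∈ X.A, u ≠ 1 → ¬ X.Orb u → (coord (ρ u) ≠ 0 ∧ pf (coord (ρ u)) = 0 → X.Rel u₁ u) ∧
      (pf (coord (ρ u)) = 1 → X.Rel w₀ u) ∧ coord (ρ u) ≠ 0 := by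
    intro u hu h1 ho
    refine ⟨fun ⟨h0, hp⟩ => ?_, fun hp => ?_, fun h0 => ho ?_⟩
    · obtain ⟨m, hm, e⟩ := X.line_move h0 hp hb
      have hu' : m⁻¹ * u * m ∈ X.A := by simpa using X.conj_A (inv_mem hm.1) hu
      have hc := X.coord_conj (inv_mem hm) hu (X.conj_A hm.1 hb.1) e.symm
      rw [inv_inv, show m⁻¹ * (m * b * m⁻¹) * m = b by group] at hc
      have hr : X.Rel u (m⁻¹ * u * m) := ⟨m⁻¹, inv_mem hm.1, by rw [inv_inv]⟩
      exact X.rel_trans (hline _ hu' hc fun hh => ho ((X.rel_orb hr).2 hh)) (X.rel_symm hr)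
    · obtain ⟨m, hm, e⟩ := X.four_move hp
      have hu' : m⁻¹ * u * m ∈ X.A := by simpa using X.conj_A (inv_mem hm.1) hu
      have hc := X.coord_conj (inv_mem hm) hu (X.conj_A hm.1 hA) (e u₀ hA hcd).symm
      rw [inv_inv, show m⁻¹ * (m * u₀ * m⁻¹) * m = u₀ by group] at hc
      have hr : X.Rel u (m⁻¹ * u * m) := ⟨m⁻¹, inv_mem hm.1, by rw [inv_inv]⟩
      exact X.rel_trans (hfour _ hu' hc fun hh => ho ((X.rel_orb hr).2 hh)) (X.rel_symm hr)
    · have h2 := (X.cd_eq_iff (one_mem _) hu).1 (by rw [h0, X.cd_U (one_mem _)])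
      rw [inv_one, one_mul] at h2
      exact X.orb_U h2 h1
  have hu₁ : u₁ ≠ 1 := fun h => by
    have := coord_of_el X.T.S (a := bas 0) (b := bas 1) (by rw [wv_bas, wv_bas]; exact hb)
    rw [← hc₁, h, X.cd_U (one_mem _)] at this
    exact absurd this (by decide)
  refine ⟨u₁, hA₁, hu₁, hn₁, fun u hu h1 ho => ?_⟩
  obtain ⟨hl, hf, h0⟩ := hcls u hu h1 ho
  rcases two_cases (pf (coord (ρ u))) with hp | hp
  · exact hl ⟨h0, hp⟩
  refine X.rel_trans ?_ (hf hp)
  -- the two classes are one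
  by_contra hsep
  let S : Set G := {u | u ∈ X.A ∧ coord (ρ u) ≠ 0 ∧ pf (coord (ρ u)) = 0 ∧ ¬ X.Orb u}
  have hSeq : ∀ u, X.Rel u₁ u ↔ u ∈ S := by
    intro u
    constructor
    · intro hr
      obtain ⟨n, hn, e⟩ := id hr
      have huA : u ∈ X.A := e ▸ X.conj_A hn hA₁
      have hu1 : u ≠ 1 := fun h => hu₁ (conj_eq_one_iff.1 (e.trans h))
      have huo : ¬ X.Orb u := fun h => hn₁ ((X.rel_orb hr).2 h)
      obtain ⟨-, hf', h0'⟩ := hcls u huA hu1 huo
      refine ⟨huA, h0', ?_, huo⟩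
      rcases two_cases (pf (coord (ρ u))) with h | h
      · exact h
      · exact absurd (X.rel_trans hr (X.rel_symm (hf' h))) hsep
    · rintro ⟨huA, h0', hp', huo⟩
      refine (hcls u huA (fun h => h0' (by rw [h, X.cd_U (one_mem _)])) huo).1 ⟨h0', hp'⟩
  have hcardS : Nat.card S = 840 := by
    have hfib : ∀ c, Nat.card {u : S // coord (ρ (u : G)) = c} = if c ≠ 0 ∧ pf c = 0 then 24 else 0 := by
      intro c
      split_ifs with h
      · obtain ⟨m, hm, e⟩ := X.line_move h.1 h.2 hb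
        have hA' := X.conj_A hm.1 hb.1
        have hall32 : Nat.card {u : G // u ∈ X.A ∧ coord (ρ u) = c} = 32 := by
          rw [← card_baseU X.T]
          exact Nat.card_congr
            { toFun := fun u => (⟨(m * b * m⁻¹)⁻¹ * u.1, (X.cd_eq_iff hA' u.2.1).1 (e.trans u.2.2.symm)⟩ : X.U)
              invFun := fun a => ⟨m * b * m⁻¹ * a.1, mul_mem hA' (X.u_le a.2), by
                rw [X.cd_mul hA' (X.u_le a.2), X.cd_U a.2, add_zero, e]⟩
              left_inv := fun u => Subtype.ext (mul_inv_cancel_left _ _)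
              right_inv := fun a => Subtype.ext (inv_mul_cancel_left _ _) }
        have hOF : Nat.card (X.OF c) = 8 := by rw [← e, X.fibre_move hm hb.1, h8]
        let E : X.OF c ⊕ {u : S // coord (ρ (u : G)) = c} ≃ {u : G // u ∈ X.A ∧ coord (ρ u) = c} :=
          { toFun := Sum.elim (fun u => ⟨u.1, u.2.1, u.2.2.1⟩) (fun u => ⟨u.1.1, u.1.2.1, u.2⟩)
            invFun := fun u => if ho : X.Orb u.1 then .inl ⟨u.1, u.2.1, u.2.2, ho⟩
              else .inr ⟨⟨u.1, u.2.1, u.2.2.symm ▸ h.1, u.2.2.symm ▸ h.2, ho⟩, u.2.2⟩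
            left_inv := by
              rintro (⟨u, hu⟩ | ⟨⟨u, hu⟩, hc⟩)
              · exact dif_pos hu.2.2
              · exact dif_neg hu.2.2.2
            right_inv := fun u => by dsimp only; split_ifs <;> rfl }
        have hs := Nat.card_congr E
        rw [Nat.card_sum, hOF, hall32] at hs
        omega
      · exact Nat.card_eq_zero.2 (.inl ⟨fun u => h ⟨u.2 ▸ u.1.2.2.1, u.2 ▸ u.1.2.2.2.1⟩⟩)
    have h := Nat.card_congr (Equiv.sigmaFiberEquiv fun u : S => coord (ρ (u : G)))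
    rw [Nat.card_sigma, Finset.sum_congr rfl fun c _ => hfib c] at h
    rw [← h, ← Finset.sum_filter, Finset.sum_const, counts_forms.1]
    rfl
  -- the stabiliser contains an element of order twenty-three
  haveI : Fact (Nat.Prime 23) := ⟨by norm_num⟩
  let Stab : Subgroup G := X.N ⊓ centralizer ({u₁} : Set G)
  let f : X.N → S := fun n => ⟨(n : G) * u₁ * (n : G)⁻¹, (hSeq _).1 ⟨n, n.2, rfl⟩⟩
  have hfib : ∀ y : S, Nat.card {n : X.N // f n = y} = Nat.card Stab := by
    intro y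
    obtain ⟨m, hm, e⟩ := (hSeq _).2 y.2
    refine Nat.card_congr
      { toFun := fun n => ⟨m⁻¹ * (n.1 : G), X.N.mul_mem (X.N.inv_mem hm) n.1.2, mem_centralizer_singleton_iff.2 ?_⟩
        invFun := fun c => ⟨⟨m * c.1, mul_mem hm c.2.1⟩, Subtype.ext ?_⟩
        left_inv := fun n => Subtype.ext (Subtype.ext (mul_inv_cancel_left m (n.1 : G)))
        right_inv := fun c => Subtype.ext (inv_mul_cancel_left m (c.1 : G)) }
    · have h : (n.1 : G) * u₁ * (n.1 : G)⁻¹ = m * u₁ * m⁻¹ := (congrArg Subtype.val n.2).trans e.symm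
      calc m⁻¹ * (n.1 : G) * u₁ = m⁻¹ * ((n.1 : G) * u₁ * (n.1 : G)⁻¹) * (n.1 : G) := by group
        _ = u₁ * (m⁻¹ * (n.1 : G)) := by rw [h]; group
    · show m * c.1 * u₁ * (m * c.1)⁻¹ = y.1
      rw [show m * c.1 * u₁ * (m * c.1)⁻¹ = m * (c.1 * u₁ * (c.1)⁻¹) * m⁻¹ by group,
        mem_centralizer_singleton_iff.1 c.2.2, mul_inv_cancel_right, e]
  haveI := Fintype.ofFinite S
  have h := Nat.card_congr (Equiv.sigmaFiberEquiv f)
  rw [Nat.card_sigma, Finset.sum_congr rfl (fun y _ => hfib y), Finset.sum_const, Finset.card_univ,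
    ← Nat.card_eq_fintype_card, smul_eq_mul, hcardS, X.card_N, X.card_O, X.card_NC] at h
  have hd : 23 ∣ Nat.card Stab := by
    have : 23 ∣ 840 * Nat.card Stab := by rw [h]; norm_num
    exact ((by norm_num : Nat.Coprime 23 840)).dvd_of_dvd_mul_left this
  obtain ⟨x, hx⟩ := exists_prime_orderOf_dvd_card' 23 hd
  exact hu₁ (X.fix_twentythree x.2.1 ((Subgroup.orderOf_coe x).trans hx) hA₁
    (mem_centralizer_singleton_iff.1 x.2.2).symm)

end Ctx

end CfsgLib.CoType
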