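import Mathlib
import Cfsg.Agent.Lib.CoType.TwoOrder

/-!
The quotient of the normalizer by the group of order 2048: elements of odd prime order and their centralizers.
-/

set_option autoImplicit false
set_option linter.style.haveILetI false
set_option linter.unusedSectionVars false
set_option linter.unusedSimpArgs false

namespace CfsgLib.CoType

open Subgroup CfsgLib.Classical

variable {G : Type*} [Group G] [Finite G] {z : G} {Q : Subgroup G} {π : G → V8} {ρ : G → qAut qm}

/-- Two subgroups of prime order whose extension of a common normal subgroup of prime to `r` order agree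
are conjugate in it. -/
theorem conj_in_extension {H : Type*} [Group H] [Finite H] {r : ℕ} [hr : Fact r.Prime] (x y : H)
    (hx : orderOf x = r) (hy : orderOf y = r) (hH : ¬ r * r ∣ Nat.card H) :
    ∃ h : H, ∃ i : ℕ, h * y * h⁻¹ = x ^ i := by
  have hc : ∀ w : H, orderOf w = r → Nat.card (zpowers w) = r ^ (Nat.card H).factorization r := fun w hw => by
    have h1 : r ∣ Nat.card H := hw ▸ orderOf_dvd_natCard w
    have h2 : (Nat.card H).factorization r = 1 := by
      refine le_antisymm ?_ (hr.out.factorization_pos_of_dvd Nat.card_pos.ne' h1)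
      by_contra hlt
      push Not at hlt
      exact hH (by
        have := Nat.ordProj_dvd (Nat.card H) r
        exact dvd_trans (dvd_trans (by rw [_root_.sq]) (pow_dvd_pow r (show 2 ≤ _ from hlt))) this)
    rw [h2, pow_one, Nat.card_zpowers, hw]
  obtain ⟨h, hh⟩ := MulAction.exists_smul_eq H (Sylow.ofCard (zpowers y) (hc y hy)) (Sylow.ofCard (zpowers x) (hc x hx))
  have e : h * y * h⁻¹ ∈ zpowers x := by
    have h1 : h * y * h⁻¹ ∈ ((h • Sylow.ofCard (zpowers y) (hc y hy) : Sylow r H) : Subgroup H) := by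
      rw [Sylow.coe_subgroup_smul]
      exact ⟨y, mem_zpowers y, rfl⟩
    rw [hh] at h1
    exact h1
  obtain ⟨i, hi⟩ := mem_zpowers_iff.1 e
  refine ⟨h, (i % (r : ℤ)).toNat, ?_⟩
  have hrpos : (0 : ℤ) < r := by exact_mod_cast hr.out.pos
  rw [← zpow_natCast, Int.toNat_of_nonneg (Int.emod_nonneg _ hrpos.ne'), ← hx, zpow_mod_orderOf, hi]

namespace Ctx

variable (X : Ctx z Q π ρ)

include X

/-- A translate of the same odd order is a conjugate. -/
theorem lift_conj {x a : G} (hx : x ∈ X.N) {r : ℕ} (hr : Odd r) (h1 : x ^ r = 1) (ha : a ∈ X.A)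
    (h2 : (a * x) ^ r = 1) : ∃ b ∈ X.A, b * x * b⁻¹ = a * x := by
  have hP : ∀ i : ℕ, (a * x) ^ i * (x ^ i)⁻¹ ∈ X.A := by
    intro i
    induction i with
    | zero => simp
    | succ i ih =>
      rw [pow_succ', pow_succ' x i,
        show a * x * (a * x) ^ i * (x * x ^ i)⁻¹ = a * (x * ((a * x) ^ i * (x ^ i)⁻¹) * x⁻¹) by group]
      exact mul_mem ha (X.conj_A hx ih)
  letI : CommGroup X.A :=
    { (inferInstance : Group X.A) with mul_comm := fun u v => Subtype.ext (X.a_comm u.2 v.2) }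
  let α : X.A →* X.A :=
    MonoidHom.mk' (fun u => ⟨x * u * x⁻¹, X.conj_A hx u.2⟩) fun u v => Subtype.ext (by
      show x * ((u * v : X.A) : G) * x⁻¹ = x * u * x⁻¹ * (x * v * x⁻¹)
      rw [coe_mul]; group)
  let P : ℕ → X.A := fun i => ⟨(a * x) ^ i * (x ^ i)⁻¹, hP i⟩
  have hs : ∀ i, P (i + 1) = ⟨a, ha⟩ * α (P i) := fun i => Subtype.ext (by
    show (a * x) ^ (i + 1) * (x ^ (i + 1))⁻¹ = a * (x * ((a * x) ^ i * (x ^ i)⁻¹) * x⁻¹)
    rw [pow_succ', pow_succ' x i]; group)
  set S := ∏ i ∈ Finset.range r, P i with hS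
  have h3 : ∏ i ∈ Finset.range r, P (i + 1) = S := by
    have h4 := Finset.prod_range_succ' P r
    have e0 : P 0 = 1 := Subtype.ext (by show (a * x) ^ 0 * (x ^ 0)⁻¹ = 1; simp)
    have er : P r = 1 := Subtype.ext (by show (a * x) ^ r * (x ^ r)⁻¹ = 1; rw [h1, h2]; simp)
    rw [e0, mul_one, Finset.prod_range_succ, er, mul_one] at h4
    exact h4.symm
  simp only [hs, Finset.prod_mul_distrib, Finset.prod_const, Finset.card_range, ← map_prod, ← hS] at h3
  have hsq : (⟨a, ha⟩ : X.A) ^ r = ⟨a, ha⟩ := by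
    obtain ⟨k, rfl⟩ := hr
    rw [pow_succ, pow_mul, show (⟨a, ha⟩ : X.A) ^ 2 = 1 from Subtype.ext (X.elementary.2 a ha), one_pow, one_mul]
  rw [hsq] at h3
  have h5 : a * (x * (S : G) * x⁻¹) = S := congrArg Subtype.val h3
  refine ⟨S, S.2, mul_inv_eq_iff_eq_mul.2 ?_⟩
  calc (S : G) * x = a * (x * (S : G) * x⁻¹) * x := by rw [h5]
    _ = a * x * S := by group

/-- An element moving `x` to a power of itself up to the abelian group can be corrected. -/
theorem correct {x g : G} (hx : x ∈ X.N) (hg : g ∈ X.N) {r k : ℕ} (hr : Odd r) (h1 : x ^ r = 1)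
    (h : g * x * g⁻¹ * (x ^ k)⁻¹ ∈ X.A) : ∃ b ∈ X.A, (b * g) * x * (b * g)⁻¹ = x ^ k := by
  have e : g * x * g⁻¹ * (x ^ k)⁻¹ * x ^ k = g * x * g⁻¹ := by group
  obtain ⟨b, hb, hb'⟩ := X.lift_conj (pow_mem hx k) hr (by rw [← pow_mul, mul_comm, pow_mul, h1, one_pow]) h
    (by rw [e, conj_pow, h1, mul_one, mul_inv_cancel])
  refine ⟨b⁻¹, inv_mem hb, ?_⟩
  calc b⁻¹ * g * x * (b⁻¹ * g)⁻¹ = b⁻¹ * (g * x * g⁻¹) * b := by group
    _ = x ^ k := by rw [← e, ← hb']; group

/-- The quotient. -/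
def AN : Subgroup X.N := X.A.subgroupOf X.N

theorem an_normal : X.AN.Normal := ⟨fun a ha n => by
  have := X.conj_A n.2 (mem_subgroupOf.1 ha)
  exact mem_subgroupOf.2 this⟩

theorem card_AN : Nat.card X.AN = 2048 := by
  rw [AN, Nat.card_congr (subgroupOfEquivOfLe X.a_le_N).toEquiv, X.card_A]

/-- The centralizer of an element in the normalizer. -/
def CN (x : G) : Subgroup G := X.N ⊓ centralizer ({x} : Set G)

/-- The normalizer of the cyclic group of an element in the normalizer. -/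
def NN (x : G) : Subgroup G := X.N ⊓ normalizer (zpowers x : Set G)

/-- The fixed part. -/
def CA (x : G) : Subgroup G := X.A ⊓ centralizer ({x} : Set G)

variable [X.AN.Normal]

/-- The projection. -/
noncomputable def pr' : X.N →* ↥X.N ⧸ X.AN := QuotientGroup.mk' X.AN

theorem pr_eq_iff {u v : X.N} : (QuotientGroup.mk' X.AN u = QuotientGroup.mk' X.AN v) ↔ (u : G) * (v : G)⁻¹ ∈ X.A := by
  rw [← mul_inv_eq_one, ← map_inv, ← map_mul, QuotientGroup.mk'_apply, QuotientGroup.eq_one_iff]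
  exact Iff.of_eq rfl

theorem card_quot : Nat.card (↥X.N ⧸ X.AN) = 244823040 := by
  have h := card_mul_index X.AN
  rw [X.card_AN, X.card_N, X.card_O, X.card_NC, index_eq_card] at h
  omega

/-- Centralizers in the quotient. -/
theorem quot_centralizer {x : X.N} {r : ℕ} (hr : Odd r) (h1 : (x : G) ^ r = 1) :
    centralizer ({QuotientGroup.mk' X.AN x} : Set (↥X.N ⧸ X.AN)) =
      ((X.CN (x : G)).subgroupOf X.N).map (QuotientGroup.mk' X.AN) := by
  ext y
  obtain ⟨g, rfl⟩ := QuotientGroup.mk'_surjective X.AN y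
  rw [mem_centralizer_singleton_iff, mem_map]
  constructor
  · intro h
    rw [← map_mul, ← map_mul, X.pr_eq_iff] at h
    obtain ⟨b, hb, e⟩ := X.correct (k := 1) x.2 g.2 hr h1 (by
      rw [pow_one]
      simpa [mul_assoc] using h)
    rw [pow_one] at e
    refine ⟨⟨b, X.a_le_N hb⟩ * g, mem_subgroupOf.2 ⟨SetLike.coe_mem _, mem_centralizer_singleton_iff.2
      (mul_inv_eq_iff_eq_mul.1 e)⟩, ?_⟩
    rw [X.pr_eq_iff]
    simpa using hb
  · rintro ⟨c, hc, e⟩
    rw [← e, ← map_mul, ← map_mul]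
    congr 1
    exact Subtype.ext (mem_centralizer_singleton_iff.1 (mem_subgroupOf.1 hc).2)

theorem card_quot_centralizer {x : X.N} {r : ℕ} (hr : Odd r) (h1 : (x : G) ^ r = 1) :
    Nat.card (centralizer ({QuotientGroup.mk' X.AN x} : Set (↥X.N ⧸ X.AN))) * Nat.card (X.CA (x : G)) =
      Nat.card (X.CN (x : G)) := by
  rw [X.quot_centralizer hr h1]
  set K := (X.CN (x : G)).subgroupOf X.N
  set f : K →* (↥X.N ⧸ X.AN) := (QuotientGroup.mk' X.AN).comp K.subtype with hf
  have hk : Nat.card f.ker = Nat.card (X.CA (x : G)) := Nat.card_congr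
    { toFun := fun u => ⟨((u.1 : X.N) : G),
        mem_subgroupOf.1 ((QuotientGroup.eq_one_iff (N := X.AN) (u.1 : X.N)).1 u.2), (mem_subgroupOf.1 u.1.2).2⟩
      invFun := fun a => ⟨⟨⟨a.1, X.a_le_N a.2.1⟩, mem_subgroupOf.2 ⟨X.a_le_N a.2.1, a.2.2⟩⟩,
        (QuotientGroup.eq_one_iff (N := X.AN) _).2 (mem_subgroupOf.2 a.2.1)⟩
      left_inv := fun u => rfl
      right_inv := fun a => rfl }
  have hr' : f.range = K.map (QuotientGroup.mk' X.AN) := by
    rw [hf, MonoidHom.range_comp, range_subtype]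
  have h := card_mul_index f.ker
  rw [index_ker, hk, hr', show Nat.card K = Nat.card (X.CN (x : G)) from
    Nat.card_congr (subgroupOfEquivOfLe (inf_le_left : X.CN (x : G) ≤ X.N)).toEquiv] at h
  rw [mul_comm]
  exact h

/-- Normalizers in the quotient. -/
theorem quot_normalizer {x : X.N} {r : ℕ} [hp : Fact r.Prime] (hr : Odd r) (h1 : orderOf (x : G) = r) :
    normalizer ((zpowers (QuotientGroup.mk' X.AN x) : Subgroup (↥X.N ⧸ X.AN)) : Set (↥X.N ⧸ X.AN)) =
      ((X.NN (x : G)).subgroupOf X.N).map (QuotientGroup.mk' X.AN) := by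
  have hpw : (x : G) ^ r = 1 := h1 ▸ pow_orderOf_eq_one _
  ext y
  obtain ⟨g, rfl⟩ := QuotientGroup.mk'_surjective X.AN y
  rw [mem_map]
  constructor
  · intro h
    obtain ⟨i, hi⟩ := mem_zpowers_iff.1 ((mem_normalizer_iff.1 h _).1 (mem_zpowers (QuotientGroup.mk' X.AN x)))
    have hrpos : (0 : ℤ) < r := by exact_mod_cast hp.out.pos
    have hk : (x : G) ^ ((i % (r : ℤ)).toNat) = (x : G) ^ i := by
      rw [← zpow_natCast, Int.toNat_of_nonneg (Int.emod_nonneg _ hrpos.ne'), ← h1, zpow_mod_orderOf]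
    rw [← map_zpow, ← map_mul, ← map_inv, ← map_mul, X.pr_eq_iff] at hi
    obtain ⟨b, hb, e⟩ := X.correct (k := (i % (r : ℤ)).toNat) x.2 g.2 hr hpw (by
      rw [hk]
      have := inv_mem hi
      simpa [mul_assoc] using this)
    refine ⟨⟨b, X.a_le_N hb⟩ * g, mem_subgroupOf.2 ⟨SetLike.coe_mem _, ?_⟩, ?_⟩
    · have hne : (x : G) ^ (i % (r : ℤ)).toNat ≠ 1 := fun h' => by
        rw [h', conj_eq_one_iff] at e
        rw [e, orderOf_one] at h1
        exact hp.out.one_lt.ne h1
      have hsub : (zpowers (x : G)).map (MulAut.conj (b * (g : G))).toMonoidHom = zpowers (x : G) := by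
        rw [MonoidHom.map_zpowers]
        refine eq_of_le_of_card_ge (zpowers_le.2 ?_) ?_
        · show b * (g : G) * x * (b * (g : G))⁻¹ ∈ _
          rw [e]
          exact pow_mem (mem_zpowers _) _
        · rw [Nat.card_zpowers, Nat.card_zpowers]
          exact le_of_eq (orderOf_injective _ (MulEquiv.injective _) _).symm
      refine mem_normalizer_iff.2 fun w => ?_
      conv_rhs => rw [← hsub, mem_conj_iff]
      show w ∈ zpowers (x : G) ↔ _
      simp [mul_assoc]
    · rw [X.pr_eq_iff]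
      simpa using hb
  · rintro ⟨c, hc, e⟩
    rw [← e]
    refine mem_normalizer_iff.2 fun w => ?_
    have hn := (mem_subgroupOf.1 hc).2
    constructor
    · intro hw
      obtain ⟨i, rfl⟩ := mem_zpowers_iff.1 hw
      obtain ⟨j, hj⟩ := mem_zpowers_iff.1 ((mem_normalizer_iff.1 hn _).1 (zpow_mem (mem_zpowers (x : G)) i))
      exact ⟨j, by
        show (QuotientGroup.mk' X.AN x) ^ j = _
        rw [← map_zpow, ← map_zpow, ← map_inv, ← map_mul, ← map_mul]
        congr 1
        exact Subtype.ext (by simpa using hj)⟩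
    · intro hw
      obtain ⟨i, hi⟩ := mem_zpowers_iff.1 hw
      obtain ⟨j, hj⟩ := mem_zpowers_iff.1
        ((mem_normalizer_iff.1 (inv_mem hn) _).1 (zpow_mem (mem_zpowers (x : G)) i))
      refine ⟨j, ?_⟩
      show (QuotientGroup.mk' X.AN x) ^ j = w
      have e2 : w = (QuotientGroup.mk' X.AN c)⁻¹ * (QuotientGroup.mk' X.AN x) ^ i * QuotientGroup.mk' X.AN c := by
        rw [hi]; group
      rw [e2, ← map_zpow, ← map_zpow, ← map_inv, ← map_mul, ← map_mul]
      congr 1
      exact Subtype.ext (by simpa using hj)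

theorem card_quot_normalizer {x : X.N} {r : ℕ} [hp : Fact r.Prime] (hr : Odd r) (h1 : orderOf (x : G) = r) :
    Nat.card (normalizer ((zpowers (QuotientGroup.mk' X.AN x) : Subgroup (↥X.N ⧸ X.AN)) : Set (↥X.N ⧸ X.AN))) *
      Nat.card (X.CA (x : G)) = Nat.card (X.NN (x : G)) := by
  rw [X.quot_normalizer hr h1]
  set K := (X.NN (x : G)).subgroupOf X.N
  set f : K →* (↥X.N ⧸ X.AN) := (QuotientGroup.mk' X.AN).comp K.subtype with hf
  have hk : Nat.card f.ker = Nat.card (X.CA (x : G)) := Nat.card_congr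
    { toFun := fun u => ⟨((u.1 : X.N) : G),
        mem_subgroupOf.1 ((QuotientGroup.eq_one_iff (N := X.AN) (u.1 : X.N)).1 u.2), by
          have hu := mem_subgroupOf.1 ((QuotientGroup.eq_one_iff (N := X.AN) (u.1 : X.N)).1 u.2)
          set w := ((u.1 : X.N) : G) with hw
          have h2 : w * x * w⁻¹ * (x : G)⁻¹ ∈ zpowers (x : G) :=
            mul_mem ((mem_normalizer_iff.1 (mem_subgroupOf.1 u.1.2).2 _).1 (mem_zpowers _)) (inv_mem (mem_zpowers _))
          have h3 : w * x * w⁻¹ * (x : G)⁻¹ ∈ X.A := by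
            rw [show w * x * w⁻¹ * (x : G)⁻¹ = w * (x * w⁻¹ * (x : G)⁻¹) by group]
            exact mul_mem hu (X.conj_A x.2 (inv_mem hu))
          have h4 : w * x * w⁻¹ * (x : G)⁻¹ = 1 := by
            refine orderOf_eq_one_iff.1 (Nat.eq_one_of_dvd_coprimes (k := orderOf (w * x * w⁻¹ * (x : G)⁻¹))
              (a := 2) (b := r) ?_ (orderOf_dvd_of_pow_eq_one (X.elementary.2 _ h3)) ?_)
            · exact (Nat.coprime_two_left (n := r)).2 hr
            · exact h1 ▸ (Nat.card_zpowers (x : G) ▸ orderOf_coe (⟨_, h2⟩ : zpowers (x : G)) ▸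
                orderOf_dvd_natCard (⟨_, h2⟩ : zpowers (x : G)))
          exact mem_centralizer_singleton_iff.2 (mul_inv_eq_iff_eq_mul.1 (mul_inv_eq_one.1 h4))⟩
      invFun := fun a => ⟨⟨⟨a.1, X.a_le_N a.2.1⟩, mem_subgroupOf.2 ⟨X.a_le_N a.2.1,
        centralizer_le_normalizer _ (mem_centralizer_iff.2 fun w hw => by
          obtain ⟨i, rfl⟩ := mem_zpowers_iff.1 hw
          exact ((show Commute (a.1 : G) x from mem_centralizer_singleton_iff.1 a.2.2).zpow_right i).eq.symm)⟩⟩,
        (QuotientGroup.eq_one_iff (N := X.AN) _).2 (mem_subgroupOf.2 a.2.1)⟩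
      left_inv := fun u => rfl
      right_inv := fun a => rfl }
  have hr' : f.range = K.map (QuotientGroup.mk' X.AN) := by
    rw [hf, MonoidHom.range_comp, range_subtype]
  have h := card_mul_index f.ker
  rw [index_ker, hk, hr', show Nat.card K = Nat.card (X.NN (x : G)) from
    Nat.card_congr (subgroupOfEquivOfLe (inf_le_left : X.NN (x : G) ≤ X.N)).toEquiv] at h
  rw [mul_comm]
  exact h

/-- Elements of odd prime order lift. -/
theorem quot_lift (y : ↥X.N ⧸ X.AN) {r : ℕ} [hp : Fact r.Prime] (hr : r ≠ 2) (hy : orderOf y = r) :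
    ∃ x : X.N, QuotientGroup.mk' X.AN x = y ∧ orderOf (x : G) = r := by
  obtain ⟨g, rfl⟩ := QuotientGroup.mk'_surjective X.AN y
  have hodd : Odd r := hp.out.odd_of_ne_two hr
  obtain ⟨k, hk⟩ := hodd
  have hgr : (g : G) ^ r ∈ X.A := by
    have h := pow_orderOf_eq_one (QuotientGroup.mk' X.AN g)
    rw [hy, ← map_pow] at h
    have h' := mem_subgroupOf.1 ((QuotientGroup.eq_one_iff (N := X.AN) _).1 h)
    simpa using h'
  refine ⟨g ^ (r + 1), ?_, ?_⟩
  · rw [map_pow, pow_succ]
    have h := pow_orderOf_eq_one (QuotientGroup.mk' X.AN g)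
    rw [hy] at h
    rw [h, one_mul]
  · have h1 : ((g : G) ^ (r + 1)) ^ r = 1 := by
      rw [← pow_mul, mul_comm (r + 1) r, pow_mul, show r + 1 = 2 * (k + 1) by omega, pow_mul,
        X.elementary.2 _ hgr, one_pow]
    rw [SubmonoidClass.coe_pow]
    refine orderOf_eq_prime h1 fun h2 => hp.out.one_lt.ne ?_
    rw [← hy]
    symm
    rw [orderOf_eq_one_iff]
    have h := pow_orderOf_eq_one (QuotientGroup.mk' X.AN g)
    rw [hy] at h
    have h3 : (QuotientGroup.mk' X.AN g) ^ (r + 1) = 1 := by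
      rw [← map_pow, show g ^ (r + 1) = 1 from Subtype.ext (by simpa using h2), map_one]
    rw [pow_succ, h, one_mul] at h3
    exact h3

end Ctx

end CfsgLib.CoType
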