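import Mathlib
import Cfsg.Agent.Lib.CoType.TwoQuot
import Cfsg.Agent.Lib.CoType.TwoGL

/-!
Elements of orders five and seven of the stabiliser of the involution: their centralizers and normalizers there,
and how they act on the coordinates of the forms.
-/

set_option autoImplicit false
set_option linter.style.haveILetI false
set_option linter.unusedSectionVars false
set_option linter.unusedSimpArgs false

namespace CfsgLib.CoType

open Subgroup CfsgLib.Classical
open scoped Matrix MatrixGroups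

variable {G : Type*} [Group G] [Finite G] {z : G} {Q : Subgroup G} {π : G → V8} {ρ : G → qAut qm}

/-- An injective matrix as a unit. -/
noncomputable def unitOf {h : Matrix (Fin 4) (Fin 4) (ZMod 2)} (hh : injB h) : GL (Fin 4) (ZMod 2) :=
  IsUnit.unit (Matrix.mulVec_injective_iff_isUnit.1 fun a b e => by
    have h1 := hh (a + b) (by rw [Matrix.mulVec_add, e]; funext i; exact CharTwo.add_self_eq_zero _)
    exact funext fun i => CharTwo.add_eq_zero.1 (congrFun h1 i))

theorem injB_val (g : GL (Fin 4) (ZMod 2)) : injB (g : Matrix (Fin 4) (Fin 4) (ZMod 2)) := fun x hx =>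
  Matrix.mulVec_injective_iff_isUnit.2 g.isUnit (hx.trans (Matrix.mulVec_zero _).symm)

theorem c5_col (k : ℕ) (a : Fin 4 → ZMod 2) : (fun i => c5 k a i 0) = a := by
  funext i; simp [c5, Matrix.mulVec, dotProduct, Matrix.one_apply]

theorem c7_col (k : ℕ) (a b : Fin 4 → ZMod 2) :
    (fun i => c7 k a b i 0) = a ∧ (fun i => c7 k a b i 3) = b := by
  constructor
  · funext i; simp [c7, Matrix.mulVec, dotProduct, Matrix.one_apply]
  · funext i; simp [c7]

theorem val_eq_iff {h g g' : GL (Fin 4) (ZMod 2)} :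
    h * g * h⁻¹ = g' ↔ (h : Matrix (Fin 4) (Fin 4) (ZMod 2)) * (g : Matrix (Fin 4) (Fin 4) (ZMod 2)) =
      (g' : Matrix (Fin 4) (Fin 4) (ZMod 2)) * (h : Matrix (Fin 4) (Fin 4) (ZMod 2)) := by
  rw [mul_inv_eq_iff_eq_mul, ← Units.val_inj, Units.val_mul, Units.val_mul]

theorem gl_cent5 : Nat.card (centralizer ({u5} : Set (GL (Fin 4) (ZMod 2)))) = 15 := by
  rw [← count5.2, ← Nat.card_eq_finsetCard]
  have hf : ∀ h : centralizer ({u5} : Set (GL (Fin 4) (ZMod 2))),
      ((h : GL (Fin 4) (ZMod 2)) : Matrix (Fin 4) (Fin 4) (ZMod 2)) =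
        c5 1 (fun i => ((h : GL (Fin 4) (ZMod 2)) : Matrix (Fin 4) (Fin 4) (ZMod 2)) i 0) := fun h => by
    refine forced5 ?_
    rw [pow_one]
    exact congrArg Units.val (mem_centralizer_singleton_iff.1 h.2)
  refine Nat.card_congr
    { toFun := fun h => ⟨fun i => ((h : GL (Fin 4) (ZMod 2)) : Matrix (Fin 4) (Fin 4) (ZMod 2)) i 0,
        Finset.mem_filter.2 ⟨Finset.mem_univ _, by
          rw [← hf h]
          exact ⟨congrArg Units.val (mem_centralizer_singleton_iff.1 h.2), injB_val _⟩⟩⟩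
      invFun := fun a => ⟨unitOf (Finset.mem_filter.1 a.2).2.2, mem_centralizer_singleton_iff.2 (Units.ext
        (Finset.mem_filter.1 a.2).2.1)⟩
      left_inv := fun h => Subtype.ext (Units.ext (hf h).symm)
      right_inv := fun a => Subtype.ext (c5_col 1 a.1) }

theorem gl_cent7 : Nat.card (centralizer ({u7} : Set (GL (Fin 4) (ZMod 2)))) = 7 := by
  rw [← count7.2, ← Nat.card_eq_finsetCard]
  have hf : ∀ h : centralizer ({u7} : Set (GL (Fin 4) (ZMod 2))),
      ((h : GL (Fin 4) (ZMod 2)) : Matrix (Fin 4) (Fin 4) (ZMod 2)) =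
        c7 1 (fun i => ((h : GL (Fin 4) (ZMod 2)) : Matrix (Fin 4) (Fin 4) (ZMod 2)) i 0)
          (fun i => ((h : GL (Fin 4) (ZMod 2)) : Matrix (Fin 4) (Fin 4) (ZMod 2)) i 3) := fun h => by
    refine forced7 ?_
    rw [pow_one]
    exact congrArg Units.val (mem_centralizer_singleton_iff.1 h.2)
  refine Nat.card_congr
    { toFun := fun h => ⟨(fun i => ((h : GL (Fin 4) (ZMod 2)) : Matrix (Fin 4) (Fin 4) (ZMod 2)) i 0,
        fun i => ((h : GL (Fin 4) (ZMod 2)) : Matrix (Fin 4) (Fin 4) (ZMod 2)) i 3),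
        Finset.mem_filter.2 ⟨Finset.mem_univ _, by
          rw [← hf h]
          exact ⟨congrArg Units.val (mem_centralizer_singleton_iff.1 h.2), injB_val _⟩⟩⟩
      invFun := fun a => ⟨unitOf (Finset.mem_filter.1 a.2).2.2, mem_centralizer_singleton_iff.2 (Units.ext
        (Finset.mem_filter.1 a.2).2.1)⟩
      left_inv := fun h => Subtype.ext (Units.ext (hf h).symm)
      right_inv := fun a => Subtype.ext (Prod.ext (c7_col 1 a.1.1 a.1.2).1 (c7_col 1 a.1.1 a.1.2).2) }

/-- The power to which a normalizing element carries the generator. -/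
theorem exists_power {H : Type*} [Group H] {g h : H} {r : ℕ} [Fact r.Prime] (hg : orderOf g = r)
    (hn : h ∈ normalizer (zpowers g : Set H)) : ∃ k : Fin r, h * g * h⁻¹ = g ^ k.val := by
  obtain ⟨i, hi⟩ := mem_zpowers_iff.1 ((mem_normalizer_iff.1 hn g).1 (mem_zpowers g))
  have hrpos : (0 : ℤ) < r := by exact_mod_cast (Fact.out (p := r.Prime)).pos
  have h1 := Int.emod_nonneg i hrpos.ne'
  have h2 := Int.emod_lt_of_pos i hrpos
  refine ⟨⟨(i % (r : ℤ)).toNat, by omega⟩, ?_⟩
  show h * g * h⁻¹ = g ^ (i % (r : ℤ)).toNat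
  rw [← zpow_natCast, Int.toNat_of_nonneg h1, ← hg, zpow_mod_orderOf, hi]

theorem mem_normalizer_of_power {H : Type*} [Group H] [Finite H] {g h : H} {k : ℕ} (e : h * g * h⁻¹ = g ^ k) :
    h ∈ normalizer (zpowers g : Set H) := by
  have hsub : (zpowers g).map (MulAut.conj h).toMonoidHom = zpowers g := by
    rw [MonoidHom.map_zpowers]
    refine eq_of_le_of_card_ge (zpowers_le.2 ?_) ?_
    · show h * g * h⁻¹ ∈ _
      rw [e]
      exact pow_mem (mem_zpowers g) k
    · rw [Nat.card_zpowers, Nat.card_zpowers]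
      exact le_of_eq (orderOf_injective _ (MulEquiv.injective _) _).symm
  refine mem_normalizer_iff.2 fun w => ?_
  conv_rhs => rw [← hsub, mem_conj_iff]
  simp [mul_assoc]

theorem gl_norm5 : Nat.card (normalizer (zpowers u5 : Set (GL (Fin 4) (ZMod 2)))) = 60 := by
  rw [← count5.1, ← Nat.card_eq_finsetCard]
  haveI : Fact (Nat.Prime 5) := ⟨by norm_num⟩
  have hk : ∀ h : normalizer (zpowers u5 : Set (GL (Fin 4) (ZMod 2))), ∃ k : Fin 5,
      (h : GL (Fin 4) (ZMod 2)) * u5 * (h : GL (Fin 4) (ZMod 2))⁻¹ = u5 ^ k.val := fun h =>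
    exists_power order_u5 h.2
  choose k hk using hk
  have hm : ∀ h : normalizer (zpowers u5 : Set (GL (Fin 4) (ZMod 2))),
      ((h : GL (Fin 4) (ZMod 2)) : Matrix (Fin 4) (Fin 4) (ZMod 2)) * m5 =
        m5 ^ (k h).val * ((h : GL (Fin 4) (ZMod 2)) : Matrix (Fin 4) (Fin 4) (ZMod 2)) := fun h => by
    have := val_eq_iff.1 (hk h)
    rwa [Units.val_pow_eq_pow_val] at this
  have hf := fun h => forced5 (hm h)
  refine Nat.card_congr
    { toFun := fun h => ⟨(k h, fun i => ((h : GL (Fin 4) (ZMod 2)) : Matrix (Fin 4) (Fin 4) (ZMod 2)) i 0),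
        Finset.mem_filter.2 ⟨Finset.mem_univ _, by
          show c5 (k h).val _ * m5 = _ ∧ _
          rw [← hf h]
          exact ⟨hm h, injB_val _⟩⟩⟩
      invFun := fun a => ⟨unitOf (Finset.mem_filter.1 a.2).2.2, mem_normalizer_of_power (k := a.1.1.val) (val_eq_iff.2
        (by rw [Units.val_pow_eq_pow_val]; exact (Finset.mem_filter.1 a.2).2.1))⟩
      left_inv := fun h => Subtype.ext (Units.ext (hf h).symm)
      right_inv := fun a => by
        obtain ⟨⟨j, b⟩, ha⟩ := a
        refine Subtype.ext (Prod.ext ?_ (c5_col j.val b))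
        set h : normalizer (zpowers u5 : Set (GL (Fin 4) (ZMod 2))) :=
          ⟨unitOf (Finset.mem_filter.1 ha).2.2, _⟩ with hh
        have e1 : (h : GL (Fin 4) (ZMod 2)) * u5 * (h : GL (Fin 4) (ZMod 2))⁻¹ = u5 ^ j.val :=
          val_eq_iff.2 (by rw [Units.val_pow_eq_pow_val]; exact (Finset.mem_filter.1 ha).2.1)
        exact Fin.ext (pow_injOn_Iio_orderOf (x := u5) (by simp [order_u5, (k h).isLt])
          (by simp [order_u5, j.isLt]) ((hk h).symm.trans e1)) }

theorem gl_norm7 : Nat.card (normalizer (zpowers u7 : Set (GL (Fin 4) (ZMod 2)))) = 21 := by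
  rw [← count7.1, ← Nat.card_eq_finsetCard]
  haveI : Fact (Nat.Prime 7) := ⟨by norm_num⟩
  have hk : ∀ h : normalizer (zpowers u7 : Set (GL (Fin 4) (ZMod 2))), ∃ k : Fin 7,
      (h : GL (Fin 4) (ZMod 2)) * u7 * (h : GL (Fin 4) (ZMod 2))⁻¹ = u7 ^ k.val := fun h =>
    exists_power order_u7 h.2
  choose k hk using hk
  have hm : ∀ h : normalizer (zpowers u7 : Set (GL (Fin 4) (ZMod 2))),
      ((h : GL (Fin 4) (ZMod 2)) : Matrix (Fin 4) (Fin 4) (ZMod 2)) * m7 =
        m7 ^ (k h).val * ((h : GL (Fin 4) (ZMod 2)) : Matrix (Fin 4) (Fin 4) (ZMod 2)) := fun h => by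
    have := val_eq_iff.1 (hk h)
    rwa [Units.val_pow_eq_pow_val] at this
  have hf := fun h => forced7 (hm h)
  refine Nat.card_congr
    { toFun := fun h => ⟨(k h, (fun i => ((h : GL (Fin 4) (ZMod 2)) : Matrix (Fin 4) (Fin 4) (ZMod 2)) i 0,
          fun i => ((h : GL (Fin 4) (ZMod 2)) : Matrix (Fin 4) (Fin 4) (ZMod 2)) i 3)),
        Finset.mem_filter.2 ⟨Finset.mem_univ _, by
          show c7 (k h).val _ _ * m7 = _ ∧ _
          rw [← hf h]
          exact ⟨hm h, injB_val _⟩⟩⟩
      invFun := fun a => ⟨unitOf (Finset.mem_filter.1 a.2).2.2, mem_normalizer_of_power (k := a.1.1.val) (val_eq_iff.2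
        (by rw [Units.val_pow_eq_pow_val]; exact (Finset.mem_filter.1 a.2).2.1))⟩
      left_inv := fun h => Subtype.ext (Units.ext (hf h).symm)
      right_inv := fun a => by
        obtain ⟨⟨j, b, b'⟩, ha⟩ := a
        refine Subtype.ext (Prod.ext ?_ (Prod.ext (c7_col j.val b b').1 (c7_col j.val b b').2))
        set h : normalizer (zpowers u7 : Set (GL (Fin 4) (ZMod 2))) :=
          ⟨unitOf (Finset.mem_filter.1 ha).2.2, _⟩ with hh
        have e1 : (h : GL (Fin 4) (ZMod 2)) * u7 * (h : GL (Fin 4) (ZMod 2))⁻¹ = u7 ^ j.val :=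
          val_eq_iff.2 (by rw [Units.val_pow_eq_pow_val]; exact (Finset.mem_filter.1 ha).2.1)
        exact Fin.ext (pow_injOn_Iio_orderOf (x := u7) (by simp [order_u7, (k h).isLt])
          (by simp [order_u7, j.isLt]) ((hk h).symm.trans e1)) }

namespace Ctx

variable (X : Ctx z Q π ρ)

include X

theorem card_NC_factor : ¬ 5 * 5 ∣ Nat.card X.NC ∧ ¬ 7 * 7 ∣ Nat.card X.NC := by
  rw [X.card_NC]; norm_num

/-- An element with a given image. -/
theorem exists_over {r : ℕ} [hp : Fact r.Prime] (h2 : r ≠ 2) (h1 : r ∣ Nat.card X.NC)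
    {g : GL (Fin 4) (ZMod 2)} (hg : orderOf g = r) (hGL : ¬ r * r ∣ Nat.card (GL (Fin 4) (ZMod 2))) :
    ∃ x : X.NC, orderOf (x : G) = r ∧ X.res x = g := by
  obtain ⟨x₀, hx₀⟩ := exists_prime_orderOf_dvd_card' r h1
  have hres : orderOf (X.res x₀) = r := by
    refine orderOf_eq_prime (by rw [← map_pow, ← hx₀, pow_orderOf_eq_one, map_one]) fun h => h2 ?_
    obtain ⟨a, ha, q, hq, e⟩ := X.res_ker.1 h
    -- the kernel is a two-group
    have hq4 : q ^ 4 = 1 := by
      rw [show (4 : ℕ) = 2 * 2 by rfl, pow_mul, _root_.sq q, X.T.S.sq q hq]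
      rcases two_cases (qm (π q)) with e | e <;> rw [e]
      · rw [zb_zero]; simp
      · rw [zb_one, _root_.sq, X.T.S.z2]
    have hc : (x₀ : G) ^ 2 ∈ Q := by
      rw [_root_.sq, e]
      have h3 : a * q * (a * q) = (a * q * a⁻¹) * q * (q⁻¹ * (a * a) * q) := by group
      rw [h3, X.a_sq ha]
      simpa using mul_mem (X.T.S.conj_mem (X.a_le ha) hq) hq
    have h8 : (x₀ : G) ^ 8 = 1 := by
      rw [show (8 : ℕ) = 2 * 4 by rfl, pow_mul]
      have h4 : ∀ y ∈ Q, y ^ 4 = 1 := fun y hy => by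
        rw [show (4 : ℕ) = 2 * 2 by rfl, pow_mul, _root_.sq y, X.T.S.sq y hy]
        rcases two_cases (qm (π y)) with e | e <;> rw [e]
        · rw [zb_zero]; simp
        · rw [zb_one, _root_.sq, X.T.S.z2]
      exact h4 _ hc
    have h9 := orderOf_dvd_of_pow_eq_one h8
    rw [Subgroup.orderOf_coe, hx₀, show (8 : ℕ) = 2 ^ 3 by rfl] at h9
    exact (Nat.prime_dvd_prime_iff_eq hp.out Nat.prime_two).1 (hp.out.dvd_of_dvd_pow h9)
  obtain ⟨h, i, e⟩ := conj_in_extension (X.res x₀) g hres hg hGL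
  obtain ⟨c, rfl⟩ := X.res_surj h
  have hres' : X.res (c⁻¹ * x₀ ^ i * c) = g := by
    rw [map_mul, map_mul, map_inv, map_pow, ← e]; group
  refine ⟨c⁻¹ * x₀ ^ i * c, ?_, hres'⟩
  rw [Subgroup.orderOf_coe]
  refine orderOf_eq_prime ?_ fun h => ?_
  · have : ∀ n : ℕ, (c⁻¹ * x₀ ^ i * c) ^ n = c⁻¹ * (x₀ ^ i) ^ n * c := by
      intro n
      induction n with
      | zero => simp
      | succ n ih => rw [pow_succ, ih, pow_succ]; group
    rw [this, ← pow_mul, mul_comm, pow_mul, ← hx₀, pow_orderOf_eq_one, one_pow, mul_one, inv_mul_cancel]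
  · rw [h, map_one] at hres'
    rw [← hres', orderOf_one] at hg
    exact hp.out.one_lt.ne hg

/-- The elements over one commuting with a given element. -/
noncomputable def KX (x : G) : Subgroup X.NC := X.res.ker ⊓ (centralizer ({x} : Set G)).subgroupOf X.NC

theorem conj_res {x : X.NC} {r : ℕ} [hp : Fact r.Prime] (hx : orderOf (x : G) = r) (h2 : r ≠ 2)
    (hNC : ¬ r * r ∣ Nat.card X.NC) {c : X.NC} {k : ℕ} (hk : X.res (c * x * c⁻¹) = X.res (x ^ k))
    (hne : X.res x ≠ 1) : ∃ m : X.NC, X.res m = 1 ∧ (m * c) * x * (m * c)⁻¹ = x ^ k := by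
  let H : Subgroup X.NC := (zpowers (X.res x)).comap X.res
  have hxr : orderOf x = r := by rw [← Subgroup.orderOf_coe]; exact hx
  have hxH : x ∈ H := mem_zpowers _
  have hyH : c * x * c⁻¹ ∈ H := by
    show X.res (c * x * c⁻¹) ∈ zpowers (X.res x)
    rw [hk, map_pow]
    exact pow_mem (mem_zpowers _) k
  have hH : ¬ r * r ∣ Nat.card H := fun h => hNC (dvd_trans h (card_subgroup_dvd_card H))
  obtain ⟨⟨m, hm⟩, i, hi⟩ := conj_in_extension (⟨x, hxH⟩ : H) ⟨c * x * c⁻¹, hyH⟩
    ((Subgroup.orderOf_coe _).symm.trans hxr)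
    ((Subgroup.orderOf_coe _).symm.trans ((orderOf_injective (MulAut.conj c).toMonoidHom (MulEquiv.injective _) x).trans hxr))
    hH
  have hi' : m * (c * x * c⁻¹) * m⁻¹ = x ^ i := congrArg Subtype.val hi
  obtain ⟨j, hj⟩ := mem_zpowers_iff.1 (show X.res m ∈ zpowers (X.res x) from hm)
  refine ⟨x ^ (-j) * m, ?_, ?_⟩
  · rw [map_mul, map_zpow, ← hj, ← zpow_add, neg_add_cancel, zpow_zero]
  · have hik : X.res x ^ i = X.res x ^ k := by
      rw [← map_pow, ← hi', map_mul, map_mul, hk, ← map_pow, map_inv, ← hj, map_pow, ← zpow_natCast]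
      group
    have hxi : x ^ i = x ^ k := by
      have ho : orderOf (X.res x) = r := orderOf_eq_prime (by rw [← map_pow, ← hxr, pow_orderOf_eq_one, map_one]) hne
      rw [pow_eq_pow_iff_modEq, ho] at hik
      rw [pow_eq_pow_iff_modEq, hxr]
      exact hik
    rw [show x ^ (-j) * m * c * x * (x ^ (-j) * m * c)⁻¹ = x ^ (-j) * (m * (c * x * c⁻¹) * m⁻¹) * x ^ j by group,
      hi', hxi]
    group

theorem card_centralizer_NC {x : X.NC} {r : ℕ} [hp : Fact r.Prime] (hx : orderOf (x : G) = r) (h2 : r ≠ 2)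
    (hNC : ¬ r * r ∣ Nat.card X.NC) (hne : X.res x ≠ 1) :
    Nat.card ((centralizer ({(x : G)} : Set G)).subgroupOf X.NC) =
      Nat.card (X.KX (x : G)) * Nat.card (centralizer ({X.res x} : Set (GL (Fin 4) (ZMod 2)))) := by
  set K := (centralizer ({(x : G)} : Set G)).subgroupOf X.NC with hK
  have h1 : K.map X.res = centralizer ({X.res x} : Set (GL (Fin 4) (ZMod 2))) := by
    ext g
    rw [mem_centralizer_singleton_iff, mem_map]
    constructor
    · rintro ⟨c, hc, rfl⟩
      rw [← map_mul, ← map_mul]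
      exact congrArg X.res (Subtype.ext (mem_centralizer_singleton_iff.1 hc))
    · intro hg
      obtain ⟨c, rfl⟩ := X.res_surj g
      obtain ⟨m, hm, e⟩ := X.conj_res hx h2 hNC (c := c) (k := 1) (by
        rw [pow_one, map_mul, map_mul, map_inv, hg, mul_inv_cancel_right]) hne
      rw [pow_one] at e
      exact ⟨m * c, mem_centralizer_singleton_iff.2 (congrArg Subtype.val (mul_inv_eq_iff_eq_mul.1 e)),
        by rw [map_mul, hm, one_mul]⟩
  let f : K →* GL (Fin 4) (ZMod 2) := X.res.comp K.subtype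
  have hk : Nat.card f.ker = Nat.card (X.KX (x : G)) := Nat.card_congr
    { toFun := fun u => ⟨u.1.1, u.2, u.1.2⟩
      invFun := fun u => ⟨⟨u.1, u.2.2⟩, u.2.1⟩
      left_inv := fun _ => rfl
      right_inv := fun _ => rfl }
  have h := card_mul_index f.ker
  rw [index_ker, hk, show f.range = K.map X.res by rw [MonoidHom.range_comp, range_subtype], h1] at h
  exact h.symm

theorem card_normalizer_NC {x : X.NC} {r : ℕ} [hp : Fact r.Prime] (hx : orderOf (x : G) = r) (h2 : r ≠ 2)
    (hNC : ¬ r * r ∣ Nat.card X.NC) (hne : X.res x ≠ 1) :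
    Nat.card ((normalizer (zpowers (x : G) : Set G)).subgroupOf X.NC) =
      Nat.card (X.KX (x : G)) *
        Nat.card (normalizer (zpowers (X.res x) : Set (GL (Fin 4) (ZMod 2)))) := by
  set K := (normalizer (zpowers (x : G) : Set G)).subgroupOf X.NC with hK
  have hxr : orderOf x = r := by rw [← Subgroup.orderOf_coe]; exact hx
  have ho : orderOf (X.res x) = r := orderOf_eq_prime (by rw [← map_pow, ← hxr, pow_orderOf_eq_one, map_one]) hne
  have h1 : K.map X.res = normalizer (zpowers (X.res x) : Set (GL (Fin 4) (ZMod 2))) := by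
    ext g
    rw [mem_map]
    constructor
    · rintro ⟨c, hc, rfl⟩
      obtain ⟨k, hk⟩ := exists_power hx (mem_subgroupOf.1 hc)
      refine mem_normalizer_of_power (k := k.val) ?_
      rw [← map_inv, ← map_mul, ← map_mul, ← map_pow]
      congr 1
      exact Subtype.ext (by simpa using hk)
    · intro hg
      obtain ⟨c, rfl⟩ := X.res_surj g
      obtain ⟨k, hk⟩ := exists_power ho hg
      obtain ⟨m, hm, e⟩ := X.conj_res hx h2 hNC (c := c) (k := k.val) (by
        rw [map_mul, map_mul, map_inv, hk, map_pow]) hne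
      refine ⟨m * c, mem_subgroupOf.2 (mem_normalizer_of_power (k := k.val) ?_), by rw [map_mul, hm, one_mul]⟩
      simpa using congrArg Subtype.val e
  let f : K →* GL (Fin 4) (ZMod 2) := X.res.comp K.subtype
  have hk : Nat.card f.ker = Nat.card (X.KX (x : G)) := Nat.card_congr
    { toFun := fun u => ⟨u.1.1, u.2, by
        obtain ⟨k, hk⟩ := exists_power hx (mem_subgroupOf.1 u.1.2)
        have e : u.1.1 * x * u.1.1⁻¹ = x ^ k.val := Subtype.ext (by simpa using hk)
        have h3 := congrArg X.res e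
        rw [map_mul, map_mul, map_inv, show X.res u.1.1 = 1 from u.2, one_mul, inv_one, mul_one, map_pow] at h3
        have hk1 : (x : G) ^ k.val = x := by
          have h4 : X.res x ^ k.val = X.res x ^ 1 := by rw [pow_one]; exact h3.symm
          rw [pow_eq_pow_iff_modEq, ho] at h4
          have h5 : (x : G) ^ k.val = (x : G) ^ 1 := by rw [pow_eq_pow_iff_modEq, hx]; exact h4
          rwa [pow_one] at h5
        rw [hk1] at hk
        exact mem_subgroupOf.2 (mem_centralizer_singleton_iff.2 (mul_inv_eq_iff_eq_mul.1 hk))⟩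
      invFun := fun u => ⟨⟨u.1, mem_subgroupOf.2 (centralizer_le_normalizer _ (mem_centralizer_iff.2 fun w hw => by
        obtain ⟨i, rfl⟩ := mem_zpowers_iff.1 hw
        exact ((show Commute (u.1 : G) x from mem_centralizer_singleton_iff.1 u.2.2).zpow_right i).eq.symm))⟩, u.2.1⟩
      left_inv := fun _ => rfl
      right_inv := fun _ => rfl }
  have h := card_mul_index f.ker
  rw [index_ker, hk, show f.range = K.map X.res by rw [MonoidHom.range_comp, range_subtype], h1] at h
  exact h.symm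

/-- The vector of an element of the standard subspace. -/
theorem res_vec (c : X.NC) (a : Fin 4 → ZMod 2) :
    (ρ (c : G)).1 (wv a) = wv ((X.res c : Matrix (Fin 4) (Fin 4) (ZMod 2)) *ᵥ a) := by
  have h := (X.mem_NC.1 c.2).2
  funext k
  rcases k with i | i
  · conv_lhs => rw [basis_eq (wv a)]
    simp only [map_add, map_smul, wv, Sum.elim_inl, Sum.elim_inr, Pi.zero_apply, zero_smul, add_zero,
      Pi.add_apply, Pi.smul_apply, smul_eq_mul, Matrix.mulVec, dotProduct, Fin.sum_univ_four, res_apply]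
    ring
  · exact h _ (inW_wv a) i

theorem res_col (c : X.NC) (j : Fin 4) :
    (ρ (c : G)).1 (fe j) = wv (fun i => (X.res c : Matrix (Fin 4) (Fin 4) (ZMod 2)) i j) := by
  rw [← wv_bas, X.res_vec]
  congr 1
  funext i
  simp [Matrix.mulVec, dotProduct, bas, Fin.sum_univ_four]
  fin_cases j <;> simp

/-- Conjugation acts on the coordinates through the image. -/
theorem coord_wAct (c : X.NC) {u : G} (hu : u ∈ X.A) :
    coord (ρ ((c : G) * u * (c : G)⁻¹)) = wAct (X.res c : Matrix (Fin 4) (Fin 4) (ZMod 2)) (coord (ρ u)) := by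
  set h : Matrix (Fin 4) (Fin 4) (ZMod 2) := (X.res c : Matrix (Fin 4) (Fin 4) (ZMod 2)) with hh
  have hwa : ∀ p q, wAct h (p + q) = wAct h p + wAct h q := fun p q => by
    funext k; simp only [wAct, Pi.add_apply]; ring
  have hsix : ∀ k, coord (ρ ((c : G) * six X.T k * (c : G)⁻¹)) = wAct h (coord (ρ (six X.T k))) := fun k => by
    have he := X.el_conj c.2 (six_el X.T k)
    rw [X.res_col, X.res_col] at he
    rw [coord_of_el X.T.S he, coord_el]
    funext m
    fin_cases k <;> simp [wAct, pr, Pi.single_apply, hh]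
  let F : X.A →* Multiplicative (Fin 6 → ZMod 2) :=
    MonoidHom.mk' (fun a => Multiplicative.ofAdd (coord (ρ ((c : G) * a * (c : G)⁻¹)) + wAct h (coord (ρ (a : G)))))
      fun a b => by
        rw [← ofAdd_add, coe_mul, show (c : G) * (a * b) * (c : G)⁻¹ = ((c : G) * a * (c : G)⁻¹) *
          ((c : G) * b * (c : G)⁻¹) by group, X.cd_mul (X.conj_A c.2.1 a.2) (X.conj_A c.2.1 b.2),
          X.cd_mul a.2 b.2, hwa]
        congr 1
        abel
  have hker : ∀ a : X.A, F a = 1 := by
    intro a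
    let S : Subgroup G := X.U ⊔ closure (Set.range (six X.T))
    have hS : X.A ≤ S := by
      intro w hw
      obtain ⟨e, he⟩ := coord_surj X.T (Multiplicative.ofAdd (coord (ρ w)))
      have hK : ∀ k, six X.T k ∈ S := fun k => mem_sup_right (subset_closure ⟨k, rfl⟩)
      have hcs : ∀ v : Fin 6 → ZMod 2, ∃ b ∈ S ⊓ X.A, coord (ρ b) = v := by
        intro v
        have h1 : ∀ (k : Fin 6) (d : ZMod 2), ∃ b ∈ S ⊓ X.A, coord (ρ b) = Pi.single k d := fun k d => by
          rcases two_cases d with rfl | rfl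
          · exact ⟨1, one_mem _, by rw [Pi.single_zero, X.cd_U (one_mem _)]⟩
          · exact ⟨six X.T k, ⟨hK k, (six_el X.T k).1⟩, coord_el X.T k⟩
        choose b hb hb' using h1
        refine ⟨b 0 (v 0) * b 1 (v 1) * b 2 (v 2) * b 3 (v 3) * b 4 (v 4) * b 5 (v 5),
          mul_mem (mul_mem (mul_mem (mul_mem (mul_mem (hb _ _) (hb _ _)) (hb _ _)) (hb _ _)) (hb _ _)) (hb _ _), ?_⟩
        have hA := fun k d => (hb k d).2
        rw [X.cd_mul (mul_mem (mul_mem (mul_mem (mul_mem (hA _ _) (hA _ _)) (hA _ _)) (hA _ _)) (hA _ _)) (hA _ _),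
          X.cd_mul (mul_mem (mul_mem (mul_mem (hA _ _) (hA _ _)) (hA _ _)) (hA _ _)) (hA _ _),
          X.cd_mul (mul_mem (mul_mem (hA _ _) (hA _ _)) (hA _ _)) (hA _ _),
          X.cd_mul (mul_mem (hA _ _) (hA _ _)) (hA _ _), X.cd_mul (hA _ _) (hA _ _)]
        simp only [hb']
        funext j
        fin_cases j <;> simp [Pi.single_apply]
      obtain ⟨b, hb, hbv⟩ := hcs (coord (ρ w))
      have := mul_mem hb.1 (mem_sup_left ((X.cd_eq_iff hb.2 hw).1 hbv) : b⁻¹ * w ∈ S)
      rwa [mul_inv_cancel_left] at this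
    have hsub : S ≤ F.ker.map X.A.subtype := by
      refine sup_le (fun w hw => ⟨⟨w, X.u_le hw⟩, ?_, rfl⟩) ((closure_le _).2 ?_)
      · show Multiplicative.ofAdd (coord (ρ ((c : G) * w * (c : G)⁻¹)) + wAct h (coord (ρ w))) = 1
        rw [X.cd_U hw, X.cd_U (X.conj_U c.2 hw)]
        refine Multiplicative.toAdd.injective (funext fun k => ?_)
        simp [wAct]
      · rintro _ ⟨k, rfl⟩
        refine ⟨⟨_, (six_el X.T k).1⟩, ?_, rfl⟩
        show Multiplicative.ofAdd (coord (ρ ((c : G) * six X.T k * (c : G)⁻¹)) + wAct h (coord (ρ (six X.T k)))) = 1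
        rw [hsix]
        refine Multiplicative.toAdd.injective (funext fun k => ?_)
        simp [CharTwo.add_self_eq_zero]
    obtain ⟨b, hb, e⟩ := hsub (hS a.2)
    rw [← Subtype.ext (p := fun w => w ∈ X.A) e]
    exact hb
  have h0 := congrArg Multiplicative.toAdd (hker ⟨u, hu⟩)
  exact funext fun k => CharTwo.add_eq_zero.1 (congrFun h0 k)

end Ctx

end CfsgLib.CoType
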