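import Mathlib
import Cfsg.Agent.Lib.CoType.TwoRes

/-!
Elements of orders five and seven of the normalizer: their fixed points on the orbit of the involution, and the
orders of their centralizers and normalizers.
-/

set_option autoImplicit false
set_option linter.style.haveILetI false
set_option linter.unusedSectionVars false
set_option linter.unusedSimpArgs false

namespace CfsgLib.CoType

open Subgroup CfsgLib.Classical
open scoped Matrix MatrixGroups

variable {G : Type*} [Group G] [Finite G] {z : G} {Q : Subgroup G} {π : G → V8} {ρ : G → qAut qm}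

theorem pb_wv (a : Fin 4 → ZMod 2) (y : V8) : pb (wv a) y = ∑ i, a i * y (.inr i) := by
  rw [pb_bd]
  simp [bd, qd, wv, Fin.sum_univ_four]
  ring

/-- The checks on the element of order five: a commuting element moving all three fixed forms. -/
theorem fix5' : (Finset.univ.filter fun c : Fin 6 → ZMod 2 => wAct m5 c = c).card = 4 ∧
    ∃ a : Fin 4 → ZMod 2, c5 1 a * m5 = m5 * c5 1 a ∧ injB (c5 1 a) ∧
      ∀ c : Fin 6 → ZMod 2, c ≠ 0 → wAct m5 c = c → wAct (c5 1 a) c ≠ c := by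
  decide +kernel

namespace Ctx

variable (X : Ctx z Q π ρ)

include X

/-- The fixed points in the orbit. -/
def FX (x : G) : Set G := {u | X.Orb u ∧ x * u = u * x}

theorem z_FX {x : G} (hx : x ∈ X.NC) : z ∈ X.FX x := ⟨X.orb_z, mem_centralizer_singleton_iff.1 hx.2⟩

theorem card_subgroupOf (x : G) : Nat.card ((centralizer ({x} : Set G)).subgroupOf X.NC) =
    Nat.card ↥(X.CN x ⊓ X.NC) := Nat.card_congr
  { toFun := fun c => ⟨c.1.1, ⟨c.1.2.1, mem_subgroupOf.1 c.2⟩, c.1.2⟩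
    invFun := fun c => ⟨⟨c.1, c.2.2⟩, mem_subgroupOf.2 c.2.1.2⟩
    left_inv := fun _ => rfl
    right_inv := fun _ => rfl }

theorem card_subgroupOf' (x : G) : Nat.card ((normalizer (zpowers x : Set G)).subgroupOf X.NC) =
    Nat.card ↥(X.NN x ⊓ X.NC) := Nat.card_congr
  { toFun := fun c => ⟨c.1.1, ⟨c.1.2.1, mem_subgroupOf.1 c.2⟩, c.1.2⟩
    invFun := fun c => ⟨⟨c.1, c.2.2⟩, mem_subgroupOf.2 c.2.1.2⟩
    left_inv := fun _ => rfl
    right_inv := fun _ => rfl }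

/-- Counting a subgroup by an orbit. -/
theorem orbit_card {K : Subgroup G} (hK : K ≤ X.N) {F : Set G} (h1 : ∀ u ∈ F, ∃ k ∈ K, k * z * k⁻¹ = u)
    (h2 : ∀ k ∈ K, k * z * k⁻¹ ∈ F) : Nat.card K = Nat.card F * Nat.card ↥(K ⊓ X.NC) := by
  classical
  let f : K → F := fun k => ⟨(k : G) * z * (k : G)⁻¹, h2 k k.2⟩
  have hfib : ∀ y : F, Nat.card {k : K // f k = y} = Nat.card ↥(K ⊓ X.NC) := by
    rintro ⟨_, hy⟩
    obtain ⟨m, hm, rfl⟩ := h1 _ hy
    refine Nat.card_congr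
      { toFun := fun k => ⟨m⁻¹ * (k.1 : G), K.mul_mem (K.inv_mem hm) k.1.2,
          hK (K.mul_mem (K.inv_mem hm) k.1.2), mem_centralizer_singleton_iff.2 ?_⟩
        invFun := fun c => ⟨⟨m * c.1, mul_mem hm c.2.1⟩, Subtype.ext ?_⟩
        left_inv := fun k => Subtype.ext (Subtype.ext (mul_inv_cancel_left m (k.1 : G)))
        right_inv := fun c => Subtype.ext (inv_mul_cancel_left m (c.1 : G)) }
    · have h : (k.1 : G) * z * (k.1 : G)⁻¹ = m * z * m⁻¹ := congrArg Subtype.val k.2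
      calc m⁻¹ * (k.1 : G) * z = m⁻¹ * ((k.1 : G) * z * (k.1 : G)⁻¹) * (k.1 : G) := by group
        _ = z * (m⁻¹ * (k.1 : G)) := by rw [h]; group
    · show m * c.1 * z * (m * c.1)⁻¹ = m * z * m⁻¹
      rw [show m * c.1 * z * (m * c.1)⁻¹ = m * (c.1 * z * (c.1)⁻¹) * m⁻¹ by group,
        mem_centralizer_singleton_iff.1 c.2.2.2, mul_inv_cancel_right]
  haveI := Fintype.ofFinite F
  have h := Nat.card_congr (Equiv.sigmaFiberEquiv f)
  rw [Nat.card_sigma, Finset.sum_congr rfl (fun y _ => hfib y), Finset.sum_const, Finset.card_univ,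
    ← Nat.card_eq_fintype_card, smul_eq_mul] at h
  exact h.symm

theorem conj_FX {x k u : G} (hk : k ∈ X.NN x) (hu : u ∈ X.FX x) : k * u * k⁻¹ ∈ X.FX x := by
  refine ⟨(X.orb_conj hk.1).2 hu.1, ?_⟩
  obtain ⟨i, hi⟩ := mem_zpowers_iff.1 ((mem_normalizer_iff.1 (inv_mem hk.2) x).1 (mem_zpowers x))
  rw [inv_inv] at hi
  have h := (show Commute x u from hu.2).zpow_left i
  rw [hi] at h
  calc x * (k * u * k⁻¹) = k * ((k⁻¹ * x * k) * u) * k⁻¹ := by group
    _ = k * (u * (k⁻¹ * x * k)) * k⁻¹ := by rw [h.eq]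
    _ = k * u * k⁻¹ * x := by group

theorem cn_le_nn (x : G) : X.CN x ≤ X.NN x := fun c hc =>
  ⟨hc.1, centralizer_le_normalizer _ (mem_centralizer_iff.2 fun w hw => by
    obtain ⟨i, rfl⟩ := mem_zpowers_iff.1 hw
    exact ((show Commute c x from mem_centralizer_singleton_iff.1 hc.2).zpow_right i).eq.symm)⟩

theorem nn_trans {x : G} (hx : x ∈ X.NC) {r : ℕ} [hp : Fact r.Prime] (hr : orderOf x = r)
    (hNC : ¬ r * r ∣ Nat.card X.NC) : ∀ u ∈ X.FX x, ∃ m ∈ X.NN x, m * z * m⁻¹ = u := by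
  rintro _ ⟨⟨n, hn, rfl⟩, hc⟩
  have hy : n⁻¹ * x * n ∈ X.NC := by
    refine ⟨X.N.mul_mem (X.N.mul_mem (X.N.inv_mem hn) hx.1) hn, mem_centralizer_singleton_iff.2 ?_⟩
    calc n⁻¹ * x * n * z = n⁻¹ * (x * (n * z * n⁻¹)) * n := by group
      _ = z * (n⁻¹ * x * n) := by rw [hc]; group
  have hyr : orderOf (n⁻¹ * x * n) = r := by
    have h := orderOf_injective (MulAut.conj n⁻¹).toMonoidHom (MulEquiv.injective _) x
    simpa [hr] using h
  obtain ⟨⟨h, hh⟩, i, hi⟩ := conj_in_extension (⟨x, hx⟩ : X.NC) ⟨_, hy⟩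
    ((Subgroup.orderOf_coe _).symm.trans hr) ((Subgroup.orderOf_coe _).symm.trans hyr) hNC
  have hi' : h * (n⁻¹ * x * n) * h⁻¹ = x ^ i := congrArg Subtype.val hi
  refine ⟨n * h⁻¹, ⟨X.N.mul_mem hn (X.N.inv_mem hh.1), ?_⟩, ?_⟩
  · have h1 : (n * h⁻¹)⁻¹ * x * ((n * h⁻¹)⁻¹)⁻¹ = x ^ i := by rw [← hi']; group
    simpa using inv_mem (mem_normalizer_of_power h1)
  · calc n * h⁻¹ * z * (n * h⁻¹)⁻¹ = n * (h⁻¹ * (z * h)) * n⁻¹ := by group
      _ = n * z * n⁻¹ := by rw [← mem_centralizer_singleton_iff.1 hh.2, inv_mul_cancel_left]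

/-- An element moving a fixed point gives one moving the involution. -/
theorem exists_move {x : G} (hx : x ∈ X.NC) {r : ℕ} [hp : Fact r.Prime] (hr : orderOf x = r)
    (hNC : ¬ r * r ∣ Nat.card X.NC) {k u : G} (hk : k ∈ X.CN x) (hu : u ∈ X.FX x) (hku : k * u * k⁻¹ ≠ u) :
    ∃ g ∈ X.CN x, g * z * g⁻¹ ≠ z := by
  obtain ⟨m, hm, rfl⟩ := X.nn_trans hx hr hNC u hu
  refine ⟨m⁻¹ * k * m, ⟨X.N.mul_mem (X.N.mul_mem (X.N.inv_mem hm.1) hk.1) hm.1, mem_centralizer_singleton_iff.2 ?_⟩, fun h => hku ?_⟩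
  · obtain ⟨i, hi⟩ := mem_zpowers_iff.1 ((mem_normalizer_iff.1 hm.2 x).1 (mem_zpowers x))
    have h := (show Commute k x from mem_centralizer_singleton_iff.1 hk.2).zpow_right i
    rw [hi] at h
    calc m⁻¹ * k * m * x = m⁻¹ * (k * (m * x * m⁻¹)) * m := by group
      _ = x * (m⁻¹ * k * m) := by rw [h.eq]; group
  · calc k * (m * z * m⁻¹) * k⁻¹ = m * (m⁻¹ * k * m * z * (m⁻¹ * k * m)⁻¹) * m⁻¹ := by group
      _ = m * z * m⁻¹ := by rw [h]

/-- The coordinates outside, moved. -/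
theorem inr_move (x : X.NC) (y : V8) :
    (fun i => (ρ (x : G)).1 y (.inr i)) ᵥ* (X.res x : Matrix (Fin 4) (Fin 4) (ZMod 2)) = fun j => y (.inr j) := by
  funext j
  have h := pb_map (ρ (x : G)) (fe j) y
  rw [X.res_col, pb_wv, pb_bd (fe j) y, bd_fe] at h
  rw [← h]
  simp only [Matrix.vecMul, dotProduct]
  exact Finset.sum_congr rfl fun i _ => mul_comm _ _

/-- An element over one commuting with `x`. -/
theorem kx_vec {x c : X.NC} (hc : c ∈ X.KX (x : G)) : ∃ a ∈ X.A, ∃ q ∈ Q, (c : G) = a * q ∧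
    (fun i => π q (.inr i)) ᵥ* (X.res x : Matrix (Fin 4) (Fin 4) (ZMod 2)) = fun i => π q (.inr i) := by
  obtain ⟨a, ha, q, hq, e⟩ := X.res_ker.1 hc.1
  have hcx : (c : G) * x = x * c := mem_centralizer_singleton_iff.1 hc.2
  have hq' := X.T.S.conj_mem x.2.2 hq
  have h1 : (x : G) * q * (x : G)⁻¹ * q⁻¹ = ((x : G) * a * (x : G)⁻¹)⁻¹ * a := by
    rw [eq_inv_mul_iff_mul_eq]
    calc (x : G) * a * (x : G)⁻¹ * ((x : G) * q * (x : G)⁻¹ * q⁻¹) = x * (a * q) * (x : G)⁻¹ * q⁻¹ := by group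
      _ = a := by rw [← e, ← hcx, e]; group
  have hU : InW ((ρ (x : G)).1 (π q) + π q) := by
    have h2 : π ((x : G) * q * (x : G)⁻¹ * q⁻¹) = (ρ (x : G)).1 (π q) + π q := by
      rw [X.T.S.pi_mul _ hq' _ (inv_mem hq), X.T.S.rho_pi _ x.2.2 q hq, X.T.S.pi_inv hq]
    rw [← h2]
    exact (baseA_inf X.T.S (mul_mem hq' (inv_mem hq))).1 (h1.symm ▸ mul_mem (inv_mem (X.conj_A x.2.1 ha)) ha)
  refine ⟨a, ha, q, hq, e, ?_⟩
  have h3 : (fun i => (ρ (x : G)).1 (π q) (.inr i)) = fun i => π q (.inr i) :=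
    funext fun i => CharTwo.add_eq_zero.1 (hU i)
  conv_rhs => rw [← X.inr_move x (π q)]
  rw [h3]

/-- No more than the fixed part for the element of order five. -/
theorem card_KX5 {x : X.NC} (hx : X.res x = u5) : Nat.card (X.KX (x : G)) = Nat.card (X.CA (x : G)) := by
  have hA : ∀ c ∈ X.KX (x : G), (c : G) ∈ X.A := by
    intro c hc
    obtain ⟨a, ha, q, hq, e, hv⟩ := X.kx_vec hc
    rw [hx] at hv
    have h0 := fix5.2.1 _ hv
    rw [e]
    exact mul_mem ha (X.u_le ⟨hq, fun i => congrFun h0 i⟩)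
  exact Nat.card_congr
    { toFun := fun c => ⟨(c.1 : G), hA c.1 c.2, c.2.2⟩
      invFun := fun a => ⟨⟨a.1, X.a_le_N a.2.1, X.a_le a.2.1⟩,
        X.res_ker.2 ⟨a.1, a.2.1, 1, one_mem _, (mul_one _).symm⟩, a.2.2⟩
      left_inv := fun _ => rfl
      right_inv := fun _ => rfl }

/-- The further element for the element of order seven. -/
theorem exists_c0 {x : X.NC} (hr : orderOf (x : G) = 7) (hx : X.res x = u7) :
    ∃ b ∈ X.A, ∃ q ∈ Q, π q = ff 3 ∧ ∃ c : X.NC, (c : G) = b * q ∧ c ∈ X.KX (x : G) := by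
  obtain ⟨q, hq, hπ⟩ := X.T.S.pi_surj (ff 3)
  have hv := X.inr_move x (ff 3)
  rw [hx, show (fun j : Fin 4 => ff 3 (.inr j)) = bas 3 by funext j; simp [ff, bas, Pi.single_apply]] at hv
  have hv' : (fun i => (ρ (x : G)).1 (ff 3) (.inr i)) = bas 3 :=
    Matrix.vecMul_injective_iff_isUnit.2 u7.isUnit (hv.trans fix7.2.2.1.symm)
  have hU : InW (π q + (ρ (x : G)).1 (π q)) := fun i => by
    rw [hπ, Pi.add_apply, show (ρ (x : G)).1 (ff 3) (.inr i) = bas 3 i from congrFun hv' i,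
      show ff 3 (.inr i) = bas 3 i by simp [ff, bas, Pi.single_apply], CharTwo.add_self_eq_zero]
  have hq' := X.T.S.conj_mem x.2.2 hq
  have hA : q * (x : G) * q⁻¹ * ((x : G) ^ 1)⁻¹ ∈ X.A := by
    rw [pow_one, show q * (x : G) * q⁻¹ * (x : G)⁻¹ = q * ((x : G) * q * (x : G)⁻¹)⁻¹ by group]
    refine (baseA_inf X.T.S (mul_mem hq (inv_mem hq'))).2 ?_
    rwa [X.T.S.pi_mul _ hq _ (inv_mem hq'), X.T.S.pi_inv hq', X.T.S.rho_pi _ x.2.2 q hq]
  obtain ⟨b, hb, e⟩ := X.correct x.2.1 (X.q_le hq).1 ⟨3, rfl⟩ (r := 7) (by rw [← hr]; exact pow_orderOf_eq_one _) hA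
  rw [pow_one] at e
  refine ⟨b, hb, q, hq, hπ, ⟨b * q, mul_mem ⟨X.a_le_N hb, X.a_le hb⟩ (X.q_le hq)⟩, rfl,
    X.res_ker.2 ⟨b, hb, q, hq, rfl⟩, mem_centralizer_singleton_iff.2 (mul_inv_eq_iff_eq_mul.1 e)⟩

theorem card_KX7 {x : X.NC} (hr : orderOf (x : G) = 7) (hx : X.res x = u7) :
    Nat.card (X.KX (x : G)) = 2 * Nat.card (X.CA (x : G)) := by
  obtain ⟨b, hb, q₀, hq₀, hπ, c₀, hc₀, hc₀K⟩ := X.exists_c0 hr hx
  let f : X.KX (x : G) →* G := X.NC.subtype.comp (X.KX (x : G)).subtype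
  let H : Subgroup (X.KX (x : G)) := X.A.comap f
  have hno : (c₀ : G) ∉ X.A := fun h => by
    rw [hc₀] at h
    have h1 := (baseA_inf X.T.S hq₀).1 ((mul_mem_cancel_left hb).1 h)
    have := h1 3
    rw [hπ] at this
    simp [ff] at this
  have hi : H.index = 2 := by
    refine index_eq_two_iff.2 ⟨⟨c₀, hc₀K⟩⁻¹, fun c => ?_⟩
    show Xor ((c.1 : G) * (c₀ : G)⁻¹ ∈ X.A) ((c.1 : G) ∈ X.A)
    by_cases h : (c.1 : G) ∈ X.A
    · exact .inr ⟨h, fun h' => hno (inv_mem_iff.1 ((mul_mem_cancel_left h).1 h'))⟩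
    · refine .inl ⟨?_, h⟩
      obtain ⟨a, ha, q, hq, e, hv⟩ := X.kx_vec c.2
      rw [hx] at hv
      rcases fix7.2.2.2.1 _ hv with h0 | h0
      · exact absurd (e.symm ▸ mul_mem ha (X.u_le ⟨hq, fun i => congrFun h0 i⟩)) h
      · have hU : q * q₀⁻¹ ∈ X.A := by
          refine (baseA_inf X.T.S (mul_mem hq (inv_mem hq₀))).2 fun i => ?_
          rw [X.T.S.pi_mul _ hq _ (inv_mem hq₀), X.T.S.pi_inv hq₀, hπ, Pi.add_apply,
            show π q (.inr i) = bas 3 i from congrFun h0 i,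
            show ff 3 (.inr i) = bas 3 i by simp [ff, bas, Pi.single_apply], CharTwo.add_self_eq_zero]
        rw [e, hc₀, show a * q * (b * q₀)⁻¹ = a * (q * q₀⁻¹) * b⁻¹ by group]
        exact mul_mem (mul_mem ha hU) (inv_mem hb)
  have hH : Nat.card H = Nat.card (X.CA (x : G)) := Nat.card_congr
    { toFun := fun c => ⟨(c.1.1 : G), c.2, c.1.2.2⟩
      invFun := fun a => ⟨⟨⟨a.1, X.a_le_N a.2.1, X.a_le a.2.1⟩,
        X.res_ker.2 ⟨a.1, a.2.1, 1, one_mem _, (mul_one _).symm⟩, a.2.2⟩, a.2.1⟩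
      left_inv := fun _ => rfl
      right_inv := fun _ => rfl }
  have h := card_mul_index H
  rw [hi, hH] at h
  omega

/-- The numbers over every form of rank four. -/
theorem of_four {c : Fin 6 → ZMod 2} (hc : pf c = 1) : Nat.card (X.OF c) = 16 := by
  obtain ⟨u₁, b, hb, h8, -, -⟩ := X.line_facts
  obtain ⟨u₀, hA, hcd, -, -⟩ := X.four_facts
  classical
  have hval : ∀ c, Nat.card (X.OF c) = if c = 0 then 31 else if pf c = 0 then 8 else Nat.card (X.OF (coord (ρ u₀))) := by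
    intro c
    split_ifs with h0 hp
    · rw [h0]; exact X.of_zero
    · obtain ⟨m, hm, e⟩ := X.line_move h0 hp hb
      rw [← e, X.fibre_move hm hb.1, h8]
    · obtain ⟨m, hm, e⟩ := X.four_move ((two_cases (pf c)).resolve_left hp)
      rw [← e u₀ hA hcd, X.fibre_move hm hA]
  have h := Nat.card_congr (α := (c : Fin 6 → ZMod 2) × X.OF c) (β := X.O)
    { toFun := fun s => ⟨s.2.1, s.2.2.2.2⟩
      invFun := fun u => ⟨coord (ρ (u : G)), ⟨u.1, (X.orb_A u.2).1, rfl, u.2⟩⟩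
      left_inv := fun ⟨c, ⟨u, hu, hc, ho⟩⟩ => by subst hc; rfl
      right_inv := fun _ => rfl }
  rw [X.card_O, Nat.card_sigma, Finset.sum_congr rfl fun c _ => hval c] at h
  rw [Finset.sum_ite, Finset.sum_const, Finset.sum_ite, Finset.sum_const, Finset.sum_const, Finset.filter_filter,
    Finset.filter_filter, smul_eq_mul, smul_eq_mul, smul_eq_mul,
    show (Finset.univ.filter fun c : Fin 6 → ZMod 2 => c = 0).card = 1 by decide,
    show (Finset.univ.filter fun c : Fin 6 → ZMod 2 => ¬c = 0 ∧ pf c = 0).card = 35 from counts_forms.1,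
    show (Finset.univ.filter fun c : Fin 6 → ZMod 2 => ¬c = 0 ∧ ¬pf c = 0).card = 28 by decide +kernel] at h
  rw [hval c, if_neg (fun e => by rw [e] at hc; revert hc; decide), if_neg (by rw [hc]; decide)]
  omega

theorem fixed_U {x : X.NC} {k : G} (hk : k ∈ X.U) (hc : (x : G) * k = k * x) :
    π k = wv (fun i => π k (.inl i)) ∧
      (X.res x : Matrix (Fin 4) (Fin 4) (ZMod 2)) *ᵥ (fun i => π k (.inl i)) = fun i => π k (.inl i) := by
  have h0 := (wv_of_inW hk.2).symm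
  refine ⟨h0, ?_⟩
  have h := X.T.S.rho_pi _ x.2.2 k hk.1
  rw [hc, mul_inv_cancel_right] at h
  rw [h0, X.res_vec] at h
  exact funext fun i => (congrFun h (.inl i)).symm

theorem fixed_coord {x : X.NC} {u : G} (hu : u ∈ X.A) (hc : (x : G) * u = u * x) :
    wAct (X.res x : Matrix (Fin 4) (Fin 4) (ZMod 2)) (coord (ρ u)) = coord (ρ u) := by
  rw [← X.coord_wAct x hu, hc, mul_inv_cancel_right]

/-- One fixed point over each fixed form. -/
theorem five_fibre {x : X.NC} (hr : orderOf (x : G) = 5) (hx : X.res x = u5) (c : Fin 6 → ZMod 2) :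
    Nat.card {u : X.FX (x : G) // coord (ρ (u : G)) = c} = if wAct m5 c = c then 1 else 0 := by
  split_ifs with h
  swap
  · refine Nat.card_eq_zero.2 (.inl ⟨fun u => h ?_⟩)
    have h1 := X.fixed_coord (X.orb_A u.1.2.1).1 u.1.2.2
    rw [hx, u.2] at h1
    exact h1
  haveI : Fact (Nat.Prime 5) := ⟨by norm_num⟩
  have hone : ∀ k ∈ X.U, (x : G) * k = k * x → k = 1 ∨ k = z := fun k hk hc => by
    obtain ⟨e, hm⟩ := X.fixed_U hk hc
    rw [hx] at hm
    refine (X.T.S.pi_ker k hk.1).1 ?_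
    rw [e, fix5.1 _ hm]
    funext i
    rcases i with i | i <;> rfl
  rcases eq_or_ne c 0 with rfl | hc0
  · haveI : Unique {u : X.FX (x : G) // coord (ρ (u : G)) = 0} :=
      { default := ⟨⟨z, X.z_FX x.2⟩, X.cd_U X.zU⟩
        uniq := fun u => by
          refine Subtype.ext (Subtype.ext ?_)
          have h1 := (X.cd_eq_iff (one_mem _) (X.orb_A u.1.2.1).1).1 (by rw [u.2, X.cd_U (one_mem _)])
          rw [inv_one, one_mul] at h1
          exact (hone _ h1 u.1.2.2).resolve_left (X.orb_A u.1.2.1).2 }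
    exact Nat.card_unique
  have hpf : pf c = 1 := (fix5.2.2.1 c h).resolve_left hc0
  let K := zpowers (x : G)
  have hK : ∀ k : K, (k : G) ∈ X.NC := fun k => zpowers_le.2 x.2 k.2
  have hres : ∀ k : K, ∀ u ∈ X.A, coord (ρ u) = c → coord (ρ ((k : G) * u * (k : G)⁻¹)) = c := by
    intro k
    have hcl : ∀ i : ℕ, ∀ u ∈ X.A, coord (ρ u) = c →
        coord (ρ ((x : G) ^ i * u * ((x : G) ^ i)⁻¹)) = c := by
      intro i
      induction i with
      | zero => intro u _ e; simpa using e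
      | succ i ih =>
        intro u hu e
        rw [show (x : G) ^ (i + 1) * u * ((x : G) ^ (i + 1))⁻¹ =
          x * ((x : G) ^ i * u * ((x : G) ^ i)⁻¹) * (x : G)⁻¹ by rw [pow_succ']; group,
          X.coord_wAct x (X.conj_A (pow_mem x.2.1 i) hu), ih u hu e, hx]
        exact h
    obtain ⟨i, hi⟩ := mem_powers_iff_mem_zpowers.2 k.2
    rw [← hi]
    exact hcl i
  letI : MulAction K (X.OF c) :=
    { smul := fun k u => ⟨(k : G) * u * (k : G)⁻¹, X.conj_A (hK k).1 u.2.1, hres k u u.2.1 u.2.2.1,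
        (X.orb_conj (hK k).1).2 u.2.2.2⟩
      one_smul := fun u => Subtype.ext (by show ((1 : K) : G) * u * ((1 : K) : G)⁻¹ = u; simp)
      mul_smul := fun k l u => Subtype.ext (by
        show ((k * l : K) : G) * u * ((k * l : K) : G)⁻¹ = (k : G) * ((l : G) * u * (l : G)⁻¹) * (k : G)⁻¹
        rw [coe_mul]; group) }
  have hp : IsPGroup 5 K := IsPGroup.of_card (n := 1) (by rw [Nat.card_zpowers, hr, pow_one])
  have hm := hp.card_modEq_card_fixedPoints (X.OF c)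
  have e : Nat.card (MulAction.fixedPoints K (X.OF c)) = Nat.card {u : X.FX (x : G) // coord (ρ (u : G)) = c} :=
    Nat.card_congr
      { toFun := fun u => ⟨⟨u.1.1, u.1.2.2.2,
          mul_inv_eq_iff_eq_mul.1 (congrArg Subtype.val (u.2 ⟨x, mem_zpowers _⟩))⟩, u.1.2.2.1⟩
        invFun := fun u => ⟨⟨u.1.1, (X.orb_A u.1.2.1).1, u.2, u.1.2.1⟩, fun k => Subtype.ext (by
          obtain ⟨i, hi⟩ := mem_zpowers_iff.1 k.2
          show (k : G) * u.1.1 * (k : G)⁻¹ = u.1.1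
          rw [← hi, ((show Commute (x : G) u.1.1 from u.1.2.2).zpow_left i).eq, mul_inv_cancel_right])⟩
        left_inv := fun _ => rfl
        right_inv := fun _ => rfl }
  rw [e, X.of_four hpf] at hm
  have hle : Nat.card {u : X.FX (x : G) // coord (ρ (u : G)) = c} ≤ 2 := by
    rcases isEmpty_or_nonempty {u : X.FX (x : G) // coord (ρ (u : G)) = c} with he | ⟨⟨v⟩⟩
    · rw [Nat.card_of_isEmpty]; omega
    classical
    refine le_of_le_of_eq (Nat.card_le_card_of_injective (fun u => decide (u = v)) fun u w huw => ?_)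
      (Nat.card_eq_fintype_card.trans Fintype.card_bool)
    have huw' : (u = v ↔ w = v) := decide_eq_decide.1 huw
    by_cases hu : u = v
    · rw [hu, huw'.1 hu]
    have hw : ¬ w = v := fun hh => hu (huw'.2 hh)
    have key : ∀ y : {u : X.FX (x : G) // coord (ρ (u : G)) = c}, ¬ y = v → ((v.1 : G)⁻¹ * y.1) = z := fun y hy => by
      refine (hone _ ((X.cd_eq_iff (X.orb_A v.1.2.1).1 (X.orb_A y.1.2.1).1).1 (v.2.trans y.2.symm))
        ((show Commute (x : G) v.1 from v.1.2.2).inv_right.mul_right y.1.2.2).eq).resolve_left fun h1 =>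
          hy (Subtype.ext (Subtype.ext (inv_mul_eq_one.1 h1).symm))
    exact Subtype.ext (Subtype.ext (mul_left_cancel ((key u hu).trans (key w hw).symm)))
  unfold Nat.ModEq at hm
  omega

theorem five_FX {x : X.NC} (hr : orderOf (x : G) = 5) (hx : X.res x = u5) : Nat.card (X.FX (x : G)) = 4 := by
  classical
  rw [← Nat.card_congr (Equiv.sigmaFiberEquiv fun u : X.FX (x : G) => coord (ρ (u : G))), Nat.card_sigma,
    Finset.sum_congr rfl fun c _ => X.five_fibre hr hx c, ← Finset.sum_filter, Finset.sum_const, smul_eq_mul,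
    fix5'.1]

theorem five_cn_trans {x : X.NC} (hr : orderOf (x : G) = 5) (hx : X.res x = u5) :
    (∀ u ∈ X.FX (x : G), ∃ g ∈ X.CN (x : G), g * z * g⁻¹ = u) ∧
      ∃ h ∈ X.CN (x : G) ⊓ X.NC, ∃ u ∈ X.FX (x : G), h * u * h⁻¹ ≠ u := by
  classical
  haveI : Fact (Nat.Prime 5) := ⟨by norm_num⟩
  obtain ⟨hc4, a, ha, hinj, hmove⟩ := fix5'
  obtain ⟨c, hc⟩ := X.res_surj (unitOf hinj)
  obtain ⟨m, hm, e⟩ := X.conj_res (c := c) (k := 1) (x := x) hr (by norm_num) X.card_NC_factor.1 (by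
    rw [pow_one, map_mul, map_mul, map_inv, hc, hx, val_eq_iff]
    exact ha) (by rw [hx]; intro h; have := order_u5; rw [h, orderOf_one] at this; norm_num at this)
  rw [pow_one] at e
  set h := m * c with hh
  have hhC : (h : G) ∈ X.CN (x : G) :=
    ⟨h.2.1, mem_centralizer_singleton_iff.2 (congrArg Subtype.val (mul_inv_eq_iff_eq_mul.1 e))⟩
  have hres : X.res h = unitOf hinj := by rw [hh, map_mul, hm, one_mul, hc]
  have hconj : ∀ u ∈ X.FX (x : G), (h : G) * u * (h : G)⁻¹ ∈ X.FX (x : G) := fun u hu =>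
    X.conj_FX (X.cn_le_nn _ hhC) hu
  have hfix : ∀ u ∈ X.FX (x : G), (h : G) * u * (h : G)⁻¹ = u → u = z := by
    intro u hu hfu
    have h1 := X.coord_wAct h (X.orb_A hu.1).1
    rw [hfu, hres] at h1
    have hfc : wAct m5 (coord (ρ u)) = coord (ρ u) := by
      have h2 := X.fixed_coord (x := x) (X.orb_A hu.1).1 hu.2
      rw [hx] at h2
      exact h2
    by_cases h0 : coord (ρ u) = 0
    · have hc1 := X.five_fibre hr hx 0
      rw [if_pos (by rw [← h0]; exact hfc)] at hc1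
      obtain ⟨hs, -⟩ := Nat.card_eq_one_iff_unique.1 hc1
      exact congrArg (fun w : {u : X.FX (x : G) // coord (ρ (u : G)) = 0} => (w.1 : G))
        (hs.elim ⟨⟨u, hu⟩, h0⟩ ⟨⟨z, X.z_FX x.2⟩, X.cd_U X.zU⟩)
    · exact absurd h1.symm (hmove _ h0 hfc)
  have h4 := X.five_FX hr hx
  haveI := Fintype.ofFinite (X.FX (x : G))
  rw [Nat.card_eq_fintype_card] at h4
  obtain ⟨v₀, hv₀⟩ : ∃ v : X.FX (x : G), (v : G) ≠ z := by
    by_contra hn
    push Not at hn
    have : Fintype.card (X.FX (x : G)) ≤ 1 := Fintype.card_le_one_iff.2 fun a b => Subtype.ext ((hn a).trans (hn b).symm)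
    omega
  have hmv : (h : G) * v₀ * (h : G)⁻¹ ≠ v₀ := fun e => hv₀ (hfix _ v₀.2 e)
  refine ⟨fun v hv => ?_, (h : G), ⟨hhC, h.2⟩, v₀, v₀.2, hmv⟩
  obtain ⟨g, hg, hgz⟩ := X.exists_move x.2 hr X.card_NC_factor.1 hhC v₀.2 hmv
  set w := g * z * g⁻¹ with hw
  have hwF : w ∈ X.FX (x : G) := X.conj_FX (X.cn_le_nn _ hg) (X.z_FX x.2)
  set w' := (h : G) * w * (h : G)⁻¹ with hw'
  have hw'F : w' ∈ X.FX (x : G) := hconj _ hwF
  have hzfix : (h : G) * z * (h : G)⁻¹ = z := by rw [mem_centralizer_singleton_iff.1 h.2.2, mul_inv_cancel_right]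
  have hinjc : ∀ {p q : G}, (h : G) * p * (h : G)⁻¹ = (h : G) * q * (h : G)⁻¹ → p = q := fun e =>
    mul_left_cancel (mul_right_cancel e)
  have h1 : w' ≠ w := fun e => hgz (hfix _ hwF e)
  have h2 : w' ≠ z := fun e => hgz (hinjc (e.trans hzfix.symm))
  by_cases e1 : v = z
  · exact ⟨1, one_mem _, by rw [e1]; group⟩
  by_cases e2 : v = w
  · exact ⟨g, hg, e2.symm⟩
  by_cases e3 : v = w'
  · exact ⟨(h : G) * g, mul_mem hhC hg, by rw [e3, hw', hw]; group⟩
  -- the fourth point is moved to the second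
  have hv'F := hconj v hv
  have hn1 : (h : G) * v * (h : G)⁻¹ ≠ z := fun e => e1 (hinjc (e.trans hzfix.symm))
  have hn2 : (h : G) * v * (h : G)⁻¹ ≠ w' := fun e => e2 (hinjc e)
  have hn3 : (h : G) * v * (h : G)⁻¹ ≠ v := fun e => e1 (hfix v hv e)
  by_cases hn4 : (h : G) * v * (h : G)⁻¹ = w
  · exact ⟨(h : G)⁻¹ * g, mul_mem (inv_mem hhC) hg, by
      calc (h : G)⁻¹ * g * z * ((h : G)⁻¹ * g)⁻¹ = (h : G)⁻¹ * w * h := by rw [hw]; group
        _ = v := by rw [← hn4]; group⟩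
  exfalso
  have hs : ({⟨z, X.z_FX x.2⟩, ⟨w, hwF⟩, ⟨w', hw'F⟩, ⟨v, hv⟩, ⟨_, hv'F⟩} : Finset (X.FX (x : G))).card = 5 := by
    simp [Finset.card_insert_of_notMem, Subtype.ext_iff, Ne.symm hgz, Ne.symm h2, Ne.symm h1, Ne.symm e1,
      Ne.symm e2, Ne.symm e3, Ne.symm hn1, Ne.symm hn2, Ne.symm hn3, Ne.symm hn4]
  have := Finset.card_le_univ ({⟨z, X.z_FX x.2⟩, ⟨w, hwF⟩, ⟨w', hw'F⟩, ⟨v, hv⟩, ⟨_, hv'F⟩} : Finset (X.FX (x : G)))
  omega

theorem seven_FX {x : X.NC} (hr : orderOf (x : G) = 7) (hx : X.res x = u7) :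
    Nat.card (X.FX (x : G)) = 3 ∧ (∀ u ∈ X.FX (x : G), ∃ g ∈ X.CN (x : G), g * z * g⁻¹ = u) ∧
      ∃ h ∈ X.CN (x : G) ⊓ X.NC, ∃ u ∈ X.FX (x : G), h * u * h⁻¹ ≠ u := by
  classical
  haveI : Fact (Nat.Prime 7) := ⟨by norm_num⟩
  obtain ⟨t, ht, hπ⟩ := X.T.S.pi_surj (fe 3)
  have htU : t ∈ X.U := ⟨ht, hπ ▸ inW_fe 3⟩
  have htz : t ≠ z := fun e => fe_ne 3 (by rw [← hπ, e, X.T.S.pi_z])
  have ht1 : t ≠ 1 := fun e => fe_ne 3 (by rw [← hπ, e, X.T.S.pi_one])
  have hxt : (x : G) * t = t * x := by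
    have hπ' : π ((x : G) * t * (x : G)⁻¹) = π t := by
      rw [X.T.S.rho_pi _ x.2.2 t ht, hπ, ← wv_bas, X.res_vec, hx]
      exact congrArg wv fix7.2.1
    rcases X.T.S.pi_eq (X.T.S.conj_mem x.2.2 ht) ht hπ' with e | e
    · exact mul_inv_eq_iff_eq_mul.1 e.symm
    · have hzx : (x : G) * z * (x : G)⁻¹ = z := by
        rw [mem_centralizer_singleton_iff.1 x.2.2, mul_inv_cancel_right]
      have e' : (x : G) * t * (x : G)⁻¹ = z * t := by
        conv_rhs => rw [e, ← mul_assoc, X.T.S.z2, one_mul]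
      have h2 : Commute ((x : G) ^ 2) t := by
        have h3 : (x : G) * ((x : G) * t * (x : G)⁻¹) * (x : G)⁻¹ = t := by
          conv_lhs => rw [e', show (x : G) * (z * t) * (x : G)⁻¹ = ((x : G) * z * (x : G)⁻¹) *
            ((x : G) * t * (x : G)⁻¹) by group, hzx, e', ← mul_assoc, X.T.S.z2, one_mul]
        show (x : G) ^ 2 * t = t * (x : G) ^ 2
        rw [_root_.sq]
        calc (x : G) * x * t = ((x : G) * ((x : G) * t * (x : G)⁻¹) * (x : G)⁻¹) * (x * x) := by group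
          _ = t * (x * x) := by rw [h3]
      have h8 : (x : G) ^ 8 = x := by
        rw [show (8 : ℕ) = 7 + 1 by rfl, pow_succ, ← hr, pow_orderOf_eq_one, one_mul]
      have := (h2.pow_left 4).eq
      rwa [← pow_mul, h8] at this
  have hqt : ∀ q ∈ Q, pb (π q) (fe 3) = 1 → q * t * q⁻¹ = z * t := fun q hq hp => by
    rw [X.T.S.comm hq ht, hπ, hp, zb_one]
    group
  obtain ⟨b, hb, q₀, hq₀, hπq, c₀, hc₀, hc₀K⟩ := X.exists_c0 hr hx
  have hswap : (c₀ : G) * t * (c₀ : G)⁻¹ = z * t := by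
    rw [hc₀, show b * q₀ * t * (b * q₀)⁻¹ = b * (q₀ * t * q₀⁻¹) * b⁻¹ by group,
      hqt q₀ hq₀ (by rw [hπq, pb_bd]; decide), X.a_comm hb (mul_mem X.zA (X.u_le htU)), mul_inv_cancel_right]
  have hzt : z * t ∈ X.U := mul_mem X.zU htU
  have hzt1 : z * t ≠ 1 := fun e => htz (by
    have h := congrArg (z * ·) e
    simpa [← mul_assoc, X.T.S.z2] using h)
  have hztx : (x : G) * (z * t) = z * t * x :=
    ((show Commute (x : G) z from mem_centralizer_singleton_iff.1 x.2.2).mul_right hxt).eq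
  have htF : t ∈ X.FX (x : G) := ⟨X.orb_U htU ht1, hxt⟩
  have hztF : z * t ∈ X.FX (x : G) := ⟨X.orb_U hzt hzt1, hztx⟩
  have hall : ∀ u ∈ X.FX (x : G), u = z ∨ u = t ∨ u = z * t := by
    intro u hu
    have huA := (X.orb_A hu.1).1
    have h1 := X.fixed_coord huA hu.2
    rw [hx] at h1
    have huU := (X.cd_eq_iff (one_mem _) huA).1 (by rw [fix7.2.2.2.2 _ h1, X.cd_U (one_mem _)])
    rw [inv_one, one_mul] at huU
    obtain ⟨e, hm⟩ := X.fixed_U huU hu.2
    rw [hx] at hm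
    rcases fix7.1 _ hm with h0 | h0 <;> rw [h0] at e
    · exact .inl (((X.T.S.pi_ker u huU.1).1 (e.trans (funext fun i => by rcases i with i | i <;> rfl))).resolve_left
        (X.orb_A hu.1).2)
    · rw [wv_bas, ← hπ] at e
      exact .inr ((X.T.S.pi_eq ht huU.1 e.symm).imp id id)
  have hztt : z * t ≠ t := fun e => X.T.S.z1 (mul_eq_right.1 e)
  have hztz : z * t ≠ z := fun e => ht1 (mul_eq_left.1 e)
  have h3 : Nat.card (X.FX (x : G)) = 3 := by
    have e : X.FX (x : G) = ({z, t, z * t} : Set G) := by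
      ext u
      constructor
      · exact hall u
      · rintro (rfl | rfl | rfl)
        exacts [X.z_FX x.2, htF, hztF]
    rw [e, Nat.card_coe_set_eq, Set.ncard_eq_three]
    exact ⟨z, t, z * t, Ne.symm htz, Ne.symm hztz, Ne.symm hztt, rfl⟩
  have hc₀C : (c₀ : G) ∈ X.CN (x : G) := ⟨c₀.2.1, hc₀K.2⟩
  have hmv : (c₀ : G) * t * (c₀ : G)⁻¹ ≠ t := by rw [hswap]; exact hztt
  refine ⟨h3, fun u hu => ?_, (c₀ : G), ⟨hc₀C, c₀.2⟩, t, htF, hmv⟩
  obtain ⟨g, hg, hgz⟩ := X.exists_move x.2 hr X.card_NC_factor.2 hc₀C htF hmv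
  have hw : g * z * g⁻¹ = t ∨ g * z * g⁻¹ = z * t :=
    (hall _ (X.conj_FX (X.cn_le_nn _ hg) (X.z_FX x.2))).resolve_left hgz
  have hback : (c₀ : G) * (z * t) * (c₀ : G)⁻¹ = t := by
    rw [show (c₀ : G) * (z * t) * (c₀ : G)⁻¹ = (c₀ * z * (c₀ : G)⁻¹) * (c₀ * t * (c₀ : G)⁻¹) by group, hswap,
      mem_centralizer_singleton_iff.1 c₀.2.2, mul_inv_cancel_right, ← mul_assoc, X.T.S.z2, one_mul]
  have key : ∀ {p q : G}, g * z * g⁻¹ = p → (c₀ : G) * p * (c₀ : G)⁻¹ = q →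
      ∃ g ∈ X.CN (x : G), g * z * g⁻¹ = q := fun hp hq =>
    ⟨_, mul_mem hc₀C hg, by rw [← hq, ← hp]; group⟩
  rcases hall u hu with rfl | rfl | rfl
  · exact ⟨1, one_mem _, by group⟩
  · rcases hw with e | e
    exacts [⟨g, hg, e⟩, key e hback]
  · rcases hw with e | e
    exacts [key e hswap, ⟨g, hg, e⟩]

/-- What is wanted of an element fixing the involution. -/
structure FixData (x : G) (r f p n : ℕ) : Prop where
  mem : x ∈ X.NC
  ord : orderOf x = r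
  cardF : Nat.card (X.FX x) = f
  trans : ∀ u ∈ X.FX x, ∃ g ∈ X.CN x, g * z * g⁻¹ = u
  mover : ∃ h ∈ X.CN x ⊓ X.NC, ∃ u ∈ X.FX x, h * u * h⁻¹ ≠ u
  cent : Nat.card ↥(X.CN x ⊓ X.NC) = r * p * Nat.card (X.CA x)
  norm : Nat.card ↥(X.NN x ⊓ X.NC) = n * Nat.card (X.CA x)

theorem five_data : ∃ x, X.FixData x 5 4 3 60 := by
  haveI : Fact (Nat.Prime 5) := ⟨by norm_num⟩
  obtain ⟨x, hr, hx⟩ := X.exists_over (r := 5) (by norm_num) (by rw [X.card_NC]; norm_num) order_u5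
    (by rw [X.card_GL4]; norm_num)
  have hne : X.res x ≠ 1 := fun h => by
    have := order_u5
    rw [← hx, h, orderOf_one] at this
    norm_num at this
  obtain ⟨h1, h2⟩ := X.five_cn_trans hr hx
  refine ⟨x, x.2, hr, X.five_FX hr hx, h1, h2, ?_, ?_⟩
  · rw [← X.card_subgroupOf, X.card_centralizer_NC hr (by norm_num) X.card_NC_factor.1 hne, X.card_KX5 hx, hx,
      gl_cent5, mul_comm]
  · rw [← X.card_subgroupOf', X.card_normalizer_NC hr (by norm_num) X.card_NC_factor.1 hne, X.card_KX5 hx, hx,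
      gl_norm5, mul_comm]

theorem seven_data : ∃ x, X.FixData x 7 3 2 42 := by
  haveI : Fact (Nat.Prime 7) := ⟨by norm_num⟩
  obtain ⟨x, hr, hx⟩ := X.exists_over (r := 7) (by norm_num) (by rw [X.card_NC]; norm_num) order_u7
    (by rw [X.card_GL4]; norm_num)
  have hne : X.res x ≠ 1 := fun h => by
    have := order_u7
    rw [← hx, h, orderOf_one] at this
    norm_num at this
  obtain ⟨h0, h1, h2⟩ := X.seven_FX hr hx
  refine ⟨x, x.2, hr, h0, h1, h2, ?_, ?_⟩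
  · rw [← X.card_subgroupOf, X.card_centralizer_NC hr (by norm_num) X.card_NC_factor.2 hne, X.card_KX7 hr hx, hx,
      gl_cent7]
    ring
  · rw [← X.card_subgroupOf', X.card_normalizer_NC hr (by norm_num) X.card_NC_factor.2 hne, X.card_KX7 hr hx, hx,
      gl_norm7]
    ring

theorem FixData.card_CN {x : G} {r f p n : ℕ} (D : X.FixData x r f p n) :
    Nat.card (X.CN x) = f * (r * p) * Nat.card (X.CA x) ∧ Nat.card (X.NN x) = f * n * Nat.card (X.CA x) := by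
  have hF : ∀ k ∈ X.NN x, k * z * k⁻¹ ∈ X.FX x := fun k hk => X.conj_FX hk (X.z_FX D.mem)
  constructor
  · rw [X.orbit_card (K := X.CN x) inf_le_left D.trans (fun k hk => hF k (X.cn_le_nn x hk)), D.cardF, D.cent]
    ring
  · rw [X.orbit_card (K := X.NN x) inf_le_left (fun u hu => ?_) hF, D.cardF, D.norm]
    · ring
    · obtain ⟨g, hg, e⟩ := D.trans u hu
      exact ⟨g, X.cn_le_nn x hg, e⟩

end Ctx

end CfsgLib.CoType
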