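import Mathlib
import Cfsg.Agent.Lib.CoType.TwoFix

/-!
The centralizers of elements of orders five and seven of the quotient: their orders, the orders of the normalizers,
and their involutions, read off from the action on the fixed points in the orbit of the involution.
-/

set_option autoImplicit false
set_option linter.style.haveILetI false
set_option linter.unusedSectionVars false
set_option linter.unusedSimpArgs false

namespace CfsgLib.CoType

open Subgroup CfsgLib.Classical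

/-- Subgroups of prime order agree up to conjugation, with their centralizers and normalizers. -/
theorem conj_cent {H : Type*} [Group H] [Finite H] {r : ℕ} [hr : Fact r.Prime] {x y : H} (hx : orderOf x = r)
    (hy : orderOf y = r) (hH : ¬ r * r ∣ Nat.card H) :
    ∃ h : H, centralizer ({y} : Set H) = (centralizer ({x} : Set H)).map (MulAut.conj h).toMonoidHom ∧
      normalizer (zpowers y : Set H) = (normalizer (zpowers x : Set H)).map (MulAut.conj h).toMonoidHom := by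
  obtain ⟨h, i, hi⟩ := conj_in_extension x y hx hy hH
  have hgen : zpowers (x ^ i) = zpowers x := eq_of_le_of_card_ge (zpowers_le.2 (pow_mem (mem_zpowers x) i)) (by
    rw [Nat.card_zpowers, Nat.card_zpowers, ← hi]
    exact le_of_eq ((hx.trans hy.symm).trans (orderOf_injective (MulAut.conj h).toMonoidHom (MulEquiv.injective _) y).symm))
  have e : ∀ w, w ∈ zpowers y ↔ h * w * h⁻¹ ∈ zpowers x := fun w => by
    rw [← hgen, ← hi]
    constructor
    · rintro ⟨j, rfl⟩; exact ⟨j, by simp [← conj_zpow]⟩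
    · rintro ⟨j, hj⟩
      refine ⟨j, ?_⟩
      simp only [conj_zpow] at hj
      exact mul_left_cancel (mul_right_cancel hj)
  have hc : ∀ c : H, c * x = x * c ↔ c * (x ^ i) = (x ^ i) * c := by
    intro c
    constructor
    · exact fun hh => ((show Commute c x from hh).pow_right i).eq
    · intro hh
      obtain ⟨j, hj⟩ := mem_zpowers_iff.1 (hgen.symm ▸ mem_zpowers x : x ∈ zpowers (x ^ i))
      rw [← hj]
      exact ((show Commute c (x ^ i) from hh).zpow_right j).eq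
  refine ⟨h⁻¹, ?_, ?_⟩
  · ext w
    rw [mem_conj_iff, mem_centralizer_singleton_iff, mem_centralizer_singleton_iff, inv_inv, hc, ← hi]
    constructor
    · intro hw
      calc h * w * h⁻¹ * (h * y * h⁻¹) = h * (w * y) * h⁻¹ := by group
        _ = h * y * h⁻¹ * (h * w * h⁻¹) := by rw [hw]; group
    · intro hw
      refine mul_left_cancel (a := h) (mul_right_cancel (b := h⁻¹) ?_)
      calc h * (w * y) * h⁻¹ = h * w * h⁻¹ * (h * y * h⁻¹) := by group
        _ = h * (y * w) * h⁻¹ := by rw [hw]; group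
  · ext w
    rw [mem_conj_iff, mem_normalizer_iff, mem_normalizer_iff, inv_inv]
    constructor
    · intro hw v
      have h1 := hw (h⁻¹ * v * h)
      rw [e, e, show h * (h⁻¹ * v * h) * h⁻¹ = v by group] at h1
      exact h1.trans (by rw [show h * (w * (h⁻¹ * v * h) * w⁻¹) * h⁻¹ = h * w * h⁻¹ * v * (h * w * h⁻¹)⁻¹ by group])
    · intro hw v
      have h1 := hw (h * v * h⁻¹)
      rw [show h * w * h⁻¹ * (h * v * h⁻¹) * (h * w * h⁻¹)⁻¹ = h * (w * v * w⁻¹) * h⁻¹ by group] at h1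
      rw [e, e]
      exact h1

/-- Involutions across a central subgroup of odd prime order. -/
theorem inv_count {Γ P : Type*} [Group Γ] [Group P] [Finite Γ] (ψ : Γ →* P) {r : ℕ} (hr : r.Prime) (h2 : r ≠ 2)
    (hk : Nat.card ψ.ker = r) (hcen : ∀ k ∈ ψ.ker, ∀ g, Commute k g) :
    Nat.card {g : Γ // orderOf g = 2} = Nat.card {s : ψ.range // orderOf s = 2} ∧
      ∀ g : Γ, orderOf g = 6 → r = 5 → orderOf (ψ g) = 6 := by
  haveI : Fact r.Prime := ⟨hr⟩
  have hpow : ∀ k ∈ ψ.ker, k ^ r = 1 := fun k hk' => by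
    have := pow_card_eq_one' (x := (⟨k, hk'⟩ : ψ.ker))
    rw [hk] at this
    exact congrArg Subtype.val this
  obtain ⟨m, hm⟩ := hr.odd_of_ne_two h2
  have h2o : ∀ g : Γ, orderOf g = 2 → ψ g ≠ 1 := fun g hg h => by
    have h1 := hpow g h
    rw [hm, pow_succ, pow_mul, ← hg, pow_orderOf_eq_one, one_pow, one_mul] at h1
    rw [h1, orderOf_one] at hg
    norm_num at hg
  refine ⟨Nat.card_congr (Equiv.ofBijective (fun g => ⟨⟨ψ g.1, g.1, rfl⟩, by
      rw [← Subgroup.orderOf_coe]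
      exact orderOf_eq_prime (by
        have h1 := pow_orderOf_eq_one g.1
        rw [g.2] at h1
        rw [← map_pow, h1, map_one]) (h2o g.1 g.2)⟩) ⟨?_, ?_⟩), ?_⟩
  · rintro ⟨g, hg⟩ ⟨g', hg'⟩ e
    have e' : ψ g = ψ g' := congrArg (fun s : {s : ψ.range // orderOf s = 2} => (s.1 : P)) e
    have hkk : g⁻¹ * g' ∈ ψ.ker := by rw [MonoidHom.mem_ker, map_mul, map_inv, e', inv_mul_cancel]
    have h1 : (g⁻¹ * g') ^ 2 = 1 := by
      have hc := hcen _ hkk g
      have h3 : (g * (g⁻¹ * g')) ^ 2 = g ^ 2 * (g⁻¹ * g') ^ 2 := hc.symm.mul_pow 2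
      rw [mul_inv_cancel_left] at h3
      rw [← hg', pow_orderOf_eq_one, hg', ← hg, pow_orderOf_eq_one, hg, one_mul] at h3
      exact h3.symm
    have h3 := hpow _ hkk
    rw [hm, pow_succ, pow_mul, h1, one_pow, one_mul] at h3
    exact Subtype.ext (inv_mul_eq_one.1 h3)
  · rintro ⟨⟨_, g, rfl⟩, hs⟩
    have hs1 : ψ g ^ 2 = 1 := by
      have := pow_orderOf_eq_one (⟨ψ g, g, rfl⟩ : ψ.range)
      rw [hs] at this
      exact congrArg Subtype.val this
    have hi : ψ (g ^ r) = ψ g := by rw [map_pow, hm, pow_succ, pow_mul, hs1, one_pow, one_mul]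
    refine ⟨⟨g ^ r, orderOf_eq_prime ?_ fun h => ?_⟩, Subtype.ext (Subtype.ext hi)⟩
    · rw [← pow_mul, mul_comm, pow_mul]
      exact hpow _ (by rw [MonoidHom.mem_ker, map_pow, hs1])
    · have h1 : (⟨ψ g, g, rfl⟩ : ψ.range) = 1 := Subtype.ext (by rw [h, map_one] at hi; exact hi.symm)
      rw [h1, orderOf_one] at hs
      norm_num at hs
  · intro g hg h5
    refine Nat.dvd_antisymm (hg ▸ orderOf_map_dvd ψ g) ?_
    have h1 : (g ^ orderOf (ψ g)) ^ r = 1 := hpow _ (by rw [MonoidHom.mem_ker, map_pow, pow_orderOf_eq_one])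
    rw [← pow_mul, h5] at h1
    have h3 := orderOf_dvd_of_pow_eq_one h1
    rw [hg] at h3
    exact (Nat.Coprime.dvd_of_dvd_mul_right (by norm_num) h3)

theorem count_alt4 : Nat.card {s : alternatingGroup (Fin 4) // orderOf s = 2} = 3 := by
  haveI : Fact (Nat.Prime 2) := ⟨Nat.prime_two⟩
  have h : (Finset.univ.filter fun s : alternatingGroup (Fin 4) => s ^ 2 = 1 ∧ s ≠ 1).card = 3 := by decide +kernel
  rw [← h, ← Nat.card_eq_finsetCard]
  exact Nat.card_congr (Equiv.subtypeEquivRight fun s => by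
    rw [orderOf_eq_prime_iff]; simp)

theorem count_sym3 : Nat.card {s : Equiv.Perm (Fin 3) // orderOf s = 2} = 3 := by
  haveI : Fact (Nat.Prime 2) := ⟨Nat.prime_two⟩
  have h : (Finset.univ.filter fun s : Equiv.Perm (Fin 3) => s ^ 2 = 1 ∧ s ≠ 1).card = 3 := by decide +kernel
  refine Eq.trans ?_ h
  rw [← Nat.card_eq_finsetCard]
  refine Nat.card_congr (Equiv.subtypeEquiv (Equiv.refl _) fun s => ?_)
  rw [orderOf_eq_prime_iff]
  simp

theorem no_six : ∀ s : Equiv.Perm (Fin 4), s ^ 6 = 1 → s ^ 2 = 1 ∨ s ^ 3 = 1 := by decide +kernel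

variable {G : Type*} [Group G] [Finite G] {z : G} {Q : Subgroup G} {π : G → V8} {ρ : G → qAut qm}

namespace Ctx

variable (X : Ctx z Q π ρ)

include X

/-- The action of the centralizer on the fixed points. -/
noncomputable def actFX (x : G) : X.CN x →* Equiv.Perm (X.FX x) :=
  letI : MulAction (X.CN x) (X.FX x) :=
    { smul := fun k u => ⟨(k : G) * u * (k : G)⁻¹, X.conj_FX (X.cn_le_nn x k.2) u.2⟩
      one_smul := fun u => Subtype.ext (by show ((1 : X.CN x) : G) * u * ((1 : X.CN x) : G)⁻¹ = u; simp)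
      mul_smul := fun k l u => Subtype.ext (by
        show ((k * l : X.CN x) : G) * u * ((k * l : X.CN x) : G)⁻¹ = (k : G) * ((l : G) * u * (l : G)⁻¹) * (k : G)⁻¹
        rw [coe_mul]; group) }
  MulAction.toPermHom (X.CN x) (X.FX x)

theorem actFX_apply (x : G) (k : X.CN x) (u : X.FX x) :
    ((X.actFX x k u : X.FX x) : G) = (k : G) * u * (k : G)⁻¹ := rfl

variable [X.AN.Normal]

theorem quot_not_sq : ¬ 5 * 5 ∣ Nat.card (↥X.N ⧸ X.AN) ∧ ¬ 7 * 7 ∣ Nat.card (↥X.N ⧸ X.AN) := by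
  rw [X.card_quot]; norm_num

theorem FixData.quot {x : G} {r f p n : ℕ} (D : X.FixData x r f p n) [hp : Fact r.Prime] (h2 : r ≠ 2)
    (hpp : p.Prime) :
    let xb := QuotientGroup.mk' X.AN ⟨x, D.mem.1⟩
    orderOf xb = r ∧ Nat.card (centralizer ({xb} : Set (↥X.N ⧸ X.AN))) = f * (r * p) ∧
      Nat.card (normalizer ((zpowers xb : Subgroup (↥X.N ⧸ X.AN)) : Set (↥X.N ⧸ X.AN))) = f * n ∧
      ∃ ψ : centralizer ({xb} : Set (↥X.N ⧸ X.AN)) →* Equiv.Perm (X.FX x), Nat.card ψ.ker = r ∧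
        (∀ k ∈ ψ.ker, ∀ g, Commute k g) ∧ Nat.card ψ.range = f * p := by
  intro xb
  have hodd := hp.out.odd_of_ne_two h2
  have hxr : (x : G) ^ r = 1 := D.ord ▸ pow_orderOf_eq_one x
  have hpos : 0 < Nat.card (X.CA x) := Nat.card_pos
  obtain ⟨hCN, hNN⟩ := D.card_CN
  have hcard : Nat.card (centralizer ({xb} : Set (↥X.N ⧸ X.AN))) = f * (r * p) :=
    Nat.eq_of_mul_eq_mul_right hpos ((X.card_quot_centralizer (x := ⟨x, D.mem.1⟩) hodd hxr).trans hCN)
  have hxb : orderOf xb = r := by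
    refine orderOf_eq_prime ?_ fun h => ?_
    · rw [← map_pow]
      exact (congrArg _ (Subtype.ext hxr : (⟨x, D.mem.1⟩ : X.N) ^ r = 1)).trans (map_one _)
    · have hA : x ∈ X.A := mem_subgroupOf.1 ((QuotientGroup.eq_one_iff (N := X.AN) _).1 h)
      have h1 := orderOf_dvd_of_pow_eq_one (X.elementary.2 x hA)
      rw [D.ord] at h1
      exact h2 ((Nat.prime_dvd_prime_iff_eq hp.out Nat.prime_two).1 h1)
  refine ⟨hxb, hcard, Nat.eq_of_mul_eq_mul_right hpos
    ((X.card_quot_normalizer (x := ⟨x, D.mem.1⟩) hodd D.ord).trans hNN), ?_⟩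
  set K := (X.CN x).subgroupOf X.N with hK
  let e : K ≃* X.CN x := subgroupOfEquivOfLe inf_le_left
  let f₁ : K →* (↥X.N ⧸ X.AN) := (QuotientGroup.mk' X.AN).comp K.subtype
  let ψ₀ : K →* Equiv.Perm (X.FX x) := (X.actFX x).comp e.toMonoidHom
  have hle : f₁.rangeRestrict.ker ≤ ψ₀.ker := by
    intro k hk
    rw [MonoidHom.ker_rangeRestrict] at hk
    have hA : ((k : X.N) : G) ∈ X.A := mem_subgroupOf.1 ((QuotientGroup.eq_one_iff (N := X.AN) (k : X.N)).1 hk)
    refine Equiv.ext fun u => Subtype.ext ?_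
    show ((k : X.N) : G) * u * ((k : X.N) : G)⁻¹ = u
    rw [X.a_comm hA (X.orb_A u.2.1).1, mul_inv_cancel_right]
  have hrange : f₁.range = centralizer ({xb} : Set (↥X.N ⧸ X.AN)) := by
    rw [MonoidHom.range_comp, range_subtype]
    exact (X.quot_centralizer (x := ⟨x, D.mem.1⟩) hodd hxr).symm
  let ψ₁ : f₁.range →* Equiv.Perm (X.FX x) :=
    f₁.rangeRestrict.liftOfSurjective f₁.rangeRestrict_surjective ⟨ψ₀, hle⟩
  have hψ₁ : ∀ k, ψ₁ (f₁.rangeRestrict k) = ψ₀ k := fun k =>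
    MonoidHom.liftOfRightInverse_comp_apply _ _ _ _ k
  let ψ : centralizer ({xb} : Set (↥X.N ⧸ X.AN)) →* Equiv.Perm (X.FX x) :=
    ψ₁.comp (MulEquiv.subgroupCongr hrange.symm).toMonoidHom
  have hψ : ∀ (k : K) (γ : centralizer ({xb} : Set (↥X.N ⧸ X.AN))), (γ : ↥X.N ⧸ X.AN) = f₁ k → ψ γ = ψ₀ k :=
    fun k γ h => by
      rw [← hψ₁]
      exact congrArg ψ₁ (Subtype.ext h)
  have hlift : ∀ g ∈ X.CN x, ∃ γ, ∀ u : X.FX x, ((ψ γ u : X.FX x) : G) = g * u * g⁻¹ := fun g hg => by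
    let k : K := ⟨⟨g, hg.1⟩, mem_subgroupOf.2 hg⟩
    exact ⟨⟨f₁ k, hrange ▸ ⟨k, rfl⟩⟩, fun u => by rw [hψ k _ rfl]; rfl⟩
  letI : MulAction (centralizer ({xb} : Set (↥X.N ⧸ X.AN))) (X.FX x) := MulAction.compHom _ ψ
  let z₀ : X.FX x := ⟨z, X.z_FX D.mem⟩
  haveI : MulAction.IsPretransitive (centralizer ({xb} : Set (↥X.N ⧸ X.AN))) (X.FX x) := by
    have hto : ∀ u : X.FX x, ∃ γ : centralizer ({xb} : Set (↥X.N ⧸ X.AN)), γ • z₀ = u := fun u => by
      obtain ⟨g, hg, hgu⟩ := D.trans u u.2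
      obtain ⟨γ, hγ⟩ := hlift g hg
      exact ⟨γ, Subtype.ext ((hγ z₀).trans hgu)⟩
    refine ⟨fun u v => ?_⟩
    obtain ⟨a, ha⟩ := hto u
    obtain ⟨b, hb⟩ := hto v
    exact ⟨b * a⁻¹, by rw [mul_smul, ← ha, inv_smul_smul, hb]⟩
  set S := MulAction.stabilizer (centralizer ({xb} : Set (↥X.N ⧸ X.AN))) z₀ with hS
  have hScard : Nat.card S = r * p := by
    have h := S.card_mul_index
    have hfpos : 0 < f := D.cardF ▸ (@Nat.card_pos _ ⟨z₀⟩ _)
    rw [hS, MulAction.index_stabilizer_of_transitive, D.cardF, hcard, mul_comm f] at h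
    exact Nat.eq_of_mul_eq_mul_right hfpos h
  have hker : ψ.ker ≤ S := fun γ hγ => by
    show ψ γ z₀ = z₀
    rw [MonoidHom.mem_ker.1 hγ]; rfl
  let xΓ : centralizer ({xb} : Set (↥X.N ⧸ X.AN)) := ⟨xb, mem_centralizer_singleton_iff.2 rfl⟩
  have hxker : xΓ ∈ ψ.ker := by
    have hxC : x ∈ X.CN x := ⟨D.mem.1, mem_centralizer_singleton_iff.2 rfl⟩
    let k : K := ⟨⟨x, D.mem.1⟩, mem_subgroupOf.2 hxC⟩
    rw [MonoidHom.mem_ker, hψ k xΓ rfl]
    refine Equiv.ext fun u => Subtype.ext ?_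
    show x * u * x⁻¹ = u
    rw [u.2.2, mul_inv_cancel_right]
  have hxΓ : orderOf xΓ = r := by rw [← Subgroup.orderOf_coe]; exact hxb
  have hk : Nat.card ψ.ker = r := by
    obtain ⟨a, ha⟩ : r ∣ Nat.card ψ.ker := hxΓ ▸ Subgroup.orderOf_dvd_natCard ψ.ker hxker
    have hd := card_dvd_of_le hker
    rw [hScard, ha] at hd
    rcases (Nat.dvd_prime hpp).1 ((Nat.mul_dvd_mul_iff_left hp.out.pos).1 hd) with e' | e'
    · rw [ha, e', mul_one]
    · exfalso
      have heq : ψ.ker = S := eq_of_le_of_card_ge hker (by rw [hScard, ha, e'])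
      obtain ⟨h, ⟨hh, hhz⟩, u, hu, hne⟩ := D.mover
      obtain ⟨γ, hγ⟩ := hlift h hh
      have hγS : γ ∈ S := Subtype.ext ((hγ z₀).trans (by
        show h * z * h⁻¹ = z
        rw [mem_centralizer_singleton_iff.1 hhz.2, mul_inv_cancel_right]))
      rw [← heq] at hγS
      have := hγ ⟨u, hu⟩
      rw [MonoidHom.mem_ker.1 hγS] at this
      exact hne this.symm
  refine ⟨ψ, hk, fun k hk' g => ?_, ?_⟩
  · have heq : zpowers xΓ = ψ.ker :=
      eq_of_le_of_card_ge (zpowers_le.2 hxker) (by rw [hk, Nat.card_zpowers, hxΓ])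
    obtain ⟨i, rfl⟩ := mem_zpowers_iff.1 (heq.symm ▸ hk' : k ∈ zpowers xΓ)
    have hc : Commute xΓ g := Subtype.ext (mem_centralizer_singleton_iff.1 g.2).symm
    exact hc.zpow_left i
  · have h := card_mul_index ψ.ker
    rw [index_ker, hk, hcard, show f * (r * p) = r * (f * p) by ring] at h
    exact Nat.eq_of_mul_eq_mul_left hp.out.pos h

theorem five_local {y : ↥X.N ⧸ X.AN} (hy : orderOf y = 5) :
    Nat.card (centralizer ({y} : Set (↥X.N ⧸ X.AN))) = 60 ∧
      Nat.card (normalizer ((zpowers y : Subgroup (↥X.N ⧸ X.AN)) : Set (↥X.N ⧸ X.AN))) = 240 ∧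
      Nat.card {g : centralizer ({y} : Set (↥X.N ⧸ X.AN)) // orderOf g = 2} = 3 ∧
      ∀ g : ↥X.N ⧸ X.AN, Commute y g → orderOf g ≠ 6 := by
  classical
  haveI : Fact (Nat.Prime 5) := ⟨by norm_num⟩
  obtain ⟨x, D⟩ := X.five_data
  obtain ⟨hxb, hc, hn, ψ, hk, hcen, hran⟩ := D.quot (X := X) (by norm_num) Nat.prime_three
  obtain ⟨h, hC, hN⟩ := conj_cent hxb hy X.quot_not_sq.1
  obtain ⟨hinv, hsix⟩ := inv_count ψ (by norm_num) (by norm_num) hk hcen
  let E := equivMapOfInjective (centralizer ({QuotientGroup.mk' X.AN ⟨x, D.mem.1⟩} : Set (↥X.N ⧸ X.AN)))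
    (MulAut.conj h).toMonoidHom (MulEquiv.injective _)
  let e4 : X.FX x ≃ Fin 4 := (Finite.equivFin _).trans (finCongr D.cardF)
  haveI := Fintype.ofFinite (X.FX x)
  haveI : Nontrivial (X.FX x) := e4.nontrivial
  refine ⟨?_, ?_, ?_, ?_⟩
  · rw [hC, card_map_of_injective (MulEquiv.injective _), hc]
  · rw [hN, card_map_of_injective (MulEquiv.injective _), hn]
  · have hEc : Nat.card {g : centralizer ({QuotientGroup.mk' X.AN ⟨x, D.mem.1⟩} : Set (↥X.N ⧸ X.AN)) //
        orderOf g = 2} = Nat.card {g : ((centralizer ({QuotientGroup.mk' X.AN ⟨x, D.mem.1⟩} :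
          Set (↥X.N ⧸ X.AN))).map (MulAut.conj h).toMonoidHom : Subgroup (↥X.N ⧸ X.AN)) // orderOf g = 2} :=
      Nat.card_congr (E.toEquiv.subtypeEquiv fun g => by
        show orderOf g = 2 ↔ orderOf (E g) = 2
        rw [E.orderOf_eq])
    rw [hC, ← hEc, hinv]
    have hidx : ψ.range.index = 2 := by
      have h1 := card_mul_index ψ.range
      rw [hran, Nat.card_eq_fintype_card (α := Equiv.Perm (X.FX x)), Fintype.card_perm, ← Nat.card_eq_fintype_card,
        D.cardF, show Nat.factorial 4 = 24 by rfl] at h1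
      omega
    let Φ : ψ.range ≃* alternatingGroup (Fin 4) :=
      (MulEquiv.subgroupCongr (Equiv.Perm.eq_alternatingGroup_of_index_eq_two hidx)).trans e4.altCongrHom
    exact (Nat.card_congr (Φ.toEquiv.subtypeEquiv fun g => Iff.of_eq (congrArg (· = 2) (Φ.orderOf_eq g).symm))).trans count_alt4
  · intro g hg hg6
    have hgC : g ∈ centralizer ({y} : Set (↥X.N ⧸ X.AN)) := mem_centralizer_singleton_iff.2 hg.symm.eq
    rw [hC] at hgC
    obtain ⟨g₀, hg₀, rfl⟩ := hgC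
    have h6 : orderOf (⟨g₀, hg₀⟩ : centralizer ({QuotientGroup.mk' X.AN ⟨x, D.mem.1⟩} : Set (↥X.N ⧸ X.AN))) = 6 := by
      rw [← Subgroup.orderOf_coe, ← hg6]
      exact (orderOf_injective _ (MulEquiv.injective _) _).symm
    have hs := hsix _ h6 rfl
    rw [← e4.permCongrHom.orderOf_eq] at hs
    have h1 := pow_orderOf_eq_one (e4.permCongrHom (ψ ⟨g₀, hg₀⟩))
    rw [hs] at h1
    rcases no_six _ h1 with h2 | h2 <;>
    · have := orderOf_dvd_of_pow_eq_one h2
      rw [hs] at this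
      norm_num at this

theorem seven_local {y : ↥X.N ⧸ X.AN} (hy : orderOf y = 7) :
    Nat.card (centralizer ({y} : Set (↥X.N ⧸ X.AN))) = 42 ∧
      Nat.card (normalizer ((zpowers y : Subgroup (↥X.N ⧸ X.AN)) : Set (↥X.N ⧸ X.AN))) = 126 ∧
      Nat.card {g : centralizer ({y} : Set (↥X.N ⧸ X.AN)) // orderOf g = 2} = 3 := by
  classical
  haveI : Fact (Nat.Prime 7) := ⟨by norm_num⟩
  obtain ⟨x, D⟩ := X.seven_data
  obtain ⟨hxb, hc, hn, ψ, hk, hcen, hran⟩ := D.quot (X := X) (by norm_num) Nat.prime_two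
  obtain ⟨h, hC, hN⟩ := conj_cent hxb hy X.quot_not_sq.2
  obtain ⟨hinv, -⟩ := inv_count ψ (by norm_num) (by norm_num) hk hcen
  let E := equivMapOfInjective (centralizer ({QuotientGroup.mk' X.AN ⟨x, D.mem.1⟩} : Set (↥X.N ⧸ X.AN)))
    (MulAut.conj h).toMonoidHom (MulEquiv.injective _)
  let e3 : X.FX x ≃ Fin 3 := (Finite.equivFin _).trans (finCongr D.cardF)
  haveI := Fintype.ofFinite (X.FX x)
  refine ⟨?_, ?_, ?_⟩
  · rw [hC, card_map_of_injective (MulEquiv.injective _), hc]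
  · rw [hN, card_map_of_injective (MulEquiv.injective _), hn]
  · have hEc : Nat.card {g : centralizer ({QuotientGroup.mk' X.AN ⟨x, D.mem.1⟩} : Set (↥X.N ⧸ X.AN)) //
        orderOf g = 2} = Nat.card {g : ((centralizer ({QuotientGroup.mk' X.AN ⟨x, D.mem.1⟩} :
          Set (↥X.N ⧸ X.AN))).map (MulAut.conj h).toMonoidHom : Subgroup (↥X.N ⧸ X.AN)) // orderOf g = 2} :=
      Nat.card_congr (E.toEquiv.subtypeEquiv fun g => by
        show orderOf g = 2 ↔ orderOf (E g) = 2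
        rw [E.orderOf_eq])
    rw [hC, ← hEc, hinv]
    have htop : ψ.range = ⊤ := by
      refine eq_top_of_card_eq _ ?_
      rw [hran, Nat.card_eq_fintype_card (α := Equiv.Perm (X.FX x)), Fintype.card_perm, ← Nat.card_eq_fintype_card,
        D.cardF, show Nat.factorial 3 = 6 by rfl]
    let Φ : ψ.range ≃* Equiv.Perm (Fin 3) :=
      ((MulEquiv.subgroupCongr htop).trans topEquiv).trans e3.permCongrHom
    exact (Nat.card_congr (Φ.toEquiv.subtypeEquiv fun g => Iff.of_eq (congrArg (· = 2) (Φ.orderOf_eq g).symm))).trans count_sym3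

end Ctx

end CfsgLib.CoType
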