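import Mathlib
import Cfsg.Agent.Lib.CoType.TwoPerm
import Cfsg.Agent.Lib.MTwentyFourUnique.Recog

/-!
The quotient of the normalizer is the Mathieu group of degree twenty-four: elements of orders eleven and
twenty-three, and simplicity.
-/

set_option autoImplicit false
set_option linter.style.haveILetI false
set_option linter.unusedSectionVars false
set_option linter.unusedSimpArgs false

namespace CfsgLib.CoType

open Subgroup CfsgLib.Classical

/-- Fixed points of an element of prime order on a subgroup it normalizes. -/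
theorem fix_sub {H : Type*} [Group H] [Finite H] (K : Subgroup H) {x : H} {r : ℕ} [Fact r.Prime]
    (hr : orderOf x = r) (hn : ∀ a ∈ K, x * a * x⁻¹ ∈ K) :
    Nat.card ↥(K ⊓ centralizer ({x} : Set H)) % r = Nat.card K % r := by
  let P := zpowers x
  have hpow : ∀ i : ℕ, ∀ a ∈ K, x ^ i * a * (x ^ i)⁻¹ ∈ K := by
    intro i
    induction i with
    | zero => simp
    | succ i ih =>
      intro a ha
      rw [show x ^ (i + 1) * a * (x ^ (i + 1))⁻¹ = x * (x ^ i * a * (x ^ i)⁻¹) * x⁻¹ by rw [pow_succ']; group]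
      exact hn _ (ih a ha)
  have hP : ∀ k : P, ∀ a ∈ K, (k : H) * a * (k : H)⁻¹ ∈ K := fun k => by
    obtain ⟨i, hi⟩ := mem_powers_iff_mem_zpowers.2 k.2
    rw [← hi]
    exact hpow i
  letI : MulAction P K :=
    { smul := fun k a => ⟨(k : H) * a * (k : H)⁻¹, hP k a a.2⟩
      one_smul := fun a => Subtype.ext (by show ((1 : P) : H) * a * ((1 : P) : H)⁻¹ = a; simp)
      mul_smul := fun k l a => Subtype.ext (by
        show ((k * l : P) : H) * a * ((k * l : P) : H)⁻¹ = (k : H) * ((l : H) * a * (l : H)⁻¹) * (k : H)⁻¹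
        rw [coe_mul]; group) }
  have hp : IsPGroup r P := IsPGroup.of_card (n := 1) (by rw [Nat.card_zpowers, hr, pow_one])
  have h := hp.card_modEq_card_fixedPoints K
  have e : Nat.card (MulAction.fixedPoints P K) = Nat.card ↥(K ⊓ centralizer ({x} : Set H)) := Nat.card_congr
    { toFun := fun a => ⟨(a.1 : H), a.1.2, mem_centralizer_singleton_iff.2
        (mul_inv_eq_iff_eq_mul.1 (congrArg Subtype.val (a.2 ⟨x, mem_zpowers x⟩))).symm⟩
      invFun := fun a => ⟨⟨a.1, a.2.1⟩, fun k => Subtype.ext (by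
        obtain ⟨i, hi⟩ := mem_zpowers_iff.1 k.2
        have h1 : (k : H) * a.1 = a.1 * (k : H) := by
          rw [← hi]
          exact ((show Commute (a.1 : H) x from mem_centralizer_singleton_iff.1 a.2.2).zpow_right i).eq.symm
        show (k : H) * a.1 * (k : H)⁻¹ = a.1
        rw [h1, mul_inv_cancel_right])⟩
      left_inv := fun _ => rfl
      right_inv := fun _ => rfl }
  rw [e] at h
  exact h.symm

/-- The numbers attached to a Sylow group of prime order. -/
theorem syl_facts {Γ : Type*} [Group Γ] [Finite Γ] {r : ℕ} [hr : Fact r.Prime] {y : Γ} (hy : orderOf y = r)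
    (hΓ : ¬ r * r ∣ Nat.card Γ) :
    ∃ d n : ℕ, Nat.card (normalizer ((zpowers y : Subgroup Γ) : Set Γ)) = d * Nat.card (centralizer ({y} : Set Γ)) ∧
      d ∣ r - 1 ∧ n % r = 1 ∧ n * (d * Nat.card (centralizer ({y} : Set Γ))) = Nat.card Γ := by
  have h2 : (Nat.card Γ).factorization r = 1 := by
    refine le_antisymm ?_ (hr.out.factorization_pos_of_dvd Nat.card_pos.ne' (hy ▸ orderOf_dvd_natCard y))
    by_contra hlt
    push Not at hlt
    exact hΓ (dvd_trans (dvd_trans (by rw [_root_.sq]) (pow_dvd_pow r (show 2 ≤ _ from hlt))) (Nat.ordProj_dvd _ r))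
  let P : Sylow r Γ := Sylow.ofCard (zpowers y) (by rw [h2, pow_one, Nat.card_zpowers, hy])
  have hP : (P : Subgroup Γ) = zpowers y := rfl
  have hn := card_sylow_modEq_one r Γ
  unfold Nat.ModEq at hn
  rw [Nat.one_mod_eq_one.2 hr.out.one_lt.ne'] at hn
  set N := normalizer ((zpowers y : Subgroup Γ) : Set Γ) with hN
  have hC : centralizer ((zpowers y : Subgroup Γ) : Set Γ) = centralizer ({y} : Set Γ) := by
    rw [zpowers_eq_closure, centralizer_closure]
  have hle : centralizer ({y} : Set Γ) ≤ N := hC ▸ centralizer_le_normalizer _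
  set φ := (zpowers y).normalizerMonoidHom
  refine ⟨Nat.card φ.range, Nat.card (Sylow r Γ), ?_, ?_, hn, ?_⟩
  · have h := card_mul_index φ.ker
    rw [index_ker, normalizerMonoidHom_ker, hC, Nat.card_congr (subgroupOfEquivOfLe hle).toEquiv] at h
    rw [← h, mul_comm]
  · have h := card_subgroup_dvd_card φ.range
    rwa [IsCyclic.card_mulAut, Nat.card_zpowers, hy, Nat.totient_prime hr.out] at h
  · have h := card_mul_index φ.ker
    rw [index_ker, normalizerMonoidHom_ker, hC, Nat.card_congr (subgroupOfEquivOfLe hle).toEquiv] at h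
    rw [mul_comm (Nat.card φ.range), h, P.card_eq_index_normalizer, show normalizer (P : Set Γ) = N from rfl,
      mul_comm, card_mul_index]

/-- A normal subgroup meeting a Sylow group of prime order. -/
theorem frattini_dvd {Γ : Type*} [Group Γ] [Finite Γ] (L : Subgroup Γ) [L.Normal] {r : ℕ} [hr : Fact r.Prime]
    (hL : r ∣ Nat.card L) (hΓ : ¬ r * r ∣ Nat.card Γ) :
    ∃ y : Γ, orderOf y = r ∧ L.index ∣ Nat.card (normalizer ((zpowers y : Subgroup Γ) : Set Γ)) := by
  obtain ⟨⟨y, hyL⟩, hy⟩ := exists_prime_orderOf_dvd_card' r hL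
  have hy' : orderOf y = r := by rw [← hy, Subgroup.orderOf_mk]
  have h2 : (Nat.card Γ).factorization r = 1 := by
    refine le_antisymm ?_ (hr.out.factorization_pos_of_dvd Nat.card_pos.ne' (hy' ▸ orderOf_dvd_natCard y))
    by_contra hlt
    push Not at hlt
    exact hΓ (dvd_trans (dvd_trans (by rw [_root_.sq]) (pow_dvd_pow r (show 2 ≤ _ from hlt))) (Nat.ordProj_dvd _ r))
  let P : Sylow r Γ := Sylow.ofCard (zpowers y) (by rw [h2, pow_one, Nat.card_zpowers, hy'])
  have h := P.normalizer_sup_eq_top' (N := L) (zpowers_le.2 hyL)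
  refine ⟨y, hy', ?_⟩
  have h1 := relIndex_dvd_card L (normalizer (P : Set Γ))
  rw [← relIndex_sup_right, h, relIndex_top_right] at h1
  exact h1

variable {G : Type*} [Group G] [Finite G] {z : G} {Q : Subgroup G} {π : G → V8} {ρ : G → qAut qm}

namespace Ctx

variable (X : Ctx z Q π ρ)

include X

theorem ca_eleven {x : G} (hx : x ∈ X.N) (hr : orderOf x = 11) : Nat.card (X.CA x) = 2 := by
  haveI : Fact (Nat.Prime 11) := ⟨by norm_num⟩
  obtain ⟨j, hj, e, hm⟩ := X.fix_pow hx hr (by norm_num)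
  have : j = 1 := by
    revert hm
    interval_cases j <;> norm_num
  rw [CA, e, this, pow_one]

theorem ca_twentythree {x : G} (hx : x ∈ X.N) (hr : orderOf x = 23) : Nat.card (X.CA x) = 1 :=
  card_eq_one.2 (eq_bot_iff.2 fun _ ha =>
    mem_bot.2 (X.fix_twentythree hx hr ha.1 (mem_centralizer_singleton_iff.1 ha.2)))

/-- A commuting element fixes a fixed part of order at most two. -/
theorem small_fixed {x g a : G} (hg : g ∈ X.CN x) (h2 : Nat.card (X.CA x) ≤ 2) (ha : a ∈ X.CA x) :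
    g * a = a * g := by
  rcases eq_or_ne a 1 with rfl | h1
  · rw [mul_one, one_mul]
  have ha' : g * a * g⁻¹ ∈ X.CA x := by
    refine ⟨X.conj_A hg.1 ha.1, mem_centralizer_singleton_iff.2 ?_⟩
    exact (((show Commute g x from mem_centralizer_singleton_iff.1 hg.2).mul_left
      (show Commute a x from mem_centralizer_singleton_iff.1 ha.2)).mul_left
      (show Commute g x from mem_centralizer_singleton_iff.1 hg.2).inv_left).eq
  by_contra hne
  classical
  haveI := Fintype.ofFinite (X.CA x)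
  rw [Nat.card_eq_fintype_card] at h2
  have h3 := Finset.card_le_univ ({1, ⟨a, ha⟩, ⟨_, ha'⟩} : Finset (X.CA x))
  rw [Finset.card_insert_of_notMem, Finset.card_pair] at h3
  · omega
  · exact fun e => hne (mul_inv_eq_iff_eq_mul.1 (congrArg Subtype.val e).symm)
  · simp only [Finset.mem_insert, Finset.mem_singleton, Subtype.ext_iff, OneMemClass.coe_one, not_or]
    exact ⟨Ne.symm h1, fun e => h1 (conj_eq_one_iff.1 e.symm)⟩

/-- The fixed part of an element commuting with `x`. -/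
theorem fixed_mod {x g : G} {r : ℕ} [Fact r.Prime] (hx : x ∈ X.N) (hr : orderOf x = r) (hg : g ∈ X.CN x)
    (h2 : Nat.card (X.CA x) ≤ 2) : Nat.card (X.CA g) % r = Nat.card (X.CA x) % r := by
  have hgx : Commute g x := mem_centralizer_singleton_iff.1 hg.2
  have h := fix_sub (X.CA g) hr fun a ha => ⟨X.conj_A hx ha.1, mem_centralizer_singleton_iff.2
    (((hgx.symm).mul_left (show Commute a g from mem_centralizer_singleton_iff.1 ha.2)).mul_left
      hgx.symm.inv_left).eq⟩
  rw [← h]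
  congr 1
  exact Nat.card_congr
    { toFun := fun a => ⟨a.1, a.2.1.1, a.2.2⟩
      invFun := fun a => ⟨a.1, ⟨a.2.1, mem_centralizer_singleton_iff.2 (X.small_fixed hg h2 a.2).symm⟩, a.2.2⟩
      left_inv := fun _ => rfl
      right_inv := fun _ => rfl }

variable [X.AN.Normal]

theorem mk_ne_one {g : X.N} {r : ℕ} (hr : r.Prime) (h2 : r ≠ 2) (hg : orderOf (g : G) = r) :
    QuotientGroup.mk' X.AN g ≠ 1 := fun h => by
  have hA : (g : G) ∈ X.A := mem_subgroupOf.1 ((QuotientGroup.eq_one_iff (N := X.AN) _).1 h)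
  have h1 := orderOf_dvd_of_pow_eq_one (X.elementary.2 _ hA)
  rw [hg] at h1
  exact h2 ((Nat.prime_dvd_prime_iff_eq hr Nat.prime_two).1 h1)

/-- Commuting elements of odd order lift to commuting elements. -/
theorem commuting_lift {g : X.N} {s : ℕ} (hs : Odd s) (hg : (g : G) ^ s = 1) {y : ↥X.N ⧸ X.AN}
    (hc : Commute (QuotientGroup.mk' X.AN g) y) {r : ℕ} [hp : Fact r.Prime] (hr : r ≠ 2) (hy : orderOf y = r) :
    ∃ x : X.N, QuotientGroup.mk' X.AN x = y ∧ orderOf (x : G) = r ∧ (x : G) * g = g * x := by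
  have hyC : y ∈ centralizer ({QuotientGroup.mk' X.AN g} : Set (↥X.N ⧸ X.AN)) :=
    mem_centralizer_singleton_iff.2 hc.symm.eq
  rw [X.quot_centralizer hs hg] at hyC
  obtain ⟨x, hxC, hxy⟩ := hyC
  have hxg : Commute (x : G) g := mem_centralizer_singleton_iff.1 (mem_subgroupOf.1 hxC).2
  obtain ⟨k, hk⟩ := hp.out.odd_of_ne_two hr
  have hy1 : y ^ r = 1 := hy ▸ pow_orderOf_eq_one y
  have hxr : (x : G) ^ r ∈ X.A := by
    have h : QuotientGroup.mk' X.AN (x ^ r) = 1 := by rw [map_pow, hxy, hy1]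
    simpa using mem_subgroupOf.1 ((QuotientGroup.eq_one_iff (N := X.AN) _).1 h)
  have hy' : QuotientGroup.mk' X.AN (x ^ (r + 1)) = y := by rw [map_pow, hxy, pow_succ, hy1, one_mul]
  refine ⟨x ^ (r + 1), hy', ?_, ?_⟩
  · rw [SubmonoidClass.coe_pow]
    refine orderOf_eq_prime ?_ fun h2 => hp.out.one_lt.ne ?_
    · rw [← pow_mul, mul_comm (r + 1) r, pow_mul, show r + 1 = 2 * (k + 1) by omega, pow_mul,
        X.elementary.2 _ hxr, one_pow]
    · rw [← hy, ← hy', show x ^ (r + 1) = 1 from Subtype.ext (by simpa using h2), map_one, orderOf_one]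
  · rw [SubmonoidClass.coe_pow]
    exact (hxg.pow_left _).eq

/-- No involution centralizes an element of order eleven or twenty-three. -/
theorem no_two {y : ↥X.N ⧸ X.AN} {r : ℕ} [hp : Fact r.Prime] (hy : orderOf y = r) (h : r = 11 ∨ r = 23) :
    ¬ 2 ∣ Nat.card (centralizer ({y} : Set (↥X.N ⧸ X.AN))) := by
  intro hdvd
  have hr2 : r ≠ 2 := by rcases h with rfl | rfl <;> norm_num
  obtain ⟨x, rfl, hxr⟩ := X.quot_lift y hr2 hy
  have hodd := hp.out.odd_of_ne_two hr2
  obtain ⟨⟨t, ht⟩, ht2⟩ := exists_prime_orderOf_dvd_card' (hp := ⟨Nat.prime_two⟩) 2 hdvd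
  rw [Subgroup.orderOf_mk] at ht2
  rw [X.quot_centralizer hodd (hxr ▸ pow_orderOf_eq_one (x : G))] at ht
  obtain ⟨g, hgC, rfl⟩ := ht
  have hgC' := mem_subgroupOf.1 hgC
  have hgA : (g : G) ∉ X.A := fun hA => by
    rw [show QuotientGroup.mk' X.AN g = 1 from (QuotientGroup.eq_one_iff (N := X.AN) g).2 (mem_subgroupOf.2 hA),
      orderOf_one] at ht2
    norm_num at ht2
  have hg2 : (g : G) * g ∈ X.A := by
    have h' : QuotientGroup.mk' X.AN (g * g) = 1 := by rw [map_mul, ← _root_.sq, ← ht2, pow_orderOf_eq_one]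
    simpa using mem_subgroupOf.1 ((QuotientGroup.eq_one_iff (N := X.AN) _).1 h')
  have hca : Nat.card (X.CA (x : G)) = if r = 11 then 2 else 1 := by
    rcases h with rfl | rfl
    · exact X.ca_eleven x.2 hxr
    · exact X.ca_twentythree x.2 hxr
  have hm := X.fixed_mod x.2 hxr hgC' (by rw [hca]; split_ifs <;> norm_num)
  rw [hca] at hm
  -- the commutator map
  let f : X.A →* X.A := MonoidHom.mk'
    (fun a => ⟨(g : G) * a * (g : G)⁻¹ * a, mul_mem (X.conj_A g.2 a.2) a.2⟩) fun a b => Subtype.ext (by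
      show (g : G) * ((a * b : X.A) : G) * (g : G)⁻¹ * ((a * b : X.A) : G) =
        (g : G) * a * (g : G)⁻¹ * a * ((g : G) * b * (g : G)⁻¹ * b)
      rw [coe_mul]
      calc (g : G) * ((a : G) * b) * (g : G)⁻¹ * ((a : G) * b)
          = (g : G) * a * (g : G)⁻¹ * ((g : G) * b * (g : G)⁻¹ * a) * b := by group
        _ = (g : G) * a * (g : G)⁻¹ * (a * ((g : G) * b * (g : G)⁻¹)) * b := by
          rw [X.a_comm a.2 (X.conj_A g.2 b.2)]
        _ = _ := by group)
  have hmem : ∀ a : X.A, a ∈ f.ker ↔ (a : G) ∈ X.CA (g : G) := by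
    intro a
    constructor
    · intro ha
      have e : (g : G) * a * (g : G)⁻¹ * a = 1 := congrArg Subtype.val ha
      refine ⟨a.2, mem_centralizer_singleton_iff.2 ?_⟩
      have e2 : (g : G) * a * (g : G)⁻¹ = a :=
        (mul_eq_one_iff_eq_inv.1 e).trans (inv_eq_of_mul_eq_one_right (X.a_sq a.2))
      exact (mul_inv_eq_iff_eq_mul.1 e2).symm
    · intro ha
      refine Subtype.ext ?_
      show (g : G) * a * (g : G)⁻¹ * a = 1
      rw [← mem_centralizer_singleton_iff.1 ha.2, mul_inv_cancel_right, X.a_sq a.2]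
  have hker : Nat.card f.ker = Nat.card (X.CA (g : G)) := Nat.card_congr
    { toFun := fun a => ⟨(a.1 : G), (hmem _).1 a.2⟩
      invFun := fun a => ⟨⟨a.1, a.2.1⟩, (hmem _).2 a.2⟩
      left_inv := fun _ => rfl
      right_inv := fun _ => rfl }
  have hle : f.range ≤ f.ker := by
    rintro _ ⟨a, rfl⟩
    refine (hmem _).2 ⟨(f a).2, mem_centralizer_singleton_iff.2 ?_⟩
    show (g : G) * a * (g : G)⁻¹ * a * g = g * ((g : G) * a * (g : G)⁻¹ * a)
    have hga := X.conj_A g.2 a.2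
    symm
    calc (g : G) * ((g : G) * a * (g : G)⁻¹ * a) = ((g : G) * g) * a * ((g : G) * g)⁻¹ * (g * a * (g : G)⁻¹) * g := by
          group
      _ = a * (g * a * (g : G)⁻¹) * g := by rw [X.a_comm hg2 a.2, mul_inv_cancel_right]
      _ = g * a * (g : G)⁻¹ * a * g := by rw [X.a_comm a.2 hga]
  have hmul := card_mul_index f.ker
  rw [index_ker, X.card_A] at hmul
  have hran : Nat.card f.range ≤ Nat.card f.ker := card_le_of_le hle
  obtain ⟨j, hj, hje⟩ := (Nat.dvd_prime_pow Nat.prime_two).1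
    (show Nat.card f.ker ∣ 2 ^ 11 by rw [show (2 : ℕ) ^ 11 = 2048 by rfl, ← hmul]; exact Dvd.intro _ rfl)
  have hsq : 2048 ≤ 2 ^ j * 2 ^ j := by
    rw [← hje]
    calc 2048 = Nat.card f.ker * Nat.card f.range := hmul.symm
      _ ≤ _ := Nat.mul_le_mul_left _ hran
  rw [← hker, hje] at hm
  have hj11 : j = 11 := by
    rcases h with rfl | rfl <;> revert hm hsq <;> interval_cases j <;> norm_num
  have htop : f.ker = ⊤ := eq_top_of_card_eq _ (by rw [hje, hj11, X.card_A]; rfl)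
  exact hgA (X.cent_A fun a ha => mem_centralizer_singleton_iff.1 ((hmem ⟨a, ha⟩).1 (htop ▸ mem_top _)).2)

/-- Elements of order three beside elements of order eleven or twenty-three. -/
theorem three_fixed {x g : X.N} {r : ℕ} [hp : Fact r.Prime] (hxr : orderOf (x : G) = r) (h : r = 11 ∨ r = 23)
    (hg : orderOf (g : G) = 3) (hc : (g : G) * x = x * g) : r = 11 ∧ X.CA (g : G) ≤ X.CA (x : G) := by
  haveI : Fact (Nat.Prime 3) := ⟨Nat.prime_three⟩
  obtain ⟨j, hj, e, hpar⟩ := X.fix_pow g.2 hg (by norm_num)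
  have hgC : (g : G) ∈ X.CN (x : G) := ⟨g.2, mem_centralizer_singleton_iff.2 hc⟩
  rcases h with rfl | rfl
  · have hca := X.ca_eleven x.2 hxr
    have hm := X.fixed_mod x.2 hxr hgC (by rw [hca])
    rw [show Nat.card (X.CA (g : G)) = 2 ^ j from e, hca] at hm
    have hj1 : j = 1 := by
      revert hm
      interval_cases j <;> norm_num
    refine ⟨rfl, ?_⟩
    have hle : X.CA (x : G) ≤ X.CA (g : G) := fun a ha =>
      ⟨ha.1, mem_centralizer_singleton_iff.2 (X.small_fixed hgC (by rw [hca]) ha).symm⟩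
    exact le_of_eq (eq_of_le_of_card_ge hle (by
      rw [show Nat.card (X.CA (g : G)) = 2 ^ j from e, hj1, hca, pow_one])).symm
  · exfalso
    have hca := X.ca_twentythree x.2 hxr
    have hm := X.fixed_mod x.2 hxr hgC (by rw [hca]; norm_num)
    rw [show Nat.card (X.CA (g : G)) = 2 ^ j from e, hca] at hm
    revert hm hpar
    interval_cases j <;> norm_num

theorem not_dvd_five_seven {y : ↥X.N ⧸ X.AN} {r : ℕ} (hy : orderOf y = r) (h : r = 11 ∨ r = 23) :
    ¬ 5 ∣ Nat.card (centralizer ({y} : Set (↥X.N ⧸ X.AN))) ∧ ¬ 7 ∣ Nat.card (centralizer ({y} : Set (↥X.N ⧸ X.AN))) := by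
  have key : ∀ {s : ℕ}, s.Prime → s ∣ Nat.card (centralizer ({y} : Set (↥X.N ⧸ X.AN))) →
      ∃ g : ↥X.N ⧸ X.AN, orderOf g = s ∧ r ∣ Nat.card (centralizer ({g} : Set (↥X.N ⧸ X.AN))) := by
    intro s hs hd
    haveI := Fact.mk hs
    obtain ⟨⟨g, hg⟩, hgs⟩ := exists_prime_orderOf_dvd_card' s hd
    rw [Subgroup.orderOf_mk] at hgs
    refine ⟨g, hgs, ?_⟩
    have hyg : y ∈ centralizer ({g} : Set (↥X.N ⧸ X.AN)) :=
      mem_centralizer_singleton_iff.2 (mem_centralizer_singleton_iff.1 hg).symm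
    exact hy ▸ Subgroup.orderOf_dvd_natCard _ hyg
  constructor <;> intro hd
  · obtain ⟨g, hg, hdr⟩ := key (by norm_num) hd
    rw [(X.five_local hg).1] at hdr
    rcases h with rfl | rfl <;> norm_num at hdr
  · obtain ⟨g, hg, hdr⟩ := key (by norm_num) hd
    rw [(X.seven_local hg).1] at hdr
    rcases h with rfl | rfl <;> norm_num at hdr

theorem twentythree_local {y : ↥X.N ⧸ X.AN} (hy : orderOf y = 23) :
    Nat.card (centralizer ({y} : Set (↥X.N ⧸ X.AN))) = 23 ∧
      Nat.card (normalizer ((zpowers y : Subgroup (↥X.N ⧸ X.AN)) : Set (↥X.N ⧸ X.AN))) = 253 := by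
  haveI : Fact (Nat.Prime 23) := ⟨by norm_num⟩
  haveI : Fact (Nat.Prime 11) := ⟨by norm_num⟩
  haveI : Fact (Nat.Prime 3) := ⟨by norm_num⟩
  set c := Nat.card (centralizer ({y} : Set (↥X.N ⧸ X.AN))) with hc
  have h2 := X.no_two hy (Or.inr rfl)
  obtain ⟨h5, h7⟩ := X.not_dvd_five_seven hy (Or.inr rfl)
  obtain ⟨x, hxy, hxr⟩ := X.quot_lift y (by norm_num) hy
  have lifts : ∀ {s : ℕ} [Fact s.Prime], s ≠ 2 → s ∣ c →
      ∃ v : X.N, orderOf (v : G) = s ∧ (v : G) * x = x * v := by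
    intro s _ hs hd
    obtain ⟨⟨g, hg⟩, hgs⟩ := exists_prime_orderOf_dvd_card' s hd
    rw [Subgroup.orderOf_mk] at hgs
    obtain ⟨v, -, hv, hvx⟩ := X.commuting_lift (g := x) (s := 23) (by decide) (hxr ▸ pow_orderOf_eq_one (x : G))
      (y := g) (by rw [hxy]; exact (mem_centralizer_singleton_iff.1 hg).symm) hs hgs
    exact ⟨v, hv, hvx⟩
  have h3 : ¬ 3 ∣ c := fun hd => by
    obtain ⟨v, hv, hvx⟩ := lifts (by norm_num) hd
    have := (X.three_fixed hxr (Or.inr rfl) hv hvx).1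
    norm_num at this
  have h11 : ¬ 11 ∣ c := fun hd => by
    obtain ⟨v, hv, hvx⟩ := lifts (by norm_num) hd
    have hca := X.ca_eleven v.2 hv
    obtain ⟨a, ha, ha1⟩ : ∃ a ∈ X.CA (v : G), a ≠ 1 := by
      by_contra hn
      push Not at hn
      rw [card_eq_one.2 (eq_bot_iff.2 fun a ha => mem_bot.2 (hn a ha))] at hca
      norm_num at hca
    have hxC : (x : G) ∈ X.CN (v : G) := ⟨x.2, mem_centralizer_singleton_iff.2 hvx.symm⟩
    exact ha1 (X.fix_twentythree x.2 hxr ha.1 (X.small_fixed hxC (by rw [hca]) ha).symm)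
  have hd : c ∣ Nat.card (↥X.N ⧸ X.AN) := card_subgroup_dvd_card _
  have hd23 : 23 ∣ c := hy ▸ Subgroup.orderOf_dvd_natCard _ (mem_centralizer_singleton_iff.2 rfl)
  rw [X.card_quot, show (244823040 : ℕ) = (2 ^ 10 * 3 ^ 3 * 5 * 7 * 11) * 23 by norm_num] at hd
  have hcop : Nat.Coprime c (2 ^ 10 * 3 ^ 3 * 5 * 7 * 11) := by
    have cp : ∀ {s : ℕ}, s.Prime → ¬ s ∣ c → Nat.Coprime c s := fun hs hn =>
      ((Nat.Prime.coprime_iff_not_dvd hs).2 hn).symm
    exact ((((((cp Nat.prime_two h2).pow_right 10).mul_right ((cp Nat.prime_three h3).pow_right 3))).mul_right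
      (cp (by norm_num) h5)).mul_right (cp (by norm_num) h7)).mul_right (cp (by norm_num) h11)
  have hc23 : c = 23 := Nat.dvd_antisymm (hcop.dvd_of_dvd_mul_left hd) hd23
  refine ⟨hc23, ?_⟩
  obtain ⟨d, n, hdc, hdd, hn, hmul⟩ := syl_facts hy (by rw [X.card_quot]; norm_num)
  rw [← hc, hc23] at hdc hmul
  rw [X.card_quot] at hmul
  rw [hdc]
  have : d ∈ Nat.divisors 22 := Nat.mem_divisors.2 ⟨hdd, by norm_num⟩
  rw [show Nat.divisors 22 = {1, 2, 11, 22} by decide] at this
  simp only [Finset.mem_insert, Finset.mem_singleton] at this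
  rcases this with rfl | rfl | rfl | rfl <;> omega

theorem eleven_not27 {y : ↥X.N ⧸ X.AN} (hy : orderOf y = 11) :
    ¬ 27 ∣ Nat.card (centralizer ({y} : Set (↥X.N ⧸ X.AN))) := by
  intro hd
  haveI : Fact (Nat.Prime 11) := ⟨by norm_num⟩
  haveI : Fact (Nat.Prime 3) := ⟨by norm_num⟩
  obtain ⟨P, hP⟩ := Sylow.exists_subgroup_card_pow_prime (G := centralizer ({y} : Set (↥X.N ⧸ X.AN))) 3
    (n := 3) (by norm_num; exact hd)
  have hcard : Nat.card (P.map (Subgroup.subtype _)) = 3 ^ 3 := by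
    rw [card_map_of_injective (subtype_injective _), hP]
  have hfac : (Nat.card (↥X.N ⧸ X.AN)).factorization 3 = 3 := by
    rw [X.card_quot, Nat.factorization_def _ Nat.prime_three]
    rw [show (244823040 : ℕ) = 3 ^ 3 * 9067520 by norm_num, padicValNat.mul (by norm_num) (by norm_num),
      padicValNat.prime_pow, padicValNat.eq_zero_of_not_dvd (by norm_num : ¬ 3 ∣ 9067520)]
  let S : Sylow 3 (↥X.N ⧸ X.AN) := Sylow.ofCard (P.map (Subgroup.subtype _)) (by rw [hcard, hfac])
  obtain ⟨⟨g₀, hg₀⟩, hg₀3⟩ := exists_prime_orderOf_dvd_card' (G := X.NC) 3 (by rw [X.card_NC]; norm_num)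
  rw [Subgroup.orderOf_mk] at hg₀3
  let g₀' : X.N := ⟨g₀, hg₀.1⟩
  have ho : orderOf (QuotientGroup.mk' X.AN g₀') = 3 := orderOf_eq_prime (by
    rw [← map_pow, show g₀' ^ 3 = 1 from Subtype.ext (by
      rw [SubmonoidClass.coe_pow]; exact hg₀3 ▸ pow_orderOf_eq_one g₀), map_one])
    (X.mk_ne_one Nat.prime_three (by norm_num) hg₀3)
  have hp : IsPGroup 3 (zpowers (QuotientGroup.mk' X.AN g₀')) :=
    IsPGroup.of_card (n := 1) (by rw [Nat.card_zpowers, ho, pow_one])
  obtain ⟨S', hS'⟩ := hp.exists_le_sylow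
  obtain ⟨h, hh⟩ := MulAction.exists_smul_eq (↥X.N ⧸ X.AN) S' S
  obtain ⟨n, rfl⟩ := QuotientGroup.mk'_surjective X.AN h
  have hmem : QuotientGroup.mk' X.AN (n * g₀' * n⁻¹) ∈ centralizer ({y} : Set (↥X.N ⧸ X.AN)) := by
    have h1 : QuotientGroup.mk' X.AN (n * g₀' * n⁻¹) ∈ ((QuotientGroup.mk' X.AN n • S' :
        Sylow 3 (↥X.N ⧸ X.AN)) : Subgroup (↥X.N ⧸ X.AN)) := by
      rw [Sylow.coe_subgroup_smul]
      exact ⟨_, hS' (mem_zpowers _), by simp [map_mul, map_inv]⟩
    rw [hh] at h1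
    exact map_subtype_le _ h1
  set g := n * g₀' * n⁻¹ with hgdef
  have hg3 : orderOf (g : G) = 3 := by
    have h' := orderOf_injective (MulAut.conj (n : G)).toMonoidHom (MulEquiv.injective _) g₀
    rw [hg₀3] at h'
    exact h'
  obtain ⟨x, -, hxr, hxg⟩ := X.commuting_lift (g := g) (s := 3) (by decide) (hg3 ▸ pow_orderOf_eq_one (g : G))
    (y := y) (mem_centralizer_singleton_iff.1 hmem) (by norm_num) hy
  obtain ⟨-, hle⟩ := X.three_fixed hxr (Or.inl rfl) hg3 hxg.symm
  have hzg : (n : G) * z * (n : G)⁻¹ ∈ X.CA (g : G) := by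
    refine ⟨X.conj_A n.2 X.zA, mem_centralizer_singleton_iff.2 ?_⟩
    show (n : G) * z * (n : G)⁻¹ * ((n : G) * g₀ * (n : G)⁻¹) = (n : G) * g₀ * (n : G)⁻¹ * ((n : G) * z * (n : G)⁻¹)
    calc (n : G) * z * (n : G)⁻¹ * ((n : G) * g₀ * (n : G)⁻¹) = n * (z * g₀) * (n : G)⁻¹ := by group
      _ = _ := by rw [← mem_centralizer_singleton_iff.1 hg₀.2]; group
  have hxz := mem_centralizer_singleton_iff.1 (hle hzg).2
  have hxN : (n : G)⁻¹ * (x : G) * n ∈ X.NC := by
    refine ⟨X.N.mul_mem (X.N.mul_mem (X.N.inv_mem n.2) x.2) n.2, mem_centralizer_singleton_iff.2 ?_⟩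
    calc (n : G)⁻¹ * (x : G) * n * z = (n : G)⁻¹ * ((x : G) * ((n : G) * z * (n : G)⁻¹)) * n := by group
      _ = z * ((n : G)⁻¹ * x * n) := by rw [← hxz]; group
  have h' : 11 ∣ Nat.card X.NC := by
    have e := Subgroup.orderOf_dvd_natCard _ hxN
    have e2 := orderOf_injective (MulAut.conj (n : G)⁻¹).toMonoidHom (MulEquiv.injective _) (x : G)
    simp only [MulEquiv.coe_toMonoidHom, MulAut.conj_apply, inv_inv] at e2
    rwa [e2, hxr] at e
  rw [X.card_NC] at h'
  norm_num at h'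

theorem eleven_local {y : ↥X.N ⧸ X.AN} (hy : orderOf y = 11) :
    Nat.card (centralizer ({y} : Set (↥X.N ⧸ X.AN))) = 11 ∧
      Nat.card (normalizer ((zpowers y : Subgroup (↥X.N ⧸ X.AN)) : Set (↥X.N ⧸ X.AN))) = 110 := by
  haveI : Fact (Nat.Prime 11) := ⟨by norm_num⟩
  have h27 := X.eleven_not27 hy
  have h2 := X.no_two hy (Or.inl rfl)
  obtain ⟨h5, h7⟩ := X.not_dvd_five_seven hy (Or.inl rfl)
  set c := Nat.card (centralizer ({y} : Set (↥X.N ⧸ X.AN))) with hc
  have h23 : ¬ 23 ∣ c := fun hd => by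
    haveI : Fact (Nat.Prime 23) := ⟨by norm_num⟩
    obtain ⟨⟨g, hg⟩, hgs⟩ := exists_prime_orderOf_dvd_card' 23 hd
    rw [Subgroup.orderOf_mk] at hgs
    have h1 := Subgroup.orderOf_dvd_natCard (centralizer ({g} : Set (↥X.N ⧸ X.AN)))
      (mem_centralizer_singleton_iff.2 (mem_centralizer_singleton_iff.1 hg).symm)
    rw [hy, (X.twentythree_local hgs).1] at h1
    norm_num at h1
  have hd : c ∣ Nat.card (↥X.N ⧸ X.AN) := card_subgroup_dvd_card _
  have hd11 : 11 ∣ c := hy ▸ Subgroup.orderOf_dvd_natCard _ (mem_centralizer_singleton_iff.2 rfl)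
  rw [X.card_quot, show (244823040 : ℕ) = (2 ^ 10 * 5 * 7 * 23) * 297 by norm_num] at hd
  have hcop : Nat.Coprime c (2 ^ 10 * 5 * 7 * 23) := by
    have cp : ∀ {s : ℕ}, s.Prime → ¬ s ∣ c → Nat.Coprime c s := fun hs hn =>
      ((Nat.Prime.coprime_iff_not_dvd hs).2 hn).symm
    exact ((((cp Nat.prime_two h2).pow_right 10).mul_right (cp (by norm_num) h5)).mul_right
      (cp (by norm_num) h7)).mul_right (cp (by norm_num) h23)
  have hc' : c ∈ Nat.divisors 297 := Nat.mem_divisors.2 ⟨hcop.dvd_of_dvd_mul_left hd, by norm_num⟩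
  rw [show Nat.divisors 297 = {1, 3, 9, 11, 27, 33, 99, 297} by decide +kernel] at hc'
  simp only [Finset.mem_insert, Finset.mem_singleton] at hc'
  obtain ⟨d, n, hdc, hdd, hn, hmul⟩ := syl_facts hy (by rw [X.card_quot]; norm_num)
  rw [← hc] at hdc hmul
  rw [X.card_quot] at hmul
  rw [hdc]
  have : d ∈ Nat.divisors 10 := Nat.mem_divisors.2 ⟨hdd, by norm_num⟩
  rw [show Nat.divisors 10 = {1, 2, 5, 10} by decide] at this
  simp only [Finset.mem_insert, Finset.mem_singleton] at this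
  clear_value c
  have hc3 : c = 11 ∨ c = 33 ∨ c = 99 := by
    rcases hc' with e | e | e | e | e | e | e | e <;> first | omega | (subst e; norm_num at hd11) | (subst e; norm_num at h27)
  have hn' : n = 244823040 / (d * c) := by
    rw [← hmul, Nat.mul_div_cancel _ (by rcases hc3 with rfl | rfl | rfl <;> rcases this with rfl | rfl | rfl | rfl <;> norm_num)]
  subst hn'
  rcases this with rfl | rfl | rfl | rfl <;> rcases hc3 with rfl | rfl | rfl <;> first | (norm_num at hn; done) | norm_num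

theorem quot_simple : IsSimpleGroup (↥X.N ⧸ X.AN) := by
  have hΓ := X.card_quot
  haveI : Nontrivial (↥X.N ⧸ X.AN) := Finite.one_lt_card_iff_nontrivial.1 (by rw [hΓ]; norm_num)
  haveI : Fact (Nat.Prime 5) := ⟨by norm_num⟩
  haveI : Fact (Nat.Prime 7) := ⟨by norm_num⟩
  haveI : Fact (Nat.Prime 11) := ⟨by norm_num⟩
  haveI : Fact (Nat.Prime 23) := ⟨by norm_num⟩
  refine ⟨fun L hL => ?_⟩
  by_contra hne
  push Not at hne
  obtain ⟨hbot, htop⟩ := hne
  haveI := hL
  have hmul := L.card_mul_index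
  rw [hΓ] at hmul
  by_cases h23 : 23 ∣ Nat.card L
  · obtain ⟨y, hy, hdy⟩ := frattini_dvd L h23 (by rw [hΓ]; norm_num)
    rw [(X.twentythree_local hy).2] at hdy
    obtain ⟨a, ha⟩ := h23
    have h7 : 7 ∣ Nat.card L := by
      have : 7 ∣ Nat.card L * L.index := by rw [hmul]; norm_num
      rcases (Nat.Prime.dvd_mul (by norm_num)).1 this with h | h
      · exact h
      · exact absurd (dvd_trans h hdy) (by norm_num)
    obtain ⟨y', hy', hdy'⟩ := frattini_dvd L h7 (by rw [hΓ]; norm_num)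
    rw [(X.seven_local hy').2.1] at hdy'
    have h1 := Nat.dvd_gcd hdy hdy'
    norm_num at h1
    exact htop h1
  · have hi : 23 ∣ L.index := by
      have : 23 ∣ Nat.card L * L.index := by rw [hmul]; norm_num
      exact ((Nat.Prime.dvd_mul (by norm_num)).1 this).resolve_left h23
    have hn : ¬ 5 ∣ Nat.card L ∧ ¬ 7 ∣ Nat.card L ∧ ¬ 11 ∣ Nat.card L := by
      refine ⟨fun h => ?_, fun h => ?_, fun h => ?_⟩ <;> obtain ⟨y, hy, hdy⟩ := frattini_dvd L h (by rw [hΓ]; norm_num)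
      · rw [(X.five_local hy).2.1] at hdy
        exact absurd (dvd_trans hi hdy) (by norm_num)
      · rw [(X.seven_local hy).2.1] at hdy
        exact absurd (dvd_trans hi hdy) (by norm_num)
      · rw [(X.eleven_local hy).2] at hdy
        exact absurd (dvd_trans hi hdy) (by norm_num)
    have hfix : ∀ {r : ℕ} [Fact r.Prime] {y : ↥X.N ⧸ X.AN}, orderOf y = r →
        Nat.card (centralizer ({y} : Set (↥X.N ⧸ X.AN))) = r → ¬ r ∣ Nat.card L → Nat.card L % r = 1 := by
      intro r hr y hy hc hrL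
      have h1 := fix_sub L hy fun a ha => hL.conj_mem a ha y
      have h2 : Nat.card ↥(L ⊓ centralizer ({y} : Set (↥X.N ⧸ X.AN))) = 1 := by
        refine ((Nat.dvd_prime hr.out).1 (hc ▸ card_dvd_of_le inf_le_right)).resolve_right fun h => hrL ?_
        exact h ▸ card_dvd_of_le inf_le_left
      rw [h2, Nat.mod_eq_of_lt hr.out.one_lt] at h1
      exact h1.symm
    obtain ⟨y, hy⟩ := exists_prime_orderOf_dvd_card' (G := ↥X.N ⧸ X.AN) 23 (by rw [hΓ]; norm_num)
    obtain ⟨y', hy'⟩ := exists_prime_orderOf_dvd_card' (G := ↥X.N ⧸ X.AN) 11 (by rw [hΓ]; norm_num)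
    have m23 := hfix hy (X.twentythree_local hy).1 h23
    have m11 := hfix hy' (X.eleven_local hy').1 hn.2.2
    have hd : Nat.card L ∣ (5 * 7 * 11 * 23) * (2 ^ 10 * 3 ^ 3) := by
      rw [show (5 * 7 * 11 * 23) * (2 ^ 10 * 3 ^ 3) = 244823040 by norm_num, ← hmul]
      exact Dvd.intro _ rfl
    have hcop : Nat.Coprime (Nat.card L) (5 * 7 * 11 * 23) := by
      have cp : ∀ {s : ℕ}, s.Prime → ¬ s ∣ Nat.card L → Nat.Coprime (Nat.card L) s := fun hs hn =>
        ((Nat.Prime.coprime_iff_not_dvd hs).2 hn).symm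
      exact (((cp (by norm_num) hn.1).mul_right (cp (by norm_num) hn.2.1)).mul_right
        (cp (by norm_num) hn.2.2)).mul_right (cp (by norm_num) h23)
    have hsm := hcop.dvd_of_dvd_mul_left hd
    obtain ⟨a, b, ha, hb, e⟩ := dvd_mul.1 hsm
    obtain ⟨i, hi', rfl⟩ := (Nat.dvd_prime_pow Nat.prime_two).1 ha
    obtain ⟨k, hk', rfl⟩ := (Nat.dvd_prime_pow Nat.prime_three).1 hb
    rw [e] at m23 m11
    have key : ∀ i ≤ 10, ∀ k ≤ 3, 2 ^ i * 3 ^ k % 23 = 1 → 2 ^ i * 3 ^ k % 11 = 1 → 2 ^ i * 3 ^ k = 1 := by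
      decide +kernel
    exact hbot (card_eq_one.1 (by rw [e]; exact key i hi' k hk' m23 m11))

/-- The quotient is the Mathieu group. -/
theorem quot_M24 : Nonempty ((↥X.N ⧸ X.AN) ≃* ↥Cfsg.M24) :=
  MTwentyFourUnique.equiv_M24
    { card := X.card_quot
      simple := X.quot_simple
      twentyThree := fun _ h => X.twentythree_local h
      eleven := fun _ h => X.eleven_local h
      seven := fun _ h => ⟨(X.seven_local h).1, (X.seven_local h).2.1⟩
      five := fun _ h => ⟨(X.five_local h).1, (X.five_local h).2.1⟩ }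
    { inv_seven := fun _ h => (X.seven_local h).2.2
      inv_five := fun _ h => (X.five_local h).2.2.1
      six_five := fun _ g h hc => (X.five_local h).2.2.2 g hc }

end Ctx

end CfsgLib.CoType
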